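import Mathlib
import Cfsg.Agent.Lead.RelQuot
import Cfsg.Agent.Lead.FrobAction
import Cfsg.Agent.Lead.Coprime3
import Cfsg.Agent.Lead.CoprimeAbelian

/-!
# A Frobenius group acting on a `q`-group without fixed points of the complement

`frob_centralizes`: let `D K` act on a `q`-group `Y` (all inside an ambient finite group `X`), `K`
normalizing `D`, every non-identity element of `K` acting fixed-point-freely on `D`, the orders of
`D` and `K` prime to `q`.  If `C_Y(K) = 1` then `D` centralizes `Y`.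
-/

set_option autoImplicit false
set_option linter.unusedSectionVars false
set_option linter.unusedVariables false

namespace Cfsg.Agent.Helper27.BG15

open Subgroup Cfsg.Agent.Lead

universe u

section relq

variable {X : Type u} [Group X]

theorem relMk_eq_one_iff (N : Subgroup X) (x : X) (hx : x ∈ normalizer (N : Set X)) :
    relMk N ⟨x, hx⟩ = 1 ↔ x ∈ N := by
  rw [← MonoidHom.mem_ker, ker_relMk, mem_subgroupOf]

theorem mem_bar_iff (N S : Subgroup X) (y : RelQ N) :
    y ∈ bar N S ↔ ∃ x, ∃ hx : x ∈ normalizer (N : Set X), x ∈ S ∧ relMk N ⟨x, hx⟩ = y := by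
  unfold bar
  constructor
  · rintro ⟨⟨x, hx⟩, hxS, rfl⟩
    exact ⟨x, hx, hxS, rfl⟩
  · rintro ⟨x, hx, hxS, rfl⟩
    exact ⟨⟨x, hx⟩, hxS, rfl⟩

theorem relMk_mem_bar (N S : Subgroup X) {x : X} (hx : x ∈ normalizer (N : Set X)) (hxS : x ∈ S) :
    relMk N ⟨x, hx⟩ ∈ bar N S :=
  (mem_bar_iff N S _).mpr ⟨x, hx, hxS, rfl⟩

/-- two elements commute in the relative quotient iff their commutator lies in `N` -/
theorem relMk_commute_iff (N : Subgroup X) (a b : X) (ha : a ∈ normalizer (N : Set X))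
    (hb : b ∈ normalizer (N : Set X)) :
    relMk N ⟨a, ha⟩ * relMk N ⟨b, hb⟩ = relMk N ⟨b, hb⟩ * relMk N ⟨a, ha⟩ ↔
      a * b * a⁻¹ * b⁻¹ ∈ N := by
  have hc : a * b * a⁻¹ * b⁻¹ ∈ normalizer (N : Set X) :=
    mul_mem (mul_mem (mul_mem ha hb) (inv_mem ha)) (inv_mem hb)
  rw [← relMk_eq_one_iff N _ hc]
  have e : (⟨a * b * a⁻¹ * b⁻¹, hc⟩ : ↥(normalizer (N : Set X))) =
      ⟨a, ha⟩ * ⟨b, hb⟩ * ⟨a, ha⟩⁻¹ * ⟨b, hb⟩⁻¹ := rfl
  rw [e, map_mul, map_mul, map_mul, map_inv, map_inv]
  constructor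
  · intro h
    rw [h]; group
  · intro h
    have h2 := congrArg (fun z => z * relMk N ⟨b, hb⟩ * relMk N ⟨a, ha⟩) h
    simpa [mul_assoc] using h2

theorem isPGroup_bar {q : ℕ} (N S : Subgroup X) (hS : IsPGroup q S) : IsPGroup q (bar N S) := by
  unfold bar
  apply IsPGroup.map
  exact hS.comap_subtype

theorem bar_eq_bot_iff (N S : Subgroup X) (hS : S ≤ normalizer (N : Set X)) :
    bar N S = ⊥ ↔ S ≤ N := by
  constructor
  · intro h x hx
    have h1 : relMk N ⟨x, hS hx⟩ ∈ bar N S := relMk_mem_bar N S (hS hx) hx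
    rw [h, mem_bot, relMk_eq_one_iff] at h1
    exact h1
  · intro h
    rw [eq_bot_iff]
    intro y hy
    obtain ⟨x, hx, hxS, rfl⟩ := (mem_bar_iff N S y).mp hy
    rw [mem_bot, relMk_eq_one_iff]
    exact h hxS

end relq

section basics

variable {X : Type u} [Group X]

/-- a subgroup normalizing `H₁` and `H₂` normalizes `⁅H₁, H₂⁆` -/
theorem le_normalizer_commutator_of_le {A H₁ H₂ : Subgroup X}
    (h1 : A ≤ normalizer (H₁ : Set X)) (h2 : A ≤ normalizer (H₂ : Set X)) :
    A ≤ normalizer ((⁅H₁, H₂⁆ : Subgroup X) : Set X) := by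
  intro a ha
  have e1 : H₁.map (MulAut.conj a).toMonoidHom = H₁ := by
    ext x
    rw [mem_map]
    constructor
    · rintro ⟨y, hy, rfl⟩
      exact (mem_normalizer_iff.mp (h1 ha) y).mp hy
    · intro hx
      refine ⟨a⁻¹ * x * a, ?_, ?_⟩
      · have := (mem_normalizer_iff.mp (h1 ha) (a⁻¹ * x * a)).mpr
        apply this
        have e : a * (a⁻¹ * x * a) * a⁻¹ = x := by group
        rw [e]; exact hx
      · simp only [MulEquiv.coe_toMonoidHom, MulAut.conj_apply]
        group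
  have e2 : H₂.map (MulAut.conj a).toMonoidHom = H₂ := by
    ext x
    rw [mem_map]
    constructor
    · rintro ⟨y, hy, rfl⟩
      exact (mem_normalizer_iff.mp (h2 ha) y).mp hy
    · intro hx
      refine ⟨a⁻¹ * x * a, ?_, ?_⟩
      · have := (mem_normalizer_iff.mp (h2 ha) (a⁻¹ * x * a)).mpr
        apply this
        have e : a * (a⁻¹ * x * a) * a⁻¹ = x := by group
        rw [e]; exact hx
      · simp only [MulEquiv.coe_toMonoidHom, MulAut.conj_apply]
        group
  have e3 : (⁅H₁, H₂⁆ : Subgroup X).map (MulAut.conj a).toMonoidHom = ⁅H₁, H₂⁆ := by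
    rw [map_commutator, e1, e2]
  rw [mem_normalizer_iff]
  intro x
  constructor
  · intro hx
    rw [← e3]
    exact ⟨x, hx, rfl⟩
  · intro hx
    rw [← e3] at hx
    obtain ⟨y, hy, hyx⟩ := hx
    simp only [MulEquiv.coe_toMonoidHom, MulAut.conj_apply] at hyx
    have : y = x := by
      have := congrArg (fun z => a⁻¹ * z * a) hyx
      have e : a⁻¹ * (a * y * a⁻¹) * a = y := by group
      have e' : a⁻¹ * (a * x * a⁻¹) * a = x := by group
      rw [e, e'] at this
      exact this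
    rw [← this]; exact hy

/-- the centre of a nontrivial finite `q`-subgroup is nontrivial -/
theorem center_inf_ne_bot [Finite X] {q : ℕ} [Fact q.Prime] {Q : Subgroup X} (hQ : IsPGroup q Q)
    (hQ1 : Q ≠ ⊥) : Q ⊓ centralizer (Q : Set X) ≠ ⊥ := by
  have : Nontrivial Q := (Subgroup.nontrivial_iff_ne_bot Q).mpr hQ1
  have hcen := hQ.center_nontrivial
  obtain ⟨c, hc1⟩ := exists_ne (1 : Subgroup.center Q)
  intro hbot
  have hmem : ((c : Q) : X) ∈ Q ⊓ centralizer (Q : Set X) := by
    refine Subgroup.mem_inf.mpr ⟨(c : Q).2, ?_⟩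
    rw [Subgroup.mem_centralizer_iff]
    intro y hy
    have := Subgroup.mem_center_iff.mp c.2 ⟨y, hy⟩
    exact congrArg Subtype.val this
  rw [hbot, Subgroup.mem_bot] at hmem
  exact hc1 (Subtype.ext (Subtype.ext hmem))

theorem le_normalizer_center_inf {A Q : Subgroup X} (h : A ≤ normalizer (Q : Set X)) :
    A ≤ normalizer ((Q ⊓ centralizer (Q : Set X) : Subgroup X) : Set X) := by
  intro g hgA
  have hg := h hgA
  rw [Subgroup.mem_normalizer_iff] at hg ⊢
  have hg' : ∀ y, g⁻¹ * y * g ∈ Q ↔ y ∈ Q := by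
    intro y
    have := hg (g⁻¹ * y * g)
    have e : g * (g⁻¹ * y * g) * g⁻¹ = y := by group
    rw [e] at this
    exact this
  intro z
  rw [mem_inf, mem_inf]
  constructor
  · rintro ⟨hzQ, hzC⟩
    refine ⟨(hg z).mp hzQ, ?_⟩
    rw [mem_centralizer_iff] at hzC ⊢
    intro y hy
    have h1 := hzC (g⁻¹ * y * g) ((hg' y).mpr hy)
    have e1 : y * (g * z * g⁻¹) = g * ((g⁻¹ * y * g) * z) * g⁻¹ := by group
    have e2 : g * z * g⁻¹ * y = g * (z * (g⁻¹ * y * g)) * g⁻¹ := by group
    rw [e1, e2, h1]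
  · rintro ⟨hzQ, hzC⟩
    refine ⟨(hg z).mpr hzQ, ?_⟩
    rw [mem_centralizer_iff] at hzC ⊢
    intro y hy
    have h1 := hzC (g * y * g⁻¹) ((hg y).mp hy)
    have e1 : y * z = g⁻¹ * ((g * y * g⁻¹) * (g * z * g⁻¹)) * g := by group
    have e2 : z * y = g⁻¹ * ((g * z * g⁻¹) * (g * y * g⁻¹)) * g := by group
    rw [e1, e2, h1]

end basics

section main

/-- abelian case of `frob_centralizes` -/
theorem frob_centralizes_abelian {X : Type u} [Group X] [Finite X] (Y D K : Subgroup X) (q : ℕ)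
    [Fact q.Prime] (hYq : IsPGroup q Y) (hYab : IsMulCommutative Y)
    (hDY : D ≤ normalizer (Y : Set X)) (hKY : K ≤ normalizer (Y : Set X))
    (hKD : K ≤ normalizer (D : Set X)) (hDq : (Nat.card D).Coprime q)
    (hfpf : ∀ k ∈ K, k ≠ 1 → D ⊓ centralizer ({k} : Set X) = ⊥)
    (hCK : Y ⊓ centralizer (K : Set X) = ⊥) : D ≤ centralizer (Y : Set X) := by
  by_contra hcon
  set V : Subgroup X := ⁅Y, D⁆ with hV
  have hVY : V ≤ Y := commutator_le_of_le_normalizer hDY
  have hV1 : V ≠ ⊥ := by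
    intro h
    apply hcon
    rw [← commutator_eq_bot_iff_le_centralizer, commutator_comm]
    exact h
  have hVab : IsMulCommutative V :=
    ⟨⟨fun a b => Subtype.ext (by
      have := mul_comm' (⟨a.1, hVY a.2⟩ : Y) ⟨b.1, hVY b.2⟩
      exact congrArg (fun z : Y => (z : X)) this)⟩⟩
  have hDV : D ≤ normalizer (V : Set X) := le_normalizer_commutator_right Y D
  have hKV : K ≤ normalizer (V : Set X) := le_normalizer_commutator_of_le hKY hKD
  set F : Subgroup X := D ⊔ K with hF
  have hFV : F ≤ normalizer (V : Set X) := sup_le hDV hKV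
  have hFD : F ≤ normalizer (D : Set X) := sup_le le_normalizer hKD
  have hNn : (D.subgroupOf F).Normal :=
    (normal_subgroupOf_iff_le_normalizer (le_sup_left : D ≤ F)).mpr hFD
  have hcardY : ∃ n, Nat.card Y = q ^ n := IsPGroup.iff_card.mp hYq
  have hcopDY : (Nat.card D).Coprime (Nat.card Y) := by
    obtain ⟨n, hn⟩ := hcardY
    rw [hn]; exact Nat.Coprime.pow_right n hDq
  have hcopDV : (Nat.card D).Coprime (Nat.card V) :=
    Nat.Coprime.coprime_dvd_right (card_dvd_of_le hVY) hcopDY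
  have hinf := coprime_abelian_inf D Y hDY hcopDY
  obtain ⟨v, hvV, hv1, hvH⟩ := frobenius_action_fixed_points V F hVab hV1 hFV
    (K.subgroupOf F) (D.subgroupOf F)
    (by
      intro n hn h hh h1 hcomm
      have hnD : (n : X) ∈ D := hn
      have hhK : (h : X) ∈ K := hh
      have hh1 : (h : X) ≠ 1 := fun e => h1 (Subtype.ext e)
      have hmem : (n : X) ∈ D ⊓ centralizer ({(h : X)} : Set X) := by
        refine Subgroup.mem_inf.mpr ⟨hnD, ?_⟩
        rw [mem_centralizer_singleton_iff]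
        have := congrArg Subtype.val hcomm
        simpa using this
      rw [hfpf _ hhK hh1, mem_bot] at hmem
      exact Subtype.ext hmem)
    (by
      rw [Nat.card_congr (subgroupOfEquivOfLe (le_sup_left : D ≤ F)).toEquiv]
      exact hcopDV.symm)
    (by
      intro v hv hcent
      have hmem : v ∈ (Y ⊓ centralizer (D : Set X)) ⊓ ⁅Y, D⁆ := by
        refine Subgroup.mem_inf.mpr ⟨Subgroup.mem_inf.mpr ⟨hVY hv, ?_⟩, hv⟩
        rw [mem_centralizer_iff]
        intro d hd
        have := hcent ⟨d, (le_sup_left : D ≤ F) hd⟩ hd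
        exact this
      rw [hinf, mem_bot] at hmem
      exact hmem)
  apply hv1
  have hmem : v ∈ Y ⊓ centralizer (K : Set X) := by
    refine Subgroup.mem_inf.mpr ⟨hVY hvV, ?_⟩
    rw [mem_centralizer_iff]
    intro k hk
    exact hvH ⟨k, (le_sup_right : K ≤ F) hk⟩ hk
  rw [hCK, mem_bot] at hmem
  exact hmem

theorem frob_centralizes_aux (n : ℕ) : ∀ (X : Type u) [Group X] [Finite X] (Y D K : Subgroup X)
    (q : ℕ) [Fact q.Prime], Nat.card Y = n → IsPGroup q Y →
    D ≤ normalizer (Y : Set X) → K ≤ normalizer (Y : Set X) →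
    K ≤ normalizer (D : Set X) → (Nat.card D).Coprime q → (Nat.card K).Coprime q →
    (∀ k ∈ K, k ≠ 1 → D ⊓ centralizer ({k} : Set X) = ⊥) →
    Y ⊓ centralizer (K : Set X) = ⊥ → D ≤ centralizer (Y : Set X) := by
  induction n using Nat.strong_induction_on with
  | _ n ih =>
  intro X _ _ Y D K q _ hn hYq hDY hKY hKD hDq hKq hfpf hCK
  by_cases hY1 : Y = ⊥
  · rw [hY1]
    intro d _
    rw [mem_centralizer_iff]
    intro y hy
    rw [SetLike.mem_coe, mem_bot] at hy
    rw [hy, one_mul, mul_one]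
  set Z : Subgroup X := Y ⊓ centralizer (Y : Set X) with hZ
  have hZY : Z ≤ Y := inf_le_left
  have hZ1 : Z ≠ ⊥ := center_inf_ne_bot hYq hY1
  have hDZ : D ≤ normalizer (Z : Set X) := le_normalizer_center_inf hDY
  have hKZ : K ≤ normalizer (Z : Set X) := le_normalizer_center_inf hKY
  have hYZ : Y ≤ normalizer (Z : Set X) := le_normalizer_center_inf le_normalizer
  have hZq : IsPGroup q Z := hYq.to_le hZY
  by_cases hZeq : Z = Y
  · -- abelian case
    have hYab : IsMulCommutative Y := by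
      refine ⟨⟨fun a b => Subtype.ext ?_⟩⟩
      have ha : (a : X) ∈ Z := by rw [hZeq]; exact a.2
      have := (mem_centralizer_iff.mp ha.2) b b.2
      simpa using this.symm
    exact frob_centralizes_abelian Y D K q hYq hYab hDY hKY hKD hDq hfpf hCK
  -- nonabelian case
  have hZlt : Z < Y := lt_of_le_of_ne hZY hZeq
  have hcardlt : Nat.card Z < n := by
    rw [← hn]
    by_contra hge
    push Not at hge
    exact hZeq (Subgroup.eq_of_le_of_card_ge hZY hge)
  have hDcZ : D ≤ centralizer (Z : Set X) :=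
    ih (Nat.card Z) hcardlt X Z D K q rfl hZq hDZ hKZ hKD hDq hKq hfpf
      (by
        rw [eq_bot_iff]
        intro x hx
        rw [← hCK]
        exact Subgroup.mem_inf.mpr ⟨hZY (Subgroup.mem_inf.mp hx).1, (Subgroup.mem_inf.mp hx).2⟩)
  -- pass to the quotient by Z
  have hcardbar : Nat.card (bar Z Y) * Nat.card Z = Nat.card Y := card_bar_mul Z hYZ hZY
  have hZcard : 1 < Nat.card Z := (Subgroup.one_lt_card_iff_ne_bot Z).mpr hZ1
  have hbarlt : Nat.card (bar Z Y) < n := by
    rw [← hn, ← hcardbar]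
    have hpos : 0 < Nat.card (bar Z Y) := Nat.card_pos
    nlinarith
  have hcardZ : ∃ m, Nat.card Z = q ^ m := IsPGroup.iff_card.mp hZq
  have hcopDZ : (Nat.card D).Coprime (Nat.card Z) := by
    obtain ⟨m, hm⟩ := hcardZ
    rw [hm]; exact Nat.Coprime.pow_right m hDq
  have hDZbot : D ⊓ Z = ⊥ := (disjoint_of_coprime_natCard hcopDZ).eq_bot
  have hYsolv : Group.IsSolvable Y := by
    have : Group.IsNilpotent Y := hYq.isNilpotent
    infer_instance
  have hcardY : ∃ m, Nat.card Y = q ^ m := IsPGroup.iff_card.mp hYq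
  have hcopKY : (Nat.card K).Coprime (Nat.card Y) := by
    obtain ⟨m, hm⟩ := hcardY
    rw [hm]; exact Nat.Coprime.pow_right m hKq
  have hbarcent : bar Z D ≤ centralizer (bar Z Y : Set (RelQ Z)) := by
    apply ih (Nat.card (bar Z Y)) hbarlt (RelQ Z) (bar Z Y) (bar Z D) (bar Z K) q rfl
      (isPGroup_bar Z Y hYq) (bar_le_normalizer_bar Z hDY) (bar_le_normalizer_bar Z hKY)
      (bar_le_normalizer_bar Z hKD)
      (Nat.Coprime.coprime_dvd_left (card_bar_dvd Z D) hDq)
      (Nat.Coprime.coprime_dvd_left (card_bar_dvd Z K) hKq)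
    · -- fixed point freeness in the quotient
      intro kb hkb hkb1
      rw [eq_bot_iff]
      intro db hdb
      obtain ⟨hdbD, hdbC⟩ := Subgroup.mem_inf.mp hdb
      obtain ⟨k, hkN, hkK, rfl⟩ := (mem_bar_iff Z K kb).mp hkb
      obtain ⟨d, hdN, hdD, rfl⟩ := (mem_bar_iff Z D db).mp hdbD
      rw [mem_centralizer_singleton_iff] at hdbC
      have hcomm : k * d * k⁻¹ * d⁻¹ ∈ Z := by
        rw [← relMk_commute_iff Z k d hkN hdN]
        exact hdbC.symm
      have hcommD : k * d * k⁻¹ * d⁻¹ ∈ D := by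
        apply D.mul_mem _ (D.inv_mem hdD)
        exact (mem_normalizer_iff.mp (hKD hkK) d).mp hdD
      have hone : k * d * k⁻¹ * d⁻¹ = 1 := by
        have : k * d * k⁻¹ * d⁻¹ ∈ D ⊓ Z := Subgroup.mem_inf.mpr ⟨hcommD, hcomm⟩
        rw [hDZbot, mem_bot] at this
        exact this
      have hk1 : k ≠ 1 := by
        intro h
        apply hkb1
        subst h
        rw [relMk_eq_one_iff]
        exact Z.one_mem
      have hdmem : d ∈ D ⊓ centralizer ({k} : Set X) := by
        refine Subgroup.mem_inf.mpr ⟨hdD, ?_⟩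
        rw [mem_centralizer_singleton_iff]
        have e : k * d = (k * d * k⁻¹ * d⁻¹) * (d * k) := by group
        rw [e, hone, one_mul]
      rw [hfpf k hkK hk1, mem_bot] at hdmem
      rw [mem_bot, relMk_eq_one_iff, hdmem]
      exact Z.one_mem
    · -- fixed points of K in the quotient
      rw [eq_bot_iff]
      intro yb hyb
      obtain ⟨hybY, hybC⟩ := Subgroup.mem_inf.mp hyb
      obtain ⟨y, hyN, hyY, rfl⟩ := (mem_bar_iff Z Y yb).mp hybY
      rw [mem_centralizer_iff] at hybC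
      have hfix : ∀ k ∈ K, k * y * k⁻¹ * y⁻¹ ∈ Z := by
        intro k hk
        rw [← relMk_commute_iff Z k y (hKZ hk) hyN]
        exact (hybC _ (relMk_mem_bar Z K (hKZ hk) hk))
      obtain ⟨c, hc, hyc⟩ := coprime_fixed_points_quotient K Y hKY hcopKY
        (Or.inr hYsolv) Z hZY hYZ hKZ y hyY hfix
      rw [hCK, mem_bot] at hc
      subst hc
      rw [mul_one] at hyc
      rw [mem_bot, relMk_eq_one_iff]
      have := Z.inv_mem hyc
      rwa [inv_inv] at this
  -- conclude
  have hcommZ : ⁅Y, D⁆ ≤ Z := by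
    rw [commutator_le]
    intro y hy d hd
    have h1 : relMk Z ⟨d, hDZ hd⟩ ∈ bar Z D := relMk_mem_bar Z D (hDZ hd) hd
    have h2 : relMk Z ⟨y, hYZ hy⟩ ∈ bar Z Y := relMk_mem_bar Z Y (hYZ hy) hy
    have h3 := (mem_centralizer_iff.mp (hbarcent h1)) _ h2
    have h4 := (relMk_commute_iff Z y d (hYZ hy) (hDZ hd)).mp h3
    rw [commutatorElement_def]
    exact h4
  have hcopDY : (Nat.card D).Coprime (Nat.card Y) := by
    obtain ⟨m, hm⟩ := hcardY
    rw [hm]; exact Nat.Coprime.pow_right m hDq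
  have h5 := coprime_commutator_commutator D Y hDY hcopDY (Or.inr hYsolv)
  have h6 : ⁅⁅Y, D⁆, D⁆ ≤ ⁅Z, D⁆ := commutator_mono hcommZ le_rfl
  have h7 : ⁅Z, D⁆ = ⊥ := by
    rw [commutator_comm, commutator_eq_bot_iff_le_centralizer]
    exact hDcZ
  rw [← commutator_eq_bot_iff_le_centralizer, commutator_comm, ← h5, eq_bot_iff, ← h7]
  exact h6

/-- **Frobenius action without fixed points of the complement.**  `D K` acts on the `q`-group `Y`,
`K` acts fixed-point-freely on `D`, `|D|` and `|K|` are prime to `q`, and `C_Y(K) = 1`.  Then `D`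
centralizes `Y`. -/
theorem frob_centralizes {X : Type u} [Group X] [Finite X] (Y D K : Subgroup X)
    (q : ℕ) [Fact q.Prime] (hYq : IsPGroup q Y)
    (hDY : D ≤ normalizer (Y : Set X)) (hKY : K ≤ normalizer (Y : Set X))
    (hKD : K ≤ normalizer (D : Set X)) (hDq : (Nat.card D).Coprime q) (hKq : (Nat.card K).Coprime q)
    (hfpf : ∀ k ∈ K, k ≠ 1 → D ⊓ centralizer ({k} : Set X) = ⊥)
    (hCK : Y ⊓ centralizer (K : Set X) = ⊥) : D ≤ centralizer (Y : Set X) :=
  frob_centralizes_aux (Nat.card Y) X Y D K q rfl hYq hDY hKY hKD hDq hKq hfpf hCK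

end main

end Cfsg.Agent.Helper27.BG15
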