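import Mathlib
import Cfsg.Agent.Helper27.BG15A1
import Cfsg.Agent.Helper17.Basic
import Cfsg.Agent.Helper1.PGroup
import Cfsg.Agent.S1446

/-!
# The structure of a `q`-group acted on by a Frobenius group with a prime-order fixed point group

Abstract core of Bender–Glauberman Theorem 15.2: `frob_structure`.
-/

set_option autoImplicit false
set_option linter.unusedSectionVars false
set_option linter.unusedVariables false

namespace Cfsg.Agent.Helper27.BG15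

open Subgroup Cfsg.Agent.Lead
open scoped commutatorElement

universe u

section relq2

variable {X : Type u} [Group X]

/-- fixed-point-freeness passes to the relative quotient by a subgroup meeting `D` trivially -/
theorem bar_fpf (N D K : Subgroup X) (hDN : D ≤ normalizer (N : Set X))
    (hKN : K ≤ normalizer (N : Set X)) (hKD : K ≤ normalizer (D : Set X)) (hDNbot : D ⊓ N = ⊥)
    (hfpf : ∀ k ∈ K, k ≠ 1 → D ⊓ centralizer ({k} : Set X) = ⊥) :
    ∀ r ∈ bar N K, r ≠ 1 → bar N D ⊓ centralizer ({r} : Set (RelQ N)) = ⊥ := by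
  intro kb hkb hkb1
  rw [eq_bot_iff]
  intro db hdb
  obtain ⟨hdbD, hdbC⟩ := Subgroup.mem_inf.mp hdb
  obtain ⟨k, hkN, hkK, rfl⟩ := (mem_bar_iff N K kb).mp hkb
  obtain ⟨d, hdN, hdD, rfl⟩ := (mem_bar_iff N D db).mp hdbD
  rw [mem_centralizer_singleton_iff] at hdbC
  have hcomm : k * d * k⁻¹ * d⁻¹ ∈ N := by
    rw [← relMk_commute_iff N k d hkN hdN]
    exact hdbC.symm
  have hcommD : k * d * k⁻¹ * d⁻¹ ∈ D := by
    apply D.mul_mem _ (D.inv_mem hdD)
    exact (mem_normalizer_iff.mp (hKD hkK) d).mp hdD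
  have hone : k * d * k⁻¹ * d⁻¹ = 1 := by
    have : k * d * k⁻¹ * d⁻¹ ∈ D ⊓ N := Subgroup.mem_inf.mpr ⟨hcommD, hcomm⟩
    rw [hDNbot, mem_bot] at this
    exact this
  have hk1 : k ≠ 1 := by
    intro h
    apply hkb1
    subst h
    rw [relMk_eq_one_iff]
    exact N.one_mem
  have hdmem : d ∈ D ⊓ centralizer ({k} : Set X) := by
    refine Subgroup.mem_inf.mpr ⟨hdD, ?_⟩
    rw [mem_centralizer_singleton_iff]
    have e : k * d = (k * d * k⁻¹ * d⁻¹) * (d * k) := by group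
    rw [e, hone, one_mul]
  rw [hfpf k hkK hk1, mem_bot] at hdmem
  rw [mem_bot, relMk_eq_one_iff, hdmem]
  exact N.one_mem

/-- coprime action: an element of `Y` whose image in the relative quotient is centralized by the
image of `A` is congruent modulo `N` to a fixed point of `A` -/
theorem exists_fixed_of_bar_centralized [Finite X] (A Y N : Subgroup X)
    (hAY : A ≤ normalizer (Y : Set X)) (hcop : (Nat.card A).Coprime (Nat.card Y))
    (hsolv : Group.IsSolvable A ∨ Group.IsSolvable Y) (hNY : N ≤ Y)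
    (hYN : Y ≤ normalizer (N : Set X)) (hAN : A ≤ normalizer (N : Set X))
    (y : X) (hy : y ∈ Y)
    (hc : relMk N ⟨y, hYN hy⟩ ∈ centralizer (bar N A : Set (RelQ N))) :
    ∃ c ∈ Y ⊓ centralizer (A : Set X), y⁻¹ * c ∈ N := by
  rw [mem_centralizer_iff] at hc
  apply coprime_fixed_points_quotient A Y hAY hcop hsolv N hNY hYN hAN y hy
  intro a ha
  rw [← relMk_commute_iff N a y (hAN ha) (hYN hy)]
  exact hc _ (relMk_mem_bar N A (hAN ha) ha)

theorem card_bar_of_inf_eq_bot [Finite X] (N S : Subgroup X) (hS : S ≤ normalizer (N : Set X))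
    (h : N ⊓ S = ⊥) : Nat.card (bar N S) = Nat.card S := by
  unfold bar relMk
  have h1 : N.subgroupOf (normalizer (N : Set X)) ⊓ S.subgroupOf (normalizer (N : Set X)) = ⊥ := by
    rw [eq_bot_iff]
    intro x hx
    obtain ⟨hx1, hx2⟩ := Subgroup.mem_inf.mp hx
    rw [mem_subgroupOf] at hx1 hx2
    have : (x : X) ∈ N ⊓ S := Subgroup.mem_inf.mpr ⟨hx1, hx2⟩
    rw [h, mem_bot] at this
    rw [mem_bot]
    exact Subtype.ext this
  rw [card_map_mk'_of_inf_eq_bot _ _ h1]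
  exact Nat.card_congr (subgroupOfEquivOfLe hS).toEquiv

theorem bar_sup_le (N A B : Subgroup X) : bar N A ⊔ bar N B ≤ bar N (A ⊔ B) :=
  sup_le (bar_mono N le_sup_left) (bar_mono N le_sup_right)

end relq2

section apply1446

variable {X : Type u} [Group X] [Finite X]

/-- the image of `[D, D]` lies in the commutator subgroup of the image of `D` -/
theorem relMk_mem_commutator_bar (N D : Subgroup X) (hD : D ≤ normalizer (N : Set X)) {a : X}
    (ha : a ∈ ⁅D, D⁆) (haN : a ∈ normalizer (N : Set X)) :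
    relMk N ⟨a, haN⟩ ∈ ⁅bar N D, bar N D⁆ := by
  have e : (⁅D.subgroupOf (normalizer (N : Set X)), D.subgroupOf (normalizer (N : Set X))⁆).map
      (normalizer (N : Set X)).subtype = ⁅D, D⁆ := by
    rw [Subgroup.map_commutator, Subgroup.map_subgroupOf_eq_of_le hD]
  rw [← e] at ha
  obtain ⟨a₁, ha₁, ha₁a⟩ := ha
  have : (⟨a, haN⟩ : ↥(normalizer (N : Set X))) = a₁ := Subtype.ext ha₁a.symm
  rw [this]
  have h1 : relMk N a₁ ∈ (⁅D.subgroupOf (normalizer (N : Set X)),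
      D.subgroupOf (normalizer (N : Set X))⁆).map (relMk N) := ⟨a₁, ha₁, rfl⟩
  rw [Subgroup.map_commutator] at h1
  exact h1

/-- Application of B&G Theorem 3.7 (`S1446`) to the section `N / Q₀`. -/
theorem s1446_apply (Q D K Q₀ N : Subgroup X) (q : ℕ) [Fact q.Prime] (hQq : IsPGroup q Q)
    (hQ₀Q : Q₀ ≤ Q) (hQQ₀ : Q ≤ normalizer (Q₀ : Set X)) (hDQ₀ : D ≤ normalizer (Q₀ : Set X))
    (hKQ₀ : K ≤ normalizer (Q₀ : Set X)) (hQ₀def : Q ⊓ centralizer (D : Set X) ≤ Q₀)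
    (hDQ : D ≤ normalizer (Q : Set X)) (hKQ : K ≤ normalizer (Q : Set X))
    (hKD : K ≤ normalizer (D : Set X))
    (hDKq : (Nat.card ↥(D ⊔ K)).Coprime q) (hKDcop : (Nat.card K).Coprime (Nat.card D))
    (hD1 : D ≠ ⊥) (hK1 : K ≠ ⊥)
    (hfpf : ∀ k ∈ K, k ≠ 1 → D ⊓ centralizer ({k} : Set X) = ⊥)
    (hsolv : Group.IsSolvable ↥(D ⊔ K)) (hodd : Odd (Nat.card ↥(D ⊔ K)))
    (hprime : ∀ k ∈ K, k ≠ 1 → Q ⊓ centralizer ({k} : Set X) = Q ⊓ centralizer (K : Set X))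
    (hq : Nat.card ↥(Q ⊓ centralizer (K : Set X)) = q)
    (hQ₀N : Q₀ ≤ N) (hNQ : N ≤ Q) (hNne : ¬ N ≤ Q₀)
    (hDN : D ≤ normalizer (N : Set X)) (hKN : K ≤ normalizer (N : Set X)) :
    (Nat.card K).Prime ∧ Nat.card N = Nat.card Q₀ * q ^ Nat.card K ∧
      ⁅bar Q₀ D, bar Q₀ D⁆ ≤ centralizer (bar Q₀ N : Set (RelQ Q₀)) := by
  have hqp : q.Prime := Fact.out
  have hDq : (Nat.card D).Coprime q :=
    Nat.Coprime.coprime_dvd_left (card_dvd_of_le (le_sup_left : D ≤ D ⊔ K)) hDKq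
  have hKq : (Nat.card K).Coprime q :=
    Nat.Coprime.coprime_dvd_left (card_dvd_of_le (le_sup_right : K ≤ D ⊔ K)) hDKq
  have hcardQ : ∃ m, Nat.card Q = q ^ m := IsPGroup.iff_card.mp hQq
  have hQ₀q : IsPGroup q Q₀ := hQq.to_le hQ₀Q
  have hNq : IsPGroup q N := hQq.to_le hNQ
  have hcardQ₀ : ∃ m, Nat.card Q₀ = q ^ m := IsPGroup.iff_card.mp hQ₀q
  have hcopDQ₀ : (Nat.card D).Coprime (Nat.card Q₀) := by
    obtain ⟨m, hm⟩ := hcardQ₀
    rw [hm]; exact Nat.Coprime.pow_right m hDq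
  have hcopKQ₀ : (Nat.card K).Coprime (Nat.card Q₀) := by
    obtain ⟨m, hm⟩ := hcardQ₀
    rw [hm]; exact Nat.Coprime.pow_right m hKq
  have hcopDQ : (Nat.card D).Coprime (Nat.card Q) := by
    obtain ⟨m, hm⟩ := hcardQ
    rw [hm]; exact Nat.Coprime.pow_right m hDq
  have hcopKQ : (Nat.card K).Coprime (Nat.card Q) := by
    obtain ⟨m, hm⟩ := hcardQ
    rw [hm]; exact Nat.Coprime.pow_right m hKq
  have hDQ₀bot : D ⊓ Q₀ = ⊥ := (disjoint_of_coprime_natCard hcopDQ₀).eq_bot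
  have hKQ₀bot : K ⊓ Q₀ = ⊥ := (disjoint_of_coprime_natCard hcopKQ₀).eq_bot
  have hQsolv : Group.IsSolvable Q := by
    have : Group.IsNilpotent Q := hQq.isNilpotent
    infer_instance
  have hNQ₀ : N ≤ normalizer (Q₀ : Set X) := hNQ.trans hQQ₀
  -- the images
  have hbD1 : bar Q₀ D ≠ ⊥ := by
    intro h
    rw [bar_eq_bot_iff Q₀ D hDQ₀] at h
    apply hD1
    rw [eq_bot_iff, ← hDQ₀bot]
    exact le_inf le_rfl h
  have hbK1 : bar Q₀ K ≠ ⊥ := by
    intro h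
    rw [bar_eq_bot_iff Q₀ K hKQ₀] at h
    apply hK1
    rw [eq_bot_iff, ← hKQ₀bot]
    exact le_inf le_rfl h
  have hbN1 : bar Q₀ N ≠ ⊥ := by
    intro h
    rw [bar_eq_bot_iff Q₀ N hNQ₀] at h
    exact hNne h
  have hcardbK : Nat.card (bar Q₀ K) = Nat.card K :=
    card_bar_of_inf_eq_bot Q₀ K hKQ₀ (by rw [inf_comm]; exact hKQ₀bot)
  have hcardbD : Nat.card (bar Q₀ D) = Nat.card D :=
    card_bar_of_inf_eq_bot Q₀ D hDQ₀ (by rw [inf_comm]; exact hDQ₀bot)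
  have hbDK : bar Q₀ D ⊓ bar Q₀ K = ⊥ := by
    apply (disjoint_of_coprime_natCard _).eq_bot
    rw [hcardbK, hcardbD]
    exact hKDcop.symm
  have hsup_le : bar Q₀ D ⊔ bar Q₀ K ≤ bar Q₀ (D ⊔ K) := bar_sup_le Q₀ D K
  have hbsolv : Group.IsSolvable ↥(bar Q₀ D ⊔ bar Q₀ K) :=
    isSolvable_of_le hsup_le (isSolvable_bar Q₀ hsolv)
  have hcard_dvd : Nat.card ↥(bar Q₀ D ⊔ bar Q₀ K) ∣ Nat.card ↥(D ⊔ K) :=
    (card_dvd_of_le hsup_le).trans (card_bar_dvd Q₀ (D ⊔ K))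
  have hbodd : Odd (Nat.card ↥(bar Q₀ D ⊔ bar Q₀ K)) := by
    obtain ⟨t, ht⟩ := hcard_dvd
    rw [ht] at hodd
    exact (Nat.odd_mul.mp hodd).1
  have hbNq : IsPGroup q (bar Q₀ N) := isPGroup_bar Q₀ N hNq
  have hbcop : (Nat.card ↥(bar Q₀ D ⊔ bar Q₀ K)).Coprime (Nat.card (bar Q₀ N)) := by
    obtain ⟨m, hm⟩ := IsPGroup.iff_card.mp hbNq
    rw [hm]
    apply Nat.Coprime.pow_right
    exact Nat.Coprime.coprime_dvd_left hcard_dvd hDKq
  -- C_{N/Q₀}(D) = 1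
  have hbCD : bar Q₀ N ⊓ centralizer (bar Q₀ D : Set (RelQ Q₀)) = ⊥ := by
    rw [eq_bot_iff]
    intro yb hyb
    obtain ⟨hybN, hybC⟩ := Subgroup.mem_inf.mp hyb
    obtain ⟨y, hyN', hyN, rfl⟩ := (mem_bar_iff Q₀ N yb).mp hybN
    obtain ⟨c, hc, hyc⟩ := exists_fixed_of_bar_centralized D Q Q₀ hDQ hcopDQ (Or.inr hQsolv)
      hQ₀Q hQQ₀ hDQ₀ y (hNQ hyN) hybC
    have hcQ₀ : c ∈ Q₀ := hQ₀def hc
    rw [mem_bot, relMk_eq_one_iff]
    have h1 : y⁻¹ ∈ Q₀ := by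
      have e : y⁻¹ = (y⁻¹ * c) * c⁻¹ := by group
      rw [e]; exact Q₀.mul_mem hyc (Q₀.inv_mem hcQ₀)
    have := Q₀.inv_mem h1
    rwa [inv_inv] at this
  -- description of the fixed points of a nonidentity element of K
  have hfix : ∀ kb ∈ bar Q₀ K, kb ≠ 1 → ∀ yb ∈ bar Q₀ N,
      yb ∈ centralizer ({kb} : Set (RelQ Q₀)) →
      ∃ c, ∃ hc : c ∈ Q ⊓ centralizer (K : Set X),
        yb = relMk Q₀ ⟨c, hQQ₀ (Subgroup.mem_inf.mp hc).1⟩ := by
    intro kb hkb hkb1 yb hybN hybC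
    obtain ⟨k, hkN', hkK, rfl⟩ := (mem_bar_iff Q₀ K kb).mp hkb
    obtain ⟨y, hyN', hyN, rfl⟩ := (mem_bar_iff Q₀ N yb).mp hybN
    have hk1 : k ≠ 1 := by
      intro h
      apply hkb1
      subst h
      rw [relMk_eq_one_iff]
      exact Q₀.one_mem
    rw [mem_centralizer_singleton_iff] at hybC
    -- the cyclic group generated by k
    have hzK : zpowers k ≤ K := zpowers_le.mpr hkK
    have hcent : relMk Q₀ ⟨y, hQQ₀ (hNQ hyN)⟩ ∈
        centralizer (bar Q₀ (zpowers k) : Set (RelQ Q₀)) := by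
      rw [mem_centralizer_iff]
      intro ab hab
      obtain ⟨a, haN', haz, rfl⟩ := (mem_bar_iff Q₀ (zpowers k) ab).mp hab
      obtain ⟨i, rfl⟩ := mem_zpowers_iff.mp haz
      have e : (⟨k ^ i, haN'⟩ : ↥(normalizer (Q₀ : Set X))) = ⟨k, hkN'⟩ ^ i := by
        apply Subtype.ext
        simp
      rw [e, map_zpow]
      have hcomm : Commute (relMk Q₀ ⟨k, hkN'⟩) (relMk Q₀ ⟨y, hQQ₀ (hNQ hyN)⟩) := hybC.symm
      exact (hcomm.zpow_left i).eq
    obtain ⟨c, hc, hyc⟩ := exists_fixed_of_bar_centralized (zpowers k) Q Q₀ (hzK.trans hKQ)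
      (Nat.Coprime.coprime_dvd_left (card_dvd_of_le hzK) hcopKQ) (Or.inr hQsolv)
      hQ₀Q hQQ₀ (hzK.trans hKQ₀) y (hNQ hyN) hcent
    have hc' : c ∈ Q ⊓ centralizer (K : Set X) := by
      rw [← hprime k hkK hk1]
      refine Subgroup.mem_inf.mpr ⟨(Subgroup.mem_inf.mp hc).1, ?_⟩
      rw [mem_centralizer_singleton_iff]
      exact ((mem_centralizer_iff.mp (Subgroup.mem_inf.mp hc).2) k (mem_zpowers k)).symm
    refine ⟨c, hc', ?_⟩
    -- y⁻¹ c ∈ Q₀ gives equality of the images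
    have h1 : relMk Q₀ (⟨y, hyN'⟩⁻¹ * ⟨c, hQQ₀ (Subgroup.mem_inf.mp hc').1⟩) = 1 := by
      have : (⟨y, hyN'⟩⁻¹ * ⟨c, hQQ₀ (Subgroup.mem_inf.mp hc').1⟩ : ↥(normalizer (Q₀ : Set X))) =
          ⟨y⁻¹ * c, mul_mem (inv_mem hyN') (hQQ₀ (Subgroup.mem_inf.mp hc').1)⟩ := rfl
      rw [this, relMk_eq_one_iff]
      exact hyc
    rw [map_mul, map_inv] at h1
    exact (inv_mul_eq_one.mp h1)
  -- prime action in the quotient
  have hbpr : ∀ x ∈ bar Q₀ K, x ≠ 1 → bar Q₀ N ⊓ centralizer ({x} : Set (RelQ Q₀)) =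
      bar Q₀ N ⊓ centralizer (bar Q₀ K : Set (RelQ Q₀)) := by
    intro kb hkb hkb1
    apply le_antisymm
    · intro yb hyb
      obtain ⟨hybN, hybC⟩ := Subgroup.mem_inf.mp hyb
      obtain ⟨c, hc, rfl⟩ := hfix kb hkb hkb1 yb hybN hybC
      refine Subgroup.mem_inf.mpr ⟨hybN, ?_⟩
      rw [mem_centralizer_iff]
      intro kb' hkb'
      obtain ⟨k', hk'N, hk'K, rfl⟩ := (mem_bar_iff Q₀ K kb').mp hkb'
      rw [relMk_commute_iff]
      have hcomm : k' * c = c * k' := (mem_centralizer_iff.mp (Subgroup.mem_inf.mp hc).2) k' hk'K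
      have e : k' * c * k'⁻¹ * c⁻¹ = 1 := by
        rw [hcomm]; group
      rw [e]; exact Q₀.one_mem
    · apply inf_le_inf_left
      apply centralizer_le
      intro z hz
      rw [Set.mem_singleton_iff] at hz
      rw [hz]; exact hkb
  obtain ⟨hprimeK, hcardN, hthird⟩ := Cfsg.Agent.S1446.result (bar Q₀ D) (bar Q₀ K) (bar Q₀ N)
    hbD1 hbK1 hbDK (bar_le_normalizer_bar Q₀ hKD)
    (bar_fpf Q₀ D K hDQ₀ hKQ₀ hKD hDQ₀bot hfpf) hbsolv hbodd hbN1 hbNq.isNilpotent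
    (bar_le_normalizer_bar Q₀ hDN) (bar_le_normalizer_bar Q₀ hKN) hbcop hbCD hbpr
  rw [hcardbK] at hprimeK hcardN
  refine ⟨hprimeK, ?_, ?_⟩
  swap
  · apply hthird
    -- the fixed point group has order dividing `q`, hence is cyclic
    obtain ⟨kb, hkb1⟩ := (Subgroup.ne_bot_iff_exists_ne_one).mp hbK1
    have hkb1' : (kb : RelQ Q₀) ≠ 1 := fun h => hkb1 (Subtype.ext h)
    have hle : bar Q₀ N ⊓ centralizer (bar Q₀ K : Set (RelQ Q₀)) ≤
        bar Q₀ (Q ⊓ centralizer (K : Set X)) := by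
      intro yb hyb
      rw [← hbpr kb kb.2 hkb1'] at hyb
      obtain ⟨hybN, hybC⟩ := Subgroup.mem_inf.mp hyb
      obtain ⟨c, hc, rfl⟩ := hfix kb kb.2 hkb1' yb hybN hybC
      exact relMk_mem_bar Q₀ _ _ hc
    have hdvd : Nat.card ↥(bar Q₀ N ⊓ centralizer (bar Q₀ K : Set (RelQ Q₀))) ∣ q := by
      rw [← hq]
      exact (card_dvd_of_le hle).trans (card_bar_dvd Q₀ _)
    rcases (Nat.dvd_prime hqp).mp hdvd with h | h
    · have : Subsingleton ↥(bar Q₀ N ⊓ centralizer (bar Q₀ K : Set (RelQ Q₀))) :=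
        (Nat.card_eq_one_iff_unique.mp h).1
      infer_instance
    · have : Fact (Nat.card ↥(bar Q₀ N ⊓ centralizer (bar Q₀ K : Set (RelQ Q₀)))).Prime :=
        ⟨h ▸ hqp⟩
      exact isCyclic_of_prime_card rfl
  -- the order of the fixed point group
  obtain ⟨kb, hkb1⟩ := (Subgroup.ne_bot_iff_exists_ne_one).mp hbK1
  have hkb1' : (kb : RelQ Q₀) ≠ 1 := fun h => hkb1 (Subtype.ext h)
  have hle : bar Q₀ N ⊓ centralizer (bar Q₀ K : Set (RelQ Q₀)) ≤
      bar Q₀ (Q ⊓ centralizer (K : Set X)) := by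
    intro yb hyb
    rw [← hbpr kb kb.2 hkb1'] at hyb
    obtain ⟨hybN, hybC⟩ := Subgroup.mem_inf.mp hyb
    obtain ⟨c, hc, rfl⟩ := hfix kb kb.2 hkb1' yb hybN hybC
    exact relMk_mem_bar Q₀ _ _ hc
  have hdvd : Nat.card ↥(bar Q₀ N ⊓ centralizer (bar Q₀ K : Set (RelQ Q₀))) ∣ q := by
    rw [← hq]
    exact (card_dvd_of_le hle).trans (card_bar_dvd Q₀ _)
  have hcardbN1 : Nat.card (bar Q₀ N) ≠ 1 := by
    intro h
    exact hbN1 ((bar Q₀ N).card_eq_one.mp h)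
  have hfixcard : Nat.card ↥(bar Q₀ N ⊓ centralizer (bar Q₀ K : Set (RelQ Q₀))) = q := by
    rcases (Nat.dvd_prime hqp).mp hdvd with h | h
    · rw [h, one_pow] at hcardN
      exact absurd hcardN hcardbN1
    · exact h
  rw [hfixcard] at hcardN
  rw [← card_bar_mul Q₀ hNQ₀ hQ₀N, hcardN, mul_comm]

end apply1446

section structure_thm

variable {X : Type u} [Group X] [Finite X]

/-- a subgroup normalizing `D` normalizes `C_X(D)` -/
theorem le_normalizer_centralizer {A D : Subgroup X} (h : A ≤ normalizer (D : Set X)) :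
    A ≤ normalizer ((centralizer (D : Set X) : Subgroup X) : Set X) := by
  intro a ha
  have hn := h ha
  rw [mem_normalizer_iff] at hn ⊢
  have hn' : ∀ y, a⁻¹ * y * a ∈ D ↔ y ∈ D := by
    intro y
    have := hn (a⁻¹ * y * a)
    have e : a * (a⁻¹ * y * a) * a⁻¹ = y := by group
    rw [e] at this
    exact this
  intro c
  constructor
  · intro hc
    rw [mem_centralizer_iff] at hc ⊢
    intro d hd
    have h1 := hc (a⁻¹ * d * a) ((hn' d).mpr hd)
    have e1 : d * (a * c * a⁻¹) = a * ((a⁻¹ * d * a) * c) * a⁻¹ := by group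
    have e2 : a * c * a⁻¹ * d = a * (c * (a⁻¹ * d * a)) * a⁻¹ := by group
    rw [e1, e2, h1]
  · intro hc
    rw [mem_centralizer_iff] at hc ⊢
    intro d hd
    have h1 := hc (a * d * a⁻¹) ((hn d).mp hd)
    have e1 : d * c = a⁻¹ * ((a * d * a⁻¹) * (a * c * a⁻¹)) * a := by group
    have e2 : c * d = a⁻¹ * ((a * c * a⁻¹) * (a * d * a⁻¹)) * a := by group
    rw [e1, e2, h1]

theorem le_normalizer_inf_of_le {A H₁ H₂ : Subgroup X} (h1 : A ≤ normalizer (H₁ : Set X))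
    (h2 : A ≤ normalizer (H₂ : Set X)) : A ≤ normalizer ((H₁ ⊓ H₂ : Subgroup X) : Set X) := by
  intro a ha
  have hn1 := h1 ha
  have hn2 := h2 ha
  rw [mem_normalizer_iff] at hn1 hn2 ⊢
  intro x
  rw [mem_inf, mem_inf, hn1 x, hn2 x]

/-- **Abstract core of B&G Theorem 15.2.** -/
theorem frob_structure (Q D K : Subgroup X) (q : ℕ) [Fact q.Prime] (hQq : IsPGroup q Q)
    (hDQ : D ≤ normalizer (Q : Set X)) (hKQ : K ≤ normalizer (Q : Set X))
    (hKD : K ≤ normalizer (D : Set X))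
    (hDKq : (Nat.card ↥(D ⊔ K)).Coprime q) (hKDcop : (Nat.card K).Coprime (Nat.card D))
    (hK1 : K ≠ ⊥)
    (hfpf : ∀ k ∈ K, k ≠ 1 → D ⊓ centralizer ({k} : Set X) = ⊥)
    (hsolv : Group.IsSolvable ↥(D ⊔ K)) (hodd : Odd (Nat.card ↥(D ⊔ K)))
    (hprime : ∀ k ∈ K, k ≠ 1 → Q ⊓ centralizer ({k} : Set X) = Q ⊓ centralizer (K : Set X))
    (hq : Nat.card ↥(Q ⊓ centralizer (K : Set X)) = q)
    (hDnc : ¬ D ≤ centralizer (Q : Set X)) :
    (Nat.card K).Prime ∧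
    Q ≤ normalizer ((Q ⊓ centralizer (D : Set X) : Subgroup X) : Set X) ∧
    D ≤ normalizer ((Q ⊓ centralizer (D : Set X) : Subgroup X) : Set X) ∧
    K ≤ normalizer ((Q ⊓ centralizer (D : Set X) : Subgroup X) : Set X) ∧
    Q ⊓ centralizer (D : Set X) < Q ∧
    Nat.card Q = Nat.card ↥(Q ⊓ centralizer (D : Set X)) * q ^ Nat.card K ∧
    (∀ a ∈ Q, ∀ b ∈ Q, a ^ q ∈ Q ⊓ centralizer (D : Set X) ∧
      a * b * a⁻¹ * b⁻¹ ∈ Q ⊓ centralizer (D : Set X)) ∧
    (∀ N : Subgroup X, Q ⊓ centralizer (D : Set X) < N → N < Q → D ≤ normalizer (N : Set X) →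
      K ≤ normalizer (N : Set X) → False) ∧
    ⁅D, D⁆ ≤ centralizer (Q : Set X) := by
  have hqp : q.Prime := Fact.out
  have hDq : (Nat.card D).Coprime q :=
    Nat.Coprime.coprime_dvd_left (card_dvd_of_le (le_sup_left : D ≤ D ⊔ K)) hDKq
  have hKq : (Nat.card K).Coprime q :=
    Nat.Coprime.coprime_dvd_left (card_dvd_of_le (le_sup_right : K ≤ D ⊔ K)) hDKq
  have hcardQ : ∃ m, Nat.card Q = q ^ m := IsPGroup.iff_card.mp hQq
  have hcopDQ : (Nat.card D).Coprime (Nat.card Q) := by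
    obtain ⟨m, hm⟩ := hcardQ
    rw [hm]; exact Nat.Coprime.pow_right m hDq
  have hcopKQ : (Nat.card K).Coprime (Nat.card Q) := by
    obtain ⟨m, hm⟩ := hcardQ
    rw [hm]; exact Nat.Coprime.pow_right m hKq
  have hQsolv : Group.IsSolvable Q := by
    have : Group.IsNilpotent Q := hQq.isNilpotent
    infer_instance
  have hD1 : D ≠ ⊥ := by
    intro h
    apply hDnc
    rw [h]; exact bot_le
  -- the Frattini subgroup
  set Φ : Subgroup X := (frattini Q).map Q.subtype with hΦ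
  have hΦQ : Φ ≤ Q := map_subtype_le _
  have hDΦ : D ≤ normalizer (Φ : Set X) :=
    hDQ.trans (normalizer_le_normalizer_map_of_characteristic Q (frattini Q))
  have hKΦ : K ≤ normalizer (Φ : Set X) :=
    hKQ.trans (normalizer_le_normalizer_map_of_characteristic Q (frattini Q))
  have hQΦ : Q ≤ normalizer (Φ : Set X) :=
    le_normalizer.trans (normalizer_le_normalizer_map_of_characteristic Q (frattini Q))
  have hΦq : IsPGroup q Φ := hQq.to_le hΦQ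
  have hF2 : ∀ a ∈ Q, ∀ b ∈ Q, a ^ q ∈ Φ ∧ a * b * a⁻¹ * b⁻¹ ∈ Φ := by
    intro a ha b hb
    constructor
    · refine ⟨⟨a, ha⟩ ^ q, Cfsg.Agent.Helper1.IsPGroup.pow_mem_frattini hQq ⟨a, ha⟩, ?_⟩
      simp
    · refine ⟨(⟨a, ha⟩ : Q) * ⟨b, hb⟩ * (⟨a, ha⟩ : Q)⁻¹ * (⟨b, hb⟩ : Q)⁻¹, ?_, ?_⟩
      · apply Cfsg.Agent.Helper1.IsPGroup.commutator_le_frattini hQq
        rw [_root_.commutator_def]
        have := commutator_mem_commutator (mem_top (⟨a, ha⟩ : Q)) (mem_top (⟨b, hb⟩ : Q))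
        rwa [commutatorElement_def] at this
      · simp
  -- Step 1: the fixed points of K are not inside Φ
  have hcardΦ : ∃ m, Nat.card Φ = q ^ m := IsPGroup.iff_card.mp hΦq
  have hcopDΦ : (Nat.card D).Coprime (Nat.card Φ) := by
    obtain ⟨m, hm⟩ := hcardΦ
    rw [hm]; exact Nat.Coprime.pow_right m hDq
  have hDΦbot : D ⊓ Φ = ⊥ := (disjoint_of_coprime_natCard hcopDΦ).eq_bot
  have hstep1 : ¬ Q ⊓ centralizer (K : Set X) ≤ Φ := by
    intro hle
    apply hDnc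
    apply centralizes_of_trivial_on_frattini_quotient D Q hDQ
    · have e : Nat.card Φ = Nat.card (frattini Q) :=
        Nat.card_congr ((frattini Q).equivMapOfInjective _ Q.subtype_injective).symm.toEquiv
      rw [← e]
      exact hcopDΦ
    · -- D acts trivially on Q/Φ
      have hbar : bar Φ D ≤ centralizer (bar Φ Q : Set (RelQ Φ)) := by
        apply frob_centralizes (bar Φ Q) (bar Φ D) (bar Φ K) q (isPGroup_bar Φ Q hQq)
          (bar_le_normalizer_bar Φ hDQ) (bar_le_normalizer_bar Φ hKQ)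
          (bar_le_normalizer_bar Φ hKD)
          (Nat.Coprime.coprime_dvd_left (card_bar_dvd Φ D) hDq)
          (Nat.Coprime.coprime_dvd_left (card_bar_dvd Φ K) hKq)
          (bar_fpf Φ D K hDΦ hKΦ hKD hDΦbot hfpf)
        rw [eq_bot_iff]
        intro yb hyb
        obtain ⟨hybQ, hybC⟩ := Subgroup.mem_inf.mp hyb
        obtain ⟨y, hyN', hyQ, rfl⟩ := (mem_bar_iff Φ Q yb).mp hybQ
        obtain ⟨c, hc, hyc⟩ := exists_fixed_of_bar_centralized K Q Φ hKQ hcopKQ (Or.inr hQsolv)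
          hΦQ hQΦ hKΦ y hyQ hybC
        have hcΦ : c ∈ Φ := hle hc
        rw [mem_bot, relMk_eq_one_iff]
        have h1 : y⁻¹ ∈ Φ := by
          have e : y⁻¹ = (y⁻¹ * c) * c⁻¹ := by group
          rw [e]; exact Φ.mul_mem hyc (Φ.inv_mem hcΦ)
        have := Φ.inv_mem h1
        rwa [inv_inv] at this
      intro d hd y hy
      have h1 : relMk Φ ⟨d, hDΦ hd⟩ ∈ bar Φ D := relMk_mem_bar Φ D (hDΦ hd) hd
      have h2 : relMk Φ ⟨y, hQΦ hy⟩ ∈ bar Φ Q := relMk_mem_bar Φ Q (hQΦ hy) hy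
      have h3 := (mem_centralizer_iff.mp (hbar h1)) _ h2
      exact (relMk_commute_iff Φ d y (hDΦ hd) (hQΦ hy)).mp h3.symm
  -- the fixed point group has prime order, so it meets Φ trivially
  have hKsΦ : (Q ⊓ centralizer (K : Set X)) ⊓ Φ = ⊥ := by
    by_contra hne
    apply hstep1
    have hle : (Q ⊓ centralizer (K : Set X)) ⊓ Φ ≤ Q ⊓ centralizer (K : Set X) := inf_le_left
    have hdvd := card_dvd_of_le hle
    rw [hq] at hdvd
    rcases (Nat.dvd_prime hqp).mp hdvd with h | h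
    · exact absurd (Subgroup.card_eq_one.mp h) hne
    · have heq : (Q ⊓ centralizer (K : Set X)) ⊓ Φ = Q ⊓ centralizer (K : Set X) :=
        Subgroup.eq_of_le_of_card_ge hle (by rw [h, hq])
      rw [← heq]; exact inf_le_right
  -- Step 2: D centralizes Φ
  have hstep2 : D ≤ centralizer (Φ : Set X) := by
    apply frob_centralizes Φ D K q hΦq hDΦ hKΦ hKD hDq hKq hfpf
    rw [eq_bot_iff, ← hKsΦ]
    intro x hx
    obtain ⟨hx1, hx2⟩ := Subgroup.mem_inf.mp hx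
    exact Subgroup.mem_inf.mpr ⟨Subgroup.mem_inf.mpr ⟨hΦQ hx1, hx2⟩, hx1⟩
  set Q₀ : Subgroup X := Q ⊓ centralizer (D : Set X) with hQ₀
  have hΦQ₀ : Φ ≤ Q₀ := by
    intro x hx
    refine Subgroup.mem_inf.mpr ⟨hΦQ hx, ?_⟩
    rw [mem_centralizer_iff]
    intro d hd
    exact ((mem_centralizer_iff.mp (hstep2 hd)) x hx).symm
  have hQ₀Q : Q₀ ≤ Q := inf_le_left
  -- Step 3: normality
  have hnormal_of : ∀ N : Subgroup X, Φ ≤ N → N ≤ Q → Q ≤ normalizer (N : Set X) := by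
    intro N hΦN hNQ x hx
    have key : ∀ z ∈ Q, ∀ n ∈ N, z * n * z⁻¹ ∈ N := by
      intro z hz n hn
      have h1 := (hF2 z hz n (hNQ hn)).2
      have e : z * n * z⁻¹ = (z * n * z⁻¹ * n⁻¹) * n := by group
      rw [e]; exact N.mul_mem (hΦN h1) hn
    rw [mem_normalizer_iff]
    intro n
    constructor
    · exact key x hx n
    · intro h
      have := key x⁻¹ (Q.inv_mem hx) _ h
      have e : x⁻¹ * (x * n * x⁻¹) * x⁻¹⁻¹ = n := by group
      rwa [e] at this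
  have hQQ₀ : Q ≤ normalizer (Q₀ : Set X) := hnormal_of Q₀ hΦQ₀ hQ₀Q
  have hDQ₀ : D ≤ normalizer (Q₀ : Set X) :=
    le_normalizer_inf_of_le hDQ (le_normalizer_centralizer le_normalizer)
  have hKQ₀ : K ≤ normalizer (Q₀ : Set X) :=
    le_normalizer_inf_of_le hKQ (le_normalizer_centralizer hKD)
  have hQ₀lt : Q₀ < Q := by
    refine lt_of_le_of_ne hQ₀Q ?_
    intro h
    apply hDnc
    intro d hd
    rw [mem_centralizer_iff]
    intro y hy
    have hy' : y ∈ Q₀ := by rw [h]; exact hy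
    exact ((mem_centralizer_iff.mp (Subgroup.mem_inf.mp hy').2) d hd).symm
  have happly := fun (N : Subgroup X) (hQ₀N : Q₀ ≤ N) (hNQ : N ≤ Q) (hNne : ¬ N ≤ Q₀)
      (hDN : D ≤ normalizer (N : Set X)) (hKN : K ≤ normalizer (N : Set X)) =>
    s1446_apply Q D K Q₀ N q hQq hQ₀Q hQQ₀ hDQ₀ hKQ₀ le_rfl hDQ hKQ hKD hDKq hKDcop hD1 hK1 hfpf
      hsolv hodd hprime hq hQ₀N hNQ hNne hDN hKN
  obtain ⟨hKprime, hcardQ', hcomm⟩ :=
    happly Q hQ₀Q le_rfl (fun h => absurd (le_antisymm h hQ₀Q) hQ₀lt.ne') hDQ hKQ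
  refine ⟨hKprime, hQQ₀, hDQ₀, hKQ₀, hQ₀lt, hcardQ', ?_, ?_, ?_⟩
  · intro a ha b hb
    exact ⟨hΦQ₀ (hF2 a ha b hb).1, hΦQ₀ (hF2 a ha b hb).2⟩
  · intro N hQ₀N hNQ hDN hKN
    obtain ⟨-, hcardN, -⟩ :=
      happly N hQ₀N.le hNQ.le (fun h => absurd (le_antisymm h hQ₀N.le) hQ₀N.ne') hDN hKN
    have : N = Q := Subgroup.eq_of_le_of_card_ge hNQ.le (by rw [hcardN, hcardQ'])
    exact hNQ.ne this
  · -- `D'` centralizes `Q / Q₀`, hence `Q` (coprime action)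
    set A : Subgroup X := ⁅D, D⁆ with hA
    have hAD : A ≤ D := Subgroup.commutator_le_self D
    have h1 : ∀ a ∈ A, ∀ y ∈ Q, a * y * a⁻¹ * y⁻¹ ∈ Q₀ := by
      intro a ha y hy
      have haN := hDQ₀ (hAD ha)
      have hyN := hQQ₀ hy
      rw [← relMk_commute_iff Q₀ a y haN hyN]
      have hab : relMk Q₀ ⟨a, haN⟩ ∈ ⁅bar Q₀ D, bar Q₀ D⁆ :=
        relMk_mem_commutator_bar Q₀ D hDQ₀ ha haN
      have hyb : relMk Q₀ ⟨y, hyN⟩ ∈ bar Q₀ Q := relMk_mem_bar Q₀ Q hyN hy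
      exact ((mem_centralizer_iff.mp (hcomm hab)) _ hyb).symm
    have h2 : ⁅Q, A⁆ ≤ Q₀ := by
      rw [Subgroup.commutator_le]
      intro y hy a ha
      have h := Q₀.inv_mem (h1 a ha y hy)
      have e : (a * y * a⁻¹ * y⁻¹)⁻¹ = ⁅y, a⁆ := by
        rw [commutatorElement_def]; group
      rwa [e] at h
    have h3 : ⁅⁅Q, A⁆, A⁆ = ⊥ := by
      rw [Subgroup.commutator_eq_bot_iff_le_centralizer]
      intro z hz
      have hz' := (Subgroup.mem_inf.mp (h2 hz)).2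
      exact Subgroup.centralizer_le (show (A : Set X) ⊆ D from hAD) hz'
    have hcopAQ : (Nat.card A).Coprime (Nat.card Q) :=
      Nat.Coprime.coprime_dvd_left (card_dvd_of_le hAD) hcopDQ
    have h4 := coprime_commutator_commutator A Q (hAD.trans hDQ) hcopAQ (Or.inr hQsolv)
    rw [h3] at h4
    rw [← Subgroup.commutator_eq_bot_iff_le_centralizer, Subgroup.commutator_comm]
    exact h4.symm

end structure_thm

end Cfsg.Agent.Helper27.BG15
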