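import Mathlib
import Cfsg.Agent.Helper27.BG15A2
import Cfsg.Agent.Helper14.Conj
import Cfsg.Agent.S0033

/-!
# Generic lemmas used for B&G Section 15
-/

set_option autoImplicit false
set_option linter.unusedSectionVars false
set_option linter.unusedVariables false

namespace Cfsg.Agent.Helper27.BG15

open Subgroup Cfsg.Agent.Lead Cfsg.Agent.Helper14

universe u

section generic

variable {X : Type u} [Group X]

theorem conjEquiv_pow_apply (D : Subgroup X) (k : ↥(normalizer (D : Set X))) (n : ℕ) (d : D) :
    (((conjEquiv D k) ^ n) d : X) = (k : X) ^ n * d * ((k : X) ^ n)⁻¹ := by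
  induction n generalizing d with
  | zero => simp
  | succ n ih =>
    rw [pow_succ', MulAut.mul_apply, conjEquiv_apply, ih, pow_succ']
    group

/-- Thompson: a subgroup admitting a fixed-point-free conjugation by an element of prime order is
nilpotent -/
theorem isNilpotent_of_fpf_prime [Finite X] (D : Subgroup X) (k : X)
    (hk : k ∈ normalizer (D : Set X)) (p : ℕ) (hp : p.Prime) (hkp : orderOf k = p)
    (hfpf : D ⊓ centralizer ({k} : Set X) = ⊥) : Group.IsNilpotent D := by
  by_cases hD : D = ⊥
  · have : Subsingleton D := by rw [hD]; infer_instance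
    infer_instance
  set φ : D ≃* D := conjEquiv D ⟨k, hk⟩ with hφ
  have hfix : MonoidHom.FixedPointFree (φ : D →* D) := by
    intro d hd
    have h1 : (φ d : X) = d := congrArg Subtype.val hd
    rw [hφ, conjEquiv_apply] at h1
    have hmem : (d : X) ∈ D ⊓ centralizer ({k} : Set X) := by
      refine Subgroup.mem_inf.mpr ⟨d.2, ?_⟩
      rw [mem_centralizer_singleton_iff]
      have e : k * (d : X) = (k * d * k⁻¹) * k := by group
      rw [e, h1]
    rw [hfpf, mem_bot] at hmem
    exact Subtype.ext hmem
  have hpow : φ ^ p = 1 := by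
    ext d
    rw [hφ, conjEquiv_pow_apply]
    have : k ^ p = 1 := by rw [← hkp]; exact pow_orderOf_eq_one k
    simp [this]
  have hdvd : orderOf φ ∣ p := orderOf_dvd_of_pow_eq_one hpow
  have hne1 : orderOf φ ≠ 1 := by
    intro h
    rw [orderOf_eq_one_iff] at h
    apply hD
    rw [eq_bot_iff]
    intro d hd
    have := hfix ⟨d, hd⟩ (by rw [h]; rfl)
    rw [mem_bot]
    exact congrArg Subtype.val this
  have hord : orderOf φ = p := by
    rcases (Nat.dvd_prime hp).mp hdvd with h | h
    · exact absurd h hne1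
    · exact h
  exact Cfsg.Agent.S0033.result φ hfix p hp hord

/-- a cyclic-type group acting fixed-point-freely (each nonidentity element) forces nilpotency -/
theorem isNilpotent_of_fpf [Finite X] (D K : Subgroup X) (hKD : K ≤ normalizer (D : Set X))
    (hK1 : K ≠ ⊥) (hfpf : ∀ k ∈ K, k ≠ 1 → D ⊓ centralizer ({k} : Set X) = ⊥) :
    Group.IsNilpotent D := by
  have hcard : Nat.card K ≠ 1 := fun h => hK1 (K.card_eq_one.mp h)
  obtain ⟨p, hp, hpdvd⟩ := Nat.exists_prime_and_dvd hcard
  have : Fact p.Prime := ⟨hp⟩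
  obtain ⟨k, hk⟩ := exists_prime_orderOf_dvd_card' p hpdvd
  have hk1 : (k : X) ≠ 1 := by
    intro h
    have : k = 1 := Subtype.ext h
    rw [this, orderOf_one] at hk
    exact hp.one_lt.ne hk
  have hk' : orderOf (k : X) = p := by rw [Subgroup.orderOf_coe]; exact hk
  exact isNilpotent_of_fpf_prime D k (hKD k.2) p hp hk' (hfpf k k.2 hk1)

/-- membership in a conjugate, `MulAut.conj` form -/
theorem mem_map_conj_iff (H : Subgroup X) (g x : X) :
    x ∈ H.map (MulAut.conj g).toMonoidHom ↔ g⁻¹ * x * g ∈ H :=
  mem_map_cj g x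

theorem isNilpotent_map_conj (H : Subgroup X) (g : X) (h : Group.IsNilpotent H) :
    Group.IsNilpotent ↥(H.map (MulAut.conj g).toMonoidHom) :=
  @Group.nilpotent_of_mulEquiv _ _ _ _ h (H.equivMapOfInjective _ (MulAut.conj g).injective)

end generic

end Cfsg.Agent.Helper27.BG15
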