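import Mathlib
import Cfsg.Agent.Helper27.BG15St
import Cfsg.Agent.Helper27.BG15B
import Cfsg.Agent.Helper18.BG16Ba
import Cfsg.Agent.Helper23.FittingHall
import Cfsg.Agent.Helper7.Fitting
import Cfsg.Agent.S3745

/-!
# B&G Theorem 15.2 (statement S1437), conditional on frozen statements
-/

set_option autoImplicit false
set_option linter.unusedSectionVars false
set_option linter.unusedVariables false

namespace Cfsg.Agent.Helper27.BG15

open Subgroup Cfsg Cfsg.Agent.Lead Cfsg.Agent.Helper14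
open Cfsg.Agent.H9.BG12 (sigmaCore_le le_normalizer_sigmaCore mem_sigma_of_dvd_card_sigmaCore
  le_of_coprime_card_index)
open Cfsg.Agent.Helper18.BG16B (K_le U_le K_inf_sigmaCore not_mem_sigma_of_dvd_card_U
  not_mem_kappa_of_dvd_card_U)

universe u

section prelim

variable {G : Type u} [Group G] [Finite G]

theorem isSolvable_of_coatom (hG : Cfsg.IsMinSimpleOddOrder G) {M : Subgroup G} (hM : IsCoatom M) :
    Group.IsSolvable M := hG.2.2.2 M hM.1

theorem isSolvable_of_le_coatom (hG : Cfsg.IsMinSimpleOddOrder G) {M H : Subgroup G}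
    (hM : IsCoatom M) (hH : H ≤ M) : Group.IsSolvable H :=
  isSolvable_of_le hH (isSolvable_of_coatom hG hM)

theorem odd_card_subgroup (hG : Cfsg.IsMinSimpleOddOrder G) (H : Subgroup G) :
    Odd (Nat.card H) := by
  obtain ⟨t, ht⟩ := Subgroup.card_subgroup_dvd_card H
  have := hG.1
  rw [ht] at this
  exact (Nat.odd_mul.mp this).1

/-- a Sylow subgroup of `H` inside a normal nilpotent subgroup is normal -/
theorem sylow_normal_of_le_nilpotent_normal' {H : Type*} [Group H] [Finite H] {r : ℕ}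
    [Fact r.Prime] (S : Sylow r H)
    (C : Subgroup H) [hCn : C.Normal] (hC : Group.IsNilpotent C) (hSC : (S : Subgroup H) ≤ C) :
    (S : Subgroup H).Normal := by
  have hn : ((S.subtype hSC : Sylow r C) : Subgroup C).Normal := inferInstance
  have hchar : ((S.subtype hSC : Sylow r C) : Subgroup C).Characteristic :=
    Sylow.characteristic_of_normal _ hn
  have h1 := normalizer_le_normalizer_map_of_characteristic C ((S.subtype hSC : Sylow r C) : Subgroup C)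
  have h2 : ((S.subtype hSC : Sylow r C) : Subgroup C).map C.subtype = (S : Subgroup H) := by
    rw [Sylow.coe_subtype, map_subgroupOf_eq_of_le hSC]
  rw [h2, normalizer_eq_top_iff.mpr hCn] at h1
  exact normalizer_eq_top_iff.mp (top_le_iff.mp h1)

theorem isNilpotent_of_le' {H : Type*} [Group H] {A B : Subgroup H} (h : A ≤ B)
    (hB : Group.IsNilpotent B) : Group.IsNilpotent A :=
  haveI := hB
  Group.nilpotent_of_mulEquiv (Subgroup.subgroupOfEquivOfLe h)

theorem fittingHall_isNilpotent' (H : Type*) [Group H] [Finite H] :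
    Group.IsNilpotent (Cfsg.fittingHall H) := by
  have hle : Cfsg.fittingHall H ≤ Cfsg.fittingSubgroup H := by
    apply sSup_le
    intro N hN
    exact le_sSup ⟨hN.1, hN.2.1⟩
  exact isNilpotent_of_le' hle Cfsg.Agent.Helper7.fittingSubgroup_isNilpotent

/-- the arithmetic behind `IsPiHallOf` for `M_σ` -/
theorem sigmaCore_card_coprime_index (h1350 : St1350 G) {M : Subgroup G} (hM : IsCoatom M) :
    (Nat.card (Cfsg.piCore (Cfsg.sigma M) ↥M)).Coprime (Cfsg.piCore (Cfsg.sigma M) ↥M).index := by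
  obtain ⟨⟨hle, hπ, hidx⟩, -, -⟩ := h1350 M hM
  set N : Subgroup ↥M := Cfsg.piCore (Cfsg.sigma M) ↥M with hN
  have hcardN : Nat.card (Cfsg.sigmaCore M) = Nat.card N := by
    unfold Cfsg.sigmaCore
    exact Subgroup.card_map_of_injective (Subgroup.subtype_injective M)
  have hrel : (Cfsg.sigmaCore M).relIndex M = N.index := by
    unfold Subgroup.relIndex Subgroup.subgroupOf Cfsg.sigmaCore
    rw [Subgroup.comap_map_eq_self_of_injective (Subgroup.subtype_injective M)]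
  apply Nat.Coprime.symm
  apply Nat.coprime_of_dvd
  intro k hk hk1 hk2
  have h1 : k ∈ Cfsg.sigma M := hπ k hk (hcardN ▸ hk2)
  exact hidx k hk h1 (hrel ▸ hk1)

/-- conjuncts 2-4 of the frozen statement S1355: `M_F ≤ M_σ ≤ M' < M`.  These are proved outright in
`BG15I` (`st1355w`); use this instead of `St1355` to avoid import cycles. -/
def St1355w (G : Type u) [Group G] : Prop :=
  ∀ M : Subgroup G, IsCoatom M →
    Cfsg.fittingHallOf M ≤ Cfsg.sigmaCore M ∧ Cfsg.sigmaCore M ≤ ⁅M, M⁆ ∧ ⁅M, M⁆ < M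

theorem st1355w_of_st1355 (h : St1355 G) : St1355w G :=
  fun M hM => ⟨(h M hM).2.1, (h M hM).2.2.1, (h M hM).2.2.2.1⟩

/-- if `M_σ` is nilpotent then `M_F = M_σ` -/
theorem fittingHallOf_eq_sigmaCore_of_nilpotent' (h1350 : St1350 G) (h1355 : St1355w G)
    {M : Subgroup G} (hM : IsCoatom M) (hnil : Group.IsNilpotent (Cfsg.sigmaCore M)) :
    Cfsg.fittingHallOf M = Cfsg.sigmaCore M := by
  apply le_antisymm (h1355 M hM).1
  unfold Cfsg.fittingHallOf Cfsg.sigmaCore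
  apply Subgroup.map_mono
  apply Cfsg.Agent.Helper23.le_fittingHall _ inferInstance
  · have e : ↥(Cfsg.piCore (Cfsg.sigma M) ↥M) ≃* ↥(Cfsg.sigmaCore M) :=
      (Cfsg.piCore (Cfsg.sigma M) ↥M).equivMapOfInjective _ (Subgroup.subtype_injective M)
    exact Group.nilpotent_of_mulEquiv e.symm
  · exact sigmaCore_card_coprime_index h1350 hM

theorem fittingHallOf_eq_sigmaCore_of_nilpotent (h1350 : St1350 G) (h1355 : St1355 G)
    {M : Subgroup G} (hM : IsCoatom M) (hnil : Group.IsNilpotent (Cfsg.sigmaCore M)) :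
    Cfsg.fittingHallOf M = Cfsg.sigmaCore M :=
  fittingHallOf_eq_sigmaCore_of_nilpotent' h1350 (st1355w_of_st1355 h1355) hM hnil

/-- `K` and `M_σ` have coprime orders -/
theorem card_K_coprime_card_sigmaCore {M K U : Subgroup G} (hKU : Cfsg.IsSigmaDecomposition M K U) :
    (Nat.card K).Coprime (Nat.card (Cfsg.sigmaCore M)) := by
  apply Nat.coprime_of_dvd
  intro k hk hk1 hk2
  have h1 : k ∈ Cfsg.kappa M := hKU.hall.2.1 k hk hk1
  have h2 : k ∈ Cfsg.sigma M := mem_sigma_of_dvd_card_sigmaCore hk hk2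
  exact h1.2.2.1 h2

/-- if `U = 1` then `M = K M_σ` -/
theorem eq_sup_of_U_eq_bot {M K U : Subgroup G} (hKU : Cfsg.IsSigmaDecomposition M K U)
    (hU : U = ⊥) : M = K ⊔ Cfsg.sigmaCore M := by
  obtain ⟨hUM, hKM', hUK, hmul⟩ := hKU.compl
  apply le_antisymm
  · intro m hm
    obtain ⟨a, ha, b, hb, rfl⟩ := hmul m hm
    rw [hU, mem_bot] at ha
    rw [ha, one_mul]; exact hb
  · exact hKM'

/-- **B&G 15.2, first part**: if `M_F ≠ M_σ` then `U = 1`. -/
theorem U_eq_bot_of_ne' (hG : Cfsg.IsMinSimpleOddOrder G) (h1350 : St1350 G) (h1355 : St1355w G)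
    (h1429 : St1429 G) {M : Subgroup G} (hM : IsCoatom M) {K U : Subgroup G}
    (hKU : Cfsg.IsSigmaDecomposition M K U)
    (hne : Cfsg.fittingHallOf M ≠ Cfsg.sigmaCore M) : U = ⊥ := by
  by_contra hU
  apply hne
  apply fittingHallOf_eq_sigmaCore_of_nilpotent' h1350 h1355 hM
  have hcard : Nat.card U ≠ 1 := fun h => hU (U.card_eq_one.mp h)
  obtain ⟨p, hp, hpU⟩ := Nat.exists_prime_and_dvd hcard
  have hpM : p ∣ Nat.card M := hpU.trans (card_dvd_of_le (U_le hKU))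
  have hpσ : p ∉ Cfsg.sigma M := not_mem_sigma_of_dvd_card_U hKU h1350 hM hp hpU
  have hpκ : p ∉ Cfsg.kappa M := not_mem_kappa_of_dvd_card_U hKU hp hpU
  have : Fact p.Prime := ⟨hp⟩
  have hP1 : ¬ (∀ q : ℕ, q.Prime → q ∣ Nat.card M → q ∉ Cfsg.sigma M → q ∈ Cfsg.kappa M) :=
    fun h => hpκ (h p hp hpM hpσ)
  obtain ⟨S⟩ : Nonempty (Sylow p M) := inferInstance
  exact (h1429 M hM hP1 p hpM (fun h => h.elim hpσ hpκ) S).2.2

theorem U_eq_bot_of_ne (hG : Cfsg.IsMinSimpleOddOrder G) (h1350 : St1350 G) (h1355 : St1355 G)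
    (h1429 : St1429 G) {M : Subgroup G} (hM : IsCoatom M) {K U : Subgroup G}
    (hKU : Cfsg.IsSigmaDecomposition M K U)
    (hne : Cfsg.fittingHallOf M ≠ Cfsg.sigmaCore M) : U = ⊥ :=
  U_eq_bot_of_ne' hG h1350 (st1355w_of_st1355 h1355) h1429 hM hKU hne

/-- if `M_F ≠ M_σ` then `K ≠ 1` -/
theorem K_ne_bot_of_ne' (hG : Cfsg.IsMinSimpleOddOrder G) (h1350 : St1350 G) (h1355 : St1355w G)
    (h1429 : St1429 G) {M : Subgroup G} (hM : IsCoatom M) {K U : Subgroup G}
    (hKU : Cfsg.IsSigmaDecomposition M K U)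
    (hne : Cfsg.fittingHallOf M ≠ Cfsg.sigmaCore M) : K ≠ ⊥ := by
  intro hK
  have hU := U_eq_bot_of_ne' hG h1350 h1355 h1429 hM hKU hne
  have hM' := eq_sup_of_U_eq_bot hKU hU
  rw [hK, bot_sup_eq] at hM'
  obtain ⟨-, h3, h4⟩ := h1355 M hM
  have : M ≤ ⁅M, M⁆ := by
    calc M = Cfsg.sigmaCore M := hM'
      _ ≤ ⁅M, M⁆ := h3
  exact absurd (le_antisymm h4.le this) h4.ne

theorem K_ne_bot_of_ne (hG : Cfsg.IsMinSimpleOddOrder G) (h1350 : St1350 G) (h1355 : St1355 G)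
    (h1429 : St1429 G) {M : Subgroup G} (hM : IsCoatom M) {K U : Subgroup G}
    (hKU : Cfsg.IsSigmaDecomposition M K U)
    (hne : Cfsg.fittingHallOf M ≠ Cfsg.sigmaCore M) : K ≠ ⊥ :=
  K_ne_bot_of_ne' hG h1350 (st1355w_of_st1355 h1355) h1429 hM hKU hne

/-- a group generated by an abelian subgroup `K` and a normal subgroup `N` has its commutator
subgroup inside `N` -/
theorem commutator_le_of_eq_sup {M K N : Subgroup G} (hM : M = K ⊔ N)
    (hMN : M ≤ normalizer (N : Set G)) (hK : ∀ a ∈ K, ∀ b ∈ K, a * b = b * a) : ⁅M, M⁆ ≤ N := by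
  have hKM : K ≤ M := by rw [hM]; exact le_sup_left
  have hNM : N ≤ M := by rw [hM]; exact le_sup_right
  have hKN : K ≤ normalizer (N : Set G) := hKM.trans hMN
  have hmem : ∀ x ∈ M, ∃ k ∈ K, ∃ n ∈ N, x = k * n := by
    intro x hx
    rw [hM, sup_comm] at hx
    obtain ⟨n, hn, k, hk, rfl⟩ :=
      (Cfsg.Agent.Helper7.mem_sup_of_le_normalizer (A := N) (B := K) hKN (x := _)).mp hx
    refine ⟨k, hk, k⁻¹ * n * k, ?_, by group⟩
    have := (mem_normalizer_iff.mp (hKN (K.inv_mem hk)) n).mp hn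
    simpa using this
  rw [commutator_le]
  intro a ha b hb
  obtain ⟨k, hk, n, hn, rfl⟩ := hmem a ha
  obtain ⟨k', hk', n', hn', rfl⟩ := hmem b hb
  rw [commutatorElement_def]
  -- (k n)(k' n')(k n)⁻¹(k' n')⁻¹
  have hconj : ∀ m ∈ M, ∀ x ∈ N, m * x * m⁻¹ ∈ N := fun m hm x hx =>
    (mem_normalizer_iff.mp (hMN hm) x).mp hx
  have hcomm := hK k hk k' hk'
  have e : k * n * (k' * n') * (k * n)⁻¹ * (k' * n')⁻¹ =
      (k * n * k⁻¹) * ((k * k') * (n' * n⁻¹) * (k * k')⁻¹) *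
        ((k * k' * k⁻¹) * n'⁻¹ * (k * k' * k⁻¹)⁻¹) * (k * k' * k⁻¹ * k'⁻¹) := by group
  rw [e]
  have h4 : k * k' * k⁻¹ * k'⁻¹ = 1 := by rw [hcomm]; group
  rw [h4, mul_one]
  refine N.mul_mem (N.mul_mem (hconj k (hKM hk) n hn) ?_) ?_
  · exact hconj (k * k') (M.mul_mem (hKM hk) (hKM hk')) _ (N.mul_mem hn' (N.inv_mem hn))
  · exact hconj (k * k' * k⁻¹) (M.mul_mem (M.mul_mem (hKM hk) (hKM hk')) (M.inv_mem (hKM hk))) _
      (N.inv_mem hn')

/-- the normal Sylow `q`-subgroup of `M` for a prime `q` dividing `|M_F|` -/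
theorem exists_normal_sylow_of_dvd_card_fittingHallOf (M : Subgroup G) (q : ℕ) [Fact q.Prime]
    (hq : q ∣ Nat.card (Cfsg.fittingHallOf M)) :
    ∃ Q : Subgroup G, Q ≤ Cfsg.fittingHallOf M ∧ M ≤ normalizer (Q : Set G) ∧ IsPGroup q Q ∧
      ¬ q ∣ Q.relIndex M ∧ ∀ P : Subgroup G, P ≤ M → IsPGroup q P → P ≤ Q := by
  have hqp : q.Prime := Fact.out
  set F : Subgroup ↥M := Cfsg.fittingHall ↥M with hF
  have hcardF : Nat.card (Cfsg.fittingHallOf M) = Nat.card F :=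
    Subgroup.card_map_of_injective (Subgroup.subtype_injective M)
  rw [hcardF] at hq
  have hcop := Cfsg.Agent.Helper23.fittingHall_coprime ↥M
  have hqidx : ¬ q ∣ F.index := by
    intro h
    exact hqp.one_lt.ne' (Nat.eq_one_of_dvd_coprimes hcop hq h)
  obtain ⟨S⟩ : Nonempty (Sylow q ↥M) := inferInstance
  have hSF : (S : Subgroup ↥M) ≤ F := by
    apply le_of_coprime_card_index
    obtain ⟨a, ha⟩ := IsPGroup.iff_card.mp S.isPGroup'
    rw [ha]
    apply Nat.Coprime.pow_left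
    exact (Nat.Prime.coprime_iff_not_dvd hqp).mpr hqidx
  have hSn : (S : Subgroup ↥M).Normal :=
    sylow_normal_of_le_nilpotent_normal' S F (fittingHall_isNilpotent' _) hSF
  refine ⟨(S : Subgroup ↥M).map M.subtype, Subgroup.map_mono hSF,
    Cfsg.Agent.Helper23.le_normalizer_map_subtype M (S : Subgroup ↥M), S.isPGroup'.map _, ?_, ?_⟩
  · have : ((S : Subgroup ↥M).map M.subtype).relIndex M = (S : Subgroup ↥M).index := by
      unfold Subgroup.relIndex Subgroup.subgroupOf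
      rw [Subgroup.comap_map_eq_self_of_injective (Subgroup.subtype_injective M)]
    rw [this]
    exact S.not_dvd_index
  · intro P hPM hPq
    have hP' : IsPGroup q (P.subgroupOf M) := hPq.comap_subtype
    obtain ⟨S', hS'⟩ := hP'.exists_le_sylow
    obtain ⟨g, hg⟩ := MulAction.exists_smul_eq ↥M S S'
    rw [Sylow.smul_eq_of_normal] at hg
    intro x hx
    exact ⟨⟨x, hPM hx⟩, by rw [hg]; exact hS' (Subgroup.mem_subgroupOf.mpr hx), rfl⟩

/-- orders in a complement situation -/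
theorem card_mul_card_of_isComplIn {A B M : Subgroup G} (h : Cfsg.IsComplIn A B M) :
    Nat.card A * Nat.card B = Nat.card M := by
  have h1 := (Cfsg.Agent.H9.BG12.isComplement'_subgroupOf h).card_mul_card
  rw [Nat.card_congr (Subgroup.subgroupOfEquivOfLe h.1).toEquiv,
    Nat.card_congr (Subgroup.subgroupOfEquivOfLe h.2.1).toEquiv] at h1
  exact h1

/-- a complement of the normal Sylow `q`-subgroup is a Hall `q'`-subgroup -/
theorem isPiHallOf_of_isComplIn {Q D N : Subgroup G} {q : ℕ} [Fact q.Prime] (hQq : IsPGroup q Q)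
    (hQidx : ¬ q ∣ Q.relIndex N) (h : Cfsg.IsComplIn Q D N) :
    Cfsg.IsPiHallOf {r | r ≠ q} D N := by
  have hqp : q.Prime := Fact.out
  have hcard := card_mul_card_of_isComplIn h
  have hrelQ : Q.relIndex N * Nat.card Q = Nat.card N := by
    have := Cfsg.Agent.Helper17.relIndex_mul_card_inf Q N
    rwa [inf_eq_left.mpr h.1] at this
  have hrelD : D.relIndex N * Nat.card D = Nat.card N := by
    have := Cfsg.Agent.Helper17.relIndex_mul_card_inf D N
    rwa [inf_eq_left.mpr h.2.1] at this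
  have hposQ : 0 < Nat.card Q := Nat.card_pos
  have hposD : 0 < Nat.card D := Nat.card_pos
  have h1 : Q.relIndex N = Nat.card D := by
    apply Nat.eq_of_mul_eq_mul_right hposQ
    rw [hrelQ, ← hcard, mul_comm]
  have h2 : D.relIndex N = Nat.card Q := by
    apply Nat.eq_of_mul_eq_mul_right hposD
    rw [hrelD, ← hcard]
  refine ⟨h.2.1, ?_, ?_⟩
  · intro p hp hpD hpq
    apply hQidx
    rw [h1, ← hpq]; exact hpD
  · intro p hp hpq hpdvd
    rw [h2] at hpdvd
    obtain ⟨a, ha⟩ := IsPGroup.iff_card.mp hQq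
    rw [ha] at hpdvd
    exact hpq ((Nat.prime_dvd_prime_iff_eq hp hqp).mp (hp.dvd_of_dvd_pow hpdvd))

end prelim

section main

variable {G : Type u} [Group G] [Finite G]

/-- a group which is the product of two elementwise commuting nilpotent subgroups is nilpotent
(formulated for a subgroup `N` of `G`) -/
theorem isNilpotent_of_commuting_product {N Q D : Subgroup G} (hQN : Q ≤ N) (hDN : D ≤ N)
    (hQ : Group.IsNilpotent Q) (hD : Group.IsNilpotent D)
    (hNQ : N ≤ normalizer (Q : Set G))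
    (hcomm : D ≤ centralizer (Q : Set G))
    (hprod : ∀ m ∈ N, ∃ a ∈ Q, ∃ b ∈ D, m = a * b) : Group.IsNilpotent N := by
  have hQn : (Q.subgroupOf N).Normal :=
    (normal_subgroupOf_iff_le_normalizer hQN).mpr hNQ
  have hND : N ≤ normalizer (D : Set G) := by
    have key : ∀ m ∈ N, ∀ d ∈ D, m * d * m⁻¹ ∈ D := by
      intro m hm d hd
      obtain ⟨a, ha, b, hb, rfl⟩ := hprod m hm
      have h1 : b * d * b⁻¹ ∈ D := D.mul_mem (D.mul_mem hb hd) (D.inv_mem hb)
      have h2 : (b * d * b⁻¹) * a = a * (b * d * b⁻¹) := ((mem_centralizer_iff.mp (hcomm h1)) a ha).symm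
      have e : a * b * d * (a * b)⁻¹ = (a * (b * d * b⁻¹)) * a⁻¹ := by group
      rw [e, ← h2]
      have e2 : b * d * b⁻¹ * a * a⁻¹ = b * d * b⁻¹ := by group
      rw [e2]; exact h1
    intro m hm
    rw [mem_normalizer_iff]
    intro d
    constructor
    · exact key m hm d
    · intro h
      have := key m⁻¹ (N.inv_mem hm) _ h
      have e : m⁻¹ * (m * d * m⁻¹) * m⁻¹⁻¹ = d := by group
      rwa [e] at this
  have hDn : (D.subgroupOf N).Normal :=
    (normal_subgroupOf_iff_le_normalizer hDN).mpr hND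
  have hQnil : Group.IsNilpotent (Q.subgroupOf N) :=
    @Group.nilpotent_of_mulEquiv _ _ _ _ hQ (Subgroup.subgroupOfEquivOfLe hQN).symm
  have hDnil : Group.IsNilpotent (D.subgroupOf N) :=
    @Group.nilpotent_of_mulEquiv _ _ _ _ hD (Subgroup.subgroupOfEquivOfLe hDN).symm
  have h1 : Q.subgroupOf N ≤ Cfsg.fittingSubgroup N := le_sSup ⟨hQn, hQnil⟩
  have h2 : D.subgroupOf N ≤ Cfsg.fittingSubgroup N := le_sSup ⟨hDn, hDnil⟩
  have htop : Cfsg.fittingSubgroup N = ⊤ := by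
    rw [eq_top_iff]
    intro m _
    obtain ⟨a, ha, b, hb, hab⟩ := hprod m m.2
    have : m = ⟨a, hQN ha⟩ * ⟨b, hDN hb⟩ := Subtype.ext hab
    rw [this]
    exact (Cfsg.fittingSubgroup N).mul_mem (h1 (mem_subgroupOf.mpr ha)) (h2 (mem_subgroupOf.mpr hb))
  have h3 : Group.IsNilpotent (Cfsg.fittingSubgroup N) :=
    Cfsg.Agent.Helper7.fittingSubgroup_isNilpotent
  rw [htop] at h3
  exact @Group.nilpotent_of_mulEquiv _ _ _ _ h3 Subgroup.topEquiv

/-- **Core of B&G 15.2**: the structure attached to a complement `D` of the normal Sylow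
`q`-subgroup `Q` of `M_σ`, when `M = K M_σ`, `K ≠ 1`, `M_σ` is not nilpotent and
`q = |C_{M_σ}(K)|` is a prime. -/
theorem compl_structure (hG : Cfsg.IsMinSimpleOddOrder G) (h1430 : St1430 G)
    {M : Subgroup G} (hM : IsCoatom M) {K U : Subgroup G}
    (hKU : Cfsg.IsSigmaDecomposition M K U) (hK1 : K ≠ ⊥) (hU : U = ⊥)
    (hnn : ¬ Group.IsNilpotent (Cfsg.sigmaCore M)) (q : ℕ) [Fact q.Prime]
    (hq : Nat.card ↥(Cfsg.sigmaCore M ⊓ centralizer (K : Set G)) = q)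
    (Q : Subgroup G) (hMQ : M ≤ normalizer (Q : Set G)) (hQq : IsPGroup q Q)
    (hQidx : ¬ q ∣ Q.relIndex (Cfsg.sigmaCore M))
    (hQmax : ∀ P : Subgroup G, P ≤ M → IsPGroup q P → P ≤ Q)
    (D : Subgroup G) (hD : Cfsg.IsComplIn Q D (Cfsg.sigmaCore M)) :
    Group.IsNilpotent D ∧
    M ≤ normalizer ((Q ⊓ centralizer (D : Set G) : Subgroup G) : Set G) ∧
    Q ⊓ centralizer (D : Set G) < Q ∧
    Nat.card Q = Nat.card ↥(Q ⊓ centralizer (D : Set G)) * q ^ Nat.card K ∧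
    (∀ a ∈ Q, ∀ b ∈ Q, a ^ q ∈ Q ⊓ centralizer (D : Set G) ∧
      a * b * a⁻¹ * b⁻¹ ∈ Q ⊓ centralizer (D : Set G)) ∧
    (∀ N : Subgroup G, Q ⊓ centralizer (D : Set G) < N → N < Q →
      ¬ M ≤ normalizer (N : Set G)) ∧
    (Nat.card K).Prime ∧
    ⁅D, D⁆ ≤ centralizer (Q : Set G) := by
  have hqp : q.Prime := Fact.out
  set Ms : Subgroup G := Cfsg.sigmaCore M with hMs
  have hMsM : Ms ≤ M := sigmaCore_le M
  have hMMs : M ≤ normalizer (Ms : Set G) := le_normalizer_sigmaCore M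
  have hKM : K ≤ M := K_le hKU
  have hQMs : Q ≤ Ms := hD.1
  have hDMs : D ≤ Ms := hD.2.1
  have hsolvMs : Group.IsSolvable Ms := isSolvable_of_le_coatom hG hM hMsM
  have hcopKMs : (Nat.card K).Coprime (Nat.card Ms) := card_K_coprime_card_sigmaCore hKU
  have hMeq : M = K ⊔ Ms := eq_sup_of_U_eq_bot hKU hU
  -- D is a Hall subgroup
  have hDhall : Cfsg.IsPiHallOf {r | r ≠ q} D Ms := isPiHallOf_of_isComplIn hQq hQidx hD
  obtain ⟨D₁, hD₁hall, hKD₁⟩ :=
    (Cfsg.Agent.S3745.result K Ms (hKM.trans hMMs) hcopKMs hsolvMs {r | r ≠ q}).1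
  obtain ⟨c, hc, hDeq⟩ :=
    (Cfsg.Agent.S3745.result (⊥ : Subgroup G) Ms bot_le (by simp) hsolvMs {r | r ≠ q}).2.1
      D₁ D hD₁hall bot_le hDhall bot_le
  have hcMs : c ∈ Ms := (Subgroup.mem_inf.mp hc).1
  have hcM : c ∈ M := hMsM hcMs
  have hD₁Ms : D₁ ≤ Ms := hD₁hall.1
  have hD₁M : D₁ ≤ M := hD₁Ms.trans hMsM
  have hD₁q : (Nat.card D₁).Coprime q := by
    rw [Nat.coprime_comm, Nat.Prime.coprime_iff_not_dvd hqp]
    intro h
    exact hD₁hall.2.1 q hqp h rfl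
  -- the fixed points of K
  set Ks : Subgroup G := Ms ⊓ centralizer (K : Set G) with hKs
  obtain ⟨hpr0, -, -⟩ := h1430 M hM K hKU.hall hK1
  have hpr : ∀ k ∈ K, k ≠ 1 → Ms ⊓ centralizer ({k} : Set G) = Ks := hpr0
  have hKsq : IsPGroup q Ks := IsPGroup.of_card (n := 1) (by rw [hq, pow_one])
  have hKsQ : Ks ≤ Q := hQmax Ks (inf_le_left.trans hMsM) hKsq
  have hfpf : ∀ k ∈ K, k ≠ 1 → D₁ ⊓ centralizer ({k} : Set G) = ⊥ := by
    intro k hk hk1
    rw [eq_bot_iff]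
    intro x hx
    obtain ⟨hx1, hx2⟩ := Subgroup.mem_inf.mp hx
    have hxKs : x ∈ Ks := by
      rw [← hpr k hk hk1]
      exact Subgroup.mem_inf.mpr ⟨hD₁Ms hx1, hx2⟩
    have hdisj : D₁ ⊓ Ks = ⊥ := by
      apply (disjoint_of_coprime_natCard _).eq_bot
      rw [hq]; exact hD₁q
    rw [← hdisj]
    exact Subgroup.mem_inf.mpr ⟨hx1, hxKs⟩
  have hD₁nil : Group.IsNilpotent D₁ := isNilpotent_of_fpf D₁ K hKD₁ hK1 hfpf
  have hDnil : Group.IsNilpotent D := by
    rw [hDeq]; exact isNilpotent_map_conj D₁ c hD₁nil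
  -- D₁ is a complement as well
  have hprod₁ : ∀ m ∈ Ms, ∃ a ∈ Q, ∃ b ∈ D₁, m = a * b := by
    intro m hm
    have hm' : c * m * c⁻¹ ∈ Ms := Ms.mul_mem (Ms.mul_mem hcMs hm) (Ms.inv_mem hcMs)
    obtain ⟨a', ha', b', hb', hab⟩ := hD.2.2.2 _ hm'
    rw [hDeq] at hb'
    obtain ⟨b, hb, rfl⟩ := hb'
    refine ⟨c⁻¹ * a' * c, ?_, b, hb, ?_⟩
    · have := (mem_normalizer_iff.mp (hMQ (M.inv_mem hcM)) a').mp ha'
      simpa using this
    · have e : m = c⁻¹ * (c * m * c⁻¹) * c := by group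
      rw [e, hab]
      simp only [MulEquiv.coe_toMonoidHom, MulAut.conj_apply]
      group
  have hD₁Q : D₁ ≤ normalizer (Q : Set G) := hD₁M.trans hMQ
  have hKQ : K ≤ normalizer (Q : Set G) := hKM.trans hMQ
  have hDnc : ¬ D₁ ≤ centralizer (Q : Set G) := by
    intro hcen
    apply hnn
    exact isNilpotent_of_commuting_product hQMs hD₁Ms hQq.isNilpotent hD₁nil (hMsM.trans hMQ)
      hcen hprod₁
  have hKq : (Nat.card K).Coprime q := by
    apply Nat.Coprime.coprime_dvd_right _ hcopKMs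
    rw [← hq]
    exact card_dvd_of_le inf_le_left
  have hDKq : (Nat.card ↥(D₁ ⊔ K)).Coprime q := by
    have h1 := Cfsg.Agent.Helper17.card_sup_mul_card_inf D₁ K hKD₁
    have h2 : Nat.card ↥(D₁ ⊔ K) ∣ Nat.card D₁ * Nat.card K := Dvd.intro _ h1
    exact Nat.Coprime.coprime_dvd_left h2 (Nat.Coprime.mul_left hD₁q hKq)
  have hKDcop : (Nat.card K).Coprime (Nat.card D₁) :=
    Nat.Coprime.coprime_dvd_right (card_dvd_of_le hD₁Ms) hcopKMs
  have hsolv : Group.IsSolvable ↥(D₁ ⊔ K) := isSolvable_of_le_coatom hG hM (sup_le hD₁M hKM)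
  have hodd : Odd (Nat.card ↥(D₁ ⊔ K)) := odd_card_subgroup hG _
  have hQK : Q ⊓ centralizer (K : Set G) = Ks := by
    apply le_antisymm
    · exact inf_le_inf_right _ hQMs
    · exact le_inf hKsQ inf_le_right
  have hprime : ∀ k ∈ K, k ≠ 1 →
      Q ⊓ centralizer ({k} : Set G) = Q ⊓ centralizer (K : Set G) := by
    intro k hk hk1
    apply le_antisymm
    · intro x hx
      obtain ⟨hx1, hx2⟩ := Subgroup.mem_inf.mp hx
      have : x ∈ Ks := by
        rw [← hpr k hk hk1]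
        exact Subgroup.mem_inf.mpr ⟨hQMs hx1, hx2⟩
      exact Subgroup.mem_inf.mpr ⟨hx1, (Subgroup.mem_inf.mp this).2⟩
    · apply inf_le_inf_left
      apply centralizer_le
      intro z hz
      rw [Set.mem_singleton_iff] at hz
      rw [hz]; exact hk
  have hq' : Nat.card ↥(Q ⊓ centralizer (K : Set G)) = q := by rw [hQK]; exact hq
  obtain ⟨hKprime, hQQ₀, hDQ₀, hKQ₀, hlt, hcard, hel, hmin, hDD₁⟩ :=
    frob_structure Q D₁ K q hQq hD₁Q hKQ hKD₁ hDKq hKDcop hK1 hfpf hsolv hodd hprime hq' hDnc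
  -- M normalizes Q₀
  have hMQ₀ : M ≤ normalizer ((Q ⊓ centralizer (D₁ : Set G) : Subgroup G) : Set G) := by
    rw [hMeq]
    apply sup_le hKQ₀
    intro m hm
    obtain ⟨a, ha, b, hb, rfl⟩ := hprod₁ m hm
    exact mul_mem (hQQ₀ ha) (hDQ₀ hb)
  -- transfer to D
  have hQ₀eq : Q ⊓ centralizer (D : Set G) = Q ⊓ centralizer (D₁ : Set G) := by
    have h1 : (Q ⊓ centralizer (D₁ : Set G)).map (cj c) = Q ⊓ centralizer (D₁ : Set G) :=
      mem_normalizer_iff_map_cj.mp (hMQ₀ hcM)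
    have h2 : Q.map (cj c) = Q := mem_normalizer_iff_map_cj.mp (hMQ hcM)
    have h3 : (Q ⊓ centralizer (D₁ : Set G)).map (cj c) =
        Q.map (cj c) ⊓ (centralizer (D₁ : Set G)).map (cj c) :=
      Subgroup.map_inf _ _ _ (cj_injective c)
    rw [h2, map_cj_centralizer] at h3
    rw [hDeq, ← h1, h3]
  rw [hQ₀eq]
  refine ⟨hDnil, hMQ₀, hlt, hcard, hel, ?_, hKprime, ?_⟩
  · intro N h1 h2 hMN
    exact hmin N h1 h2 (hD₁M.trans hMN) (hKM.trans hMN)
  · have h2 : Q.map (cj c) = Q := mem_normalizer_iff_map_cj.mp (hMQ hcM)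
    have h3 : (⁅D₁, D₁⁆).map (cj c) ≤ (centralizer (Q : Set G)).map (cj c) :=
      Subgroup.map_mono hDD₁
    rw [map_cj_centralizer, h2, Subgroup.map_commutator, ← hDeq] at h3
    exact h3

/-- transport of a complement in the type `↥N` to `IsComplIn` -/
theorem isComplIn_of_isComplement' {N Q : Subgroup G} (hQN : Q ≤ N) (H : Subgroup ↥N)
    (h : Subgroup.IsComplement' (Q.subgroupOf N) H) : Cfsg.IsComplIn Q (H.map N.subtype) N := by
  refine ⟨hQN, Subgroup.map_subtype_le _, ?_, ?_⟩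
  · rw [eq_bot_iff]
    intro x hx
    obtain ⟨hx1, hx2⟩ := Subgroup.mem_inf.mp hx
    obtain ⟨y, hy, rfl⟩ := hx2
    have h1 : y ∈ Q.subgroupOf N ⊓ H := Subgroup.mem_inf.mpr ⟨Subgroup.mem_subgroupOf.mpr hx1, hy⟩
    rw [h.disjoint.eq_bot, Subgroup.mem_bot] at h1
    rw [Subgroup.mem_bot, h1]; rfl
  · intro m hm
    obtain ⟨⟨a, b⟩, hab, -⟩ := h.existsUnique (⟨m, hm⟩ : ↥N)
    refine ⟨((a : ↥N) : G), Subgroup.mem_subgroupOf.mp a.2, ((b : ↥N) : G), ⟨b, b.2, rfl⟩, ?_⟩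
    have := congrArg (fun x : ↥N => (x : G)) hab
    simpa using this.symm

theorem exists_isComplIn_of_normal_sylow {N Q : Subgroup G} {q : ℕ} [Fact q.Prime]
    (hQN : Q ≤ N) (hNQ : N ≤ normalizer (Q : Set G)) (hQq : IsPGroup q Q)
    (hQidx : ¬ q ∣ Q.relIndex N) : ∃ D : Subgroup G, Cfsg.IsComplIn Q D N := by
  have hqp : q.Prime := Fact.out
  have hn : (Q.subgroupOf N).Normal := (normal_subgroupOf_iff_le_normalizer hQN).mpr hNQ
  have hcop : (Nat.card (Q.subgroupOf N)).Coprime (Q.subgroupOf N).index := by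
    have h1 : Nat.card (Q.subgroupOf N) = Nat.card Q :=
      Nat.card_congr (Subgroup.subgroupOfEquivOfLe hQN).toEquiv
    obtain ⟨a, ha⟩ := IsPGroup.iff_card.mp hQq
    rw [h1, ha]
    apply Nat.Coprime.pow_left
    exact (Nat.Prime.coprime_iff_not_dvd hqp).mpr hQidx
  obtain ⟨H, hH⟩ := Subgroup.exists_right_complement'_of_coprime hcop
  exact ⟨H.map N.subtype, isComplIn_of_isComplement' hQN H hH⟩

/-- the part of the frozen statement S1364 used by `thm_1437`: `1 ≠ K* ≤ M_F` when `M_F ≠ M_σ` -/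
def KstarLe (G : Type u) [Group G] : Prop :=
  ∀ M : Subgroup G, IsCoatom M → ∀ K U : Subgroup G, Cfsg.IsSigmaDecomposition M K U →
    Cfsg.fittingHallOf M ≠ Cfsg.sigmaCore M →
    (Cfsg.sigmaCore M ⊓ Subgroup.centralizer (K : Set G)) ≠ ⊥ ∧
      (Cfsg.sigmaCore M ⊓ Subgroup.centralizer (K : Set G)) ≤ Cfsg.fittingHallOf M

/-- **B&G Theorem 15.2** (statement `S1437`), conditional on the frozen statements it uses; version
with the weak forms `St1355w`, `KstarLe` of S1355 and S1364. -/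
theorem thm_1437' (hG : Cfsg.IsMinSimpleOddOrder G) (h1350 : St1350 G) (h1355 : St1355w G)
    (h1364 : KstarLe G) (h1373 : St1373 G) (h1414 : St1414 G) (h1429 : St1429 G)
    (h1430 : St1430 G) : St1437 G := by
  intro M hM K U hKU hne
  have hU : U = ⊥ := U_eq_bot_of_ne' hG h1350 h1355 h1429 hM hKU hne
  have hK1 : K ≠ ⊥ := K_ne_bot_of_ne' hG h1350 h1355 h1429 hM hKU hne
  have hnn : ¬ Group.IsNilpotent (Cfsg.sigmaCore M) :=
    fun h => hne (fittingHallOf_eq_sigmaCore_of_nilpotent' h1350 h1355 hM h)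
  have hMeq : M = K ⊔ Cfsg.sigmaCore M := eq_sup_of_U_eq_bot hKU hU
  have hMsM : Cfsg.sigmaCore M ≤ M := sigmaCore_le M
  have hKcomm : ∀ a ∈ K, ∀ b ∈ K, a * b = b * a := by
    intro a ha b hb
    have := hKU.cyclic
    have h1 : (⟨a, ha⟩ : K) * ⟨b, hb⟩ = ⟨b, hb⟩ * ⟨a, ha⟩ := by
      let _ := IsCyclic.commGroup (α := K)
      exact mul_comm _ _
    exact congrArg Subtype.val h1
  have hder : Cfsg.sigmaCore M = ⁅M, M⁆ :=
    le_antisymm (h1355 M hM).2.1
      (commutator_le_of_eq_sup hMeq (le_normalizer_sigmaCore M) hKcomm)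
  obtain ⟨hKs1, hKsF⟩ := h1364 M hM K U hKU hne
  have hqprime := h1373 M hM K U hKU hK1 hU
  obtain ⟨q, hq⟩ : ∃ q, Nat.card ↥(Cfsg.sigmaCore M ⊓ centralizer (K : Set G)) = q := ⟨_, rfl⟩
  rw [hq] at hqprime ⊢
  have : Fact q.Prime := ⟨hqprime⟩
  have hqF : q ∣ Nat.card (Cfsg.fittingHallOf M) := by
    rw [← hq]; exact card_dvd_of_le hKsF
  obtain ⟨Q, hQF, hMQ, hQq, hQidxM, hQmax⟩ :=
    exists_normal_sylow_of_dvd_card_fittingHallOf M q hqF
  have hQMs : Q ≤ Cfsg.sigmaCore M := hQF.trans (h1355 M hM).1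
  have hQidx : ¬ q ∣ Q.relIndex (Cfsg.sigmaCore M) := by
    intro h
    apply hQidxM
    rw [← Subgroup.relIndex_mul_relIndex _ _ _ hQMs hMsM]
    exact Dvd.dvd.mul_right h _
  have key := compl_structure hG h1430 hM hKU hK1 hU hnn q hq Q hMQ hQq hQidx hQmax
  -- a complement exists
  obtain ⟨D₀, hD₀⟩ := exists_isComplIn_of_normal_sylow hQMs (hMsM.trans hMQ) hQq hQidx
  have hKprime : (Nat.card K).Prime := (key D₀ hD₀).2.2.2.2.2.2.1
  -- q ∈ β(M)
  have hqβ : q ∈ Cfsg.beta M := by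
    by_contra hnβ
    have hqM : q ∣ Nat.card M := hqF.trans (card_dvd_of_le (Cfsg.Agent.Helper23.fittingHallOf_le M))
    obtain ⟨-, -, -, -, hcompl⟩ := h1414 M hM
    obtain ⟨-, ⟨P, N, hNn, hNP⟩, -⟩ := hcompl q hqprime hqM hnβ
    -- P is the subgroup Q
    have hQn : (Q.subgroupOf (Cfsg.sigmaCore M)).Normal :=
      (normal_subgroupOf_iff_le_normalizer hQMs).mpr (hMsM.trans hMQ)
    have hPQ : (P : Subgroup ↥(Cfsg.sigmaCore M)) = Q.subgroupOf (Cfsg.sigmaCore M) := by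
      apply le_antisymm
      · intro x hx
        rw [Subgroup.mem_subgroupOf]
        have h1 : ((P : Subgroup ↥(Cfsg.sigmaCore M)).map (Cfsg.sigmaCore M).subtype) ≤ Q :=
          hQmax _ ((Subgroup.map_subtype_le _).trans hMsM) (P.isPGroup'.map _)
        exact h1 ⟨x, hx, rfl⟩
      · exact le_sylow_of_normal_isPGroup P (Q.subgroupOf (Cfsg.sigmaCore M)) hQq.comap_subtype
    rw [hPQ] at hNP
    have hD : Cfsg.IsComplIn Q (N.map (Cfsg.sigmaCore M).subtype) (Cfsg.sigmaCore M) :=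
      isComplIn_of_isComplement' hQMs N hNP.symm
    obtain ⟨-, -, hlt, -⟩ := key _ hD
    apply hlt.ne
    apply le_antisymm inf_le_left
    apply le_inf le_rfl
    -- Q centralizes the normal complement
    intro x hx
    rw [mem_centralizer_iff]
    intro d hd
    obtain ⟨d', hd', rfl⟩ := hd
    have hxMs : x ∈ Cfsg.sigmaCore M := hQMs hx
    -- the commutator lies in Q ∩ D = 1
    have h1 : x * (d' : G) * x⁻¹ * (d' : G)⁻¹ ∈ Q := by
      have hd'M : (d' : G) ∈ M := hMsM d'.2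
      have h2 : (d' : G) * x⁻¹ * (d' : G)⁻¹ ∈ Q :=
        (mem_normalizer_iff.mp (hMQ hd'M) x⁻¹).mp (Q.inv_mem hx)
      have e : x * (d' : G) * x⁻¹ * (d' : G)⁻¹ = x * ((d' : G) * x⁻¹ * (d' : G)⁻¹) := by group
      rw [e]; exact Q.mul_mem hx h2
    have h2 : x * (d' : G) * x⁻¹ * (d' : G)⁻¹ ∈ N.map (Cfsg.sigmaCore M).subtype := by
      have h3 : (⟨x, hxMs⟩ : ↥(Cfsg.sigmaCore M)) * d' * ⟨x, hxMs⟩⁻¹ ∈ N := hNn.conj_mem d' hd' _
      have h4 : (⟨x, hxMs⟩ : ↥(Cfsg.sigmaCore M)) * d' * ⟨x, hxMs⟩⁻¹ * d'⁻¹ ∈ N :=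
        N.mul_mem h3 (N.inv_mem hd')
      exact ⟨_, h4, rfl⟩
    have h3 : x * (d' : G) * x⁻¹ * (d' : G)⁻¹ ∈ Q ⊓ N.map (Cfsg.sigmaCore M).subtype :=
      Subgroup.mem_inf.mpr ⟨h1, h2⟩
    rw [hD.2.2.1, mem_bot] at h3
    have e : (Cfsg.sigmaCore M).subtype d' * x = (x * (d' : G) * x⁻¹ * (d' : G)⁻¹)⁻¹ * (x * (d' : G)) := by
      simp only [Subgroup.coe_subtype]; group
    rw [e, h3, inv_one, one_mul]
    rfl
  refine ⟨hU, hder, hKprime, hqprime, hqF, hqβ, Q, hQF, hMQ, hQq, hQidx, ?_⟩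
  intro D hD
  obtain ⟨h1, h2, h3, h4, h5, h6, -, -⟩ := key D hD
  exact ⟨h1, h2, h3, h4, h5, h6⟩

/-- **B&G Theorem 15.2** (statement `S1437`), conditional on the frozen statements it uses. -/
theorem thm_1437 (hG : Cfsg.IsMinSimpleOddOrder G) (h1350 : St1350 G) (h1355 : St1355 G)
    (h1364 : St1364 G) (h1373 : St1373 G) (h1414 : St1414 G) (h1429 : St1429 G)
    (h1430 : St1430 G) : St1437 G := by
  apply thm_1437' hG h1350 (st1355w_of_st1355 h1355) _ h1373 h1414 h1429 h1430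
  intro M hM K U hKU hne
  have hK1 : K ≠ ⊥ := K_ne_bot_of_ne hG h1350 h1355 h1429 hM hKU hne
  obtain ⟨-, hKs1, hKsF, -⟩ := h1364 M hM K U hKU hK1
  exact ⟨hKs1, hKsF⟩

end main

end Cfsg.Agent.Helper27.BG15
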