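import Mathlib
import Cfsg.Agent.Helper27.BG15C
import Cfsg.Agent.Lead.PiHall
import Cfsg.Agent.Lead.PiHallNormal

/-!
# Hall subgroups of nilpotent-by-nilpotent groups: control of fusion (for B&G Cor. 15.3)
-/

set_option autoImplicit false
set_option linter.unusedSectionVars false
set_option linter.unusedVariables false

namespace Cfsg.Agent.Helper27.BG15

open Subgroup Cfsg Cfsg.Agent.Lead Cfsg.Agent.Helper14
open Pointwise
open Cfsg.Agent.H9.BG12 (le_of_coprime_card_index)

section nilhall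

variable {X : Type*} [Group X] [Finite X]

/-- A Hall subgroup of a finite nilpotent group is normal. -/
theorem normal_of_hall_of_isNilpotent [Group.IsNilpotent X] (H : Subgroup X)
    (hH : (Nat.card H).Coprime H.index) : H.Normal := by
  by_contra hn
  have hN : normalizer (H : Set X) < ⊤ := by
    rw [lt_top_iff_ne_top]
    exact fun h => hn (normalizer_eq_top_iff.mp h)
  have hlt := Group.normalizerCondition_of_isNilpotent (G := X) _ hN
  obtain ⟨g, hg, hgN⟩ := SetLike.exists_of_lt hlt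
  apply hgN
  set N : Subgroup X := normalizer (H : Set X) with hNdef
  have hHN : H ≤ N := le_normalizer
  have hKN : H.map (cj g) ≤ N := by
    have h1 : H.map (cj g) ≤ N.map (cj g) := Subgroup.map_mono hHN
    rwa [mem_normalizer_iff_map_cj.mp hg] at h1
  have hnorm : (H.subgroupOf N).Normal := Subgroup.normal_in_normalizer
  have hcard : Nat.card ((H.map (cj g)).subgroupOf N) = Nat.card H := by
    rw [Nat.card_congr (Subgroup.subgroupOfEquivOfLe hKN).toEquiv]
    exact Subgroup.card_map_of_injective (cj_injective g)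
  have hidx : (H.subgroupOf N).index ∣ H.index := Subgroup.relIndex_dvd_index_of_le hHN
  have hle : (H.map (cj g)).subgroupOf N ≤ H.subgroupOf N := by
    apply le_of_coprime_card_index
    rw [hcard]
    exact Nat.Coprime.coprime_dvd_right hidx hH
  have hle' : H.map (cj g) ≤ H := by
    intro x hx
    have : (⟨x, hKN hx⟩ : N) ∈ (H.map (cj g)).subgroupOf N := by
      rw [Subgroup.mem_subgroupOf]; exact hx
    have := hle this
    rwa [Subgroup.mem_subgroupOf] at this
  rw [mem_normalizer_iff_map_cj]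
  apply Subgroup.eq_of_le_of_card_ge hle'
  rw [Subgroup.card_map_of_injective (cj_injective g)]

/-- Two Hall subgroups of the same order inside a nilpotent subgroup coincide. -/
theorem hall_unique_of_isNilpotent {S H₁ H₂ : Subgroup X} (hS : Group.IsNilpotent S)
    (h1 : H₁ ≤ S) (h2 : H₂ ≤ S) (hc : Nat.card H₁ = Nat.card H₂)
    (hcop : (Nat.card H₁).Coprime (H₁.relIndex S)) : H₁ = H₂ := by
  have := hS
  have hc1 : Nat.card (H₁.subgroupOf S) = Nat.card H₁ :=
    Nat.card_congr (Subgroup.subgroupOfEquivOfLe h1).toEquiv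
  have hc2 : Nat.card (H₂.subgroupOf S) = Nat.card H₂ :=
    Nat.card_congr (Subgroup.subgroupOfEquivOfLe h2).toEquiv
  have hn : (H₁.subgroupOf S).Normal := by
    apply normal_of_hall_of_isNilpotent
    rw [hc1]
    exact hcop
  have hle : H₂.subgroupOf S ≤ H₁.subgroupOf S := by
    apply le_of_coprime_card_index
    rw [hc2, ← hc]
    exact hcop
  have hle' : H₂ ≤ H₁ := by
    intro x hx
    have : (⟨x, h2 hx⟩ : S) ∈ H₂.subgroupOf S := by
      rw [Subgroup.mem_subgroupOf]; exact hx
    have := hle this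
    rwa [Subgroup.mem_subgroupOf] at this
  exact (Subgroup.eq_of_le_of_card_ge hle' hc.le).symm

/-- A Hall subgroup of a nilpotent normal subgroup is normal in the whole group. -/
theorem normal_of_hall_of_isNilpotent_normal {S V : Subgroup X} [hSn : S.Normal]
    (hS : Group.IsNilpotent S) (hVS : V ≤ S) (hcop : (Nat.card V).Coprime (V.relIndex S)) :
    V.Normal := by
  rw [← normalizer_eq_top_iff, eq_top_iff]
  intro g _
  rw [mem_normalizer_iff_map_cj]
  symm
  apply hall_unique_of_isNilpotent hS hVS _ _ hcop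
  · have h1 : V.map (cj g) ≤ S.map (cj g) := Subgroup.map_mono hVS
    have h2 : S.map (cj g) = S := by
      rw [← mem_normalizer_iff_map_cj, normalizer_eq_top_iff.mpr hSn]; trivial
    rwa [h2] at h1
  · exact (Subgroup.card_map_of_injective (cj_injective g)).symm

end nilhall

section fusion

variable {M : Type*} [Group M] [Finite M]

theorem map_cj_map_hom {Q : Type*} [Group Q] (φ : M →* Q) (H : Subgroup M) (m : M) :
    (H.map (cj m)).map φ = (H.map φ).map (cj (φ m)) := by
  rw [Subgroup.map_map, Subgroup.map_map]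
  congr 1
  ext x
  simp

/-- **Lemma A.** `F ≤ S` normal in `M`, the image of `S` in `M/F` nilpotent, `H` a Hall subgroup
of `S`: then `H ⊔ F` is normal in `M`. -/
theorem hall_sup_normal (F S H : Subgroup M) [hF : F.Normal] [hS : S.Normal] (hFS : F ≤ S)
    (hHS : H ≤ S) (hnil : Group.IsNilpotent (S.map (QuotientGroup.mk' F)))
    (hHall : (Nat.card H).Coprime (H.relIndex S)) : (H ⊔ F).Normal := by
  set φ := QuotientGroup.mk' F with hφ
  have hker : φ.ker = F := QuotientGroup.ker_mk' F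
  rw [← normalizer_eq_top_iff, eq_top_iff]
  intro m _
  rw [mem_normalizer_iff_map_cj]
  have hSm : S.map (cj m) = S := by
    rw [← mem_normalizer_iff_map_cj, normalizer_eq_top_iff.mpr hS]; trivial
  have hFm : F.map (cj m) = F := by
    rw [← mem_normalizer_iff_map_cj, normalizer_eq_top_iff.mpr hF]; trivial
  have hHmS : H.map (cj m) ≤ S := by
    have h1 : H.map (cj m) ≤ S.map (cj m) := Subgroup.map_mono hHS
    rwa [hSm] at h1
  -- the images of `H` and `H^m` in the quotient coincide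
  have himg : (H.map φ) = (H.map (cj m)).map φ := by
    apply hall_unique_of_isNilpotent hnil (Subgroup.map_mono hHS) (Subgroup.map_mono hHmS)
    · rw [map_cj_map_hom, Subgroup.card_map_of_injective (cj_injective _)]
    · have h1 : (H.map φ).relIndex (S.map φ) ∣ H.relIndex S := by
        rw [Subgroup.relIndex_map_map, hker, sup_eq_left.mpr hFS]
        exact Subgroup.relIndex_dvd_of_le_left S le_sup_left
      exact Nat.Coprime.coprime_dvd_left (Subgroup.card_map_dvd H φ)
        (Nat.Coprime.coprime_dvd_right h1 hHall)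
  have h2 : (H.map (cj m)) ⊔ F = H ⊔ F := by
    rw [← hker, ← Subgroup.comap_map_eq, ← Subgroup.comap_map_eq, himg]
  rw [Subgroup.map_sup, hFm, h2]

theorem conj_smul_eq_map_cj (g : M) (H : Subgroup M) : MulAut.conj g • H = H.map (cj g) := rfl

/-- **Lemma B.** `F ≤ S` normal in the solvable group `M`, `F` nilpotent, the image of `S` in `M/F`
nilpotent, `H` a Hall subgroup of `S`: then `N_M(H)` controls `M`-fusion in `H`. -/
theorem hall_fusion [hsolv : Group.IsSolvable M] (F S H : Subgroup M) [hF : F.Normal] [hS : S.Normal]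
    (hFS : F ≤ S) (hHS : H ≤ S) (hFnil : Group.IsNilpotent F)
    (hnil : Group.IsNilpotent (S.map (QuotientGroup.mk' F)))
    (hHall : (Nat.card H).Coprime (H.relIndex S)) (x : M) (hx : x ∈ H) (m : M)
    (hy : m * x * m⁻¹ ∈ H) :
    ∃ n ∈ normalizer (H : Set M), n * x * n⁻¹ = m * x * m⁻¹ := by
  set π : Set ℕ := {p | p ∣ Nat.card H} with hπ
  have hLn : (H ⊔ F).Normal := hall_sup_normal F S H hFS hHS hnil hHall
  have hLS : H ⊔ F ≤ S := sup_le hHS hFS
  have hrelL : H.relIndex (H ⊔ F) ∣ H.relIndex S :=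
    Dvd.intro _ (Subgroup.relIndex_mul_relIndex H (H ⊔ F) S le_sup_left hLS)
  -- `H` is a Hall `π`-subgroup of `L = H ⊔ F`
  have hH1 : Cfsg.IsPiHallOf π H (H ⊔ F) := by
    refine ⟨le_sup_left, fun p hp hd => hd, fun p hp hpπ hd => ?_⟩
    exact hp.one_lt.ne' (Nat.eq_one_of_dvd_coprimes hHall hpπ (hd.trans hrelL))
  have hH2 : Cfsg.IsPiHallOf π (MulAut.conj m • H) (H ⊔ F) :=
    isPiHallOf_conj (by rw [normalizer_eq_top_iff.mpr hLn]; trivial) hH1
  have hsolvL : Group.IsSolvable (H ⊔ F : Subgroup M) := inferInstance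
  obtain ⟨l, hl, hlm⟩ := isPiHallOf_trans hsolvL hH1 hH2
  have hn₁ : l⁻¹ * m ∈ normalizer (H : Set M) := by
    rw [← conj_smul_eq_self_iff_mem_normalizer, map_mul, mul_smul, ← hlm, ← mul_smul, ← map_mul,
      inv_mul_cancel, map_one, one_smul]
  -- the Hall `π'`-subgroup `V` of `F`
  have hsolvF : Group.IsSolvable F := inferInstance
  obtain ⟨V, hVF, hVπ, hVidx⟩ := exists_isPiHallOf πᶜ hsolvF
  have hcopV : (Nat.card V).Coprime (V.relIndex F) := by
    apply Nat.coprime_of_dvd
    intro k hk hk1 hk2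
    exact hVidx k hk (hVπ k hk hk1) hk2
  have hVn : V.Normal := normal_of_hall_of_isNilpotent_normal hFnil hVF hcopV
  have hHV : H ⊓ V = ⊥ := by
    apply Disjoint.eq_bot
    apply Subgroup.disjoint_of_coprime_natCard
    apply Nat.coprime_of_dvd
    intro k hk hk1 hk2
    exact hVπ k hk hk2 hk1
  -- `F = (H ⊓ F) ⊔ V`
  have hFdecomp : (H ⊓ F) ⊔ V = F := by
    have hle : (H ⊓ F) ⊔ V ≤ F := sup_le inf_le_right hVF
    apply Subgroup.eq_of_le_of_card_ge hle
    have hab : Nat.card F = (H ⊓ F).relIndex F * Nat.card (H ⊓ F : Subgroup M) :=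
      card_eq_relIndex_mul_card inf_le_right
    have hcd : Nat.card F = V.relIndex F * Nat.card V := card_eq_relIndex_mul_card hVF
    have ha : IsPiNum π (Nat.card (H ⊓ F : Subgroup M)) := by
      intro p hp hd
      exact hd.trans (Subgroup.card_dvd_of_le inf_le_left)
    have hb : IsPiNum πᶜ ((H ⊓ F).relIndex F) := by
      intro p hp hd hpπ
      rw [Subgroup.inf_relIndex_right, ← relIndex_sup_of_normal_right] at hd
      exact hp.one_lt.ne' (Nat.eq_one_of_dvd_coprimes hHall hpπ (hd.trans hrelL))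
    have hd' : IsPiNum π (V.relIndex F) := by
      intro p hp hd
      by_contra h
      exact hVidx p hp h hd
    have hc : IsPiNum πᶜ (Nat.card V) := hVπ
    have hEq : Nat.card (H ⊓ F : Subgroup M) * (H ⊓ F).relIndex F =
        V.relIndex F * Nat.card V := by
      rw [← hcd, hab, mul_comm]
    have had : Nat.card (H ⊓ F : Subgroup M) = V.relIndex F := pi_split_unique hEq ha hb hd' hc
    have h1 := Cfsg.Agent.Helper17.card_sup_mul_card_inf_of_normal V (H ⊓ F)
    have h2 : V ⊓ (H ⊓ F) = ⊥ := by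
      rw [eq_bot_iff, ← hHV]
      exact le_inf (inf_le_right.trans inf_le_left) inf_le_left
    rw [h2, Subgroup.card_bot, mul_one, sup_comm] at h1
    rw [h1, hcd, had, mul_comm]
  -- decompose `l`
  obtain ⟨h, hh, f, hf, hhf⟩ := Subgroup.mem_sup_of_normal_right.mp hl
  rw [← hFdecomp] at hf
  obtain ⟨f₁, hf₁, v, hv, hfv⟩ := Subgroup.mem_sup_of_normal_right.mp hf
  set h' := h * f₁ with hh'
  have hh'H : h' ∈ H := H.mul_mem hh hf₁.1
  set n₁ := l⁻¹ * m with hn₁def
  have hm : m = h' * v * n₁ := by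
    rw [hn₁def, hh', mul_assoc h f₁ v, hfv, hhf]; group
  set x' := n₁ * x * n₁⁻¹ with hx'
  have hx'H : x' ∈ H := (Subgroup.mem_normalizer_iff.mp hn₁ x).mp hx
  have hz : v * x' * v⁻¹ ∈ H := by
    have : v * x' * v⁻¹ = h'⁻¹ * (m * x * m⁻¹) * h' := by
      rw [hm, hx']; group
    rw [this]
    exact H.mul_mem (H.mul_mem (H.inv_mem hh'H) hy) hh'H
  have hc1 : x'⁻¹ * (v * x' * v⁻¹) ∈ H := H.mul_mem (H.inv_mem hx'H) hz
  have hc2 : x'⁻¹ * (v * x' * v⁻¹) ∈ V := by
    have h1 : x'⁻¹ * v * x'⁻¹⁻¹ ∈ V := hVn.conj_mem v hv x'⁻¹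
    have h2 : x'⁻¹ * (v * x' * v⁻¹) = (x'⁻¹ * v * x'⁻¹⁻¹) * v⁻¹ := by group
    rw [h2]
    exact V.mul_mem h1 (V.inv_mem hv)
  have hc3 : x'⁻¹ * (v * x' * v⁻¹) = 1 := by
    have : x'⁻¹ * (v * x' * v⁻¹) ∈ H ⊓ V := ⟨hc1, hc2⟩
    rwa [hHV, Subgroup.mem_bot] at this
  have hzx : v * x' * v⁻¹ = x' := by
    have := congrArg (fun t => x' * t) hc3
    simpa using this
  refine ⟨h' * n₁, (normalizer (H : Set M)).mul_mem (le_normalizer hh'H) hn₁, ?_⟩
  have h3 : h' * n₁ * x * (h' * n₁)⁻¹ = h' * x' * h'⁻¹ := by rw [hx']; group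
  have h4 : m * x * m⁻¹ = h' * (v * x' * v⁻¹) * h'⁻¹ := by rw [hm, hx']; group
  rw [h3, h4, hzx]

end fusion

end Cfsg.Agent.Helper27.BG15
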