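import Mathlib
import Cfsg.Agent.Helper27.BG15D

/-!
# B&G Corollary 15.3(b) (second half of S1438), conditional on frozen statements
-/

set_option autoImplicit false
set_option linter.unusedSectionVars false
set_option linter.unusedVariables false

namespace Cfsg.Agent.Helper27.BG15

open Subgroup Cfsg Cfsg.Agent.Lead Cfsg.Agent.Helper14
open Cfsg.Agent.H9.BG12 (sigmaCore_le le_normalizer_sigmaCore mem_sigma_of_dvd_card_sigmaCore
  le_of_coprime_card_index mem_of_map_cj_eq)

universe u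

variable {G : Type u} [Group G] [Finite G]

/-- `M`-fusion in a Hall subgroup `H` of `M_σ` is controlled by `N_M(H)`. -/
theorem hall_fusion_in_M (hG : Cfsg.IsMinSimpleOddOrder G) (h1355 : St1355 G)
    {M : Subgroup G} (hM : IsCoatom M) {H : Subgroup G} (hH : H ≤ Cfsg.sigmaCore M)
    (hHall : (Nat.card H).Coprime (H.relIndex (Cfsg.sigmaCore M)))
    {x : G} (hx : x ∈ H) {m : G} (hm : m ∈ M) (hy : m * x * m⁻¹ ∈ H) :
    ∃ n ∈ M ⊓ normalizer (H : Set G), n * x * n⁻¹ = m * x * m⁻¹ := by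
  obtain ⟨-, hFS, hSder, -, hnilq⟩ := h1355 M hM
  have hHM : H ≤ M := hH.trans (sigmaCore_le M)
  haveI : Group.IsSolvable M := isSolvable_of_coatom hG hM
  set F' : Subgroup ↥M := Cfsg.fittingHall ↥M with hF'
  set S' : Subgroup ↥M := Cfsg.piCore (Cfsg.sigma M) ↥M with hS'
  have hFS' : F' ≤ S' := by
    have : F'.map M.subtype ≤ S'.map M.subtype := hFS
    exact (Subgroup.map_le_map_iff_of_injective M.subtype_injective).mp this
  have hmapH : (H.subgroupOf M).map M.subtype = H := Subgroup.map_subgroupOf_eq_of_le hHM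
  have hHS' : H.subgroupOf M ≤ S' := by
    have : (H.subgroupOf M).map M.subtype ≤ S'.map M.subtype := by rw [hmapH]; exact hH
    exact (Subgroup.map_le_map_iff_of_injective M.subtype_injective).mp this
  have hSder' : S' ≤ commutator ↥M := by
    have : S'.map M.subtype ≤ (commutator ↥M).map M.subtype := by
      rw [Subgroup.map_subtype_commutator]; exact hSder
    exact (Subgroup.map_le_map_iff_of_injective M.subtype_injective).mp this
  have hnil : Group.IsNilpotent (S'.map (QuotientGroup.mk' F')) :=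
    isNilpotent_of_le' (Subgroup.map_mono hSder') hnilq
  have hHall' : (Nat.card (H.subgroupOf M)).Coprime ((H.subgroupOf M).relIndex S') := by
    have h1 : Nat.card (H.subgroupOf M) = Nat.card H :=
      Nat.card_congr (Subgroup.subgroupOfEquivOfLe hHM).toEquiv
    have h2 : (H.subgroupOf M).relIndex S' = H.relIndex (Cfsg.sigmaCore M) := by
      rw [← Subgroup.relIndex_map_map_of_injective _ _ M.subtype_injective, hmapH]
      rfl
    rw [h1, h2]; exact hHall
  have hx' : (⟨x, hHM hx⟩ : M) ∈ H.subgroupOf M := by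
    rw [Subgroup.mem_subgroupOf]; exact hx
  have hy' : (⟨m, hm⟩ : M) * ⟨x, hHM hx⟩ * (⟨m, hm⟩ : M)⁻¹ ∈ H.subgroupOf M := by
    rw [Subgroup.mem_subgroupOf]; exact hy
  obtain ⟨n, hn, hnx⟩ := hall_fusion F' S' (H.subgroupOf M) hFS' hHS'
    (fittingHall_isNilpotent' ↥M) hnil hHall' _ hx' _ hy'
  refine ⟨(n : G), ⟨n.2, ?_⟩, ?_⟩
  · have h1 : n ∈ (normalizer (H : Set G)).subgroupOf M := by
      rw [Subgroup.subgroupOf_normalizer_eq hHM]; exact hn
    rwa [Subgroup.mem_subgroupOf] at h1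
  · exact congrArg Subtype.val hnx

/-- **B&G Corollary 15.3(b)**: two elements of a Hall subgroup `H` of `M_σ` conjugate in `G` are
conjugate in `N_M(H)`. -/
theorem thm_1438b (hG : Cfsg.IsMinSimpleOddOrder G) (h1355 : St1355 G) (h1374 : St1374 G)
    {M : Subgroup G} (hM : IsCoatom M) {H : Subgroup G} (hH : H ≤ Cfsg.sigmaCore M)
    (hHall : (Nat.card H).Coprime (H.relIndex (Cfsg.sigmaCore M))) :
    ∀ x ∈ H, ∀ g : G, g * x * g⁻¹ ∈ H →
      ∃ n ∈ M ⊓ normalizer (H : Set G), n * x * n⁻¹ = g * x * g⁻¹ := by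
  intro x hx g hy
  have hHM : H ≤ M := hH.trans (sigmaCore_le M)
  by_cases hx1 : x = 1
  · refine ⟨1, Subgroup.one_mem _, ?_⟩
    rw [hx1]; group
  obtain ⟨-, R, -, hcompl, huniq⟩ := h1374 M hM x (hH hx) hx1
  have hxg : x ∈ M.map (cj g⁻¹) := by
    rw [mem_map_cj, inv_inv]
    exact hHM hy
  obtain ⟨r, ⟨hrR, hrM⟩, -⟩ := huniq g⁻¹ hxg
  have hrc : r ∈ centralizer ({x} : Set G) := hcompl.2.1 hrR
  have hrx : r * x = x * r := (Subgroup.mem_centralizer_singleton_iff.mp hrc)
  have hgr : g * r ∈ M := by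
    apply mem_of_map_cj_eq hG hM
    have hrM' : M.map (cj r) = M.map (cj g⁻¹) := hrM
    rw [← map_cj_mul, hrM', map_cj_inv_map_cj]
  have hconj : (g * r) * x * (g * r)⁻¹ = g * x * g⁻¹ := by
    have : (g * r) * x * (g * r)⁻¹ = g * (r * x) * r⁻¹ * g⁻¹ := by group
    rw [this, hrx]; group
  obtain ⟨n, hn, hnx⟩ := hall_fusion_in_M hG h1355 hM hH hHall hx hgr (by rw [hconj]; exact hy)
  exact ⟨n, hn, hnx.trans hconj⟩

end Cfsg.Agent.Helper27.BG15
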