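import Mathlib
import Cfsg.Agent.Helper27.BG15E
import Cfsg.Agent.Helper18.BG16Bb
import Cfsg.Agent.Helper10.BG16D
import Cfsg.Agent.Helper9.NormalElemAb

/-!
# B&G Corollary 15.3(a) (first half of S1438), conditional on frozen statements
-/

set_option autoImplicit false
set_option linter.unusedSectionVars false
set_option linter.unusedVariables false

namespace Cfsg.Agent.Helper27.BG15

open Subgroup Cfsg Cfsg.Agent.Lead Cfsg.Agent.Helper14
open Pointwise
open Cfsg.Agent.H9.BG12 (sigmaCore_le le_normalizer_sigmaCore mem_sigma_of_dvd_card_sigmaCore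
  le_of_coprime_card_index mem_of_map_cj_eq)
open Cfsg.Agent.Helper21.BG10 (conj_mem_sigmaCore)

universe u

section general

variable {G : Type u} [Group G] [Finite G]

theorem exists_isComplIn_of_coprime {N Q : Subgroup G}
    (hQN : Q ≤ N) (hNQ : N ≤ normalizer (Q : Set G))
    (hcop : (Nat.card Q).Coprime (Q.relIndex N)) : ∃ D : Subgroup G, Cfsg.IsComplIn Q D N := by
  have hn : (Q.subgroupOf N).Normal := (normal_subgroupOf_iff_le_normalizer hQN).mpr hNQ
  have hcop' : (Nat.card (Q.subgroupOf N)).Coprime (Q.subgroupOf N).index := by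
    have h1 : Nat.card (Q.subgroupOf N) = Nat.card Q :=
      Nat.card_congr (Subgroup.subgroupOfEquivOfLe hQN).toEquiv
    rw [h1]; exact hcop
  obtain ⟨H, hH⟩ := Subgroup.exists_right_complement'_of_coprime hcop'
  exact ⟨H.map N.subtype, isComplIn_of_isComplement' hQN H hH⟩

/-- for `N` normalized by `M` and `C ≤ M`: `|C : C ∩ N|` divides `|M : M ∩ N|` -/
theorem relIndex_dvd_relIndex_of_le_normalizer {N C M : Subgroup G} (hNM : N ≤ M) (hCM : C ≤ M)
    (hMN : M ≤ normalizer (N : Set G)) : N.relIndex C ∣ N.relIndex M := by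
  have hn : (N.subgroupOf M).Normal := (normal_subgroupOf_iff_le_normalizer hNM).mpr hMN
  have h1 := Subgroup.relIndex_dvd_index_of_normal (N.subgroupOf M) (C.subgroupOf M)
  rwa [Subgroup.relIndex_subgroupOf hCM] at h1

theorem isElementaryAbelian_map {A B : Type*} [Group A] [Group B] (f : A →* B) {p : ℕ}
    {K : Subgroup A} (hK : Cfsg.IsElementaryAbelian p K) : Cfsg.IsElementaryAbelian p (K.map f) := by
  refine ⟨?_, ?_⟩
  · have := hK.1
    exact Subgroup.map_isMulCommutative _ _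
  · rintro _ ⟨a, ha, rfl⟩
    rw [← map_pow, hK.2 a ha, map_one]

/-- a Hall subgroup `H` of `S` contains a Sylow `p`-subgroup of `S`, for `p ∣ |H|` -/
theorem exists_sylow_le_of_hall {S H : Subgroup G} (hHS : H ≤ S)
    (hHall : (Nat.card H).Coprime (H.relIndex S)) {p : ℕ} [Fact p.Prime] (hp : p ∣ Nat.card H) :
    ∃ P : Sylow p ↥S, (P : Subgroup ↥S).map S.subtype ≤ H := by
  have hpp : p.Prime := Fact.out
  obtain ⟨T⟩ : Nonempty (Sylow p ↥(H.subgroupOf S)) := inferInstance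
  set P₀ : Subgroup ↥S := (T : Subgroup ↥(H.subgroupOf S)).map (H.subgroupOf S).subtype with hP₀
  have hP₀p : IsPGroup p P₀ := T.2.map _
  have hidx : ¬ p ∣ P₀.index := by
    rw [hP₀, Subgroup.index_map_subtype]
    intro h
    rcases (Nat.Prime.dvd_mul hpp).mp h with h1 | h1
    · exact T.not_dvd_index h1
    · have h2 : (H.subgroupOf S).index = H.relIndex S := rfl
      rw [h2] at h1
      exact hpp.one_lt.ne' (Nat.eq_one_of_dvd_coprimes hHall hp h1)
  refine ⟨hP₀p.toSylow hidx, ?_⟩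
  rintro _ ⟨y, hy, rfl⟩
  have hy' : y ∈ P₀ := hy
  obtain ⟨z, hz, rfl⟩ := hy'
  exact Subgroup.mem_subgroupOf.mp z.2

end general

section main

variable {G : Type u} [Group G] [Finite G]

open Cfsg.Agent.Helper18.BG16B (K_le U_le not_mem_sigma_of_dvd_card_U not_mem_kappa_of_dvd_card_U
  mem_tau2_of_fixed prime_ne_two)
open Cfsg.Agent.Helper10.BG16 (sd_card)

/-- an element of prime order `r` of `M` centralizing a nontrivial Hall subgroup `H` of `M_σ`
has `r ∉ κ(M)` (B&G 14.2 + 14.3) -/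
theorem not_mem_kappa_of_centralizes_hall (hG : Cfsg.IsMinSimpleOddOrder G) (h1430 : St1430 G)
    (h1431 : St1431 G) {M : Subgroup G} (hM : IsCoatom M) {H : Subgroup G}
    (hH : H ≤ Cfsg.sigmaCore M) (hH1 : H ≠ ⊥)
    (hHall : (Nat.card H).Coprime (H.relIndex (Cfsg.sigmaCore M)))
    {r : ℕ} (hr : r.Prime) {x₀ : G} (hx₀M : x₀ ∈ M) (hx₀H : x₀ ∈ centralizer (H : Set G))
    (hx₀1 : x₀ ≠ 1) (hx₀r : x₀ ^ r = 1) : r ∉ Cfsg.kappa M := by
  intro hrκ
  have hsolv := isSolvable_of_coatom hG hM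
  have hZM : zpowers x₀ ≤ M := (zpowers_le).mpr hx₀M
  have : Fact r.Prime := ⟨hr⟩
  have hZcard : Nat.card (zpowers x₀) = r := by
    rw [Nat.card_zpowers]; exact orderOf_eq_prime hx₀r hx₀1
  have hZπ : IsPiNum (Cfsg.kappa M) (Nat.card (zpowers x₀)) := by
    intro p hp hd
    rw [hZcard] at hd
    rw [(Nat.prime_dvd_prime_iff_eq hp hr).mp hd]; exact hrκ
  obtain ⟨K, hK, hZK⟩ := exists_isPiHallOf_ge hsolv hZM hZπ
  have hx₀K : x₀ ∈ K := hZK (mem_zpowers x₀)
  have hK1 : K ≠ ⊥ := by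
    intro h
    rw [h, mem_bot] at hx₀K
    exact hx₀1 hx₀K
  obtain ⟨h30, -, -⟩ := h1430 M hM K hK hK1
  obtain ⟨-, -, h31, -⟩ := h1431 M hM K hK hK1
  have hHK : H ≤ Cfsg.sigmaCore M ⊓ centralizer (K : Set G) := by
    rw [← h30 x₀ hx₀K hx₀1]
    refine le_inf hH ?_
    intro y hy
    rw [mem_centralizer_singleton_iff]
    exact (mem_centralizer_iff.mp hx₀H y hy)
  have hc : Nat.card H ≠ 1 := fun h => hH1 (Subgroup.card_eq_one.mp h)
  obtain ⟨p, hp, hpH⟩ := Nat.exists_prime_and_dvd hc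
  have : Fact p.Prime := ⟨hp⟩
  obtain ⟨P, hP⟩ := exists_sylow_le_of_hall hH hHall hpH
  exact (h31 p hp (hpH.trans (card_dvd_of_le hHK)) P).2.2 (hP.trans hHK)

/-- **B&G Corollary 15.3(a)**. -/
theorem thm_1438a (hG : Cfsg.IsMinSimpleOddOrder G) (h1350 : St1350 G) (h1351 : St1351 G)
    (h1352 : St1352 G) (h1359 : St1359 G) (h1417 : St1417 G) (h1430 : St1430 G)
    (h1431 : St1431 G) {M : Subgroup G} (hM : IsCoatom M) {H : Subgroup G}
    (hH : H ≤ Cfsg.sigmaCore M) (hH1 : H ≠ ⊥)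
    (hHall : (Nat.card H).Coprime (H.relIndex (Cfsg.sigmaCore M))) :
    ∃ X : Subgroup G, IsCyclic X ∧ (∀ p : ℕ, p.Prime → p ∣ Nat.card X → p ∈ Cfsg.tau2 M) ∧
        M ⊓ centralizer (H : Set G) = (Cfsg.sigmaCore M ⊓ centralizer (H : Set G)) ⊔ X := by
  have hMs := sigmaCore_le M
  have hCσC : Cfsg.sigmaCore M ⊓ centralizer (H : Set G) ≤ M ⊓ centralizer (H : Set G) :=
    inf_le_inf_right _ hMs
  have hCM : M ⊓ centralizer (H : Set G) ≤ M := inf_le_left
  have hCσeq : Cfsg.sigmaCore M ⊓ centralizer (H : Set G) =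
      Cfsg.sigmaCore M ⊓ (M ⊓ centralizer (H : Set G)) := by
    rw [← inf_assoc, inf_eq_left.mpr hMs]
  have hCnorm : M ⊓ centralizer (H : Set G) ≤
      normalizer ((Cfsg.sigmaCore M ⊓ centralizer (H : Set G) : Subgroup G) : Set G) := by
    rw [hCσeq]
    exact le_normalizer_inf_of_le (hCM.trans (le_normalizer_sigmaCore M)) le_normalizer
  obtain ⟨⟨-, hσπ, hσidx⟩, -, -⟩ := h1350 M hM
  have hrel : (Cfsg.sigmaCore M ⊓ centralizer (H : Set G)).relIndex (M ⊓ centralizer (H : Set G)) ∣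
      (Cfsg.sigmaCore M).relIndex M := by
    rw [hCσeq, inf_relIndex_right]
    exact relIndex_dvd_relIndex_of_le_normalizer hMs hCM (le_normalizer_sigmaCore M)
  have hcop : (Nat.card (Cfsg.sigmaCore M ⊓ centralizer (H : Set G) : Subgroup G)).Coprime
      ((Cfsg.sigmaCore M ⊓ centralizer (H : Set G)).relIndex (M ⊓ centralizer (H : Set G))) := by
    apply Nat.coprime_of_dvd
    intro k hk hk1 hk2
    have h1 : k ∈ Cfsg.sigma M :=
      mem_sigma_of_dvd_card_sigmaCore hk (hk1.trans (card_dvd_of_le inf_le_left))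
    exact hσidx k hk h1 (hk2.trans hrel)
  obtain ⟨X, hX⟩ := exists_isComplIn_of_coprime hCσC hCnorm hcop
  have hXC : X ≤ M ⊓ centralizer (H : Set G) := hX.2.1
  have hXM : X ≤ M := hXC.trans hCM
  have hXcent : X ≤ centralizer (H : Set G) := hXC.trans inf_le_right
  have hcardX : Nat.card X =
      (Cfsg.sigmaCore M ⊓ centralizer (H : Set G)).relIndex (M ⊓ centralizer (H : Set G)) := by
    have h1 := card_mul_card_of_isComplIn hX
    have h2 := card_eq_relIndex_mul_card hCσC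
    have h3 : Nat.card (Cfsg.sigmaCore M ⊓ centralizer (H : Set G) : Subgroup G) * Nat.card X =
        Nat.card (Cfsg.sigmaCore M ⊓ centralizer (H : Set G) : Subgroup G) *
          (Cfsg.sigmaCore M ⊓ centralizer (H : Set G)).relIndex (M ⊓ centralizer (H : Set G)) := by
      rw [h1, h2, mul_comm]
    exact Nat.eq_of_mul_eq_mul_left Nat.card_pos h3
  have hXσ : ∀ p : ℕ, p.Prime → p ∣ Nat.card X → p ∉ Cfsg.sigma M := by
    intro p hp hd hps
    rw [hcardX] at hd
    exact hσidx p hp hps (hd.trans hrel)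
  obtain ⟨y₀, hy₀H, hy₀1⟩ := (Subgroup.bot_or_exists_ne_one H).resolve_left hH1
  -- the primes of `X` are in `τ₂(M)` and not in `κ(M)`
  have hXτ : ∀ p : ℕ, p.Prime → p ∣ Nat.card X → p ∈ Cfsg.tau2 M ∧ p ∉ Cfsg.kappa M := by
    intro p hp hd
    have : Fact p.Prime := ⟨hp⟩
    obtain ⟨x₁, hx₁⟩ := exists_prime_orderOf_dvd_card' p hd
    have hx₀X : (x₁ : G) ∈ X := x₁.2
    have hord : orderOf (x₁ : G) = p := by rw [Subgroup.orderOf_coe]; exact hx₁
    have hx₀p : (x₁ : G) ^ p = 1 := by rw [← hord]; exact pow_orderOf_eq_one _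
    have hx₀1 : (x₁ : G) ≠ 1 := by
      intro h
      rw [h, orderOf_one] at hord
      exact hp.one_lt.ne hord
    have hκ : p ∉ Cfsg.kappa M :=
      not_mem_kappa_of_centralizes_hall hG h1430 h1431 hM hH hH1 hHall hp (hXM hx₀X)
        (hXcent hx₀X) hx₀1 hx₀p
    refine ⟨mem_tau2_of_fixed hG hM hp (hXσ p hp hd) hκ (hXM hx₀X) hx₀1 hx₀p (hH hy₀H) hy₀1 ?_, hκ⟩
    exact (mem_centralizer_iff.mp (hXcent hx₀X) y₀ hy₀H).symm
  -- `X` is abelian
  have hab : ∀ a ∈ X, ∀ b ∈ X, a * b = b * a := by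
    obtain ⟨⟨K, hK⟩, hKcyc⟩ := h1351 M hM
    obtain ⟨⟨U, hKU⟩, -⟩ := h1352 M hM K (hKcyc K hK) hK
    set π : Set ℕ := {q | q ∉ Cfsg.sigma M ∧ q ∉ Cfsg.kappa M} with hπ
    have hUhall : Cfsg.IsPiHallOf π U M := by
      refine ⟨U_le hKU, fun p hp hd => ⟨not_mem_sigma_of_dvd_card_U hKU h1350 hM hp hd,
        not_mem_kappa_of_dvd_card_U hKU hp hd⟩, fun p hp hpπ hd => ?_⟩
      have h1 : U.relIndex M * Nat.card U = Nat.card M := relIndex_mul_card' (U_le hKU)
      have h2 := sd_card h1350 hM hKU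
      have h3 : U.relIndex M = Nat.card K * Nat.card (Cfsg.sigmaCore M) := by
        apply Nat.eq_of_mul_eq_mul_right (Nat.card_pos (α := U))
        rw [h1, h2, mul_comm]
      rw [h3] at hd
      rcases (Nat.Prime.dvd_mul hp).mp hd with h | h
      · exact hpπ.2 (hKU.hall.2.1 p hp h)
      · exact hpπ.1 (mem_sigma_of_dvd_card_sigmaCore hp h)
    have hXπ : IsPiNum π (Nat.card X) := fun p hp hd => ⟨hXσ p hp hd, (hXτ p hp hd).2⟩
    have hsolv := isSolvable_of_coatom hG hM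
    obtain ⟨U₁, hU₁, hXU₁⟩ := exists_isPiHallOf_ge hsolv hXM hXπ
    obtain ⟨m, hmM, hmU⟩ := isPiHallOf_trans hsolv hU₁ hUhall
    have hc := h1359 M hM K U hKU
    have key : ∀ a ∈ X, m * a * m⁻¹ ∈ closure ((U : Set G) ∩ Cfsg.sigmaHat M) := by
      intro a ha
      apply Subgroup.subset_closure
      refine ⟨?_, ?_, ?_⟩
      · rw [SetLike.mem_coe, ← hmU, conj_smul_eq_map_cj]
        exact ⟨a, hXU₁ ha, rfl⟩
      · exact M.mul_mem (M.mul_mem hmM (hXM ha)) (M.inv_mem hmM)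
      · refine ⟨m * y₀ * m⁻¹, conj_mem_sigmaCore hmM (hH hy₀H), ?_, ?_⟩
        · intro h
          apply hy₀1
          have : y₀ = m⁻¹ * (m * y₀ * m⁻¹) * m := by group
          rw [this, h]; group
        · have h1 := mem_centralizer_iff.mp (hXcent ha) y₀ hy₀H
          calc m * a * m⁻¹ * (m * y₀ * m⁻¹) = m * (a * y₀) * m⁻¹ := by group
            _ = m * (y₀ * a) * m⁻¹ := by rw [h1]
            _ = m * y₀ * m⁻¹ * (m * a * m⁻¹) := by group
    intro a ha b hb
    have h1 := hc.is_comm.comm ⟨_, key a ha⟩ ⟨_, key b hb⟩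
    have h2 : m * a * m⁻¹ * (m * b * m⁻¹) = m * b * m⁻¹ * (m * a * m⁻¹) :=
      congrArg Subtype.val h1
    have h3 : m * (a * b) * m⁻¹ = m * (b * a) * m⁻¹ := by
      calc m * (a * b) * m⁻¹ = m * a * m⁻¹ * (m * b * m⁻¹) := by group
        _ = m * b * m⁻¹ * (m * a * m⁻¹) := h2
        _ = m * (b * a) * m⁻¹ := by group
    exact mul_left_cancel (mul_right_cancel h3)
  -- `X` is a Z-group
  have hZ : IsZGroup X := by
    refine ⟨fun p hp P => ?_⟩
    have : Fact p.Prime := ⟨hp⟩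
    by_cases hpX : p ∣ Nat.card X
    swap
    · have h1 : Nat.card (P : Subgroup X) = 1 := by
        rw [P.card_eq_multiplicity, Nat.factorization_eq_zero_of_not_dvd hpX, pow_zero]
      have : Subsingleton (P : Subgroup X) := (Nat.card_eq_one_iff_unique.mp h1).1
      exact isCyclic_of_subsingleton
    by_contra hnc
    have hp2 : p ≠ 2 := prime_ne_two hG (hpX.trans (card_dvd_of_le hXM))
    obtain ⟨A, -, hAel, hAcard⟩ := Cfsg.Agent.Helper9.exists_normal_elemAb_sq hp2 P.2 hnc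
    set A' : Subgroup G := (A.map (P : Subgroup X).subtype).map X.subtype with hA'
    have hA'X : A' ≤ X := Subgroup.map_subtype_le _
    have hA'el : Cfsg.IsElementaryAbelian p A' :=
      isElementaryAbelian_map _ (isElementaryAbelian_map _ hAel)
    have hA'card : Nat.card A' = p ^ 2 := by
      rw [hA', card_map_of_injective (subtype_injective _),
        card_map_of_injective (subtype_injective _), hAcard]
    obtain ⟨-, -, -, h4, -, -⟩ := h1417 M hM p (hXτ p hp hpX).1 A' ⟨hA'X.trans hXM, hA'el, hA'card⟩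
    apply hH1
    rw [eq_bot_iff, ← h4]
    refine le_inf hH ?_
    intro y hy
    rw [mem_centralizer_iff]
    intro a ha
    exact (mem_centralizer_iff.mp (hXcent (hA'X ha)) y hy).symm
  have hcyc : IsCyclic X := by
    let _ : CommGroup X := ⟨fun a b => Subtype.ext (hab a a.2 b b.2)⟩
    infer_instance
  refine ⟨X, hcyc, fun p hp hd => (hXτ p hp hd).1, ?_⟩
  apply le_antisymm
  · intro c hc
    obtain ⟨a, ha, b, hb, rfl⟩ := hX.2.2.2 c hc
    exact mul_mem (mem_sup_left ha) (mem_sup_right hb)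
  · exact sup_le hCσC hXC

/-- **B&G Corollary 15.3** (statement `S1438`), conditional on the frozen statements it uses. -/
theorem thm_1438 (hG : Cfsg.IsMinSimpleOddOrder G) (h1350 : St1350 G) (h1351 : St1351 G)
    (h1352 : St1352 G) (h1355 : St1355 G) (h1359 : St1359 G) (h1374 : St1374 G)
    (h1417 : St1417 G) (h1430 : St1430 G) (h1431 : St1431 G) : St1438 G := by
  intro M hM H hH hH1 hHall
  exact ⟨thm_1438a hG h1350 h1351 h1352 h1359 h1417 h1430 h1431 hM hH hH1 hHall,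
    thm_1438b hG h1355 h1374 hM hH hHall⟩

end main

end Cfsg.Agent.Helper27.BG15
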