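import Mathlib
import Cfsg.Agent.Helper27.BG15F
import Cfsg.Agent.Helper19.Cores
import Cfsg.Agent.Lead.TT7

/-!
# B&G Corollary 15.4 (statement S1439), conditional on frozen statements
-/

set_option autoImplicit false
set_option linter.unusedSectionVars false
set_option linter.unusedVariables false

namespace Cfsg.Agent.Helper27.BG15

open Subgroup Cfsg Cfsg.Agent.Lead Cfsg.Agent.Helper14
open Pointwise
open Cfsg.Agent.H9.BG12 (sigmaCore_le le_normalizer_sigmaCore mem_sigma_of_dvd_card_sigmaCore)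

universe u

section general

variable {G : Type u} [Group G]

/-- the normalizer of `X` normalizes (the image of) every characteristic subgroup of `X` -/
theorem normalizer_le_normalizer_map_of_characteristic (X : Subgroup G) (N : Subgroup ↥X)
    [hN : N.Characteristic] :
    normalizer (X : Set G) ≤ normalizer ((N.map X.subtype : Subgroup G) : Set G) := by
  apply le_normalizer_of_map_cj_le
  intro g hg
  have hg' : ∀ x, x ∈ X ↔ g * x * g⁻¹ ∈ X := fun x => mem_normalizer_iff.mp hg x
  have hinv : ∀ x : ↥X, g⁻¹ * (x : G) * g ∈ X := by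
    intro x
    rw [hg']
    have : g * (g⁻¹ * (x : G) * g) * g⁻¹ = x := by group
    rw [this]; exact x.2
  let φ : ↥X ≃* ↥X :=
    { toFun := fun x => ⟨g * x * g⁻¹, (hg' x).mp x.2⟩
      invFun := fun x => ⟨g⁻¹ * x * g, hinv x⟩
      left_inv := fun x => Subtype.ext (by simp [mul_assoc])
      right_inv := fun x => Subtype.ext (by simp [mul_assoc])
      map_mul' := fun x y => Subtype.ext (by simp [mul_assoc]) }
  have hφ : N.map φ.toMonoidHom = N := characteristic_iff_map_eq.mp hN φ
  rintro _ ⟨_, ⟨x, hx, rfl⟩, rfl⟩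
  refine ⟨φ x, ?_, rfl⟩
  rw [← hφ]
  exact ⟨x, hx, rfl⟩

theorem commute_of_normalizing' {H K : Subgroup G} (hHK : H ≤ normalizer (K : Set G))
    (hKH : K ≤ normalizer (H : Set G)) (hdis : H ⊓ K = ⊥) :
    ∀ x ∈ H, ∀ y ∈ K, x * y = y * x := by
  intro x hx y hy
  have h1 : x * y * x⁻¹ * y⁻¹ ∈ H := by
    have : y * x⁻¹ * y⁻¹ ∈ H := (mem_normalizer_iff.mp (hKH hy) x⁻¹).mp (H.inv_mem hx)
    have e : x * y * x⁻¹ * y⁻¹ = x * (y * x⁻¹ * y⁻¹) := by group
    rw [e]; exact H.mul_mem hx this
  have h2 : x * y * x⁻¹ * y⁻¹ ∈ K := by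
    have : x * y * x⁻¹ ∈ K := (mem_normalizer_iff.mp (hHK hx) y).mp hy
    exact K.mul_mem this (K.inv_mem hy)
  have h3 : x * y * x⁻¹ * y⁻¹ ∈ H ⊓ K := ⟨h1, h2⟩
  rw [hdis, mem_bot] at h3
  have : x * y = (x * y * x⁻¹ * y⁻¹) * (y * x) := by group
  rw [this, h3, one_mul]

variable [Finite G]

/-- complementary Hall subgroups `P`, `V` of `F` with `P` normalizing `V` generate `F` -/
theorem sup_eq_of_hall_pair {π : Set ℕ} {F P V : Subgroup G} (hPF : P ≤ F) (hVF : V ≤ F)
    (hP : IsPiNum π (Nat.card P)) (hPi : IsPiNum πᶜ (P.relIndex F))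
    (hV : IsPiNum πᶜ (Nat.card V)) (hVi : IsPiNum π (V.relIndex F))
    (hPV : P ≤ normalizer (V : Set G)) : P ⊔ V = F := by
  apply Subgroup.eq_of_le_of_card_ge (sup_le hPF hVF)
  have hab : Nat.card F = P.relIndex F * Nat.card P := card_eq_relIndex_mul_card hPF
  have hcd : Nat.card F = V.relIndex F * Nat.card V := card_eq_relIndex_mul_card hVF
  have hEq : Nat.card P * P.relIndex F = V.relIndex F * Nat.card V := by
    rw [← hcd, hab, mul_comm]
  have had : Nat.card P = V.relIndex F := pi_split_unique hEq hP hPi hVi hV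
  have h1 := Cfsg.Agent.Helper17.card_sup_mul_card_inf V P hPV
  have h2 : V ⊓ P = ⊥ := by
    apply Disjoint.eq_bot
    apply Subgroup.disjoint_of_coprime_natCard
    exact (hP.coprime hV).symm
  rw [h2, Subgroup.card_bot, mul_one, sup_comm] at h1
  rw [h1, hcd, had, mul_comm]

end general

section main

variable {G : Type u} [Group G] [Finite G]

theorem fittingOf_le (M : Subgroup G) : Cfsg.fittingOf M ≤ M := Subgroup.map_subtype_le _

theorem le_normalizer_fittingOf (M : Subgroup G) :
    M ≤ normalizer (Cfsg.fittingOf M : Set G) :=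
  Cfsg.Agent.Helper23.le_normalizer_map_subtype M (Cfsg.fittingSubgroup ↥M)

theorem fittingOf_isNilpotent (M : Subgroup G) : Group.IsNilpotent (Cfsg.fittingOf M) := by
  have := Cfsg.Agent.Helper7.fittingSubgroup_isNilpotent (G := ↥M)
  exact Group.nilpotent_of_mulEquiv
    (Subgroup.equivMapOfInjective (Cfsg.fittingSubgroup ↥M) M.subtype M.subtype_injective)

/-- a nilpotent subgroup `N ≤ M` normalized by `M` lies in `F(M)` -/
theorem le_fittingOf {M N : Subgroup G} (hNM : N ≤ M) (hMN : M ≤ normalizer (N : Set G))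
    (hnil : Group.IsNilpotent N) : N ≤ Cfsg.fittingOf M := by
  have hn : (N.subgroupOf M).Normal := (normal_subgroupOf_iff_le_normalizer hNM).mpr hMN
  have hnil' : Group.IsNilpotent (N.subgroupOf M) := by
    have := hnil
    exact Group.nilpotent_of_mulEquiv (Subgroup.subgroupOfEquivOfLe hNM).symm
  have h1 := Cfsg.Agent.Helper7.le_fittingSubgroup hn hnil'
  have h2 : (N.subgroupOf M).map M.subtype ≤ (Cfsg.fittingSubgroup ↥M).map M.subtype :=
    Subgroup.map_mono h1
  rwa [Subgroup.map_subgroupOf_eq_of_le hNM] at h2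

/-- **B&G Corollary 15.4** (statement `S1439`), conditional on the frozen statements it uses. -/
theorem thm_1439 (hG : Cfsg.IsMinSimpleOddOrder G) (h1350 : St1350 G) (h1355 : St1355 G)
    (h1438 : St1438 G) : St1439 G := by
  intro M hM
  obtain ⟨⟨-, hσπ, hσidx⟩, -, -⟩ := h1350 M hM
  obtain ⟨hF1, hFS, -, -, -⟩ := h1355 M hM
  have hMs := sigmaCore_le M
  have hMsn := le_normalizer_sigmaCore M
  set π' : Set ℕ := {q | q.Prime ∧ q ∉ Cfsg.sigma M} with hπ'
  set F : Subgroup G := Cfsg.fittingOf M with hF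
  have hFM : F ≤ M := fittingOf_le M
  have hMF : M ≤ normalizer (F : Set G) := le_normalizer_fittingOf M
  have hFnil : Group.IsNilpotent F := fittingOf_isNilpotent M
  set Y : Subgroup G := Cfsg.piCoreOf π' F with hY
  have hYF : Y ≤ F := Cfsg.Agent.Lead.TT.piCoreOf_le π' F
  have hYM : Y ≤ M := hYF.trans hFM
  have hMY : M ≤ normalizer (Y : Set G) := by
    have : (Cfsg.piCore π' ↥F).Characteristic := Cfsg.Agent.Helper19.piCore_characteristic π'
    exact hMF.trans (normalizer_le_normalizer_map_of_characteristic F (Cfsg.piCore π' ↥F))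
  have hYπ : IsPiNum π' (Nat.card Y) := by
    intro p hp hd
    rw [hY, Cfsg.Agent.Lead.TT.card_piCoreOf] at hd
    exact Cfsg.Agent.Helper19.piCore_isPiNum π' p hp hd
  have hMsσ : IsPiNum (Cfsg.sigma M) (Nat.card (Cfsg.sigmaCore M)) := hσπ
  -- `Y` centralizes `M_σ`
  have hYMs : Y ⊓ Cfsg.sigmaCore M = ⊥ := by
    apply Disjoint.eq_bot
    apply Subgroup.disjoint_of_coprime_natCard
    apply Nat.coprime_of_dvd
    intro k hk hk1 hk2
    exact (hYπ k hk hk1).2 (hσπ k hk hk2)
  have hYcent : Y ≤ centralizer (Cfsg.sigmaCore M : Set G) := by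
    intro y hy
    rw [mem_centralizer_iff]
    intro s hs
    exact (commute_of_normalizing' (hYM.trans hMsn) (hMs.trans hMY) hYMs y hy s hs).symm
  -- apply S1438 with `H = M_σ`
  have hMs1 : Cfsg.sigmaCore M ≠ ⊥ := by
    intro h
    apply hF1
    rw [eq_bot_iff, ← h]; exact hFS
  have hHall : (Nat.card (Cfsg.sigmaCore M)).Coprime
      ((Cfsg.sigmaCore M).relIndex (Cfsg.sigmaCore M)) := by
    rw [Subgroup.relIndex_self]; exact Nat.coprime_one_right _
  obtain ⟨⟨X, hXcyc, hXτ, hXeq⟩, -⟩ := h1438 M hM (Cfsg.sigmaCore M) le_rfl hMs1 hHall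
  set C : Subgroup G := M ⊓ centralizer (Cfsg.sigmaCore M : Set G) with hC
  set Z : Subgroup G := Cfsg.sigmaCore M ⊓ centralizer (Cfsg.sigmaCore M : Set G) with hZ
  have hXC : X ≤ C := by rw [hXeq]; exact le_sup_right
  have hZC : Z ≤ C := by rw [hXeq]; exact le_sup_left
  have hCM : C ≤ M := inf_le_left
  have hXπ : IsPiNum π' (Nat.card X) := fun p hp hd => ⟨hp, (hXτ p hp hd).2.1⟩
  have hZσ : IsPiNum (Cfsg.sigma M) (Nat.card Z) :=
    fun p hp hd => hσπ p hp (hd.trans (card_dvd_of_le inf_le_left))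
  have hCZ : C ≤ normalizer (Z : Set G) := by
    have h1 : Z = Cfsg.sigmaCore M ⊓ C := by
      rw [hZ, hC, ← inf_assoc, inf_eq_left.mpr hMs]
    rw [h1]
    exact le_normalizer_inf_of_le (hCM.trans hMsn) le_normalizer
  have hXhall : Cfsg.IsPiHallOf π' X C := by
    refine ⟨hXC, hXπ, fun p hp hpπ hd => ?_⟩
    have h1 := Cfsg.Agent.Helper17.card_sup_mul_card_inf Z X (hXC.trans hCZ)
    have h2 : Z ⊓ X = ⊥ := by
      apply Disjoint.eq_bot
      apply Subgroup.disjoint_of_coprime_natCard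
      apply Nat.coprime_of_dvd
      intro k hk hk1 hk2
      exact (hXπ k hk hk2).2 (hZσ k hk hk1)
    rw [h2, Subgroup.card_bot, mul_one, ← hXeq] at h1
    have h3 : X.relIndex C * Nat.card X = Nat.card C := relIndex_mul_card' hXC
    have h4 : X.relIndex C = Nat.card Z := by
      apply Nat.eq_of_mul_eq_mul_right (Nat.card_pos (α := X))
      rw [h3, h1]
    rw [h4] at hd
    exact hpπ.2 (hZσ p hp hd)
  have hsolvC : Group.IsSolvable C := isSolvable_of_le_coatom hG hM hCM
  have hYC : Y ≤ C := le_inf hYM hYcent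
  obtain ⟨X₁, hX₁, hYX₁⟩ := exists_isPiHallOf_ge hsolvC hYC hYπ
  obtain ⟨c, hcC, hcX⟩ := isPiHallOf_trans hsolvC hX₁ hXhall
  have hYcX : Y.map (cj c) ≤ X := by
    rw [← hcX, conj_smul_eq_map_cj]
    exact Subgroup.map_mono hYX₁
  have hcardY : Nat.card (Y.map (cj c)) = Nat.card Y :=
    Subgroup.card_map_of_injective (cj_injective c)
  refine ⟨?_, ?_, ?_⟩
  · have h1 : IsCyclic (Y.map (cj c)) := by
      have := hXcyc
      exact Subgroup.isCyclic_of_le hYcX
    have e : ↥Y ≃* ↥(Y.map (cj c)) := Subgroup.equivMapOfInjective Y (cj c) (cj_injective c)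
    exact isCyclic_of_surjective e.symm.toMonoidHom e.symm.surjective
  · intro p hp hd
    apply hXτ p hp
    rw [← hcardY] at hd
    exact hd.trans (card_dvd_of_le hYcX)
  · -- `F(M) = F(M_σ) ⊔ Y`
    set Fσ : Subgroup G := Cfsg.fittingOf (Cfsg.sigmaCore M) with hFσ
    have hFσMs : Fσ ≤ Cfsg.sigmaCore M := fittingOf_le _
    have hFσnil : Group.IsNilpotent Fσ := fittingOf_isNilpotent _
    have hMFσ : M ≤ normalizer (Fσ : Set G) :=
      hMsn.trans (normalizer_le_normalizer_map_of_characteristic (Cfsg.sigmaCore M)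
        (Cfsg.fittingSubgroup ↥(Cfsg.sigmaCore M)))
    have hFσF : Fσ ≤ F := le_fittingOf (hFσMs.trans hMs) hMFσ hFσnil
    apply le_antisymm _ (sup_le hFσF hYF)
    -- the Hall pair `P = F ⊓ M_σ`, `V`
    set P : Subgroup G := Cfsg.sigmaCore M ⊓ F with hP
    have hPF : P ≤ F := inf_le_right
    have hPFσ : P ≤ Fσ := by
      apply le_fittingOf inf_le_left
      · exact le_normalizer_inf_of_le le_normalizer (hMs.trans hMF)
      · exact isNilpotent_of_le' hPF hFnil
    have hsolvF : Group.IsSolvable F := isSolvable_of_le_coatom hG hM hFM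
    obtain ⟨V, hVF, hVπ, hVidx⟩ := exists_isPiHallOf π' hsolvF
    have hcopV : (Nat.card V).Coprime (V.relIndex F) := by
      apply Nat.coprime_of_dvd
      intro k hk hk1 hk2
      exact hVidx k hk (hVπ k hk hk1) hk2
    have hVn : (V.subgroupOf F).Normal := by
      have := hFnil
      apply normal_of_hall_of_isNilpotent
      rw [Nat.card_congr (Subgroup.subgroupOfEquivOfLe hVF).toEquiv]
      exact hcopV
    have hVY : V ≤ Y := by
      have h1 : V.subgroupOf F ≤ Cfsg.piCore π' ↥F := by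
        apply Cfsg.Agent.Helper19.le_piCore hVn
        intro p hp hd
        rw [Nat.card_congr (Subgroup.subgroupOfEquivOfLe hVF).toEquiv] at hd
        exact hVπ p hp hd
      have h2 : (V.subgroupOf F).map F.subtype ≤ (Cfsg.piCore π' ↥F).map F.subtype :=
        Subgroup.map_mono h1
      rwa [Subgroup.map_subgroupOf_eq_of_le hVF] at h2
    have hPV : P ≤ normalizer (V : Set G) :=
      hPF.trans ((normal_subgroupOf_iff_le_normalizer hVF).mp hVn)
    have hsup : P ⊔ V = F := by
      apply sup_eq_of_hall_pair (π := Cfsg.sigma M) hPF hVF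
      · exact fun p hp hd => hσπ p hp (hd.trans (card_dvd_of_le inf_le_left))
      · intro p hp hd hpσ
        rw [hP, Subgroup.inf_relIndex_right] at hd
        exact hσidx p hp hpσ
          (hd.trans (relIndex_dvd_relIndex_of_le_normalizer hMs hFM hMsn))
      · exact fun p hp hd hpσ => (hVπ p hp hd).2 hpσ
      · intro p hp hd
        by_contra hpσ
        exact hVidx p hp ⟨hp, hpσ⟩ hd
      · exact hPV
    rw [← hsup]
    exact sup_le_sup hPFσ hVY

end main

end Cfsg.Agent.Helper27.BG15
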