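import Mathlib
import Cfsg.Agent.Helper27.BG15G
import Cfsg.Agent.Helper23.NilpotentElts
import Cfsg.Agent.Lead.BG95d
import Cfsg.Agent.Lead.BG9g
import Cfsg.Agent.Lead.TT8

/-!
# Towards B&G Theorem 15.7: `F(M) ∩ F(M)^g` for `g ∉ M`
-/

set_option autoImplicit false
set_option linter.unusedSectionVars false
set_option linter.unusedVariables false

namespace Cfsg.Agent.Helper27.BG15

open Subgroup Cfsg Cfsg.Agent.Lead Cfsg.Agent.Helper14
open Pointwise
open Cfsg.Agent.H9.BG12 (sigmaCore_le le_normalizer_sigmaCore mem_sigma_of_dvd_card_sigmaCore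
  le_of_coprime_card_index mem_of_map_cj_eq)

universe u

section general

variable {G : Type u} [Group G] [Finite G]

/-- a subgroup `K ≤ F` whose order is coprime to the index in `F` of a subgroup `N` normalized by
`F` lies in `N` -/
theorem le_of_coprime_relIndex {K N F : Subgroup G} (hKF : K ≤ F) (hNF : N ≤ F)
    (hFN : F ≤ normalizer (N : Set G)) (hcop : (Nat.card K).Coprime (N.relIndex F)) : K ≤ N := by
  have hn : (N.subgroupOf F).Normal := (normal_subgroupOf_iff_le_normalizer hNF).mpr hFN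
  have h1 : K.subgroupOf F ≤ N.subgroupOf F := by
    apply le_of_coprime_card_index
    rw [Nat.card_congr (Subgroup.subgroupOfEquivOfLe hKF).toEquiv]
    exact hcop
  intro x hx
  have : (⟨x, hKF hx⟩ : F) ∈ K.subgroupOf F := by rw [Subgroup.mem_subgroupOf]; exact hx
  have := h1 this
  rwa [Subgroup.mem_subgroupOf] at this

/-- a maximal subgroup normalizing a nontrivial subgroup is its full normalizer -/
theorem normalizer_eq_of_coatom (hG : Cfsg.IsMinSimpleOddOrder G) {M A : Subgroup G}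
    (hM : IsCoatom M) (hA1 : A ≠ ⊥) (hAM : A ≤ M) (hMA : M ≤ normalizer (A : Set G)) :
    normalizer (A : Set G) = M := by
  have hS : IsSimpleGroup G := hG.2.1
  have hne : normalizer (A : Set G) ≠ ⊤ := by
    intro htop
    have hn : A.Normal := normalizer_eq_top_iff.mp htop
    rcases hn.eq_bot_or_eq_top with h | h
    · exact hA1 h
    · apply hM.1
      rw [eq_top_iff, ← h]; exact hAM
  rcases eq_or_lt_of_le hMA with h | h
  · exact h.symm
  · exact absurd (hM.2 _ h) hne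

end general

section main

variable {G : Type u} [Group G] [Finite G]

open Cfsg.Agent.H9.BG12 (normalizer_le_normalizer_of_isCyclic)

/-- **15.7, step 1**: for `g ∉ M`, `F(M) ∩ F(M)^g ≤ F(M_σ)`. -/
theorem inter_le_fittingOf_sigmaCore (hG : Cfsg.IsMinSimpleOddOrder G) (h1439 : St1439 G)
    {M : Subgroup G} (hM : IsCoatom M) {g : G} (hg : g ∉ M) :
    Cfsg.fittingOf M ⊓ (Cfsg.fittingOf M).map (cj g) ≤ Cfsg.fittingOf (Cfsg.sigmaCore M) := by
  obtain ⟨hYcyc, hYτ, hFeq⟩ := h1439 M hM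
  have hMs := sigmaCore_le M
  have hMsn := le_normalizer_sigmaCore M
  set π' : Set ℕ := {q | q.Prime ∧ q ∉ Cfsg.sigma M} with hπ'
  set F : Subgroup G := Cfsg.fittingOf M with hF
  set Fσ : Subgroup G := Cfsg.fittingOf (Cfsg.sigmaCore M) with hFσ
  set Y : Subgroup G := Cfsg.piCoreOf π' F with hY
  have hFM : F ≤ M := fittingOf_le M
  have hMF : M ≤ normalizer (F : Set G) := le_normalizer_fittingOf M
  have hYF : Y ≤ F := by rw [hFeq]; exact le_sup_right
  have hFσF : Fσ ≤ F := by rw [hFeq]; exact le_sup_left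
  have hYM : Y ≤ M := hYF.trans hFM
  have hMY : M ≤ normalizer (Y : Set G) := by
    have : (Cfsg.piCore π' ↥F).Characteristic := Cfsg.Agent.Helper19.piCore_characteristic π'
    exact hMF.trans (normalizer_le_normalizer_map_of_characteristic F (Cfsg.piCore π' ↥F))
  have hMFσ : M ≤ normalizer (Fσ : Set G) :=
    hMsn.trans (normalizer_le_normalizer_map_of_characteristic (Cfsg.sigmaCore M)
      (Cfsg.fittingSubgroup ↥(Cfsg.sigmaCore M)))
  have hFσσ : ∀ p : ℕ, p.Prime → p ∣ Nat.card Fσ → p ∈ Cfsg.sigma M := fun p hp hd =>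
    mem_sigma_of_dvd_card_sigmaCore hp (hd.trans (card_dvd_of_le (fittingOf_le _)))
  have hYσ : ∀ p : ℕ, p.Prime → p ∣ Nat.card Y → p ∉ Cfsg.sigma M := fun p hp hd =>
    (hYτ p hp hd).2.1
  have hcop : (Nat.card Fσ).Coprime (Nat.card Y) := by
    apply Nat.coprime_of_dvd
    intro k hk hk1 hk2
    exact hYσ k hk hk2 (hFσσ k hk hk1)
  have hcardF : Nat.card F = Nat.card Fσ * Nat.card Y := by
    have h1 := Cfsg.Agent.Helper17.card_sup_mul_card_inf Fσ Y (hYM.trans hMFσ)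
    rw [(Subgroup.disjoint_of_coprime_natCard hcop).eq_bot, Subgroup.card_bot, mul_one,
      ← hFeq] at h1
    exact h1
  have hrelY : Y.relIndex F = Nat.card Fσ := by
    have h1 : Y.relIndex F * Nat.card Y = Nat.card F := relIndex_mul_card' hYF
    apply Nat.eq_of_mul_eq_mul_right (Nat.card_pos (α := Y))
    rw [h1, hcardF]
  have hrelFσ : Fσ.relIndex F = Nat.card Y := by
    have h1 : Fσ.relIndex F * Nat.card Fσ = Nat.card F := relIndex_mul_card' hFσF
    apply Nat.eq_of_mul_eq_mul_right (Nat.card_pos (α := Fσ))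
    rw [h1, hcardF, mul_comm]
  set X : Subgroup G := F ⊓ F.map (cj g) with hX
  have hXF : X ≤ F := inf_le_left
  -- `X ∩ Y = 1`
  have hXY : X ⊓ Y = ⊥ := by
    by_contra hne
    have hc : Nat.card (X ⊓ Y : Subgroup G) ≠ 1 := fun h => hne (Subgroup.card_eq_one.mp h)
    obtain ⟨p, hp, hpd⟩ := Nat.exists_prime_and_dvd hc
    have : Fact p.Prime := ⟨hp⟩
    obtain ⟨z, hz⟩ := exists_prime_orderOf_dvd_card' p hpd
    have hzo : orderOf (z : G) = p := by rw [Subgroup.orderOf_coe]; exact hz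
    set A₀ : Subgroup G := zpowers (z : G) with hA₀
    have hA₀card : Nat.card A₀ = p := by rw [hA₀, Nat.card_zpowers, hzo]
    have hA₀le : A₀ ≤ X ⊓ Y := by rw [hA₀, zpowers_le]; exact z.2
    have hA₀Y : A₀ ≤ Y := hA₀le.trans inf_le_right
    have hA₀1 : A₀ ≠ ⊥ := by
      intro h
      rw [h, Subgroup.card_bot] at hA₀card
      exact hp.one_lt.ne hA₀card
    have hpσ : p ∉ Cfsg.sigma M := hYσ p hp (hA₀card ▸ card_dvd_of_le hA₀Y)
    have hMA₀ : M ≤ normalizer (A₀ : Set G) :=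
      hMY.trans (normalizer_le_normalizer_of_isCyclic hYcyc hA₀Y)
    have hNA₀ : normalizer (A₀ : Set G) = M :=
      normalizer_eq_of_coatom hG hM hA₀1 (hA₀Y.trans hYM) hMA₀
    -- the conjugate `A₀' = g⁻¹ A₀ g ≤ F`
    have hA₀'F : A₀.map (cj g⁻¹) ≤ F := by
      rw [map_cj_le_iff, inv_inv]
      exact hA₀le.trans (inf_le_left.trans inf_le_right)
    have hA₀'card : Nat.card (A₀.map (cj g⁻¹)) = p := by
      rw [Subgroup.card_map_of_injective (cj_injective _), hA₀card]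
    have hA₀'Y : A₀.map (cj g⁻¹) ≤ Y := by
      apply le_of_coprime_relIndex hA₀'F hYF (hFM.trans hMY)
      rw [hA₀'card, hrelY]
      rw [Nat.Prime.coprime_iff_not_dvd hp]
      exact fun h => hpσ (hFσσ p hp h)
    have hMA₀' : M ≤ normalizer ((A₀.map (cj g⁻¹) : Subgroup G) : Set G) :=
      hMY.trans (normalizer_le_normalizer_of_isCyclic hYcyc hA₀'Y)
    have h1 : M.map (cj g) ≤ normalizer (A₀ : Set G) := by
      have h2 := Subgroup.map_mono (f := cj g) hMA₀'
      rwa [map_cj_normalizer, map_cj_inv_map_cj] at h2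
    rw [hNA₀] at h1
    apply hg
    apply mem_of_map_cj_eq hG hM
    apply Subgroup.eq_of_le_of_card_ge h1
    rw [Subgroup.card_map_of_injective (cj_injective _)]
  -- hence `X ≤ F(M_σ)`
  apply le_of_coprime_relIndex hXF hFσF (hFM.trans hMFσ)
  rw [hrelFσ]
  have h1 := Cfsg.Agent.Helper17.card_sup_mul_card_inf Y X (hXF.trans (hFM.trans hMY))
  rw [inf_comm, hXY, Subgroup.card_bot, mul_one] at h1
  have h2 : Nat.card (Y ⊔ X : Subgroup G) ∣ Nat.card F := card_dvd_of_le (sup_le hYF hXF)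
  rw [h1, hcardF, mul_comm] at h2
  have h3 : Nat.card X ∣ Nat.card Fσ := Nat.dvd_of_mul_dvd_mul_right Nat.card_pos h2
  exact Nat.Coprime.coprime_dvd_left h3 hcop

open Cfsg.Agent.Helper18.BG16B (K_le U_le not_mem_sigma_of_dvd_card_U not_mem_kappa_of_dvd_card_U
  mem_tau2_of_fixed prime_ne_two)
open Cfsg.Agent.Helper10.BG16 (sd_card_U_sup_sigma)

/-- **15.7, step 2**: an element `x ≠ 1` of `M_σ` lying in a conjugate `M^g ≠ M` has
`C_G(x) ⊄ M` (B&G 14.4(a)). -/
theorem centralizer_not_le_of_mem_conj (hG : Cfsg.IsMinSimpleOddOrder G) (h1374 : St1374 G)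
    {M : Subgroup G} (hM : IsCoatom M) {g : G} (hg : g ∉ M) {x : G}
    (hx : x ∈ Cfsg.sigmaCore M) (hx1 : x ≠ 1) (hxg : x ∈ M.map (cj g)) :
    ¬ centralizer ({x} : Set G) ≤ M := by
  intro hc
  obtain ⟨-, R, -, hcompl, huniq⟩ := h1374 M hM x hx hx1
  obtain ⟨r, ⟨hrR, hrM⟩, -⟩ := huniq g hxg
  have hrM' : r ∈ M := hc (hcompl.2.1 hrR)
  apply hg
  apply mem_of_map_cj_eq hG hM
  have h1 : M.map (cj r) = M.map (cj g) := hrM
  rw [← h1]; exact map_cj_eq_self_of_mem hrM'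

/-- **15.7, step 3** (B&G 14.4(b,c)): for `x ≠ 1` in `M_σ` with `C_G(x) ⊄ M` and `N` the maximal
subgroup containing `C_G(x)`, every prime divisor of the order of `x` lies in `τ₂(N)`. -/
theorem exists_N_tau2 (hG : Cfsg.IsMinSimpleOddOrder G) (h1350 : St1350 G) (h1351 : St1351 G)
    (h1352 : St1352 G) (h1375 : St1375 G) {M : Subgroup G} (hM : IsCoatom M) {x : G}
    (hx : x ∈ Cfsg.sigmaCore M) (hx1 : x ≠ 1) (hxM : ¬ centralizer ({x} : Set G) ≤ M) :
    ∃ N : Subgroup G, IsCoatom N ∧ centralizer ({x} : Set G) ≤ N ∧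
      (∀ L : Subgroup G, IsCoatom L → centralizer ({x} : Set G) ≤ L → L = N) ∧
      Cfsg.sigmaCore N = Cfsg.fittingHallOf N ∧
      Cfsg.IsComplIn (M ⊓ N) (Cfsg.sigmaCore N) N ∧
      (∃ y ∈ Cfsg.sigmaCore N, y ≠ 1 ∧ x * y = y * x) ∧
      ∀ t : ℕ, t.Prime → t ∣ orderOf x → t ∈ Cfsg.tau2 N := by
  obtain ⟨N, ⟨hN, hxN⟩, huniq, hNF, -, -, hcomplN, hdec⟩ := h1375 M hM x hx hx1 hxM
  obtain ⟨⟨K', hK'⟩, hK'cyc⟩ := h1351 N hN
  obtain ⟨⟨U', hKU'⟩, -⟩ := h1352 N hN K' (hK'cyc K' hK') hK'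
  obtain ⟨hU'1, hxA, hxNσ⟩ := hdec K' U' hKU'
  obtain ⟨⟨hxN', y, hy, hy1, hxy⟩, hxUN⟩ := hxA
  refine ⟨N, hN, hxN, huniq, hNF, hcomplN, ⟨y, hy, hy1, hxy⟩, ?_⟩
  intro t ht htd
  have : Fact t.Prime := ⟨ht⟩
  have hxt_ord : orderOf (x ^ (orderOf x / t)) = t :=
    orderOf_pow_orderOf_div (orderOf_pos x).ne' htd
  have hxt1 : x ^ (orderOf x / t) ≠ 1 := by
    intro h
    rw [h, orderOf_one] at hxt_ord
    exact ht.one_lt.ne hxt_ord
  have hxtt : (x ^ (orderOf x / t)) ^ t = 1 := by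
    have h := pow_orderOf_eq_one (x ^ (orderOf x / t))
    rwa [hxt_ord] at h
  have hxtN : x ^ (orderOf x / t) ∈ N := N.pow_mem hxN' _
  have hxty : x ^ (orderOf x / t) * y = y * x ^ (orderOf x / t) :=
    (Commute.pow_left (show Commute x y from hxy) (orderOf x / t)).eq
  have hxMN : x ∈ M ⊓ N := ⟨sigmaCore_le M hx, hxN'⟩
  have htMN : t ∣ Nat.card (M ⊓ N : Subgroup G) := by
    have h1 : orderOf (⟨x, hxMN⟩ : (M ⊓ N : Subgroup G)) = orderOf x :=
      Subgroup.orderOf_mk x hxMN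
    rw [← h1] at htd
    exact htd.trans (orderOf_dvd_natCard _)
  have htσ : t ∉ Cfsg.sigma N := by
    obtain ⟨⟨-, -, hidxN⟩, -, -⟩ := h1350 N hN
    intro hσ
    apply hidxN t ht hσ
    have h1 := card_mul_card_of_isComplIn hcomplN
    have h2 : (Cfsg.sigmaCore N).relIndex N * Nat.card (Cfsg.sigmaCore N) = Nat.card N :=
      relIndex_mul_card' (sigmaCore_le N)
    have h3 : (Cfsg.sigmaCore N).relIndex N = Nat.card (M ⊓ N : Subgroup G) := by
      apply Nat.eq_of_mul_eq_mul_right (Nat.card_pos (α := Cfsg.sigmaCore N))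
      rw [h2, h1]
    rw [h3]; exact htMN
  have htκ : t ∉ Cfsg.kappa N := by
    intro hκ
    have hxo : orderOf x ∣ Nat.card (U' ⊔ Cfsg.sigmaCore N : Subgroup G) := by
      have h1 : orderOf (⟨x, hxUN⟩ : (U' ⊔ Cfsg.sigmaCore N : Subgroup G)) = orderOf x :=
        Subgroup.orderOf_mk x hxUN
      rw [← h1]
      exact orderOf_dvd_natCard _
    rw [sd_card_U_sup_sigma hKU'] at hxo
    rcases (Nat.Prime.dvd_mul ht).mp (htd.trans hxo) with h | h
    · exact not_mem_kappa_of_dvd_card_U hKU' ht h hκ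
    · exact htσ (mem_sigma_of_dvd_card_sigmaCore ht h)
  exact mem_tau2_of_fixed hG hN ht htσ htκ hxtN hxt1 hxtt hy hy1 hxty

end main

end Cfsg.Agent.Helper27.BG15
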