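import Mathlib
import Cfsg.Agent.Helper27.BG15H
import Cfsg.Agent.Helper16.BG11a
import Cfsg.Agent.Helper21.BG10e
import Cfsg.Agent.S1404

/-!
# B&G Theorem 15.2, first assertions (statement S1355): the unconditional part

`St1355w G` packages conjuncts 2-4 of the frozen statement S1355 (`M_F ≤ M_σ ≤ M' < M`); it is
proved outright here (`st1355w`), from landed results only.  Use it instead of `St1355` to avoid
import cycles.
-/

set_option autoImplicit false
set_option linter.unusedSectionVars false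
set_option linter.unusedVariables false

namespace Cfsg.Agent.Helper27.BG15

open Subgroup Cfsg Cfsg.Agent.Lead Cfsg.Agent.Helper14
open Cfsg.Agent.H9.BG12 (sigmaCore_le le_normalizer_sigmaCore mem_sigma_of_dvd_card_sigmaCore
  le_of_coprime_card_index mem_of_map_cj_eq)

universe u

section weak

variable {G : Type u} [Group G] [Finite G]

/-- every prime divisor of `|M_F|` lies in `σ(M)` -/
theorem mem_sigma_of_dvd_card_fittingHallOf (hG : Cfsg.IsMinSimpleOddOrder G) {M : Subgroup G}
    (hM : IsCoatom M) {q : ℕ} (hq : q.Prime) (hqF : q ∣ Nat.card (Cfsg.fittingHallOf M)) :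
    q ∈ Cfsg.sigma M := by
  have : Fact q.Prime := ⟨hq⟩
  obtain ⟨Q, hQF, hMQ, hQq, hQidx, hQmax⟩ := exists_normal_sylow_of_dvd_card_fittingHallOf M q hqF
  have hFM : Cfsg.fittingHallOf M ≤ M := Subgroup.map_subtype_le _
  have hQM : Q ≤ M := hQF.trans hFM
  have hQ1 : Q ≠ ⊥ := by
    intro h
    apply hQidx
    rw [h, Subgroup.relIndex_bot_left]
    exact hqF.trans (card_dvd_of_le hFM)
  have hN : normalizer (Q : Set G) = M := normalizer_eq_of_coatom hG hM hQ1 hQM hMQ
  have hS : IsSylowIn q Q M := by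
    refine ⟨hQM, hQq, ?_⟩
    intro P hPM hPq hQP
    exact le_antisymm (hQmax P hPM hPq) hQP
  exact Cfsg.Agent.Helper16.BG11.mem_sigma_of_isSylowIn hS hQ1 hN.le

/-- **S1355, conjunct 2**: `M_F ≤ M_σ` -/
theorem fittingHallOf_le_sigmaCore (hG : Cfsg.IsMinSimpleOddOrder G) {M : Subgroup G}
    (hM : IsCoatom M) : Cfsg.fittingHallOf M ≤ Cfsg.sigmaCore M := by
  unfold Cfsg.fittingHallOf Cfsg.sigmaCore
  apply Subgroup.map_mono
  apply Cfsg.Agent.Helper19.le_piCore inferInstance
  intro p hp hpd
  apply mem_sigma_of_dvd_card_fittingHallOf hG hM hp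
  unfold Cfsg.fittingHallOf
  rw [Subgroup.card_map_of_injective (Subgroup.subtype_injective M)]
  exact hpd

/-- **S1355, conjunct 4**: `M' < M` -/
theorem commutator_lt_of_coatom (hG : Cfsg.IsMinSimpleOddOrder G) {M : Subgroup G}
    (hM : IsCoatom M) : ⁅M, M⁆ < M := by
  have hsolv : Group.IsSolvable M := isSolvable_of_coatom hG hM
  have hM1 : M ≠ ⊥ := by
    intro h
    have hS : IsSimpleGroup G := hG.2.1
    -- `⊥` is not a coatom of a non-cyclic simple group: take `g ≠ 1`, `zpowers g = ⊤` makes `G`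
    -- cyclic hence solvable, contradiction with `hG`
    subst h
    obtain ⟨g, hg⟩ := exists_ne (1 : G)
    have h1 : (⊥ : Subgroup G) < Subgroup.zpowers g := by
      rw [bot_lt_iff_ne_bot]
      intro h0
      exact hg (Subgroup.zpowers_eq_bot.mp h0)
    have h2 : Subgroup.zpowers g = ⊤ := hM.2 _ h1
    have hcyc : IsCyclic G := ⟨⟨g, fun x => by
      have : x ∈ Subgroup.zpowers g := by rw [h2]; trivial
      exact this⟩⟩
    exact hG.2.2.1 (by
      have := hcyc
      let _ := IsCyclic.commGroup (α := G)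
      exact ⟨⟨fun a b => mul_comm a b⟩⟩)
  have hnt : Nontrivial M := by
    rw [← Subgroup.nontrivial_iff_ne_bot] at hM1
    exact hM1
  have h1 : commutator ↥M < ⊤ := Group.IsSolvable.commutator_lt_top_of_nontrivial ↥M
  have h2 : ⁅M, M⁆ = (commutator ↥M).map M.subtype := by
    rw [Subgroup.map_subtype_commutator]
  rw [h2]
  refine lt_of_le_of_ne (Subgroup.map_subtype_le _) ?_
  intro h
  apply h1.ne
  apply Subgroup.map_injective (Subgroup.subtype_injective M)
  rw [h, ← MonoidHom.range_eq_map, Subgroup.range_subtype]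

theorem ctl101_of_minSimple (hG : Cfsg.IsMinSimpleOddOrder G) :
    Cfsg.Agent.Helper21.BG10.Ctl101 G :=
  fun M hM p _ hp X hXp hX1 hXM => (Cfsg.Agent.S1404.result hG M hM p hp X hXp hX1 hXM).1

/-- conjuncts 2-4 of S1355, unconditionally -/
theorem st1355w (hG : Cfsg.IsMinSimpleOddOrder G) : St1355w G := by
  intro M hM
  exact ⟨fittingHallOf_le_sigmaCore hG hM,
    Cfsg.Agent.Helper21.BG10.sigmaCore_le_commutator hG (ctl101_of_minSimple hG) hM,
    commutator_lt_of_coatom hG hM⟩

end weak

end Cfsg.Agent.Helper27.BG15
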