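import Mathlib
import Cfsg.Agent.Helper27.BG15I
import Cfsg.Agent.S1445

/-!
# B&G Theorem 15.2 (statement S1355): `K* ≤ M_F` when `M_σ` is not nilpotent

Abstract part: a finite solvable group `X = S K` of odd order (`S` normal, `K` abelian, coprime,
prime action with `|C_S(K)| = q` prime, `S ≤ X'`, `S` not nilpotent) has a normal Sylow
`q`-subgroup `Q ≤ S` containing `C_S(K)`, and `S / N` is nilpotent for every normal `N` of `X` with
`C_S(K) ≤ N ≤ S`.
-/

set_option autoImplicit false
set_option linter.unusedSectionVars false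
set_option linter.unusedVariables false

namespace Cfsg.Agent.Helper27.BG15

open Subgroup Cfsg Cfsg.Agent.Lead Cfsg.Agent.Helper14
open scoped commutatorElement

universe u

section abstract

variable {X : Type u} [Group X]

theorem mk'_commute_of_commutator_mem (L : Subgroup X) [L.Normal] {a b : X} (h : ⁅a, b⁆ ∈ L) :
    Commute (QuotientGroup.mk' L a) (QuotientGroup.mk' L b) := by
  rw [Commute, SemiconjBy, ← commutatorElement_eq_one_iff_mul_comm, ← map_commutatorElement,
    QuotientGroup.mk'_apply, QuotientGroup.eq_one_iff]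
  exact h

/-- a group generated by a normal subgroup `S` and a subgroup `K` whose elements commute modulo
the normal subgroup `L` has `X' ≤ L` -/
theorem commutator_le_of_sup_eq_top (S K L : Subgroup X) [S.Normal] [L.Normal] (hsup : S ⊔ K = ⊤)
    (hSS : ⁅S, S⁆ ≤ L) (hSK : ⁅S, K⁆ ≤ L) (hKK : ⁅K, K⁆ ≤ L) : commutator X ≤ L := by
  rw [← Subgroup.Normal.quotient_commutative_iff_commutator_le]
  refine ⟨⟨fun a b => ?_⟩⟩
  obtain ⟨a, rfl⟩ := QuotientGroup.mk'_surjective L a
  obtain ⟨b, rfl⟩ := QuotientGroup.mk'_surjective L b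
  have ha : a ∈ S ⊔ K := by rw [hsup]; trivial
  have hb : b ∈ S ⊔ K := by rw [hsup]; trivial
  obtain ⟨s, hs, k, hk, rfl⟩ := mem_sup_of_normal_left.mp ha
  obtain ⟨s', hs', k', hk', rfl⟩ := mem_sup_of_normal_left.mp hb
  have c1 : Commute (QuotientGroup.mk' L s) (QuotientGroup.mk' L s') :=
    mk'_commute_of_commutator_mem L (hSS (commutator_mem_commutator hs hs'))
  have c2 : Commute (QuotientGroup.mk' L s) (QuotientGroup.mk' L k') :=
    mk'_commute_of_commutator_mem L (hSK (commutator_mem_commutator hs hk'))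
  have c3 : Commute (QuotientGroup.mk' L k) (QuotientGroup.mk' L s') :=
    (mk'_commute_of_commutator_mem L (hSK (commutator_mem_commutator hs' hk))).symm
  have c4 : Commute (QuotientGroup.mk' L k) (QuotientGroup.mk' L k') :=
    mk'_commute_of_commutator_mem L (hKK (commutator_mem_commutator hk hk'))
  rw [map_mul, map_mul]
  exact ((c1.mul_right c2).mul_left (c3.mul_right c4)).eq

/-- a solvable group which is perfect modulo a normal subgroup `F` equals `F` -/
theorem eq_top_of_commutator_sup_eq_top {Y : Type*} [Group Y] [Group.IsSolvable Y] (F : Subgroup Y)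
    [F.Normal] (h : commutator Y ⊔ F = ⊤) : F = ⊤ := by
  have h1 : (commutator Y).map (QuotientGroup.mk' F) = commutator (Y ⧸ F) := by
    rw [commutator_def, Subgroup.map_commutator,
      Subgroup.map_top_of_surjective _ (QuotientGroup.mk'_surjective F), ← commutator_def]
  have h2 : commutator (Y ⧸ F) = ⊤ := by
    rw [← h1]
    have h3 : (commutator Y ⊔ F).map (QuotientGroup.mk' F) = ⊤ := by
      rw [h, Subgroup.map_top_of_surjective _ (QuotientGroup.mk'_surjective F)]
    rwa [Subgroup.map_sup, QuotientGroup.map_mk'_self, sup_bot_eq] at h3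
  apply QuotientGroup.subgroup_eq_top_of_subsingleton
  by_contra hns
  rw [not_subsingleton_iff_nontrivial] at hns
  exact (Group.IsSolvable.commutator_lt_top_of_nontrivial (Y ⧸ F)).ne h2

variable [Finite X]

theorem fittingOf_normal (S : Subgroup X) [hS : S.Normal] : (Cfsg.fittingOf S).Normal := by
  have h1 := normalizer_le_normalizer_map_of_characteristic S (Cfsg.fittingSubgroup ↥S)
  rw [normalizer_eq_top_iff.mpr hS, top_le_iff] at h1
  exact normalizer_eq_top_iff.mp h1

/-- a subgroup `S` with `S ≤ S' F(S)` (`S` solvable) is nilpotent -/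
theorem isNilpotent_of_le_commutator_sup_fittingOf (S : Subgroup X) (hsolv : Group.IsSolvable S)
    (h : S ≤ ⁅S, S⁆ ⊔ Cfsg.fittingOf S) : Group.IsNilpotent S := by
  have h1 : (⁅S, S⁆ ⊔ Cfsg.fittingOf S).subgroupOf S = ⊤ := Subgroup.subgroupOf_eq_top.mpr h
  have hc : ⁅S, S⁆ ≤ S := Subgroup.commutator_le_self S
  have hf : Cfsg.fittingOf S ≤ S := fittingOf_le S
  rw [Subgroup.subgroupOf_sup hc hf] at h1
  have h2 : (⁅S, S⁆ : Subgroup X).subgroupOf S = commutator ↥S := by
    rw [← Subgroup.map_subtype_commutator]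
    exact Subgroup.comap_map_eq_self_of_injective (Subgroup.subtype_injective S) _
  have h3 : (Cfsg.fittingOf S).subgroupOf S = Cfsg.fittingSubgroup ↥S := by
    unfold Cfsg.fittingOf
    exact Subgroup.comap_map_eq_self_of_injective (Subgroup.subtype_injective S) _
  rw [h2, h3] at h1
  have h4 : Cfsg.fittingSubgroup ↥S = ⊤ := eq_top_of_commutator_sup_eq_top _ h1
  have h5 : Group.IsNilpotent (Cfsg.fittingSubgroup ↥S) :=
    Cfsg.Agent.Helper7.fittingSubgroup_isNilpotent
  rw [h4] at h5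
  exact Group.nilpotent_of_mulEquiv (Subgroup.topEquiv (G := ↥S))

/-- **Lemma A** (start of the proof of B&G 15.2): if `C_{F(S)}(K) = 1` then `S` is nilpotent. -/
theorem isNilpotent_of_fittingOf_inf_centralizer_eq_bot [Group.IsSolvable X]
    (hodd : Odd (Nat.card X)) (S K : Subgroup X) [S.Normal] (hsup : S ⊔ K = ⊤)
    (hcop : (Nat.card S).Coprime (Nat.card K)) (hKab : ∀ a ∈ K, ∀ b ∈ K, a * b = b * a)
    (hprime : ∀ x ∈ K, x ≠ 1 →
      S ⊓ centralizer ({x} : Set X) = S ⊓ centralizer (K : Set X))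
    (hSder : S ≤ commutator X)
    (hF : Cfsg.fittingOf S ⊓ centralizer (K : Set X) = ⊥) : Group.IsNilpotent S := by
  have h1 : ⁅S, K⁆ ≤ Cfsg.fittingOf S := Cfsg.Agent.S1445.result hodd S K hsup hcop hprime hF
  have hFn : (Cfsg.fittingOf S).Normal := fittingOf_normal S
  have hKK : ⁅K, K⁆ ≤ ⁅S, S⁆ ⊔ Cfsg.fittingOf S := by
    rw [Subgroup.commutator_le]
    intro a ha b hb
    rw [commutatorElement_eq_one_iff_mul_comm.mpr (hKab a ha b hb)]
    exact Subgroup.one_mem _
  have h2 : commutator X ≤ ⁅S, S⁆ ⊔ Cfsg.fittingOf S :=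
    commutator_le_of_sup_eq_top S K _ hsup le_sup_left (h1.trans le_sup_right) hKK
  apply isNilpotent_of_le_commutator_sup_fittingOf S
  · exact Group.isSolvable_of_isSolvable_injective (f := S.subtype) (Subgroup.subtype_injective S)
  · exact hSder.trans h2

/-- **Lemma D** (Thompson in a quotient): if `N ≤ S` are normal in `X`, `K ≠ 1` has order prime to
`|S|` and `C_S(k) ≤ N` for all `k ∈ K^#`, then `S / N` is nilpotent. -/
theorem isNilpotent_map_mk'_of_fixed_le (S K N : Subgroup X) [hSn : S.Normal] [hNn : N.Normal]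
    (hNS : N ≤ S) (hcop : (Nat.card S).Coprime (Nat.card K)) (hK1 : K ≠ ⊥)
    (hsolv : Group.IsSolvable S)
    (hfix : ∀ k ∈ K, k ≠ 1 → S ⊓ centralizer ({k} : Set X) ≤ N) :
    Group.IsNilpotent (S.map (QuotientGroup.mk' N)) := by
  set φ := QuotientGroup.mk' N with hφ
  have hker : φ.ker = N := QuotientGroup.ker_mk' N
  have hSbn : (S.map φ).Normal := hSn.map φ (QuotientGroup.mk'_surjective N)
  apply isNilpotent_of_fpf (S.map φ) (K.map φ)
  · rw [normalizer_eq_top_iff.mpr hSbn]; exact le_top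
  · intro h
    rw [Subgroup.map_eq_bot_iff, hker] at h
    apply hK1
    have hKS : K ≤ S := h.trans hNS
    have h1 : Nat.card K ∣ Nat.card S := card_dvd_of_le hKS
    have h2 : Nat.card K = 1 := Nat.Coprime.eq_one_of_dvd hcop.symm h1
    exact K.card_eq_one.mp h2
  · intro r hr hr1
    rw [eq_bot_iff]
    intro d hd
    obtain ⟨hdS, hdC⟩ := Subgroup.mem_inf.mp hd
    obtain ⟨k, hk, rfl⟩ := hr
    obtain ⟨s, hs, rfl⟩ := hdS
    rw [mem_centralizer_singleton_iff] at hdC
    have hk1 : k ≠ 1 := by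
      intro h
      apply hr1
      rw [h, map_one]
    have hcomm : Commute (φ k) (φ s) := hdC.symm
    have hA : ∀ a ∈ Subgroup.zpowers k, a * s * a⁻¹ * s⁻¹ ∈ N := by
      intro a ha
      obtain ⟨n, rfl⟩ := Subgroup.mem_zpowers_iff.mp ha
      have h1 : Commute (φ (k ^ n)) (φ s) := by
        rw [map_zpow]; exact hcomm.zpow_left n
      rw [← hker, MonoidHom.mem_ker, map_mul, map_mul, map_mul, map_inv, map_inv, h1.eq]
      group
    have hzK : Subgroup.zpowers k ≤ K := Subgroup.zpowers_le.mpr hk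
    have hcop' : (Nat.card (Subgroup.zpowers k)).Coprime (Nat.card S) :=
      (Nat.Coprime.coprime_dvd_right (card_dvd_of_le hzK) hcop).symm
    obtain ⟨c, hc, hsc⟩ := coprime_fixed_points_quotient (Subgroup.zpowers k) S
      (by rw [normalizer_eq_top_iff.mpr hSn]; exact le_top) hcop' (Or.inr hsolv) N hNS
      (by rw [normalizer_eq_top_iff.mpr hNn]; exact le_top)
      (by rw [normalizer_eq_top_iff.mpr hNn]; exact le_top) s hs hA
    have hcN : c ∈ N := by
      apply hfix k hk hk1
      refine Subgroup.mem_inf.mpr ⟨hc.1, ?_⟩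
      rw [mem_centralizer_singleton_iff]
      have := (mem_centralizer_iff.mp hc.2) k (Subgroup.mem_zpowers k)
      exact this.symm
    have hsN : s ∈ N := by
      have h1 : s⁻¹ ∈ N := by
        have := N.mul_mem hsc (N.inv_mem hcN)
        simpa using this
      simpa using N.inv_mem h1
    rw [Subgroup.mem_bot, ← MonoidHom.mem_ker, hker]
    exact hsN

/-- **Lemma B** (B&G 15.2): the normal Sylow `q`-subgroup. -/
theorem exists_normal_sylow_of_prime_action [Group.IsSolvable X]
    (hodd : Odd (Nat.card X)) (S K : Subgroup X) [hSn : S.Normal] (hsup : S ⊔ K = ⊤)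
    (hcop : (Nat.card S).Coprime (Nat.card K)) (hKab : ∀ a ∈ K, ∀ b ∈ K, a * b = b * a)
    (hK1 : K ≠ ⊥)
    (hprime : ∀ x ∈ K, x ≠ 1 →
      S ⊓ centralizer ({x} : Set X) = S ⊓ centralizer (K : Set X))
    (hSder : S ≤ commutator X) {q : ℕ} [hq : Fact q.Prime]
    (hcard : Nat.card ↥(S ⊓ centralizer (K : Set X)) = q)
    (hnn : ¬ Group.IsNilpotent S) :
    ∃ Q : Subgroup X, Q.Normal ∧ Q ≤ S ∧ IsPGroup q Q ∧ (Nat.card Q).Coprime (Q.relIndex S) ∧
      S ⊓ centralizer (K : Set X) ≤ Q := by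
  have hSsolv : Group.IsSolvable S :=
    Group.isSolvable_of_isSolvable_injective (f := S.subtype) (Subgroup.subtype_injective S)
  set Ks : Subgroup X := S ⊓ centralizer (K : Set X) with hKs
  set F : Subgroup X := Cfsg.fittingOf S with hF
  have hFS : F ≤ S := fittingOf_le S
  have hFn : F.Normal := fittingOf_normal S
  have hFC : F ⊓ centralizer (K : Set X) ≠ ⊥ := fun h =>
    hnn (isNilpotent_of_fittingOf_inf_centralizer_eq_bot hodd S K hsup hcop hKab hprime hSder h)
  have hKsF : Ks ≤ F := by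
    have hle : F ⊓ centralizer (K : Set X) ≤ Ks := inf_le_inf_right _ hFS
    have hd : Nat.card ↥(F ⊓ centralizer (K : Set X)) ∣ q := by
      rw [← hcard]; exact card_dvd_of_le hle
    have h1 : Nat.card ↥(F ⊓ centralizer (K : Set X)) = q := by
      rcases (Nat.dvd_prime hq.out).mp hd with h | h
      · exact absurd ((Subgroup.card_eq_one).mp h) hFC
      · exact h
    have h2 : F ⊓ centralizer (K : Set X) = Ks :=
      Subgroup.eq_of_le_of_card_ge hle (by rw [h1, hcard])
    rw [← h2]; exact inf_le_left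
  have hKsq : IsPGroup q Ks := IsPGroup.of_card (n := 1) (by rw [hcard, pow_one])
  -- the Sylow `q`-subgroup `Y` of `F(S)`
  have hFnil : Group.IsNilpotent ↥F := fittingOf_isNilpotent S
  obtain ⟨P⟩ : Nonempty (Sylow q ↥F) := inferInstance
  have hPn : (P : Subgroup ↥F).Normal := inferInstance
  have hPc : (P : Subgroup ↥F).Characteristic := Sylow.characteristic_of_normal P hPn
  set Y : Subgroup X := (P : Subgroup ↥F).map F.subtype with hY
  have hYn : Y.Normal := by
    have h1 := normalizer_le_normalizer_map_of_characteristic F (P : Subgroup ↥F)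
    rw [normalizer_eq_top_iff.mpr hFn, top_le_iff] at h1
    exact normalizer_eq_top_iff.mp h1
  have hYF : Y ≤ F := Subgroup.map_subtype_le _
  have hYS : Y ≤ S := hYF.trans hFS
  have hYq : IsPGroup q Y := P.isPGroup'.map _
  have hKsY : Ks ≤ Y := by
    obtain ⟨P', hP'⟩ := (hKsq.comap_subtype (K := F)).exists_le_sylow
    have huniq : P' = P := by
      have := Sylow.unique_of_normal P hPn
      exact Subsingleton.elim _ _
    rw [huniq] at hP'
    have h1 : (Ks.subgroupOf F).map F.subtype ≤ Y := Subgroup.map_mono hP'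
    rwa [Subgroup.map_subgroupOf_eq_of_le hKsF] at h1
  -- `S / Y` is nilpotent
  have hnil : Group.IsNilpotent (S.map (QuotientGroup.mk' Y)) := by
    apply isNilpotent_map_mk'_of_fixed_le S K Y hYS hcop hK1 hSsolv
    intro k hk hk1
    rw [hprime k hk hk1]
    exact hKsY
  -- a Sylow `q`-subgroup `H` of `S` containing `Y`
  obtain ⟨P₂, hP₂⟩ := (hYq.comap_subtype (K := S)).exists_le_sylow
  set H : Subgroup X := (P₂ : Subgroup ↥S).map S.subtype with hH
  have hHS : H ≤ S := Subgroup.map_subtype_le _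
  have hYH : Y ≤ H := by
    have h1 : (Y.subgroupOf S).map S.subtype ≤ H := Subgroup.map_mono hP₂
    rwa [Subgroup.map_subgroupOf_eq_of_le hYS] at h1
  have hHq : IsPGroup q H := P₂.isPGroup'.map _
  have hHall : (Nat.card H).Coprime (H.relIndex S) := by
    have h1 : Nat.card H = Nat.card (P₂ : Subgroup ↥S) :=
      Subgroup.card_map_of_injective (Subgroup.subtype_injective S)
    have h2 : H.relIndex S = (P₂ : Subgroup ↥S).index := by
      unfold Subgroup.relIndex Subgroup.subgroupOf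
      rw [hH, Subgroup.comap_map_eq_self_of_injective (Subgroup.subtype_injective S)]
    obtain ⟨n, hn⟩ := IsPGroup.iff_card.mp P₂.isPGroup'
    rw [h1, h2, hn]
    apply Nat.Coprime.pow_left
    exact (Nat.Prime.coprime_iff_not_dvd hq.out).mpr P₂.not_dvd_index
  have hHn : (H ⊔ Y).Normal := hall_sup_normal Y S H hYS hHS hnil hHall
  rw [sup_eq_left.mpr hYH] at hHn
  exact ⟨H, hHn, hHS, hHq, hHall, hKsY.trans hYH⟩

end abstract

section main

variable {G : Type u} [Group G] [Finite G]

open Cfsg.Agent.H9.BG12 (sigmaCore_le le_normalizer_sigmaCore)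

/-- membership in `S ⊓ C(K ∩ M)` inside `↥M` -/
theorem mem_inf_centralizer_subgroupOf_iff {M K : Subgroup G} (hKM : K ≤ M) (S : Subgroup ↥M)
    (y : ↥M) :
    y ∈ S ⊓ centralizer ((K.subgroupOf M : Subgroup ↥M) : Set ↥M) ↔
      (y : G) ∈ S.map M.subtype ⊓ centralizer (K : Set G) := by
  rw [Subgroup.mem_inf, Subgroup.mem_inf]
  have h1 : (y : G) ∈ S.map M.subtype ↔ y ∈ S :=
    Subgroup.mem_map_iff_mem (f := M.subtype) (Subgroup.subtype_injective M)
  rw [h1]
  apply and_congr Iff.rfl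
  rw [mem_centralizer_iff, mem_centralizer_iff]
  constructor
  · intro h k hk
    exact congrArg Subtype.val (h ⟨k, hKM hk⟩ (by rw [SetLike.mem_coe, mem_subgroupOf]; exact hk))
  · intro h k hk
    rw [SetLike.mem_coe, mem_subgroupOf] at hk
    exact Subtype.ext (h k.1 hk)

theorem mem_inf_centralizer_singleton_iff {M : Subgroup G} (S : Subgroup ↥M) (x y : ↥M) :
    y ∈ S ⊓ centralizer ({x} : Set ↥M) ↔
      (y : G) ∈ S.map M.subtype ⊓ centralizer ({(x : G)} : Set G) := by
  rw [Subgroup.mem_inf, Subgroup.mem_inf]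
  have h1 : (y : G) ∈ S.map M.subtype ↔ y ∈ S :=
    Subgroup.mem_map_iff_mem (f := M.subtype) (Subgroup.subtype_injective M)
  rw [h1]
  apply and_congr Iff.rfl
  rw [mem_centralizer_singleton_iff, mem_centralizer_singleton_iff]
  constructor
  · intro h; exact congrArg Subtype.val h
  · intro h; exact Subtype.ext h

/-- **B&G 15.2**, the case `M_F ≠ M_σ` of statement S1355: `1 ≠ K* ≤ M_F` and `M'/M_F` is
nilpotent. -/
theorem nonnil_structure (hG : Cfsg.IsMinSimpleOddOrder G) (h1350 : St1350 G) (h1373 : St1373 G)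
    (h1429 : St1429 G) (h1430 : St1430 G) {M : Subgroup G} (hM : IsCoatom M) {K U : Subgroup G}
    (hKU : Cfsg.IsSigmaDecomposition M K U)
    (hne : Cfsg.fittingHallOf M ≠ Cfsg.sigmaCore M) :
    (Cfsg.sigmaCore M ⊓ centralizer (K : Set G)) ≠ ⊥ ∧
      (Cfsg.sigmaCore M ⊓ centralizer (K : Set G)) ≤ Cfsg.fittingHallOf M ∧
      Group.IsNilpotent ↥((commutator ↥M).map (QuotientGroup.mk' (Cfsg.fittingHall ↥M))) := by
  have hw := st1355w hG
  have hU : U = ⊥ := U_eq_bot_of_ne' hG h1350 hw h1429 hM hKU hne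
  have hK1 : K ≠ ⊥ := K_ne_bot_of_ne' hG h1350 hw h1429 hM hKU hne
  have hnn : ¬ Group.IsNilpotent (Cfsg.sigmaCore M) :=
    fun h => hne (fittingHallOf_eq_sigmaCore_of_nilpotent' h1350 hw hM h)
  have hMeq : M = K ⊔ Cfsg.sigmaCore M := eq_sup_of_U_eq_bot hKU hU
  have hMsM : Cfsg.sigmaCore M ≤ M := sigmaCore_le M
  have hKM : K ≤ M := by rw [hMeq]; exact le_sup_left
  have hKcomm : ∀ a ∈ K, ∀ b ∈ K, a * b = b * a := by
    intro a ha b hb
    have := hKU.cyclic
    have h1 : (⟨a, ha⟩ : K) * ⟨b, hb⟩ = ⟨b, hb⟩ * ⟨a, ha⟩ := by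
      let _ := IsCyclic.commGroup (α := K)
      exact mul_comm _ _
    exact congrArg Subtype.val h1
  have hder : Cfsg.sigmaCore M = ⁅M, M⁆ :=
    le_antisymm (hw M hM).2.1
      (commutator_le_of_eq_sup hMeq (le_normalizer_sigmaCore M) hKcomm)
  have hqprime := h1373 M hM K U hKU hK1 hU
  obtain ⟨q, hq⟩ : ∃ q, Nat.card ↥(Cfsg.sigmaCore M ⊓ centralizer (K : Set G)) = q := ⟨_, rfl⟩
  rw [hq] at hqprime
  have : Fact q.Prime := ⟨hqprime⟩
  have hpa := (h1430 M hM K hKU.hall hK1).1
  -- transfer to `↥M`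
  have : Group.IsSolvable ↥M := isSolvable_of_coatom hG hM
  have hodd : Odd (Nat.card ↥M) := odd_card_subgroup hG M
  set S' : Subgroup ↥M := Cfsg.piCore (Cfsg.sigma M) ↥M with hS'
  have hSmap : S'.map M.subtype = Cfsg.sigmaCore M := rfl
  set K' : Subgroup ↥M := K.subgroupOf M with hK'
  have hinj := Subgroup.subtype_injective M
  have hsup : S' ⊔ K' = ⊤ := by
    have h1 : (K ⊔ Cfsg.sigmaCore M).subgroupOf M = ⊤ := Subgroup.subgroupOf_eq_top.mpr hMeq.le
    rw [Subgroup.subgroupOf_sup hKM hMsM] at h1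
    have h2 : (Cfsg.sigmaCore M).subgroupOf M = S' :=
      Subgroup.comap_map_eq_self_of_injective hinj _
    rw [h2, sup_comm] at h1
    exact h1
  have hcardS : Nat.card S' = Nat.card (Cfsg.sigmaCore M) :=
    (Subgroup.card_map_of_injective hinj).symm
  have hcardK : Nat.card K' = Nat.card K :=
    Nat.card_congr (Subgroup.subgroupOfEquivOfLe hKM).toEquiv
  have hcop : (Nat.card S').Coprime (Nat.card K') := by
    rw [hcardS, hcardK]
    exact (card_K_coprime_card_sigmaCore hKU).symm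
  have hKab : ∀ a ∈ K', ∀ b ∈ K', a * b = b * a := by
    intro a ha b hb
    rw [hK', mem_subgroupOf] at ha hb
    exact Subtype.ext (hKcomm a.1 ha b.1 hb)
  have hK1' : K' ≠ ⊥ := by
    intro h
    apply hK1
    have h1 : K'.map M.subtype = K := Subgroup.map_subgroupOf_eq_of_le hKM
    rw [← h1, h, Subgroup.map_bot]
  have hprime' : ∀ x ∈ K', x ≠ 1 →
      S' ⊓ centralizer ({x} : Set ↥M) = S' ⊓ centralizer (K' : Set ↥M) := by
    intro x hx hx1
    rw [hK', mem_subgroupOf] at hx
    have hx1' : (x : G) ≠ 1 := fun h => hx1 (Subtype.ext h)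
    ext y
    rw [mem_inf_centralizer_singleton_iff, mem_inf_centralizer_subgroupOf_iff hKM, hSmap,
      hpa x.1 hx hx1']
  have hSder' : S' ≤ commutator ↥M := by
    have h1 : S'.map M.subtype ≤ (commutator ↥M).map M.subtype := by
      rw [hSmap, Subgroup.map_subtype_commutator]; exact hder.le
    exact (Subgroup.map_le_map_iff_of_injective hinj).mp h1
  have hKsmap : (S' ⊓ centralizer (K' : Set ↥M)).map M.subtype =
      Cfsg.sigmaCore M ⊓ centralizer (K : Set G) := by
    ext g
    constructor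
    · rintro ⟨y, hy, rfl⟩
      rw [SetLike.mem_coe, mem_inf_centralizer_subgroupOf_iff hKM, hSmap] at hy
      exact hy
    · intro hg
      have hgM : g ∈ M := hMsM hg.1
      refine ⟨⟨g, hgM⟩, ?_, rfl⟩
      rw [SetLike.mem_coe, mem_inf_centralizer_subgroupOf_iff hKM, hSmap]
      exact hg
  have hcard' : Nat.card ↥(S' ⊓ centralizer (K' : Set ↥M)) = q := by
    rw [← hq, ← hKsmap, Subgroup.card_map_of_injective hinj]
  have hnn' : ¬ Group.IsNilpotent S' := by
    intro h
    apply hnn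
    have := h
    exact Group.nilpotent_of_mulEquiv (S'.equivMapOfInjective M.subtype hinj)
  obtain ⟨Q, hQn, hQS, hQq, hQhall, hKsQ⟩ := exists_normal_sylow_of_prime_action hodd S' K' hsup
    hcop hKab hK1' hprime' hSder' hcard' hnn'
  have hQF : Q ≤ Cfsg.fittingHall ↥M := by
    apply Cfsg.Agent.Helper23.le_fittingHall Q hQn hQq.isNilpotent
    rw [← Subgroup.relIndex_mul_index hQS]
    apply Nat.Coprime.mul_right hQhall
    exact Nat.Coprime.coprime_dvd_left (card_dvd_of_le hQS) (sigmaCore_card_coprime_index h1350 hM)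
  refine ⟨?_, ?_, ?_⟩
  · intro h
    rw [h, Subgroup.card_bot] at hq
    exact hqprime.one_lt.ne hq
  · intro g hg
    rw [← hKsmap] at hg
    obtain ⟨y, hy, rfl⟩ := hg
    exact ⟨y, hQF (hKsQ hy), rfl⟩
  · have hcomm : commutator ↥M = S' := by
      apply Subgroup.map_injective hinj
      rw [Subgroup.map_subtype_commutator, hSmap, hder]
    rw [hcomm]
    have hFS' : Cfsg.fittingHall ↥M ≤ S' := by
      have h1 : (Cfsg.fittingHall ↥M).map M.subtype ≤ S'.map M.subtype := (hw M hM).1
      exact (Subgroup.map_le_map_iff_of_injective hinj).mp h1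
    apply isNilpotent_map_mk'_of_fixed_le S' K' (Cfsg.fittingHall ↥M) hFS' hcop hK1'
    · exact Group.isSolvable_of_isSolvable_injective (f := S'.subtype)
        (Subgroup.subtype_injective S')
    · intro k hk hk1
      rw [hprime' k hk hk1]
      exact hKsQ.trans hQF

/-- the part of S1364 needed by `thm_1437'` -/
theorem kstarLe (hG : Cfsg.IsMinSimpleOddOrder G) (h1350 : St1350 G) (h1373 : St1373 G)
    (h1429 : St1429 G) (h1430 : St1430 G) : KstarLe G := by
  intro M hM K U hKU hne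
  obtain ⟨h1, h2, -⟩ := nonnil_structure hG h1350 h1373 h1429 h1430 hM hKU hne
  exact ⟨h1, h2⟩

end main

section final

variable {G : Type u} [Group G] [Finite G]

open Cfsg.Agent.H9.BG12 (sigmaCore_le le_normalizer_sigmaCore)

/-- `M'/M_σ` is abelian (given that `E'` is abelian for a complement `E` of `M_σ`) -/
theorem isMulCommutative_commutator_map_of_compl {M E : Subgroup G}
    (hE : Cfsg.IsComplIn E (Cfsg.sigmaCore M) M) (hEab : IsMulCommutative ↥⁅E, E⁆)
    (S' : Subgroup ↥M) [S'.Normal] (hF : S' = Cfsg.piCore (Cfsg.sigma M) ↥M) :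
    IsMulCommutative ↥((commutator ↥M).map (QuotientGroup.mk' S')) := by
  obtain ⟨hEM, hSM, hES, hmul⟩ := hE
  have hSmap : S'.map M.subtype = Cfsg.sigmaCore M := by rw [hF]; rfl
  set E' : Subgroup ↥M := E.subgroupOf M with hE'
  have hinj := Subgroup.subtype_injective M
  set φ := QuotientGroup.mk' S' with hφ
  have hsup : E' ⊔ S' = ⊤ := by
    rw [eq_top_iff]
    intro m _
    obtain ⟨a, ha, b, hb, hab⟩ := hmul m.1 m.2
    have hbS : (⟨b, hSM hb⟩ : ↥M) ∈ S' := by
      rw [← hSmap] at hb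
      obtain ⟨y, hy, hyb⟩ := hb
      have : y = ⟨b, hSM (hSmap ▸ ⟨y, hy, hyb⟩)⟩ := Subtype.ext hyb
      rw [← this]; exact hy
    have haE : (⟨a, hEM ha⟩ : ↥M) ∈ E' := by rw [hE', mem_subgroupOf]; exact ha
    have : m = ⟨a, hEM ha⟩ * ⟨b, hSM hb⟩ := Subtype.ext hab
    rw [this]
    exact Subgroup.mul_mem_sup haE hbS
  have h1 : (commutator ↥M).map φ = (⁅E', E'⁆).map φ := by
    rw [commutator_def, Subgroup.map_commutator, Subgroup.map_commutator, ← hsup, Subgroup.map_sup,
      hφ, QuotientGroup.map_mk'_self, sup_bot_eq]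
  rw [h1]
  have hcomm : ∀ a ∈ ⁅E', E'⁆, ∀ b ∈ ⁅E', E'⁆, a * b = b * a := by
    have hm : (⁅E', E'⁆).map M.subtype = ⁅E, E⁆ := by
      rw [Subgroup.map_commutator, hE', Subgroup.map_subgroupOf_eq_of_le hEM]
    intro a ha b hb
    have ha' : (a : G) ∈ ⁅E, E⁆ := by rw [← hm]; exact ⟨a, ha, rfl⟩
    have hb' : (b : G) ∈ ⁅E, E⁆ := by rw [← hm]; exact ⟨b, hb, rfl⟩
    have h3 := hEab.is_comm.comm (⟨(a : G), ha'⟩ : ↥⁅E, E⁆) ⟨(b : G), hb'⟩
    have h4 : (a : G) * (b : G) = (b : G) * (a : G) := congrArg Subtype.val h3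
    exact Subtype.ext h4
  refine ⟨⟨?_⟩⟩
  rintro ⟨x, a, ha, rfl⟩ ⟨y, b, hb, rfl⟩
  apply Subtype.ext
  change φ a * φ b = φ b * φ a
  rw [← map_mul, ← map_mul, hcomm a ha b hb]

/-- the case `M_σ` nilpotent of the last conjunct of S1355: `M'/M_σ` is abelian -/
theorem isNilpotent_commutator_map_of_compl {M E : Subgroup G}
    (hE : Cfsg.IsComplIn E (Cfsg.sigmaCore M) M) (hEab : IsMulCommutative ↥⁅E, E⁆)
    (S' : Subgroup ↥M) [S'.Normal] (hF : S' = Cfsg.piCore (Cfsg.sigma M) ↥M) :
    Group.IsNilpotent ↥((commutator ↥M).map (QuotientGroup.mk' S')) := by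
  have := isMulCommutative_commutator_map_of_compl hE hEab S' hF
  exact Cfsg.Agent.Helper7.isNilpotent_of_isMulCommutative _

/-- `M'' ≤ M_σ` (given that `E'` is abelian for a complement `E` of `M_σ`) -/
theorem commutator_commutator_le_sigmaCore {M E : Subgroup G}
    (hE : Cfsg.IsComplIn E (Cfsg.sigmaCore M) M) (hEab : IsMulCommutative ↥⁅E, E⁆) :
    ⁅⁅M, M⁆, ⁅M, M⁆⁆ ≤ Cfsg.sigmaCore M := by
  set S' : Subgroup ↥M := Cfsg.piCore (Cfsg.sigma M) ↥M with hS'
  have hc := isMulCommutative_commutator_map_of_compl hE hEab S' rfl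
  set φ := QuotientGroup.mk' S' with hφ
  have h1 : ⁅(commutator ↥M).map φ, (commutator ↥M).map φ⁆ = ⊥ := by
    rw [Subgroup.commutator_eq_bot_iff_le_centralizer]
    intro a ha
    rw [mem_centralizer_iff]
    intro b hb
    have := hc.is_comm.comm (⟨b, hb⟩ : ↥((commutator ↥M).map φ)) ⟨a, ha⟩
    exact congrArg Subtype.val this
  rw [← Subgroup.map_commutator, Subgroup.map_eq_bot_iff, hφ, QuotientGroup.ker_mk'] at h1
  have h2 : (⁅commutator ↥M, commutator ↥M⁆).map M.subtype ≤ S'.map M.subtype :=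
    Subgroup.map_mono h1
  rw [Subgroup.map_commutator, Subgroup.map_subtype_commutator] at h2
  exact h2

/-- **Statement S1355** (first assertions of B&G Theorem 15.2), conditional on the frozen
statements it uses. -/
theorem thm_1355 (hG : Cfsg.IsMinSimpleOddOrder G) (h1350 : St1350 G) (h1351 : St1351 G)
    (h1352 : St1352 G) (h1373 : St1373 G) (h1420 : St1420 G) (h1429 : St1429 G)
    (h1430 : St1430 G) : St1355 G := by
  intro M hM
  have hw := st1355w hG
  obtain ⟨h2, h3, h4⟩ := hw M hM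
  obtain ⟨⟨K, hK⟩, hKcyc⟩ := h1351 M hM
  obtain ⟨⟨U, hKU⟩, -⟩ := h1352 M hM K (hKcyc K hK) hK
  have hinj := Subgroup.subtype_injective M
  by_cases hnil : Group.IsNilpotent (Cfsg.sigmaCore M)
  · have heq := fittingHallOf_eq_sigmaCore_of_nilpotent' h1350 hw hM hnil
    have hS1 : Cfsg.sigmaCore M ≠ ⊥ :=
      Cfsg.Agent.Helper10.BG16.sigmaCore_ne_bot hG h1350 (Cfsg.Agent.Helper18.BG16B.uniq96 hG) hM
    refine ⟨by rw [heq]; exact hS1, h2, h3, h4, ?_⟩
    obtain ⟨E, hE⟩ := Cfsg.Agent.H9.BG12.exists_complIn_sigmaCore h1350 hM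
    have hEab := (h1420 M hM E hE).2.1
    apply isNilpotent_commutator_map_of_compl hE hEab
    apply Subgroup.map_injective hinj
    exact heq
  · have hne : Cfsg.fittingHallOf M ≠ Cfsg.sigmaCore M := by
      intro h
      apply hnil
      rw [← h]
      have := fittingHall_isNilpotent' ↥M
      exact Group.nilpotent_of_mulEquiv
        ((Cfsg.fittingHall ↥M).equivMapOfInjective M.subtype hinj)
    obtain ⟨hk1, hk2, hk3⟩ := nonnil_structure hG h1350 h1373 h1429 h1430 hM hKU hne
    refine ⟨?_, h2, h3, h4, hk3⟩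
    intro h
    apply hk1
    rw [eq_bot_iff, ← h]
    exact hk2

end final

end Cfsg.Agent.Helper27.BG15
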