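import Mathlib

set_option autoImplicit false

/-!
# Conway's characterisation of the Leech lattice (S0406): shared definitions

After choosing a coordinate frame (24 mutually orthogonal vectors of norm 8, congruent modulo
`2Λ`) the lattice becomes an additive subgroup `L` of `ℤ^24` (coordinates `x ↦ (B(x, e_i))_i`,
norm `= (1/8) * sum of squares`).  `Lat L` lists what is known about `L`; `code L` is the binary
code of the even vectors of `L`.
-/

namespace Cfsg.Agent.Helper27.LCh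

/-- hypotheses on the coordinatised lattice `L ≤ ℤ^24` (norm of `v` is `(v ⬝ᵥ v) / 8`) -/
structure Lat (L : AddSubgroup (Fin 24 → ℤ)) : Prop where
  /-- the form is integral -/
  int8 : ∀ v ∈ L, ∀ w ∈ L, (8 : ℤ) ∣ v ⬝ᵥ w
  /-- the form is even -/
  even16 : ∀ v ∈ L, (16 : ℤ) ∣ v ⬝ᵥ v
  /-- no vectors of norm `2` -/
  min32 : ∀ v ∈ L, v ≠ 0 → 32 ≤ v ⬝ᵥ v
  /-- the frame vectors -/
  e8 : ∀ i, Pi.single i 8 ∈ L
  /-- halves of sums of frame vectors -/
  e4p : ∀ i j, i ≠ j → Pi.single i 4 + Pi.single j 4 ∈ L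
  /-- halves of differences of frame vectors -/
  e4m : ∀ i j, i ≠ j → Pi.single i 4 - Pi.single j 4 ∈ L
  /-- the number of vectors of norm `4` -/
  count4 : {v | v ∈ L ∧ v ⬝ᵥ v = 32}.ncard = 196560

/-- the binary code of the even vectors: `c ∈ code L` iff `2 t ∈ L` for some integer vector `t`
reducing to `c` modulo `2` -/
def code (L : AddSubgroup (Fin 24 → ℤ)) : Submodule (ZMod 2) (Fin 24 → ZMod 2) where
  carrier := {c | ∃ t : Fin 24 → ℤ, (fun i => 2 * t i) ∈ L ∧ ∀ i, ((t i : ℤ) : ZMod 2) = c i}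
  add_mem' := by
    rintro c c' ⟨t, ht, hc⟩ ⟨t', ht', hc'⟩
    refine ⟨t + t', ?_, fun i => ?_⟩
    · have := L.add_mem ht ht'
      convert this using 1
      funext i
      simp [mul_add]
    · simp [hc i, hc' i]
  zero_mem' := ⟨0, by
    have h0 : (fun i : Fin 24 => 2 * (0 : Fin 24 → ℤ) i) = 0 := by funext i; simp
    rw [h0]; exact L.zero_mem, fun i => by simp⟩
  smul_mem' := by
    rintro a c ⟨t, ht, hc⟩
    have ha : a = 0 ∨ a = 1 := by
      revert a; decide
    rcases ha with rfl | rfl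
    · exact ⟨0, by
        have h0 : (fun i : Fin 24 => 2 * (0 : Fin 24 → ℤ) i) = 0 := by funext i; simp
        rw [h0]; exact L.zero_mem, fun i => by simp⟩
    · exact ⟨t, ht, fun i => by simp [hc i]⟩

theorem mem_code_iff (L : AddSubgroup (Fin 24 → ℤ)) (c : Fin 24 → ZMod 2) :
    c ∈ code L ↔ ∃ t : Fin 24 → ℤ, (fun i => 2 * t i) ∈ L ∧ ∀ i, ((t i : ℤ) : ZMod 2) = c i :=
  Iff.rfl

end Cfsg.Agent.Helper27.LCh
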