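import Mathlib

set_option autoImplicit false

/-! piece CLASS2 of the board `s5068pieces` (driver helper18): generic group theory. -/

namespace Cfsg.Agent.QP68

open Subgroup

/-- For `R` centralized by `H`, the elements `x ∈ H` with `[x, y] ∈ R` form a subgroup. -/
def CLASS2_aux_L {𝔾 : Type*} [Group 𝔾] (H R : Subgroup 𝔾)
    (hRc : ∀ r ∈ R, ∀ x ∈ H, r * x = x * r) (y : 𝔾) : Subgroup 𝔾 where
  carrier := {x | x ∈ H ∧ x * y * x⁻¹ * y⁻¹ ∈ R}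
  one_mem' := ⟨H.one_mem, by simp⟩
  mul_mem' := by
    rintro a b ⟨ha, haR⟩ ⟨hb, hbR⟩
    refine ⟨H.mul_mem ha hb, ?_⟩
    have hc := hRc _ hbR a ha
    have e : a * b * y * (a * b)⁻¹ * y⁻¹ = (b * y * b⁻¹ * y⁻¹) * (a * y * a⁻¹ * y⁻¹) := by
      calc a * b * y * (a * b)⁻¹ * y⁻¹
          = a * (b * y * b⁻¹ * y⁻¹) * (y * a⁻¹ * y⁻¹) := by group
        _ = (b * y * b⁻¹ * y⁻¹) * a * (y * a⁻¹ * y⁻¹) := by rw [← hc]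
        _ = _ := by group
    rw [e]
    exact R.mul_mem hbR haR
  inv_mem' := by
    rintro a ⟨ha, haR⟩
    refine ⟨H.inv_mem ha, ?_⟩
    have hc := hRc _ (R.inv_mem haR) a ha
    have e : a⁻¹ * y * a⁻¹⁻¹ * y⁻¹ = (a * y * a⁻¹ * y⁻¹)⁻¹ := by
      calc a⁻¹ * y * a⁻¹⁻¹ * y⁻¹ = a⁻¹ * ((a * y * a⁻¹ * y⁻¹)⁻¹ * a) := by group
        _ = a⁻¹ * (a * (a * y * a⁻¹ * y⁻¹)⁻¹) := by rw [hc]
        _ = _ := by group
    rw [e]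
    exact R.inv_mem haR

theorem CLASS2_aux_mem {𝔾 : Type*} [Group 𝔾] (H R : Subgroup 𝔾)
    (hRc : ∀ r ∈ R, ∀ x ∈ H, r * x = x * r) (y x : 𝔾) :
    x ∈ CLASS2_aux_L H R hRc y ↔ x ∈ H ∧ x * y * x⁻¹ * y⁻¹ ∈ R := Iff.rfl

theorem CLASS2 {𝔾 : Type*} [Group 𝔾] {E F R : Subgroup 𝔾}
    (hE : ∀ x ∈ E, ∀ y ∈ E, x * y = y * x) (hF : ∀ x ∈ F, ∀ y ∈ F, x * y = y * x)
    (hR : ∀ e ∈ E, ∀ f ∈ F, e * f * e⁻¹ * f⁻¹ ∈ R) (hRc : ∀ r ∈ R, ∀ x ∈ E ⊔ F, r * x = x * r) :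
    (⁅E ⊔ F, E ⊔ F⁆ : Subgroup 𝔾) ≤ R ∧ (⁅⁅E ⊔ F, E ⊔ F⁆, E ⊔ F⁆ : Subgroup 𝔾) = ⊥ := by
  have hEH : E ≤ E ⊔ F := le_sup_left
  have hFH : F ≤ E ⊔ F := le_sup_right
  -- commutators with a fixed `f ∈ F`
  have hA : ∀ f ∈ F, ∀ x ∈ E ⊔ F, x * f * x⁻¹ * f⁻¹ ∈ R := by
    intro f hf x hx
    have hle : E ⊔ F ≤ CLASS2_aux_L (E ⊔ F) R hRc f := by
      refine sup_le (fun e he => ⟨hEH he, hR e he f hf⟩) (fun f' hf' => ⟨hFH hf', ?_⟩)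
      have : f' * f * f'⁻¹ * f⁻¹ = 1 := by
        rw [hF f' hf' f hf]; group
      rw [this]; exact R.one_mem
    exact (hle hx).2
  -- commutators with a fixed `e ∈ E`
  have hA' : ∀ e ∈ E, ∀ x ∈ E ⊔ F, x * e * x⁻¹ * e⁻¹ ∈ R := by
    intro e he x hx
    have hle : E ⊔ F ≤ CLASS2_aux_L (E ⊔ F) R hRc e := by
      refine sup_le (fun e' he' => ⟨hEH he', ?_⟩) (fun f hf => ⟨hFH hf, ?_⟩)
      · have : e' * e * e'⁻¹ * e⁻¹ = 1 := by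
          rw [hE e' he' e he]; group
        rw [this]; exact R.one_mem
      · have : f * e * f⁻¹ * e⁻¹ = (e * f * e⁻¹ * f⁻¹)⁻¹ := by group
        rw [this]; exact R.inv_mem (hR e he f hf)
    exact (hle hx).2
  have hB : ∀ x ∈ E ⊔ F, ∀ y ∈ E ⊔ F, y * x * y⁻¹ * x⁻¹ ∈ R := by
    intro x hx y hy
    have hle : E ⊔ F ≤ CLASS2_aux_L (E ⊔ F) R hRc x := by
      refine sup_le (fun e he => ⟨hEH he, ?_⟩) (fun f hf => ⟨hFH hf, ?_⟩)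
      · have : e * x * e⁻¹ * x⁻¹ = (x * e * x⁻¹ * e⁻¹)⁻¹ := by group
        rw [this]; exact R.inv_mem (hA' e he x hx)
      · have : f * x * f⁻¹ * x⁻¹ = (x * f * x⁻¹ * f⁻¹)⁻¹ := by group
        rw [this]; exact R.inv_mem (hA f hf x hx)
    exact (hle hy).2
  have h1 : (⁅E ⊔ F, E ⊔ F⁆ : Subgroup 𝔾) ≤ R := by
    rw [commutator_le]
    intro g₁ h₁ g₂ h₂
    rw [commutatorElement_def]
    exact hB g₂ h₂ g₁ h₁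
  refine ⟨h1, ?_⟩
  rw [commutator_eq_bot_iff_le_centralizer]
  intro r hr
  rw [mem_centralizer_iff]
  intro x hx
  exact (hRc r (h1 hr) x hx).symm

end Cfsg.Agent.QP68
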