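import Mathlib
import Cfsg.Agent.Helper25.QPSwap
import Cfsg.Agent.Helper19.QPFIT
import Cfsg.Agent.Helper20.QPIDEM
import Cfsg.Agent.Helper21.QPFAITH

set_option autoImplicit false

/-! Board `qppieces`, piece ACT1: the coordinates modulo `Van1` determine the action on `M₁`. -/

noncomputable section

namespace Cfsg.Agent.QPP

open Cfsg Cfsg.Agent.Helper25.QP Cfsg.Agent.Helper25.QuadPair Polynomial

variable {k : Type*} [Field k] {M : Type*} [AddCommGroup M] [Module k M]

/-- `a`, `b` and polynomials in `z` preserve `M₁` -/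
theorem ACT1_aux_inv (a b : Module.End k M) (ha : a * a = 0) (hb : b * b = 0) :
    (∀ m ∈ M1 a b, a m ∈ M1 a b) ∧ (∀ m ∈ M1 a b, b m ∈ M1 a b) ∧
      (∀ f : k[X], ∀ m ∈ M1 a b, aeval (zz a b) f m ∈ M1 a b) := by
  refine ⟨?_, ?_, ?_⟩
  · exact FIT_inv1 (zz a b) a (zz_mul_a ha).symm
  · exact FIT_inv1 (zz a b) b (zz_mul_b hb).symm
  · intro f
    exact FIT_inv1 (zz a b) (aeval (zz a b) f)
      (commute_aeval_of_commute (Commute.refl (zz a b)) f)

theorem ACT1 [FiniteDimensional k M] (a b : Module.End k M) (ha : a * a = 0) (hb : b * b = 0)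
    (P : Co k) : (∀ m ∈ M1 a b, opn a b P m = 0) ↔
      (P.p ∈ Van1 a b ∧ P.q ∈ Van1 a b ∧ P.s ∈ Van1 a b ∧ P.t ∈ Van1 a b) := by
  obtain ⟨hia, hib, hif⟩ := ACT1_aux_inv a b ha hb
  have hopn : ∀ m : M, opn a b P m = aeval (zz a b) P.p (a (b m)) + aeval (zz a b) P.q (a m)
      + aeval (zz a b) P.s (b m) + aeval (zz a b) P.t (b (a m)) := by
    intro m
    unfold opn
    simp only [LinearMap.add_apply, Module.End.mul_apply]
  constructor
  · -- (⇒)
    intro h
    -- commutation facts
    have hca : ∀ (f : k[X]) (m : M), a (aeval (zz a b) f m) = aeval (zz a b) f (a m) := by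
      intro f m
      have := (commute_aeval_a (b := b) ha f).eq
      have h2 := congrArg (fun w : Module.End k M => w m) this
      simpa [Module.End.mul_apply] using h2.symm
    have hcb : ∀ (f : k[X]) (m : M), b (aeval (zz a b) f m) = aeval (zz a b) f (b m) := by
      intro f m
      have := (commute_aeval_b (a := a) hb f).eq
      have h2 := congrArg (fun w : Module.End k M => w m) this
      simpa [Module.End.mul_apply] using h2.symm
    have haa : ∀ m : M, a (a m) = 0 := by
      intro m
      have := congrArg (fun w : Module.End k M => w m) ha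
      simpa [Module.End.mul_apply] using this
    have hbb : ∀ m : M, b (b m) = 0 := by
      intro m
      have := congrArg (fun w : Module.End k M => w m) hb
      simpa [Module.End.mul_apply] using this
    have hz : ∀ m : M, zz a b m = a (b m) + b (a m) := by
      intro m
      unfold zz
      simp only [LinearMap.add_apply, Module.End.mul_apply]
    have hinf := IDEM_inf a b ha hb
    -- elements of A1
    have hA : ∀ u ∈ A1 a b, aeval (zz a b) P.p (zz a b u) = 0 ∧ aeval (zz a b) P.s (b u) = 0 := by
      intro u hu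
      obtain ⟨hu1, hu2⟩ := Submodule.mem_inf.mp hu
      have hau : a u = 0 := LinearMap.mem_ker.mp hu2
      have h0 := h u hu1
      rw [hopn, hau, map_zero, map_zero, map_zero, add_zero, add_zero] at h0
      have hzu : zz a b u = a (b u) := by rw [hz, hau, map_zero, add_zero]
      rw [← hzu] at h0
      -- first term in A1, second in B1
      have hzu1 : zz a b u ∈ M1 a b := by
        have := hif X u hu1
        rwa [aeval_X] at this
      have t1 : aeval (zz a b) P.p (zz a b u) ∈ A1 a b := by
        refine Submodule.mem_inf.mpr ⟨hif _ _ hzu1, ?_⟩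
        rw [LinearMap.mem_ker, hca, hzu, haa, map_zero]
      have t2 : aeval (zz a b) P.s (b u) ∈ B1 a b := by
        refine Submodule.mem_inf.mpr ⟨hif _ _ (hib u hu1), ?_⟩
        rw [LinearMap.mem_ker, hcb, hbb, map_zero]
      have t1' : aeval (zz a b) P.p (zz a b u) ∈ B1 a b := by
        have : aeval (zz a b) P.p (zz a b u) = -(aeval (zz a b) P.s (b u)) :=
          eq_neg_of_add_eq_zero_left h0
        rw [this]
        exact Submodule.neg_mem _ t2
      have e1 : aeval (zz a b) P.p (zz a b u) = 0 := by
        have : aeval (zz a b) P.p (zz a b u) ∈ A1 a b ⊓ B1 a b := Submodule.mem_inf.mpr ⟨t1, t1'⟩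
        rw [hinf] at this
        exact (Submodule.mem_bot k).mp this
      refine ⟨e1, ?_⟩
      rw [e1, zero_add] at h0
      exact h0
    have hB : ∀ v ∈ B1 a b, aeval (zz a b) P.q (a v) = 0 ∧ aeval (zz a b) P.t (zz a b v) = 0 := by
      intro v hv
      obtain ⟨hv1, hv2⟩ := Submodule.mem_inf.mp hv
      have hbv : b v = 0 := LinearMap.mem_ker.mp hv2
      have h0 := h v hv1
      rw [hopn, hbv, map_zero, map_zero, map_zero, zero_add, add_zero] at h0
      have hzv : zz a b v = b (a v) := by rw [hz, hbv, map_zero, zero_add]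
      rw [← hzv] at h0
      have hzv1 : zz a b v ∈ M1 a b := by
        have := hif X v hv1
        rwa [aeval_X] at this
      have t1 : aeval (zz a b) P.q (a v) ∈ A1 a b := by
        refine Submodule.mem_inf.mpr ⟨hif _ _ (hia v hv1), ?_⟩
        rw [LinearMap.mem_ker, hca, haa, map_zero]
      have t2 : aeval (zz a b) P.t (zz a b v) ∈ B1 a b := by
        refine Submodule.mem_inf.mpr ⟨hif _ _ hzv1, ?_⟩
        rw [LinearMap.mem_ker, hcb, hzv, hbb, map_zero]
      have t2' : aeval (zz a b) P.t (zz a b v) ∈ A1 a b := by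
        have : aeval (zz a b) P.t (zz a b v) = -(aeval (zz a b) P.q (a v)) :=
          eq_neg_of_add_eq_zero_right h0
        rw [this]
        exact Submodule.neg_mem _ t1
      have e2 : aeval (zz a b) P.t (zz a b v) = 0 := by
        have : aeval (zz a b) P.t (zz a b v) ∈ A1 a b ⊓ B1 a b := Submodule.mem_inf.mpr ⟨t2', t2⟩
        rw [hinf] at this
        exact (Submodule.mem_bot k).mp this
      refine ⟨?_, e2⟩
      rw [e2, add_zero] at h0
      exact h0
    -- z-cancellation on M1
    have hzcancel : ∀ (f : k[X]) (m : M), m ∈ M1 a b → aeval (zz a b) f (zz a b m) = 0 →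
        aeval (zz a b) f m = 0 := by
      intro f m hm h0
      apply FIT_inj (zz a b) _ (hif f m hm)
      have hc : Commute (aeval (zz a b) f) (zz a b) :=
        commute_aeval_of_commute (Commute.refl (zz a b)) f
      have h2 := congrArg (fun w : Module.End k M => w m) hc.eq
      simp only [Module.End.mul_apply] at h2
      rw [← h2]; exact h0
    refine ⟨?_, ?_, ?_, ?_⟩
    · -- p
      apply FAITH_A a b ha hb
      intro u hu
      exact hzcancel _ u (Submodule.mem_inf.mp hu).1 (hA u hu).1
    · -- q : a maps B1 onto A1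
      apply FAITH_A a b ha hb
      intro u hu
      rw [← IDEM_a_B1 a b ha hb] at hu
      obtain ⟨v, hv, rfl⟩ := Submodule.mem_map.mp hu
      exact (hB v hv).1
    · -- s : b maps A1 onto B1
      apply FAITH_B a b ha hb
      intro v hv
      rw [← IDEM_b_A1 a b ha hb] at hv
      obtain ⟨u, hu, rfl⟩ := Submodule.mem_map.mp hv
      exact (hA u hu).2
    · -- t
      apply FAITH_B a b ha hb
      intro v hv
      exact hzcancel _ v (Submodule.mem_inf.mp hv).1 (hB v hv).2
  · -- (⇐)
    rintro ⟨hp, hq, hs, ht⟩ m hm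
    rw [hopn]
    have h1 : aeval (zz a b) P.p (a (b m)) = 0 := hp _ (hia _ (hib m hm))
    have h2 : aeval (zz a b) P.q (a m) = 0 := hq _ (hia m hm)
    have h3 : aeval (zz a b) P.s (b m) = 0 := hs _ (hib m hm)
    have h4 : aeval (zz a b) P.t (b (a m)) = 0 := ht _ (hib _ (hia m hm))
    rw [h1, h2, h3, h4]; simp

end Cfsg.Agent.QPP

end
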