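import Mathlib

/-!
# S0429 (uniqueness of srg(77,16,0,4)): spectral toolkit (helper27)

For a strongly regular graph with parameters `(77,16,0,4)` (eigenvalues `16, 2, -6`) the two quadratic forms
`Q2 g = 2 Σ g² - Σ_{v ~ w} g v g w + (2/11) (Σ g)²` and `Q1 g = 6 Σ g² + Σ_{v ~ w} g v g w - (2/7) (Σ g)²`
are positive semidefinite, and a vector on which one of them vanishes satisfies an eigenvector equation at every vertex.
-/

set_option autoImplicit false

namespace Cfsg.Agent.S0429P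

open Finset

variable {V : Type*} [Fintype V] [DecidableEq V] (G : SimpleGraph V) [DecidableRel G.Adj]

/-- the neighbour sum `Σ_{y ~ z} g y`. -/
def nsum (g : V → ℚ) (z : V) : ℚ := ∑ y ∈ G.neighborFinset z, g y

/-- `Σ_{(v,w) : v ~ w} g v * g w` (ordered pairs). -/
def adjSum (g : V → ℚ) : ℚ := ∑ v, g v * nsum G g v

/-- the quadratic form of `2 - A + (2/11) J`. -/
def Q2 (g : V → ℚ) : ℚ := 2 * ∑ v, g v ^ 2 - adjSum G g + (2 / 11) * (∑ v, g v) ^ 2

/-- the quadratic form of `A + 6 - (2/7) J`. -/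
def Q1 (g : V → ℚ) : ℚ := 6 * ∑ v, g v ^ 2 + adjSum G g - (2 / 7) * (∑ v, g v) ^ 2

variable {G}

theorem spec_aux_cn (h : G.IsSRGWith 77 16 0 4) (y y' : V) :
    ((G.neighborFinset y ∩ G.neighborFinset y').card : ℚ)
      = if y = y' then 16 else if G.Adj y y' then 0 else 4 := by
  by_cases hyy : y = y'
  · subst hyy
    simp [h.regular.degree_eq y]
  · rw [if_neg hyy]
    have hc : (G.neighborFinset y ∩ G.neighborFinset y').card = Fintype.card (G.commonNeighbors y y') := by
      rw [← Set.toFinset_card]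
      congr 1
      ext z
      simp only [Finset.mem_inter, SimpleGraph.mem_neighborFinset, Set.mem_toFinset,
        SimpleGraph.mem_commonNeighbors]
    by_cases ha : G.Adj y y'
    · rw [if_pos ha, hc, h.of_adj y y' ha]; simp
    · rw [if_neg ha, hc, h.of_not_adj hyy ha]; simp

/-- `Σ_z (Σ_{y ~ z} g y)² = 12 Σ g² - 4 Σ_{v~w} g v g w + 4 (Σ g)²`. -/
theorem spec_aux_sq (h : G.IsSRGWith 77 16 0 4) (g : V → ℚ) :
    ∑ z, nsum G g z ^ 2 = 12 * ∑ v, g v ^ 2 - 4 * adjSum G g + 4 * (∑ v, g v) ^ 2 := by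
  have h1 : ∀ z, nsum G g z ^ 2 = ∑ y, ∑ y', (if G.Adj z y ∧ G.Adj z y' then g y * g y' else 0) := by
    intro z
    unfold nsum
    rw [sq, Finset.sum_mul_sum]
    rw [← Finset.sum_filter_add_sum_filter_not Finset.univ (fun y => G.Adj z y)
      (fun y => ∑ y', if G.Adj z y ∧ G.Adj z y' then g y * g y' else 0)]
    have hz : ∑ y ∈ Finset.univ.filter (fun y => ¬ G.Adj z y),
        ∑ y', (if G.Adj z y ∧ G.Adj z y' then g y * g y' else 0) = 0 := by
      apply Finset.sum_eq_zero
      intro y hy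
      apply Finset.sum_eq_zero
      intro y' _
      rw [if_neg]
      intro hh
      exact (Finset.mem_filter.mp hy).2 hh.1
    rw [hz, add_zero]
    have hnf : G.neighborFinset z = Finset.univ.filter (fun y => G.Adj z y) := by
      ext y; simp
    rw [hnf]
    apply Finset.sum_congr rfl
    intro y hy
    have hy' : G.Adj z y := (Finset.mem_filter.mp hy).2
    rw [Finset.sum_filter]
    apply Finset.sum_congr rfl
    intro y' _
    by_cases hzy' : G.Adj z y'
    · rw [if_pos hzy', if_pos ⟨hy', hzy'⟩]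
    · rw [if_neg hzy', if_neg (fun hh => hzy' hh.2)]
  have h2 : ∑ z, nsum G g z ^ 2
      = ∑ y, ∑ y', g y * g y' * ((G.neighborFinset y ∩ G.neighborFinset y').card : ℚ) := by
    simp_rw [h1]
    rw [Finset.sum_comm]
    apply Finset.sum_congr rfl
    intro y _
    rw [Finset.sum_comm]
    apply Finset.sum_congr rfl
    intro y' _
    have hf : (Finset.univ.filter (fun z => G.Adj z y ∧ G.Adj z y'))
        = G.neighborFinset y ∩ G.neighborFinset y' := by
      ext z
      simp [SimpleGraph.adj_comm]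
    rw [← Finset.sum_filter, Finset.sum_const, nsmul_eq_mul, mul_comm, hf]
  rw [h2]
  simp_rw [spec_aux_cn h]
  have h3 : ∀ y, ∑ y', g y * g y' * (if y = y' then (16:ℚ) else if G.Adj y y' then 0 else 4)
      = 12 * g y ^ 2 - 4 * (g y * nsum G g y) + 4 * (g y * ∑ v, g v) := by
    intro y
    have e1 : ∀ y', g y * g y' * (if y = y' then (16:ℚ) else if G.Adj y y' then 0 else 4)
        = 4 * (g y * g y') + (if y = y' then 12 * (g y * g y') else 0)
          - (if G.Adj y y' then 4 * (g y * g y') else 0) := by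
      intro y'
      by_cases hyy : y = y'
      · subst hyy
        simp
        ring
      · by_cases ha : G.Adj y y'
        · simp [hyy, ha]
        · simp [hyy, ha]; ring
    simp_rw [e1]
    rw [Finset.sum_sub_distrib, Finset.sum_add_distrib, Finset.sum_ite_eq, ← Finset.mul_sum,
      ← Finset.mul_sum]
    simp only [Finset.mem_univ, if_true]
    rw [← Finset.sum_filter]
    have hnf : Finset.univ.filter (fun y' => G.Adj y y') = G.neighborFinset y := by
      ext z; simp
    rw [hnf, ← Finset.mul_sum]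
    unfold nsum
    rw [← Finset.mul_sum]
    ring
  simp_rw [h3]
  rw [Finset.sum_add_distrib, Finset.sum_sub_distrib, ← Finset.mul_sum, ← Finset.mul_sum,
    ← Finset.mul_sum, ← Finset.sum_mul]
  unfold adjSum
  ring

omit [DecidableEq V] in
theorem spec_aux_nsum_total (h : G.IsSRGWith 77 16 0 4) (g : V → ℚ) :
    ∑ z, nsum G g z = 16 * ∑ v, g v := by
  unfold nsum
  have : ∀ z, ∑ y ∈ G.neighborFinset z, g y = ∑ y, if G.Adj z y then g y else 0 := by
    intro z
    rw [← Finset.sum_filter]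
    congr 1
    ext y; simp
  simp_rw [this]
  rw [Finset.sum_comm]
  rw [Finset.mul_sum]
  apply Finset.sum_congr rfl
  intro y _
  rw [← Finset.sum_filter, Finset.sum_const, nsmul_eq_mul]
  have : (Finset.univ.filter (fun z => G.Adj z y)).card = 16 := by
    have := h.regular.degree_eq y
    rw [← this, ← SimpleGraph.card_neighborFinset_eq_degree]
    congr 1
    ext z; simp [SimpleGraph.adj_comm]
  rw [this]; norm_num

omit [DecidableEq V] in
theorem spec_aux_card (h : G.IsSRGWith 77 16 0 4) : (Fintype.card V : ℚ) = 77 := by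
  rw [h.card]; norm_num

/-- `8 Q2 g = Σ_z (2 g z - Σ_{y~z} g y + (2/11) Σ g)²`. -/
theorem Q2_eq_sum_sq (h : G.IsSRGWith 77 16 0 4) (g : V → ℚ) :
    8 * Q2 G g = ∑ z, (2 * g z - nsum G g z + (2 / 11) * ∑ v, g v) ^ 2 := by
  set c : ℚ := (2 / 11) * ∑ v, g v with hc
  have e : ∀ z, (2 * g z - nsum G g z + c) ^ 2
      = 4 * g z ^ 2 + nsum G g z ^ 2 + c ^ 2 - 4 * (g z * nsum G g z)
        + 4 * c * g z - 2 * c * nsum G g z := by
    intro z; ring
  have t1 : ∑ z, 4 * g z ^ 2 = 4 * ∑ z, g z ^ 2 := (Finset.mul_sum _ _ _).symm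
  have t2 : ∑ z : V, c ^ 2 = 77 * c ^ 2 := by
    rw [Finset.sum_const, Finset.card_univ, nsmul_eq_mul, spec_aux_card h]
  have t3 : ∑ z, 4 * (g z * nsum G g z) = 4 * adjSum G g := by
    unfold adjSum; exact (Finset.mul_sum _ _ _).symm
  have t4 : ∑ z, 4 * c * g z = 4 * c * ∑ z, g z := (Finset.mul_sum _ _ _).symm
  have t5 : ∑ z, 2 * c * nsum G g z = 2 * c * (16 * ∑ v, g v) := by
    rw [← Finset.mul_sum, spec_aux_nsum_total h]
  simp_rw [e]
  rw [Finset.sum_sub_distrib, Finset.sum_add_distrib, Finset.sum_sub_distrib, Finset.sum_add_distrib,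
    Finset.sum_add_distrib, t1, t2, t3, t4, t5, spec_aux_sq h]
  unfold Q2
  rw [hc]
  ring

/-- `8 Q1 g = Σ_z (6 g z + Σ_{y~z} g y - (2/7) Σ g)²`. -/
theorem Q1_eq_sum_sq (h : G.IsSRGWith 77 16 0 4) (g : V → ℚ) :
    8 * Q1 G g = ∑ z, (6 * g z + nsum G g z - (2 / 7) * ∑ v, g v) ^ 2 := by
  set c : ℚ := (2 / 7) * ∑ v, g v with hc
  have e : ∀ z, (6 * g z + nsum G g z - c) ^ 2
      = 36 * g z ^ 2 + nsum G g z ^ 2 + c ^ 2 + 12 * (g z * nsum G g z)
        - 12 * c * g z - 2 * c * nsum G g z := by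
    intro z; ring
  have t1 : ∑ z, 36 * g z ^ 2 = 36 * ∑ z, g z ^ 2 := (Finset.mul_sum _ _ _).symm
  have t2 : ∑ z : V, c ^ 2 = 77 * c ^ 2 := by
    rw [Finset.sum_const, Finset.card_univ, nsmul_eq_mul, spec_aux_card h]
  have t3 : ∑ z, 12 * (g z * nsum G g z) = 12 * adjSum G g := by
    unfold adjSum; exact (Finset.mul_sum _ _ _).symm
  have t4 : ∑ z, 12 * c * g z = 12 * c * ∑ z, g z := (Finset.mul_sum _ _ _).symm
  have t5 : ∑ z, 2 * c * nsum G g z = 2 * c * (16 * ∑ v, g v) := by
    rw [← Finset.mul_sum, spec_aux_nsum_total h]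
  simp_rw [e]
  rw [Finset.sum_sub_distrib, Finset.sum_sub_distrib, Finset.sum_add_distrib, Finset.sum_add_distrib,
    Finset.sum_add_distrib, t1, t2, t3, t4, t5, spec_aux_sq h]
  unfold Q1
  rw [hc]
  ring

/-- T1: `Q2` is positive semidefinite. -/
theorem Q2_nonneg (h : G.IsSRGWith 77 16 0 4) (g : V → ℚ) : 0 ≤ Q2 G g := by
  have := Q2_eq_sum_sq h g
  have h2 : 0 ≤ ∑ z, (2 * g z - nsum G g z + (2 / 11) * ∑ v, g v) ^ 2 :=
    Finset.sum_nonneg (fun z _ => sq_nonneg _)
  linarith

/-- T1eq: a vector with `Q2 g = 0` satisfies the eigenvector equation at every vertex. -/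
theorem Q2_eq_zero (h : G.IsSRGWith 77 16 0 4) (g : V → ℚ) (h0 : Q2 G g = 0) (z : V) :
    nsum G g z = 2 * g z + (2 / 11) * ∑ v, g v := by
  have h1 := Q2_eq_sum_sq h g
  rw [h0, mul_zero] at h1
  have h2 := (Finset.sum_eq_zero_iff_of_nonneg (fun z _ => sq_nonneg _)).mp h1.symm z (Finset.mem_univ z)
  have h3 := pow_eq_zero_iff (two_ne_zero) |>.mp h2
  linarith

/-- T2: `Q1` is positive semidefinite. -/
theorem Q1_nonneg (h : G.IsSRGWith 77 16 0 4) (g : V → ℚ) : 0 ≤ Q1 G g := by
  have := Q1_eq_sum_sq h g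
  have h2 : 0 ≤ ∑ z, (6 * g z + nsum G g z - (2 / 7) * ∑ v, g v) ^ 2 :=
    Finset.sum_nonneg (fun z _ => sq_nonneg _)
  linarith

/-- T2eq: a vector with `Q1 g = 0` satisfies the eigenvector equation at every vertex. -/
theorem Q1_eq_zero (h : G.IsSRGWith 77 16 0 4) (g : V → ℚ) (h0 : Q1 G g = 0) (z : V) :
    nsum G g z = (2 / 7) * (∑ v, g v) - 6 * g z := by
  have h1 := Q1_eq_sum_sq h g
  rw [h0, mul_zero] at h1
  have h2 := (Finset.sum_eq_zero_iff_of_nonneg (fun z _ => sq_nonneg _)).mp h1.symm z (Finset.mem_univ z)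
  have h3 := pow_eq_zero_iff (two_ne_zero) |>.mp h2
  linarith

/-! ## indicator combinations -/

section ind

variable (G)

/-- the vector `Σ_i w i • 1_{S i}`. -/
def ind {ι : Type*} [Fintype ι] (S : ι → Finset V) (w : ι → ℚ) (v : V) : ℚ :=
  ∑ i, if v ∈ S i then w i else 0

/-- the number of ordered pairs `(v, y)`, `v ∈ S`, `y ∈ T`, `v ~ y`. -/
def E (S T : Finset V) : ℚ := ∑ v ∈ S, ((G.neighborFinset v ∩ T).card : ℚ)

variable {G}
variable {ι : Type*} [Fintype ι] (S : ι → Finset V) (w : ι → ℚ)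

omit [DecidableRel G.Adj] in
theorem sum_ind : ∑ v, ind S w v = ∑ i, w i * ((S i).card : ℚ) := by
  unfold ind
  rw [Finset.sum_comm]
  apply Finset.sum_congr rfl
  intro i _
  rw [← Finset.sum_filter, Finset.sum_const, nsmul_eq_mul, mul_comm]
  have : Finset.univ.filter (fun v => v ∈ S i) = S i := by ext v; simp
  rw [this]

theorem nsum_ind (z : V) :
    nsum G (ind S w) z = ∑ i, w i * ((G.neighborFinset z ∩ S i).card : ℚ) := by
  unfold nsum ind
  rw [Finset.sum_comm]
  apply Finset.sum_congr rfl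
  intro i _
  rw [← Finset.sum_filter, Finset.sum_const, nsmul_eq_mul, mul_comm]
  have : (G.neighborFinset z).filter (fun v => v ∈ S i) = G.neighborFinset z ∩ S i := by
    ext v; simp
  rw [this]

omit [DecidableRel G.Adj] in
theorem sum_sq_ind (hdisj : ∀ i j, i ≠ j → Disjoint (S i) (S j)) :
    ∑ v, ind S w v ^ 2 = ∑ i, w i ^ 2 * ((S i).card : ℚ) := by
  have h1 : ∀ v, ind S w v ^ 2 = ∑ i, if v ∈ S i then w i ^ 2 else 0 := by
    intro v
    unfold ind
    rw [sq, Finset.sum_mul_sum]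
    apply Finset.sum_congr rfl
    intro i _
    by_cases hi : v ∈ S i
    · rw [if_pos hi, if_pos hi]
      rw [Finset.sum_eq_single i]
      · rw [if_pos hi]; ring
      · intro j _ hji
        have : v ∉ S j := fun hj => (Finset.disjoint_left.mp (hdisj i j hji.symm)) hi hj
        rw [if_neg this, mul_zero]
      · intro hh; exact absurd (Finset.mem_univ i) hh
    · rw [if_neg hi, if_neg hi]
      simp
  simp_rw [h1]
  rw [Finset.sum_comm]
  apply Finset.sum_congr rfl
  intro i _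
  rw [← Finset.sum_filter, Finset.sum_const, nsmul_eq_mul, mul_comm]
  have : Finset.univ.filter (fun v => v ∈ S i) = S i := by ext v; simp
  rw [this]

theorem adjSum_ind : adjSum G (ind S w) = ∑ i, ∑ j, w i * w j * E G (S i) (S j) := by
  unfold adjSum
  simp_rw [nsum_ind]
  have h1 : ∀ v, ind S w v * ∑ j, w j * ((G.neighborFinset v ∩ S j).card : ℚ)
      = ∑ i, ∑ j, if v ∈ S i then w i * w j * ((G.neighborFinset v ∩ S j).card : ℚ) else 0 := by
    intro v
    unfold ind
    rw [Finset.sum_mul]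
    apply Finset.sum_congr rfl
    intro i _
    by_cases hi : v ∈ S i
    · simp only [if_pos hi]
      rw [Finset.mul_sum]
      apply Finset.sum_congr rfl
      intro j _; ring
    · simp [hi]
  simp_rw [h1]
  rw [Finset.sum_comm]
  apply Finset.sum_congr rfl
  intro i _
  rw [Finset.sum_comm]
  apply Finset.sum_congr rfl
  intro j _
  unfold E
  rw [← Finset.sum_filter, Finset.mul_sum]
  have : Finset.univ.filter (fun v => v ∈ S i) = S i := by ext v; simp
  rw [this]

end ind

end Cfsg.Agent.S0429P
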