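import Mathlib
import Cfsg.Agent.Helper27.S0429Spec

/-!
# S0429 (uniqueness of srg(77,16,0,4)): definitions and basic facts (helper27)

`cn a b` common neighbours, `m3 a b c` number of common neighbours of three vertices, `Far a z` (`z ≠ a`, `z ≁ a`),
`kap a z p = 2 [z ~ p] + m3 a z p`, `Mate a b c` (`b, c` far from `a`, distinct, `kap a b c = 0`), `cls a b` (the class of
`b` with respect to the base vertex `a`: `b` and its mates), `IsCoc`, `Coc21` (cocliques of size 21),
`Pt a x` (the neighbours of `x` other than `a`), `col a u u'` (`u ≠ u'` and `kap a u u' = 2`).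
-/

set_option autoImplicit false

namespace Cfsg.Agent.S0429P

open Finset

variable {V : Type*} [Fintype V] [DecidableEq V] (G : SimpleGraph V) [DecidableRel G.Adj]

/-- common neighbours of `a` and `b`. -/
def cn (a b : V) : Finset V := G.neighborFinset a ∩ G.neighborFinset b

/-- the number of common neighbours of `a`, `b`, `c`. -/
def m3 (a b c : V) : ℕ := (G.neighborFinset a ∩ G.neighborFinset b ∩ G.neighborFinset c).card

/-- `z` is different from `a` and not adjacent to `a`. -/
def Far (a z : V) : Prop := z ≠ a ∧ ¬ G.Adj a z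

instance (a z : V) : Decidable (Far G a z) := by unfold Far; infer_instance

/-- `kap a z p = 2 [z ~ p] + m3 a z p`. -/
def kap (a z p : V) : ℕ := (if G.Adj z p then 2 else 0) + m3 G a z p

/-- `b`, `c` are distinct, far from `a`, non-adjacent, with no common neighbour of `a, b, c`. -/
def Mate (a b c : V) : Prop := Far G a b ∧ Far G a c ∧ b ≠ c ∧ kap G a b c = 0

instance (a b c : V) : Decidable (Mate G a b c) := by unfold Mate; infer_instance

/-- the class of `b` with respect to the base vertex `a`. -/
def cls (a b : V) : Finset V := Finset.univ.filter (fun c => c = b ∨ Mate G a b c)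

/-- `C` is a coclique. -/
def IsCoc (C : Finset V) : Prop := ∀ v ∈ C, ∀ w ∈ C, ¬ G.Adj v w

instance (C : Finset V) : Decidable (IsCoc G C) := by unfold IsCoc; infer_instance

/-- the cocliques of size 21. -/
def Coc21 : Finset (Finset V) := Finset.univ.filter (fun C => IsCoc G C ∧ C.card = 21)

/-- the neighbours of `x` other than `a`. -/
def Pt (a x : V) : Finset V := (G.neighborFinset x).erase a

/-- collinearity with respect to the base vertex `a`. -/
def col (a u u' : V) : Prop := u ≠ u' ∧ kap G a u u' = 2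

instance (a u u' : V) : Decidable (col G a u u') := by unfold col; infer_instance

/-- the ovoids at `(a, x)`: the 5-subsets of `Pt a x` of pairwise non-collinear points. -/
def ovs (a x : V) : Finset (Finset V) :=
  (Pt G a x).powerset.filter (fun O => O.card = 5 ∧ ∀ p ∈ O, ∀ q ∈ O, ¬ col G a p q)

/-- the test vector `e_b - e_c + (1/2) 1_{cn a b} - (1/2) 1_{cn a c}` of the eigenvector lemma. -/
def eigVec (a b c : V) : V → ℚ :=
  ind ![{b}, {c}, cn G a b, cn G a c] ![1, -1, 1 / 2, -1 / 2]

/-- the test vector `8 e_a + (3/2) 1_{N(a)} + 1_U` of the syntheme lemma. -/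
def synVec (a : V) (U : Finset V) : V → ℚ :=
  ind ![{a}, G.neighborFinset a, U] ![8, 3 / 2, 1]

variable {G}

theorem mem_cn {a b x : V} : x ∈ cn G a b ↔ G.Adj a x ∧ G.Adj b x := by
  simp [cn]

theorem mem_cls {a b c : V} : c ∈ cls G a b ↔ c = b ∨ Mate G a b c := by
  simp [cls]

theorem mem_Coc21 {C : Finset V} : C ∈ Coc21 G ↔ IsCoc G C ∧ C.card = 21 := by
  simp [Coc21]

theorem mem_Pt {a x u : V} : u ∈ Pt G a x ↔ u ≠ a ∧ G.Adj x u := by
  simp [Pt]

theorem mem_ovs {a x : V} {O : Finset V} :
    O ∈ ovs G a x ↔ O ⊆ Pt G a x ∧ O.card = 5 ∧ ∀ p ∈ O, ∀ q ∈ O, ¬ col G a p q := by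
  simp [ovs]

theorem m3_comm12 (a b c : V) : m3 G a b c = m3 G b a c := by
  unfold m3; rw [Finset.inter_comm (G.neighborFinset a)]

theorem m3_comm23 (a b c : V) : m3 G a b c = m3 G a c b := by
  unfold m3; rw [Finset.inter_assoc, Finset.inter_comm (G.neighborFinset b), ← Finset.inter_assoc]

theorem m3_eq_card (a b c : V) : m3 G a b c = (G.neighborFinset c ∩ cn G a b).card := by
  unfold m3 cn; rw [Finset.inter_comm]

theorem kap_symm (a z p : V) : kap G a z p = kap G a p z := by
  unfold kap
  rw [m3_comm23]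
  simp only [SimpleGraph.adj_comm]

theorem self_mem_cls (a b : V) : b ∈ cls G a b := mem_cls.mpr (Or.inl rfl)

/-! ## basic facts about `srg(77,16,0,4)` -/

omit [DecidableEq V] in
theorem card_nb (h : G.IsSRGWith 77 16 0 4) (v : V) : (G.neighborFinset v).card = 16 := by
  rw [SimpleGraph.card_neighborFinset_eq_degree]; exact h.regular.degree_eq v

theorem card_cn_eq (v w : V) : (cn G v w).card = Fintype.card (G.commonNeighbors v w) := by
  rw [← Set.toFinset_card]
  congr 1
  ext z
  simp only [cn, Finset.mem_inter, SimpleGraph.mem_neighborFinset, Set.mem_toFinset,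
    SimpleGraph.mem_commonNeighbors]

theorem cn_adj (h : G.IsSRGWith 77 16 0 4) {v w : V} (hvw : G.Adj v w) : cn G v w = ∅ := by
  rw [← Finset.card_eq_zero, card_cn_eq, h.of_adj v w hvw]

theorem card_cn (h : G.IsSRGWith 77 16 0 4) {v w : V} (hne : v ≠ w) (hvw : ¬ G.Adj v w) :
    (cn G v w).card = 4 := by
  rw [card_cn_eq, h.of_not_adj hne hvw]

/-- triangle-free. -/
theorem nadj_of_common (h : G.IsSRGWith 77 16 0 4) {x v w : V} (hv : G.Adj x v) (hw : G.Adj x w) :
    ¬ G.Adj v w := by
  intro hvw
  have h1 := cn_adj h hvw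
  have h2 : x ∈ cn G v w := mem_cn.mpr ⟨hv.symm, hw.symm⟩
  rw [h1] at h2
  exact absurd h2 (Finset.notMem_empty x)

theorem m3_le_four (h : G.IsSRGWith 77 16 0 4) {a b : V} (hne : a ≠ b) (hab : ¬ G.Adj a b) (c : V) :
    m3 G a b c ≤ 4 := by
  rw [← card_cn h hne hab]
  unfold m3 cn
  exact Finset.card_le_card Finset.inter_subset_left

theorem m3_eq_zero_of_adj (h : G.IsSRGWith 77 16 0 4) {b c : V} (hbc : G.Adj b c) (a : V) :
    m3 G a b c = 0 := by
  unfold m3
  rw [Finset.card_eq_zero, Finset.inter_assoc]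
  have := cn_adj h hbc
  unfold cn at this
  rw [this, Finset.inter_empty]

omit [DecidableEq V] in
theorem card_univ_eq (h : G.IsSRGWith 77 16 0 4) : (Finset.univ : Finset V).card = 77 := by
  rw [Finset.card_univ]; exact h.card

theorem card_far (h : G.IsSRGWith 77 16 0 4) (a : V) : (Finset.univ.filter (Far G a)).card = 60 := by
  have h1 : Finset.univ.filter (Far G a) = (Finset.univ \ G.neighborFinset a).erase a := by
    ext z
    simp only [Far, Finset.mem_filter, Finset.mem_univ, true_and, Finset.mem_erase, Finset.mem_sdiff,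
      SimpleGraph.mem_neighborFinset]
  have ha : a ∈ Finset.univ \ G.neighborFinset a := by simp
  rw [h1, Finset.card_erase_of_mem ha, Finset.card_sdiff_of_subset (Finset.subset_univ _),
    card_univ_eq h, card_nb h]

end Cfsg.Agent.S0429P
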