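import Mathlib
import Cfsg.Agent.Helper27.S0429Defs
import Cfsg.Agent.Helper25.S0429K33_4
import Cfsg.Agent.Helper19.S0429K333

/-! # S0429 piece K33 (helper27): three pairwise far vertices have at most two common neighbours. -/

set_option autoImplicit false

namespace Cfsg.Agent.S0429P

open Finset

variable {V : Type*} [Fintype V] [DecidableEq V] {G : SimpleGraph V} [DecidableRel G.Adj]

/-- K33 (S, assembly). -/
theorem K33 (h : G.IsSRGWith 77 16 0 4) {a b c : V} (hab : a ≠ b) (hac : a ≠ c) (hbc : b ≠ c)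
    (nab : ¬ G.Adj a b) (nac : ¬ G.Adj a c) (nbc : ¬ G.Adj b c) : m3 G a b c ≤ 2 := by
  have h4 := m3_le_four h hab nab c
  have h1 := K33_4 h hab hac hbc nab nac nbc
  have h2 := K33_3 h hab hac hbc nab nac nbc
  omega

end Cfsg.Agent.S0429P
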