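import Mathlib
import Cfsg.Agent.Helper27.S0429Defs
import Cfsg.Agent.Helper27.S0429K33
import Cfsg.Agent.Helper10.S0429CNT0
import Cfsg.Agent.Helper3.S0429CNT1
import Cfsg.Agent.Helper3.S0429CNT2

/-! # S0429 piece MATE3 (helper27, hedge): every far pair has exactly three mates. -/

set_option autoImplicit false

namespace Cfsg.Agent.S0429P

open Finset

variable {V : Type*} [Fintype V] [DecidableEq V] {G : SimpleGraph V} [DecidableRel G.Adj]

theorem MATE3_aux_iff {a b c : V} (hab : Far G a b) :
    Mate G a b c ↔ (Far G a c ∧ Far G b c) ∧ m3 G a b c = 0 := by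
  unfold Mate kap Far
  constructor
  · rintro ⟨-, hac, hbc, hk⟩
    by_cases hadj : G.Adj b c
    · rw [if_pos hadj] at hk; omega
    · rw [if_neg hadj] at hk
      exact ⟨⟨hac, Ne.symm hbc, hadj⟩, by omega⟩
  · rintro ⟨⟨hac, hcb, hadj⟩, hm⟩
    refine ⟨hab, hac, Ne.symm hcb, ?_⟩
    rw [if_neg hadj, hm]

/-- MATE3 (M): every far pair has exactly three mates. -/
theorem MATE3 (h : G.IsSRGWith 77 16 0 4) {a b : V} (hab : Far G a b) :
    (Finset.univ.filter (fun c => Mate G a b c)).card = 3 := by
  have h0 := CNT0 h hab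
  have h1 := CNT1 h hab
  have h2 := CNT2 h hab
  set F := Finset.univ.filter (fun c => Far G a c ∧ Far G b c) with hF
  have hset : Finset.univ.filter (fun c => Mate G a b c) = F.filter (fun c => m3 G a b c = 0) := by
    ext c
    simp only [hF, Finset.mem_filter, Finset.mem_univ, true_and]
    exact MATE3_aux_iff hab
  rw [hset, Finset.card_filter]
  have hpt : ∀ c ∈ F, 2 * (if m3 G a b c = 0 then 1 else 0) + 2 * m3 G a b c
      = 2 + m3 G a b c * (m3 G a b c - 1) := by
    intro c hc
    have hc' : Far G a c ∧ Far G b c := by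
      simpa [hF] using hc
    have hle : m3 G a b c ≤ 2 :=
      K33 h (Ne.symm hab.1) (Ne.symm hc'.1.1) (Ne.symm hc'.2.1) hab.2 hc'.1.2 hc'.2.2
    interval_cases (m3 G a b c) <;> simp
  have hsum := Finset.sum_congr rfl hpt
  rw [Finset.sum_add_distrib, Finset.sum_add_distrib, ← Finset.mul_sum, ← Finset.mul_sum, h1, h2,
    Finset.sum_const, h0] at hsum
  simp only [smul_eq_mul] at hsum
  omega

end Cfsg.Agent.S0429P
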