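import Mathlib
import Cfsg.Agent.Helper27.S0429Defs
import Cfsg.Agent.Helper27.S0429MATE3h

/-! # S0429 piece CLS4 (helper27, hedge): a class has four elements. -/

set_option autoImplicit false

namespace Cfsg.Agent.S0429P

open Finset

variable {V : Type*} [Fintype V] [DecidableEq V] {G : SimpleGraph V} [DecidableRel G.Adj]

/-- CLS4 (S). -/
theorem CLS4 (h : G.IsSRGWith 77 16 0 4) {a b : V} (hab : Far G a b) : (cls G a b).card = 4 := by
  have h3 := MATE3 h hab
  have hset : cls G a b = insert b (Finset.univ.filter (fun c => Mate G a b c)) := by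
    ext c
    simp only [mem_cls, Finset.mem_insert, Finset.mem_filter, Finset.mem_univ, true_and]
  have hb : b ∉ Finset.univ.filter (fun c => Mate G a b c) := by
    simp only [Finset.mem_filter, Finset.mem_univ, true_and]
    intro hm
    exact hm.2.2.1 rfl
  rw [hset, Finset.card_insert_of_notMem hb, h3]

end Cfsg.Agent.S0429P
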