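import Mathlib
import Cfsg.Prelude.Def_LocalStructure
import Cfsg.Agent.Helper14.PCore

/-!
# S2834 (L-Lemma): definitions (blueprint `departures/helper27_S2834_blueprint.md`)

A finite group `H` acts on `Ω`.  `Valid A L v`: the pair `(L, v)` is valid for `A`.
`IsCT T w`: the Sylow subgroup `T` witnesses that `(H, Ω, w)` is in the class `C`.
`Moves A w`: `A` moves a point of the orbit of `w`.  `Adm A T' y`: admissible datum.
-/

set_option autoImplicit false

namespace Cfsg.Agent.S2834P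

universe u v

section
variable {H : Type u} [Group H] {Ω : Type v} [MulAction H Ω]

/-- `(L, v)` is valid for `A`: `A ≤ L`, `A` fixes `v`, `L` moves `v`, and `v` is the only point of `L • v` fixed by `A`. -/
def Valid (A L : Subgroup H) (v : Ω) : Prop :=
  A ≤ L ∧ (∀ a ∈ A, a • v = v) ∧ (∃ l ∈ L, l • v ≠ v) ∧
    ∀ l ∈ L, (∀ a ∈ A, a • l • v = l • v) → l • v = v

/-- `A` moves some point of the orbit of `w`. -/
def Moves (A : Subgroup H) (w : Ω) : Prop := ∃ a ∈ A, ∃ h : H, a • h • w ≠ h • w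

/-- The Sylow subgroup `T` witnesses that `(H, Ω, w)` lies in the class `C`: `H` moves `w`, `T` fixes `w` and no other
point of `H • w`, and every proper subgroup of `H` containing `T` fixes `w`. -/
def IsCT {p : ℕ} [Fact p.Prime] (T : Sylow p H) (w : Ω) : Prop :=
  (∃ h : H, h • w ≠ w) ∧ (∀ t ∈ T, t • w = w) ∧
    (∀ h : H, (∀ t ∈ T, t • h • w = h • w) → h • w = w) ∧
    ∀ X : Subgroup H, (T : Subgroup H) ≤ X → X ≠ ⊤ → ∀ x ∈ X, x • w = w

/-- Admissible datum: `A ≤ T'`, `y ∈ T'`, `A' = y A y⁻¹ ≠ A`, `A' ≤ N_{T'}(A)` and `A ≤ N(A')`. -/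
def Adm {p : ℕ} [Fact p.Prime] (A : Subgroup H) (T' : Sylow p H) (y : H) : Prop :=
  A ≤ (T' : Subgroup H) ∧ y ∈ T' ∧ A.map (MulAut.conj y).toMonoidHom ≠ A ∧
    A.map (MulAut.conj y).toMonoidHom ≤ (T' : Subgroup H) ⊓ Subgroup.normalizer (A : Set H) ∧
    A ≤ Subgroup.normalizer ((A.map (MulAut.conj y).toMonoidHom : Subgroup H) : Set H)

end

/-- `(H, Ω, w)` is in the class `C`. -/
def InC (p : ℕ) [Fact p.Prime] (H : Type u) [Group H] {Ω : Type v} [MulAction H Ω] (w : Ω) : Prop :=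
  ∃ T : Sylow p H, IsCT T w

end Cfsg.Agent.S2834P
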