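import Cfsg.Agent.Helper27.S2834Defs
import Cfsg.Agent.Helper3.S2834DEFSAPI
import Cfsg.Agent.Helper24.S2834C34
import Cfsg.Agent.Helper19.S2834S12

set_option autoImplicit false

namespace Cfsg.Agent.S2834P

open Cfsg

universe u v

variable {H : Type u} [Group H] {Ω : Type v} [MulAction H Ω] {p : ℕ} [Fact p.Prime]

/-- a normal subgroup fixing one point of an orbit fixes the whole orbit -/
theorem S5_aux_normal_fix {A : Subgroup H} (hN : Subgroup.normalizer (A : Set H) = ⊤) {w : Ω} {h : H}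
    (hf : ∀ a ∈ A, a • h • w = h • w) : ¬ Moves A w := by
  rintro ⟨a, ha, k, hk⟩
  apply hk
  have hmem : (k * h⁻¹)⁻¹ * a * (k * h⁻¹) ∈ A := by
    have hx : (k * h⁻¹)⁻¹ ∈ Subgroup.normalizer (A : Set H) := by rw [hN]; trivial
    have := (Subgroup.mem_normalizer_iff.1 hx a).1 ha
    simpa using this
  have h1 := hf _ hmem
  have h2 : k • w = (k * h⁻¹) • h • w := by simp [mul_smul]
  have h3 : a • (k * h⁻¹) • h • w = (k * h⁻¹) • ((k * h⁻¹)⁻¹ * a * (k * h⁻¹)) • h • w := by
    simp only [← mul_smul]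
    congr 1
    group
  rw [h2, h3, h1]

theorem S5 [Finite H] {T : Sylow p H} {w : Ω} (hT : IsCT T w) {A : Subgroup H} (hA : IsPGroup p A)
    (hmv : Moves A w) {h h' : H} (hne : h • w ≠ h' • w) (hf : ∀ a ∈ A, a • h • w = h • w)
    (hf' : ∀ a ∈ A, a • h' • w = h' • w)
    (hstar : ∀ (T' : Sylow p H) (y : H), Adm A T' y → ∀ k : H,
      (∀ r ∈ A ⊔ A.map (MulAut.conj y).toMonoidHom, r • k • w = k • w) → ∀ t ∈ T', t • k • w = k • w) :
    ∃ (L : Subgroup H) (v : Ω), v ∈ MulAction.orbit H w ∧ Valid A L v := by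
  classical
  have hAN : A ≤ Subgroup.normalizer (A : Set H) := Subgroup.le_normalizer
  -- (*)
  have hst : ∀ T' : Sylow p H, A ≤ (T' : Subgroup H) →
      ¬ (T' : Subgroup H) ≤ Subgroup.normalizer (A : Set H) → ∀ k : H,
      (∀ x ∈ (T' : Subgroup H) ⊓ Subgroup.normalizer (A : Set H), x • k • w = k • w) →
      ∀ t ∈ T', t • k • w = k • w := by
    intro T' hAT' hn k hk
    obtain ⟨y, hy⟩ := S2 hAT' hn
    apply hstar T' y hy k
    intro r hr
    have hle : A ⊔ A.map (MulAut.conj y).toMonoidHom ≤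
        (T' : Subgroup H) ⊓ Subgroup.normalizer (A : Set H) :=
      sup_le (le_inf hAT' hAN) hy.2.2.2.1
    exact hk r (hle hr)
  have hNtop : Subgroup.normalizer (A : Set H) ≠ ⊤ := fun hN => S5_aux_normal_fix hN hf hmv
  -- uniqueness of the fixed point of g • T, in a convenient form
  have huniq : ∀ g k : H, (∀ t ∈ (g • T : Sylow p H), t • k • w = k • w) → k • w = g • w := by
    intro g k hk
    have := (isCT_conj g hT).2.2.1 (k * g⁻¹) (by
      intro t ht
      simpa [mul_smul] using hk t ht)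
    simpa [mul_smul] using this
  -- (a)
  have ha : ∀ T' : Sylow p H, A ≤ (T' : Subgroup H) →
      ¬ (T' : Subgroup H) ≤ Subgroup.normalizer (A : Set H) := by
    intro T1 hAT1 hT1N
    obtain ⟨g1, hg1⟩ := MulAction.exists_smul_eq H T T1
    subst hg1
    have hNfix : ∀ x ∈ Subgroup.normalizer (A : Set H), x • g1 • w = g1 • w :=
      (isCT_conj g1 hT).2.2.2 _ hT1N hNtop
    -- a fixed point of A different from g1 • w
    obtain ⟨k, hkf, hkne⟩ : ∃ k : H, (∀ a ∈ A, a • k • w = k • w) ∧ g1 • w ≠ k • w := by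
      by_cases h1 : g1 • w = h • w
      · exact ⟨h', hf', by rw [h1]; exact hne⟩
      · exact ⟨h, hf, h1⟩
    obtain ⟨g, hgw, hAg⟩ := C3 hT hA k hkf
    have hnot : ¬ ((g • T : Sylow p H) : Subgroup H) ≤ Subgroup.normalizer (A : Set H) :=
      S1 hT hmv (by rw [hgw]; exact hkne) hAT1 hAg hT1N
    have := hst (g • T) hAg hnot g1 (fun x hx => hNfix x hx.2)
    have h2 := huniq g g1 this
    exact hkne (h2.trans hgw)
  -- (b)
  have hb : ∀ k0 : H, ¬ ∀ x ∈ Subgroup.normalizer (A : Set H), x • k0 • w = k0 • w := by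
    intro k0 hk0
    have key : ∀ k : H, (∀ a ∈ A, a • k • w = k • w) → k0 • w = k • w := by
      intro k hkf
      obtain ⟨g, hgw, hAg⟩ := C3 hT hA k hkf
      have := hst (g • T) hAg (ha _ hAg) k0 (fun x hx => hk0 x hx.2)
      exact (huniq g k0 this).trans hgw
    exact hne ((key h hf).symm.trans (key h' hf'))
  -- (c)
  obtain ⟨g, hgw, hAg⟩ := C3 hT hA h hf
  obtain ⟨y, hy⟩ := S2 hAg (ha _ hAg)
  have hTfix : ∀ t ∈ (g • T : Sylow p H), t • g • w = g • w := (isCT_conj g hT).2.1
  have hyfix : y • g • w = g • w := hTfix y hy.2.1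
  have hyinv : y⁻¹ • g • w = g • w := by
    conv_lhs => rw [← hyfix]
    simp
  refine ⟨Subgroup.normalizer ((A.map (MulAut.conj y).toMonoidHom : Subgroup H) : Set H), g • w,
    ⟨g, rfl⟩, hy.2.2.2.2, ?_, ?_, ?_⟩
  · rw [hgw]; exact hf
  · -- moves
    have hb' := hb g
    push Not at hb'
    obtain ⟨x, hx, hxw⟩ := hb'
    refine ⟨y * x * y⁻¹, ?_, ?_⟩
    · rw [Subgroup.mem_normalizer_iff]
      intro z
      constructor
      · rintro ⟨a, ha', rfl⟩
        refine ⟨x * a * x⁻¹, (Subgroup.mem_normalizer_iff.1 hx a).1 ha', ?_⟩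
        simp only [MulEquiv.coe_toMonoidHom, MulAut.conj_apply]
        group
      · rintro ⟨a, ha', haz⟩
        refine ⟨x⁻¹ * a * x, ?_, ?_⟩
        · have := (Subgroup.mem_normalizer_iff.1 hx (x⁻¹ * a * x)).2
          apply this
          have e : x * (x⁻¹ * a * x) * x⁻¹ = a := by group
          rw [e]; exact ha'
        · simp only [MulEquiv.coe_toMonoidHom, MulAut.conj_apply] at haz ⊢
          have : z = (y * x * y⁻¹)⁻¹ * (y * a * y⁻¹) * (y * x * y⁻¹) := by rw [haz]; group
          rw [this]; group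
    · intro heq
      apply hxw
      have h1 : (y * x * y⁻¹) • g • w = y • x • g • w := by
        rw [mul_smul, mul_smul, hyinv]
      rw [h1] at heq
      have h2 : y • x • g • w = y • g • w := by rw [heq, hyfix]
      exact MulAction.injective y h2
  · -- uniqueness
    intro l hl hlf
    have hA'fix : ∀ a' ∈ A.map (MulAut.conj y).toMonoidHom, a' • l • g • w = l • g • w := by
      intro a' ha'
      have hmem : l⁻¹ * a' * l ∈ A.map (MulAut.conj y).toMonoidHom := by
        have hl' : l⁻¹ ∈ Subgroup.normalizer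
            ((A.map (MulAut.conj y).toMonoidHom : Subgroup H) : Set H) := Subgroup.inv_mem _ hl
        have := (Subgroup.mem_normalizer_iff.1 hl' a').1 ha'
        simpa using this
      have h1 : (l⁻¹ * a' * l) • g • w = g • w := hTfix _ (hy.2.2.2.1 hmem).1
      have h3 : a' * l = l * (l⁻¹ * a' * l) := by group
      rw [← mul_smul, h3, mul_smul, h1]
    have hR : ∀ r ∈ A ⊔ A.map (MulAut.conj y).toMonoidHom, r • (l * g) • w = (l * g) • w := by
      intro r hr
      have hle : A ⊔ A.map (MulAut.conj y).toMonoidHom ≤ MulAction.stabilizer H ((l * g) • w) := by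
        refine sup_le ?_ ?_
        · intro a ha'
          show a • (l * g) • w = (l * g) • w
          rw [mul_smul]; exact hlf a ha'
        · intro a ha'
          show a • (l * g) • w = (l * g) • w
          rw [mul_smul]; exact hA'fix a ha'
      exact hle hr
    have := hstar (g • T) y hy (l * g) hR
    have h2 := huniq g (l * g) this
    rw [mul_smul] at h2
    exact h2

end Cfsg.Agent.S2834P
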