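import Cfsg.Agent.Helper27.S2834Defs
import Cfsg.Agent.Helper3.S2834DEFSAPI
import Cfsg.Agent.Helper24.S2834C34
import Cfsg.Agent.Helper14.S2834MIN
import Cfsg.Agent.Helper27.S2834S5

set_option autoImplicit false

namespace Cfsg.Agent.S2834P

open Cfsg

universe u v

/-- minimal valid pair below a valid pair -/
theorem IND_aux_exists_min_valid {H : Type u} [Group H] [Finite H] {Ω : Type v} [MulAction H Ω]
    {B L1 : Subgroup H} {v : Ω} (h : Valid B L1 v) :
    ∃ L : Subgroup H, L ≤ L1 ∧ Valid B L v ∧ ∀ X : Subgroup H, X < L → ¬ Valid B X v := by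
  classical
  have hwf : WellFounded ((· < ·) : Subgroup H → Subgroup H → Prop) := wellFounded_lt
  have hne : {L : Subgroup H | L ≤ L1 ∧ Valid B L v}.Nonempty := ⟨L1, le_refl _, h⟩
  obtain ⟨L, ⟨hL1, hL2⟩, hL3⟩ := hwf.has_min _ hne
  refine ⟨L, hL1, hL2, fun X hX hVX => ?_⟩
  exact hL3 X ⟨hX.le.trans hL1, hVX⟩ hX

/-- transfer of a valid pair from the subgroup type `↥L` to `H` -/
theorem IND_aux_valid_map {H : Type u} [Group H] {Ω : Type v} [MulAction H Ω] {L : Subgroup H}
    {A : Subgroup H} (hAL : A ≤ L) {L' : Subgroup ↥L} {v : Ω} (h : Valid (A.subgroupOf L) L' v) :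
    Valid A (L'.map L.subtype) v := by
  obtain ⟨h1, h2, ⟨l, hl, hlv⟩, h4⟩ := h
  refine ⟨?_, ?_, ?_, ?_⟩
  · intro a ha
    exact ⟨⟨a, hAL ha⟩, h1 (by simpa [Subgroup.mem_subgroupOf] using ha), rfl⟩
  · intro a ha
    exact h2 ⟨a, hAL ha⟩ (by simpa [Subgroup.mem_subgroupOf] using ha)
  · exact ⟨(l : H), ⟨l, hl, rfl⟩, hlv⟩
  · rintro _ ⟨l', hl', rfl⟩ hfix
    apply h4 l' hl'
    intro a ha
    exact hfix (a : H) (by simpa [Subgroup.mem_subgroupOf] using ha)

theorem IND_aux_card_lt {H : Type u} [Group H] [Finite H] {A B : Subgroup H} (h : A < B) :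
    Nat.card A < Nat.card B := by
  by_contra hcon
  push Not at hcon
  exact h.ne (Subgroup.eq_of_le_of_card_ge h.le hcon)

theorem IND_aux_map_map_inv {H : Type u} [Group H] (A : Subgroup H) (y : H) :
    (A.map (MulAut.conj y).toMonoidHom).map (MulAut.conj y⁻¹).toMonoidHom = A := by
  ext x
  constructor
  · rintro ⟨_, ⟨a, ha, rfl⟩, rfl⟩
    simpa [mul_assoc] using ha
  · intro hx
    exact ⟨y * x * y⁻¹, ⟨x, hx, rfl⟩, by simp [mul_assoc]⟩

theorem IND_aux (p : ℕ) [Fact p.Prime] : ∀ n : ℕ, ∀ (H : Type u) [Group H] [Finite H] (Ω : Type v)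
    [MulAction H Ω] (w : Ω) (A : Subgroup H), InC p H w → IsPGroup p A → Moves A w →
    Nat.card H * (Nat.card H + 1) - Nat.card A = n →
    ∃ (L : Subgroup H) (v : Ω), v ∈ MulAction.orbit H w ∧ Valid A L v := by
  intro n
  induction n using Nat.strong_induction_on with
  | _ n ih =>
  intro H _ _ Ω _ w A hC hA hmv hn
  classical
  obtain ⟨T, hT⟩ := hC
  have hcpos : 0 < Nat.card H := Nat.card_pos
  have hAc : Nat.card A ≤ Nat.card H := Subgroup.card_le_card_group A
  obtain ⟨g0, hg0⟩ := C4 T hA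
  have hfix0 : ∀ a ∈ A, a • g0 • w = g0 • w := fun a ha => (isCT_conj g0 hT).2.1 a (hg0 ha)
  by_cases hF : ∀ h : H, (∀ a ∈ A, a • h • w = h • w) → h • w = g0 • w
  · refine ⟨⊤, g0 • w, ⟨g0, rfl⟩, le_top, hfix0, ?_, ?_⟩
    · obtain ⟨h, hh⟩ := hT.1
      refine ⟨g0 * h * g0⁻¹, trivial, ?_⟩
      intro heq
      apply hh
      have : g0 • h • w = g0 • w := by simpa [mul_smul] using heq
      exact MulAction.injective g0 this
    · intro l _ hl
      have := hF (l * g0) (by simpa [mul_smul] using hl)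
      simpa [mul_smul] using this
  · push Not at hF
    obtain ⟨h1, hh1, hne1⟩ := hF
    by_cases hex : ∃ (T' : Sylow p H) (y : H), Adm A T' y ∧ ∃ (L1 : Subgroup H) (v1 : Ω),
        v1 ∈ MulAction.orbit H w ∧ Valid (A ⊔ A.map (MulAut.conj y).toMonoidHom) L1 v1 ∧ L1 ≠ ⊤
    · obtain ⟨T', y, hadm, L1, v1, hv1, hV1, hL1⟩ := hex
      obtain ⟨L, hLL1, hVL, hminL⟩ := IND_aux_exists_min_valid hV1
      have hLtop : L ≠ ⊤ := fun h => hL1 (top_le_iff.1 (h ▸ hLL1))
      have hRp : IsPGroup p ↥(A ⊔ A.map (MulAut.conj y).toMonoidHom) :=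
        T'.2.to_le (sup_le hadm.1 (hadm.2.2.2.1.trans inf_le_left))
      have hCL : InC p ↥L v1 := MIN_inC hRp hVL hminL
      obtain ⟨l, hl, hlv⟩ := hVL.2.2.1
      have hRl : ¬ ∀ r ∈ A ⊔ A.map (MulAut.conj y).toMonoidHom, r • l • v1 = l • v1 :=
        fun h => hlv (hVL.2.2.2 l hl h)
      have hAA' : (∃ a ∈ A, a • l • v1 ≠ l • v1) ∨
          (∃ a ∈ A.map (MulAut.conj y).toMonoidHom, a • l • v1 ≠ l • v1) := by
        by_contra hcon
        push Not at hcon
        apply hRl
        intro r hr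
        have hle : A ⊔ A.map (MulAut.conj y).toMonoidHom ≤ MulAction.stabilizer H (l • v1) :=
          sup_le (fun a ha => hcon.1 a ha) (fun a ha => hcon.2 a ha)
        exact hle hr
      have hcardL : Nat.card ↥L < Nat.card H := by
        have := IND_aux_card_lt (lt_top_iff_ne_top.2 hLtop)
        rwa [Subgroup.card_top] at this
      have hAL : A ≤ L := le_sup_left.trans hVL.1
      have hA'L : A.map (MulAut.conj y).toMonoidHom ≤ L := le_sup_right.trans hVL.1
      have horb : ∀ v' : Ω, v' ∈ MulAction.orbit ↥L v1 → v' ∈ MulAction.orbit H w := by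
        rintro _ ⟨x, rfl⟩
        obtain ⟨k, rfl⟩ := hv1
        exact ⟨(x : H) * k, by simp [mul_smul, Subgroup.smul_def]⟩
      -- measure for the subgroup
      have hmeas : ∀ B : Subgroup ↥L, Nat.card ↥L * (Nat.card ↥L + 1) - Nat.card B < n := by
        intro B
        have h1 : Nat.card ↥L * (Nat.card ↥L + 1) ≤ (Nat.card H - 1) * Nat.card H := by
          have : Nat.card ↥L ≤ Nat.card H - 1 := by omega
          calc Nat.card ↥L * (Nat.card ↥L + 1) ≤ (Nat.card H - 1) * (Nat.card H - 1 + 1) :=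
                Nat.mul_le_mul this (by omega)
            _ = (Nat.card H - 1) * Nat.card H := by rw [Nat.sub_add_cancel hcpos]
        have h2 : (Nat.card H - 1) * Nat.card H + Nat.card H = Nat.card H * Nat.card H := by
          have : Nat.card H = (Nat.card H - 1) + 1 := by omega
          nlinarith [this]
        have h3 : Nat.card H * (Nat.card H + 1) = Nat.card H * Nat.card H + Nat.card H := by ring
        omega
      rcases hAA' with ⟨a, ha, hal⟩ | ⟨a, ha, hal⟩
      · have hmvL : Moves (A.subgroupOf L) v1 :=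
          ⟨⟨a, hAL ha⟩, by simpa [Subgroup.mem_subgroupOf] using ha, ⟨l, hl⟩, hal⟩
        obtain ⟨L', v', hv', hV'⟩ := ih _ (hmeas (A.subgroupOf L)) ↥L Ω v1 (A.subgroupOf L) hCL
          hA.comap_subtype hmvL rfl
        exact ⟨L'.map L.subtype, v', horb v' hv', IND_aux_valid_map hAL hV'⟩
      · have hA'p : IsPGroup p ↥(A.map (MulAut.conj y).toMonoidHom) := hA.map _
        have hmvL : Moves ((A.map (MulAut.conj y).toMonoidHom).subgroupOf L) v1 :=
          ⟨⟨a, hA'L ha⟩, by simpa [Subgroup.mem_subgroupOf] using ha, ⟨l, hl⟩, hal⟩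
        obtain ⟨L', v', hv', hV'⟩ := ih _ (hmeas _) ↥L Ω v1
          ((A.map (MulAut.conj y).toMonoidHom).subgroupOf L) hCL hA'p.comap_subtype hmvL rfl
        have hV'' := valid_conj y⁻¹ (IND_aux_valid_map hA'L hV')
        rw [IND_aux_map_map_inv] at hV''
        refine ⟨_, _, ?_, hV''⟩
        obtain ⟨k, hk⟩ := horb v' hv'
        exact ⟨y⁻¹ * k, by show (y⁻¹ * k) • w = y⁻¹ • v'; rw [mul_smul]; exact congrArg _ hk⟩
    · push Not at hex
      have hstar : ∀ (T' : Sylow p H) (y : H), Adm A T' y → ∀ k : H,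
          (∀ r ∈ A ⊔ A.map (MulAut.conj y).toMonoidHom, r • k • w = k • w) →
          ∀ t ∈ T', t • k • w = k • w := by
        intro T' y hadm k hk
        have hRp : IsPGroup p ↥(A ⊔ A.map (MulAut.conj y).toMonoidHom) :=
          T'.2.to_le (sup_le hadm.1 (hadm.2.2.2.1.trans inf_le_left))
        have hlt : A < A ⊔ A.map (MulAut.conj y).toMonoidHom := by
          refine lt_of_le_of_ne le_sup_left ?_
          intro heq
          have hle : A.map (MulAut.conj y).toMonoidHom ≤ A := le_sup_right.trans heq.ge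
          apply hadm.2.2.1
          apply Subgroup.eq_of_le_of_card_ge hle
          rw [Subgroup.card_map_of_injective (MulAut.conj y).injective]
        have hcl := IND_aux_card_lt hlt
        have hRc : Nat.card ↥(A ⊔ A.map (MulAut.conj y).toMonoidHom) ≤ Nat.card H :=
          Subgroup.card_le_card_group _
        have hmeas : Nat.card H * (Nat.card H + 1) -
            Nat.card ↥(A ⊔ A.map (MulAut.conj y).toMonoidHom) < n := by
          have h3 : Nat.card H * (Nat.card H + 1) = Nat.card H * Nat.card H + Nat.card H := by ring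
          have h4 : 0 < Nat.card H * Nat.card H := Nat.mul_pos hcpos hcpos
          omega
        obtain ⟨L1, v1, hv1, hV1⟩ := ih _ hmeas H Ω w (A ⊔ A.map (MulAut.conj y).toMonoidHom)
          ⟨T, hT⟩ hRp (moves_mono le_sup_left hmv) rfl
        have hL1 : L1 = ⊤ := hex T' y hadm L1 v1 hv1 hV1
        subst hL1
        obtain ⟨k1, rfl⟩ := hv1
        -- k • w = k1 • w
        have hk1 : k • w = k1 • w := by
          have := hV1.2.2.2 (k * k1⁻¹) trivial (by simpa [mul_smul] using hk)
          simpa [mul_smul] using this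
        -- T' = g' • T fixes g' • w = k1 • w
        obtain ⟨g', hg'⟩ := MulAction.exists_smul_eq H T T'
        have hT'fix : ∀ t ∈ T', t • g' • w = g' • w := by
          intro t ht
          exact (isCT_conj g' hT).2.1 t (by rw [hg']; exact ht)
        have hRT' : A ⊔ A.map (MulAut.conj y).toMonoidHom ≤ (T' : Subgroup H) :=
          sup_le hadm.1 (hadm.2.2.2.1.trans inf_le_left)
        have hg'w : g' • w = k1 • w := by
          have := hV1.2.2.2 (g' * k1⁻¹) trivial (by
            intro r hr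
            simpa [mul_smul] using hT'fix r (hRT' hr))
          simpa [mul_smul] using this
        intro t ht
        rw [hk1, ← hg'w]
        exact hT'fix t ht
      exact S5 hT hA hmv (Ne.symm hne1) hfix0 hh1 hstar

theorem thmL {H : Type u} [Group H] {Ω : Type v} [MulAction H Ω] {p : ℕ} [Fact p.Prime] [Finite H]
    {w : Ω} (hC : InC p H w) {A : Subgroup H} (hA : IsPGroup p A) (hmv : Moves A w) :
    ∃ (L : Subgroup H) (v : Ω), v ∈ MulAction.orbit H w ∧ Valid A L v :=
  IND_aux p _ H Ω w A hC hA hmv rfl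

end Cfsg.Agent.S2834P
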