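import Mathlib
import Cfsg.Agent.Helper28.S3000Defs

/-! S3000, board `s3000pieces`, piece J2CENT (core): `J₂` centralises `E`, with the statement of `Z1` as a hypothesis. -/

set_option autoImplicit false

namespace Cfsg.Agent.S3000P

open Cfsg.Agent.S2789P Cfsg.Agent.S2999P
open scoped commutatorElement

variable {G : Type*} [Group G] [Finite G] {p : ℕ} [Fact p.Prime] {V P : Subgroup G} {T : Sylow p ↥P} {M : Subgroup ↥P} {q : ℕ}
variable {A E H : Subgroup G} {w : G}

/-- J2CENT with `Z1` (for this Tool) as a hypothesis. -/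
theorem J2CENT_core (Hy : Hyp p V P T M) (K : Tool p V P q A E H w) (hAT : A ≤ TT T)
    (hZ1 : ∀ D : Subgroup G, InA p V P q D → D ≠ A → (∀ a ∈ A, ∀ d ∈ D, a * d = d * a) →
      ∀ d ∈ D, ∀ e ∈ E, d * e = e * d) :
    ∀ x ∈ JJ2 p V (TT T) q A, ∀ e ∈ E, x * e = e * x := by
  have hle : JJ2 p V (TT T) q A ≤ Subgroup.centralizer (E : Set G) := by
    unfold JJ2
    apply sSup_le
    rintro D ⟨hD, hDA⟩
    have hTP : TT T ≤ P := Subgroup.map_subtype_le _
    have hDin : InA p V P q D := ⟨hD.1.trans hTP, hD.2.1, hD.2.2⟩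
    have hTp : IsPGroup p ↥(TT T) := J_aux_isPGroup_T P T
    have hQ : IsPGroup p ↥(A ⊔ D) := hTp.to_le (sup_le hAT hD.1)
    have hc : ∀ a ∈ A, ∀ d ∈ D, a * d = d * a :=
      LC Hy K.hA.le K.hA.so hDin.le hDin.so (K.hA.card.trans hDin.card.symm) hQ
    intro d hd
    rw [Subgroup.mem_centralizer_iff]
    intro e he
    exact (hZ1 D hDin hDA hc d hd e he).symm
  intro x hx e he
  have := hle hx
  rw [Subgroup.mem_centralizer_iff] at this
  exact (this e he).symm
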