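import Mathlib
import Cfsg.Agent.Helper27.S3000J2CENTcore
import Cfsg.Agent.Helper2.S3000Z1

/-! S3000, board `s3000pieces`, piece J2CENT: `J₂` centralises `E` (LC + Z1). -/

set_option autoImplicit false

namespace Cfsg.Agent.S3000P

open Cfsg.Agent.S2789P Cfsg.Agent.S2999P
open scoped commutatorElement

variable {G : Type*} [Group G] [Finite G] {p : ℕ} [Fact p.Prime] {V P : Subgroup G} {T : Sylow p ↥P} {M : Subgroup ↥P} {q : ℕ}
variable {A E H : Subgroup G} {w : G}

/-- J2CENT (M): LC + Z1. -/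
theorem J2CENT (Hy : Hyp p V P T M) (hq : MinQ p V P q) (K : Tool p V P q A E H w) (hAT : A ≤ TT T) :
    ∀ x ∈ JJ2 p V (TT T) q A, ∀ e ∈ E, x * e = e * x :=
  J2CENT_core Hy K hAT (fun _ hD hDA hc => Z1 Hy hq K hD hDA hc)

end Cfsg.Agent.S3000P
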