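import Mathlib
import Cfsg.Agent.Helper16.S3174Defs

set_option autoImplicit false

namespace Cfsg.Agent.S3174P

open scoped commutatorElement

/-- FIXPT: a `p`-subgroup `G` normalizing `K > Z` (with `Z` inside `K`) fixes a nontrivial element of `K/Z`. -/
theorem exists_fixed_mod {T : Type*} [Group T] [Finite T] {p : ℕ} [Fact p.Prime] (hT : IsPGroup p T)
    (Z K G : Subgroup T) (hZK : Z < K) (hKn : ∀ g ∈ G, ∀ y ∈ K, g * y * g⁻¹ ∈ K) :
    ∃ y ∈ K, y ∉ Z ∧ ∀ g ∈ G, ⁅g, y⁆ ∈ Z := by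
  classical
  have : Group.IsNilpotent T := hT.isNilpotent
  obtain ⟨n, hn⟩ := (Group.IsNilpotent.nilpotent' : ∃ n : ℕ, Subgroup.upperCentralSeries T n = ⊤)
  have hex : ∃ k : ℕ, ¬ (K ⊓ Subgroup.upperCentralSeries T k ≤ Z) := by
    refine ⟨n, ?_⟩
    rw [hn, inf_top_eq]
    exact not_le_of_gt hZK
  set k := Nat.find hex with hk
  have hkspec : ¬ (K ⊓ Subgroup.upperCentralSeries T k ≤ Z) := Nat.find_spec hex
  have hkmin : ∀ m, m < k → K ⊓ Subgroup.upperCentralSeries T m ≤ Z := by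
    intro m hm
    by_contra hcon
    exact Nat.find_min hex hm hcon
  have hkpos : k ≠ 0 := by
    intro h0
    apply hkspec
    rw [h0, Subgroup.upperCentralSeries_zero, inf_bot_eq]
    exact bot_le
  obtain ⟨j, hj⟩ := Nat.exists_eq_succ_of_ne_zero hkpos
  obtain ⟨y, hy, hyZ⟩ := SetLike.not_le_iff_exists.mp hkspec
  obtain ⟨hyK, hyk⟩ := Subgroup.mem_inf.mp hy
  refine ⟨y, hyK, hyZ, fun g hg => ?_⟩
  apply hkmin j (by omega)
  refine Subgroup.mem_inf.mpr ⟨?_, ?_⟩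
  · rw [commutatorElement_def]
    exact K.mul_mem (hKn g hg y hyK) (K.inv_mem hyK)
  · rw [hj, Nat.succ_eq_add_one, Subgroup.mem_upperCentralSeries_succ_iff] at hyk
    have h1 := hyk g
    have h2 : ⁅g, y⁆ = (y * g * y⁻¹ * g⁻¹)⁻¹ := by
      rw [commutatorElement_def]; group
    rw [h2]
    exact Subgroup.inv_mem _ h1

end Cfsg.Agent.S3174P
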