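import Mathlib
import Cfsg.Agent.Helper26.S3911Defs
import Cfsg.Agent.Helper21.S3911ML5

/-!
# S3911 piece ML8a (helper27): primes dividing the order of a nilpotent minimal lift divide `|Ab|`.
-/

set_option autoImplicit false

namespace Cfsg.Agent.S3911P

/-- ML8a (M): primes dividing `|A₀|` divide `|Ab|`. -/
theorem ML8a {G : Type*} [Group G] [Finite G] (M : Subgroup G) [M.Normal] (Ab : Subgroup (G ⧸ M))
    (A₀ : Subgroup G) (h : MinLift M Ab A₀) (hnil : Group.IsNilpotent ↥A₀) (p : ℕ) [Fact p.Prime]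
    (hp : p ∣ Nat.card ↥A₀) : p ∣ Nat.card ↥Ab := by
  by_contra hnp
  have hpp : p.Prime := Fact.out
  have S : Sylow p ↥A₀ := default
  have hS : ∀ s ∈ S, (s : G) ∈ M := by
    intro s hs
    have h1 : (QuotientGroup.mk' M) (s : G) ∈ Ab := by
      rw [← h.1]; exact Subgroup.mem_map_of_mem _ s.2
    have h2 : orderOf ((QuotientGroup.mk' M) (s : G)) ∣ Nat.card ↥Ab := by
      have := orderOf_dvd_natCard (⟨_, h1⟩ : Ab)
      rwa [Subgroup.orderOf_mk] at this
    obtain ⟨k, hk⟩ := S.isPGroup' ⟨s, hs⟩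
    have h3 : (s : G) ^ (p ^ k) = 1 := by
      have := congrArg (fun x : ↥(S : Subgroup ↥A₀) => ((x : ↥A₀) : G)) hk
      simpa using this
    have h4 : orderOf ((QuotientGroup.mk' M) (s : G)) ∣ p ^ k := by
      apply orderOf_dvd_of_pow_eq_one
      rw [← map_pow, h3, map_one]
    have hcop : Nat.Coprime (p ^ k) (Nat.card ↥Ab) :=
      Nat.Coprime.pow_left k ((Nat.Prime.coprime_iff_not_dvd hpp).mpr hnp)
    have h5 : orderOf ((QuotientGroup.mk' M) (s : G)) = 1 :=
      Nat.eq_one_of_dvd_coprimes hcop h4 h2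
    rw [orderOf_eq_one_iff] at h5
    exact (QuotientGroup.eq_one_iff _).mp h5
  have hbot := ML5 M Ab A₀ h hnil p S hS
  exact S.ne_bot_of_dvd_card hp hbot

end Cfsg.Agent.S3911P
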