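import Mathlib
import Cfsg.Agent.Helper9.S4415Defs

/-!
# Board `s4415pieces`, row V4A (`v4_span`)

For a four-group `T = {1, t₁, t₂, t₁t₂}` acting on an `𝔽₃`-module, `[E,T]` is the sum of the three "eigenlines"
`Ln ρ T t = [E,T] ∩ C_E(t)`.
-/

set_option autoImplicit false

namespace Cfsg.Agent.S4415P

open Subgroup
open Cfsg.Agent.S4409P (Zc Fr Der IsV4 IsQ8 SpecialInt IsAb)

variable {S : Type*} [Group S] [Finite S] {E : Type*} [AddCommGroup E] [Module (ZMod 3) E] [Finite E]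

/-- the elements of a four-group. -/
theorem V4A_aux_mem_four (T : Subgroup S) (hT : IsV4 T) (t₁ t₂ : S) (h₁ : t₁ ∈ T)
    (h₂ : t₂ ∈ T) (h₁1 : t₁ ≠ 1) (h₂1 : t₂ ≠ 1) (h12 : t₁ ≠ t₂) (y : S) (hy : y ∈ T) :
    y = 1 ∨ y = t₁ ∨ y = t₂ ∨ y = t₁ * t₂ := by
  classical
  by_contra hcon
  push_neg at hcon
  obtain ⟨hy1, hy2, hy3, hy4⟩ := hcon
  have e1 : t₁ * t₁ = 1 := hT.2 t₁ h₁
  have a1 : (1 : S) ≠ t₁ * t₂ := by
    intro h
    apply h12
    calc t₁ = t₁ * (t₁ * t₂) := by rw [← h, mul_one]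
      _ = t₂ := by rw [← mul_assoc, e1, one_mul]
  have a2 : t₁ ≠ t₁ * t₂ := by
    intro h
    apply h₂1
    have : t₁ * 1 = t₁ * t₂ := by rw [mul_one]; exact h
    exact (mul_left_cancel this).symm
  have a3 : t₂ ≠ t₁ * t₂ := by
    intro h
    apply h₁1
    have : 1 * t₂ = t₁ * t₂ := by rw [one_mul]; exact h
    exact (mul_right_cancel this).symm
  haveI : Fintype S := Fintype.ofFinite S
  have hsub : ({1, t₁, t₂, t₁ * t₂, y} : Finset S) ⊆ (Set.toFinset (T : Set S)) := by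
    intro x hx
    simp only [Finset.mem_insert, Finset.mem_singleton] at hx
    rw [Set.mem_toFinset]
    rcases hx with rfl | rfl | rfl | rfl | rfl
    · exact T.one_mem
    · exact h₁
    · exact h₂
    · exact T.mul_mem h₁ h₂
    · exact hy
  have hcard : ({1, t₁, t₂, t₁ * t₂, y} : Finset S).card = 5 := by
    rw [Finset.card_insert_of_notMem, Finset.card_insert_of_notMem, Finset.card_insert_of_notMem,
      Finset.card_insert_of_notMem, Finset.card_singleton]
    · simp only [Finset.mem_singleton]; exact fun h => hy4 h.symm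
    · simp only [Finset.mem_insert, Finset.mem_singleton]
      rintro (h | h)
      · exact a3 h
      · exact hy3 h.symm
    · simp only [Finset.mem_insert, Finset.mem_singleton]
      rintro (h | h | h)
      · exact h12 h
      · exact a2 h
      · exact hy2 h.symm
    · simp only [Finset.mem_insert, Finset.mem_singleton]
      rintro (h | h | h | h)
      · exact h₁1 h.symm
      · exact h₂1 h.symm
      · exact a1 h
      · exact hy1 h.symm
  have h4 : (Set.toFinset (T : Set S)).card = 4 := by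
    rw [Set.toFinset_card, ← Nat.card_eq_fintype_card]
    exact hT.1
  have := Finset.card_le_card hsub
  omega

/-- a vector fixed by `t` is fixed by `⟨t⟩`. -/
theorem V4A_aux_mem_CE_zpowers (ρ : Representation (ZMod 3) S E) (t : S) (w : E) (h : ρ t w = w) :
    w ∈ CE ρ (zpowers t) := by
  let H : Subgroup S :=
    { carrier := {g | ρ g w = w}
      mul_mem' := by
        intro a c ha hc
        show ρ (a * c) w = w
        rw [map_mul, Module.End.mul_apply, hc, ha]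
      one_mem' := by
        show ρ 1 w = w
        rw [map_one, Module.End.one_apply]
      inv_mem' := by
        intro a ha
        show ρ a⁻¹ w = w
        have ha' : ρ a w = w := ha
        calc ρ a⁻¹ w = ρ a⁻¹ (ρ a w) := by rw [ha']
          _ = ρ (a⁻¹ * a) w := by rw [map_mul, Module.End.mul_apply]
          _ = w := by rw [inv_mul_cancel, map_one, Module.End.one_apply] }
  have hle : zpowers t ≤ H := by
    rw [zpowers_le]
    exact h
  intro y hy
  exact hle hy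

/-- V4A : for a four-group `T = {1, t₁, t₂, t₁t₂}`, `[E,T]` is the sum of the three `Ln ρ T t = [E,T] ∩ C_E(t)`.
(For `v ∈ [E,T]`: `∑_{t ∈ T} ρ t v = 0` and `v = ∑ᵢ -(v + ρ tᵢ v)`.) -/
theorem v4_span (ρ : Representation (ZMod 3) S E) (T : Subgroup S) (hT : IsV4 T) (t₁ t₂ : S) (h₁ : t₁ ∈ T)
    (h₂ : t₂ ∈ T) (h₁1 : t₁ ≠ 1) (h₂1 : t₂ ≠ 1) (h12 : t₁ ≠ t₂) :
    ComE ρ T ≤ Ln ρ T t₁ ⊔ Ln ρ T t₂ ⊔ Ln ρ T (t₁ * t₂) := by
  have e1 : t₁ * t₁ = 1 := hT.2 _ h₁
  have e2 : t₂ * t₂ = 1 := hT.2 _ h₂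
  have h₃ : t₁ * t₂ ∈ T := T.mul_mem h₁ h₂
  have e3 : (t₁ * t₂) * (t₁ * t₂) = 1 := hT.2 _ h₃
  have hcomm : t₂ * t₁ = t₁ * t₂ := by
    calc t₂ * t₁ = (t₁ * t₁) * (t₂ * t₁) * (t₂ * t₂) := by rw [e1, e2, one_mul, mul_one]
      _ = t₁ * ((t₁ * t₂) * (t₁ * t₂)) * t₂ := by simp only [mul_assoc]
      _ = t₁ * t₂ := by rw [e3, mul_one]
  have hm : ∀ g h : S, ∀ x : E, ρ g (ρ h x) = ρ (g * h) x := by
    intro g h x
    rw [map_mul, Module.End.mul_apply]
  have ho : ∀ x : E, ρ 1 x = x := by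
    intro x
    rw [map_one, Module.End.one_apply]
  have g1 : t₁ * t₂ * t₁ = t₂ := by
    rw [mul_assoc, hcomm, ← mul_assoc, e1, one_mul]
  have g2 : t₁ * t₂ * t₂ = t₁ := by
    rw [mul_assoc, e2, mul_one]
  have g3 : t₁ * (t₁ * t₂) = t₂ := by
    rw [← mul_assoc, e1, one_mul]
  have g4 : t₂ * (t₁ * t₂) = t₁ := by
    rw [← mul_assoc, hcomm, g2]
  -- the sum over `T` vanishes on `[E,T]`
  have hs : ∀ v ∈ ComE ρ T, v + ρ t₁ v + ρ t₂ v + ρ (t₁ * t₂) v = 0 := by
    intro v hv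
    refine Submodule.span_induction ?_ ?_ ?_ ?_ hv
    · rintro w ⟨y, hy, u, rfl⟩
      rcases V4A_aux_mem_four T hT t₁ t₂ h₁ h₂ h₁1 h₂1 h12 y hy with rfl | rfl | rfl | rfl
      · simp only [ho, sub_self, map_zero, add_zero]
      · simp only [map_sub, hm, e1, ho, g1, hcomm]
        abel
      · simp only [map_sub, hm, e2, ho, g2, hcomm]
        abel
      · simp only [map_sub, hm, e3, ho, g3, g4]
        abel
    · simp only [map_zero, add_zero]
    · intro x y _ _ hx hy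
      have : x + y + ρ t₁ (x + y) + ρ t₂ (x + y) + ρ (t₁ * t₂) (x + y)
          = (x + ρ t₁ x + ρ t₂ x + ρ (t₁ * t₂) x) + (y + ρ t₁ y + ρ t₂ y + ρ (t₁ * t₂) y) := by
        simp only [map_add]
        abel
      rw [this, hx, hy, add_zero]
    · intro a x _ hx
      have : a • x + ρ t₁ (a • x) + ρ t₂ (a • x) + ρ (t₁ * t₂) (a • x)
          = a • (x + ρ t₁ x + ρ t₂ x + ρ (t₁ * t₂) x) := by
        simp only [map_smul, smul_add]
      rw [this, hx, smul_zero]
  have h3 : ∀ v : E, v + v + v = 0 := by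
    intro v
    calc v + v + v = (1 + 1 + 1 : ZMod 3) • v := by simp only [add_smul, one_smul]
      _ = 0 := by rw [show (1 + 1 + 1 : ZMod 3) = 0 from by decide, zero_smul]
  -- invariance of `[E,T]`
  have hinv : ∀ t ∈ T, ∀ v ∈ ComE ρ T, ρ t v ∈ ComE ρ T := by
    intro t ht v hv
    have : ρ t v = (ρ t v - v) + v := by abel
    rw [this]
    exact Submodule.add_mem _ (sub_mem_ComE ρ ht v) hv
  have hLn : ∀ t ∈ T, t * t = 1 → ∀ v ∈ ComE ρ T, -(v + ρ t v) ∈ Ln ρ T t := by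
    intro t ht htt v hv
    refine ⟨Submodule.neg_mem _ (Submodule.add_mem _ hv (hinv t ht v hv)), ?_⟩
    apply V4A_aux_mem_CE_zpowers
    rw [map_neg, map_add, hm, htt, ho, add_comm]
  intro v hv
  have hdec : v = -(v + ρ t₁ v) + -(v + ρ t₂ v) + -(v + ρ (t₁ * t₂) v) := by
    have hsv := hs v hv
    have h3v := h3 v
    have : v + (v + ρ t₁ v) + (v + ρ t₂ v) + (v + ρ (t₁ * t₂) v) = 0 := by
      calc v + (v + ρ t₁ v) + (v + ρ t₂ v) + (v + ρ (t₁ * t₂) v)
          = (v + v + v) + (v + ρ t₁ v + ρ t₂ v + ρ (t₁ * t₂) v) := by abel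
        _ = 0 := by rw [hsv, h3v, add_zero]
    calc v = v - (v + (v + ρ t₁ v) + (v + ρ t₂ v) + (v + ρ (t₁ * t₂) v)) := by rw [this, sub_zero]
      _ = -(v + ρ t₁ v) + -(v + ρ t₂ v) + -(v + ρ (t₁ * t₂) v) := by abel
  rw [hdec]
  exact Submodule.add_mem _ (Submodule.add_mem _
    (Submodule.mem_sup_left (Submodule.mem_sup_left (hLn t₁ h₁ e1 v hv)))
    (Submodule.mem_sup_left (Submodule.mem_sup_right (hLn t₂ h₂ e2 v hv))))
    (Submodule.mem_sup_right (hLn (t₁ * t₂) h₃ e3 v hv))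

end Cfsg.Agent.S4415P
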