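import Cfsg.Agent.Helper1.S5639Lib

set_option autoImplicit false

/-! # S5639 piece RGRP: the group generated by the rational transvections with centre `u₀` consists
of them. -/

namespace Cfsg.Agent.S5639P

open Matrix
open Cfsg.Agent.Helper28.SLMax Cfsg.Agent.Helper28.SimMax

variable {F : Type*} [Field F] {n : ℕ}

local notation "GLn" => Matrix.GeneralLinearGroup (Fin n) F
local notation "Mat" => Matrix (Fin n) (Fin n) F

namespace RGRP

/-- the matrix of the inverse of a transvection -/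
theorem inv_val_of_E (g : GLn) (u ψ : Fin n → F) (h : ψ ⬝ᵥ u = 0) (hg : (g : Mat) = E u ψ) :
    ((g⁻¹ : GLn) : Mat) = E u (-ψ) := by
  have h1 : ((g⁻¹ : GLn) : Mat) = ((g⁻¹ : GLn) : Mat) * ((g : Mat) * E u (-ψ)) := by
    rw [hg, E_mul_neg u ψ h, mul_one]
  rw [h1, ← mul_assoc, ← Units.val_mul, inv_mul_cancel, Units.val_one, one_mul]

end RGRP

/-- RGRP: the group generated by the rational transvections with centre `u₀` consists of them. -/
theorem RGRP.mem_Rgrp_iff (F₀ : Subfield F) (u₀ : Fin n → F) (g : GLn) :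
    g ∈ Rgrp F₀ u₀ ↔ (g : Mat) ∈ RSet F₀ u₀ := by
  constructor
  · intro hg
    unfold Rgrp at hg
    induction hg using Subgroup.closure_induction with
    | mem x hx => exact hx
    | one =>
      refine ⟨0, Rat.zero, zero_dotProduct _, ?_⟩
      rw [E_zero_right, Units.val_one]
    | mul x y _ _ hx hy =>
      obtain ⟨ψ, hψ, hψu, hxE⟩ := hx
      obtain ⟨ψ', hψ', hψ'u, hyE⟩ := hy
      refine ⟨ψ + ψ', Rat.add hψ hψ', ?_, ?_⟩
      · rw [add_dotProduct, hψu, hψ'u, add_zero]
      · rw [Units.val_mul, hxE, hyE, E_mul_E u₀ ψ ψ' hψu]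
    | inv x _ hx =>
      obtain ⟨ψ, hψ, hψu, hxE⟩ := hx
      refine ⟨-ψ, Rat.neg hψ, ?_, RGRP.inv_val_of_E x u₀ ψ hψu hxE⟩
      rw [neg_dotProduct, hψu, neg_zero]
  · intro hg
    exact Subgroup.subset_closure hg

end Cfsg.Agent.S5639P
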