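import Cfsg.Agent.Helper1.S5639Lib
import Cfsg.Agent.Helper27.S5639RGRP

set_option autoImplicit false

/-! # S5639 piece RP: the group `R` of rational transvections with centre `u₀` is a `p`-group. -/

namespace Cfsg.Agent.S5639P

open Matrix
open Cfsg.Agent.Helper28.SLMax Cfsg.Agent.Helper28.SimMax

variable {F : Type*} [Field F] {n : ℕ}

local notation "GLn" => Matrix.GeneralLinearGroup (Fin n) F
local notation "Mat" => Matrix (Fin n) (Fin n) F

namespace RP

/-- powers of a transvection -/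
theorem val_pow_of_E (g : GLn) (u ψ : Fin n → F) (h : ψ ⬝ᵥ u = 0) (hg : (g : Mat) = E u ψ)
    (k : ℕ) : ((g ^ k : GLn) : Mat) = E u ((k : F) • ψ) := by
  induction k with
  | zero => rw [pow_zero, Units.val_one, Nat.cast_zero, zero_smul, E_zero_right]
  | succ k ih =>
    have hk : ((k : F) • ψ) ⬝ᵥ u = 0 := by rw [smul_dotProduct, h, smul_zero]
    rw [pow_succ, Units.val_mul, ih, hg, E_mul_E u _ ψ hk, Nat.cast_succ, add_smul, one_smul]

end RP

/-- RP: `R` is a `p`-group. -/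
theorem RP.isPGroup (p : ℕ) [Fact p.Prime] [CharP F p] (F₀ : Subfield F) (u₀ : Fin n → F) :
    IsPGroup p (Rgrp F₀ u₀) := by
  intro g
  refine ⟨1, ?_⟩
  obtain ⟨ψ, _, hψu, hgE⟩ := (RGRP.mem_Rgrp_iff F₀ u₀ g.1).1 g.2
  apply Subtype.ext
  apply Units.ext
  rw [pow_one, Subgroup.coe_pow, RP.val_pow_of_E g.1 u₀ ψ hψu hgE p, CharP.cast_eq_zero F p,
    zero_smul, E_zero_right]
  rfl

end Cfsg.Agent.S5639P
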