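import Cfsg.Agent.Helper1.S5639Lib
import Cfsg.Agent.Helper27.S5639RGRP

set_option autoImplicit false

/-! # S5639 piece RCOMM: the group `R` of rational transvections with centre `u₀` is commutative. -/

namespace Cfsg.Agent.S5639P

open Matrix
open Cfsg.Agent.Helper28.SLMax Cfsg.Agent.Helper28.SimMax

variable {F : Type*} [Field F] {n : ℕ}

local notation "GLn" => Matrix.GeneralLinearGroup (Fin n) F
local notation "Mat" => Matrix (Fin n) (Fin n) F

/-- RCOMM: `R` is commutative. -/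
theorem RCOMM.comm (F₀ : Subfield F) (u₀ : Fin n → F) (a b : GLn) (ha : a ∈ Rgrp F₀ u₀)
    (hb : b ∈ Rgrp F₀ u₀) : a * b = b * a := by
  obtain ⟨ψ, _, hψu, haE⟩ := (RGRP.mem_Rgrp_iff F₀ u₀ a).1 ha
  obtain ⟨ψ', _, hψ'u, hbE⟩ := (RGRP.mem_Rgrp_iff F₀ u₀ b).1 hb
  apply Units.ext
  rw [Units.val_mul, Units.val_mul, haE, hbE, E_mul_E u₀ ψ ψ' hψu, E_mul_E u₀ ψ' ψ hψ'u, add_comm]

end Cfsg.Agent.S5639P
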