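import Mathlib
import Cfsg.Agent.Helper1.W2pDefs
import Cfsg.Agent.Helper24.Invariants

set_option autoImplicit false

/-!
# S0720 piece P1: a nontrivial irreducible character cannot have a fixed vector for `A ⊔ B = ⊤`
-/

namespace Cfsg.Agent.Helper27.W2p

open Cfsg Cfsg.Agent.Helper24 Cfsg.Agent.Helper1.W2p MulAction

universe u v

open Representation Module in
theorem fixed_vector_aux {G : Type u} [Group G] [Fintype G] {n : ℕ}
    (ρ : Representation ℂ G (Fin n → ℂ)) (H : Subgroup G) :
    ∑ᶠ g : ↥H, ρ.character (g : G) =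
      (Nat.card H : ℂ) * (finrank ℂ (invariants (ρ.comp H.subtype)) : ℂ) := by
  classical
  haveI : Fintype H := Fintype.ofFinite H
  rw [← classInner_restrict_one_eq_finrank_invariants ρ H]
  unfold classInner
  rw [← mul_assoc, mul_inv_cancel₀, one_mul, finsum_eq_sum_of_fintype]
  · refine Finset.sum_congr rfl ?_
    intro g _
    rw [map_one, mul_one]
  · have := Nat.card_pos (α := H)
    exact_mod_cast this.ne'

open Representation Module in
theorem fixed_vector {G : Type u} [Group G] [Finite G] (A B E : Subgroup G) (hEA : E ≤ A)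
    (hEB : E ≤ B) (hAB : A ⊔ B = ⊤) (Ψ : IrrCharacter G) (hΨ : Ψ ≠ trivIrr G)
    (hE : ∑ᶠ g : ↥E, (Ψ : G → ℂ) (g : G) = (Nat.card E : ℂ))
    (hA : ∑ᶠ g : ↥A, (Ψ : G → ℂ) (g : G) ≠ 0) (hB : ∑ᶠ g : ↥B, (Ψ : G → ℂ) (g : G) ≠ 0) :
    False := by
  classical
  haveI : Fintype G := Fintype.ofFinite G
  obtain ⟨χ, hχ⟩ := Ψ
  have hχ1 : χ ≠ fun _ => 1 := by
    intro h
    apply hΨ
    apply Subtype.ext
    exact h
  obtain ⟨n, ρ, hρ, rfl⟩ := hχ
  haveI := hρ
  simp only at hE hA hB
  rw [fixed_vector_aux ρ E] at hE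
  rw [fixed_vector_aux ρ A] at hA
  rw [fixed_vector_aux ρ B] at hB
  have hcE : (Nat.card E : ℂ) ≠ 0 := by
    have := Nat.card_pos (α := E)
    exact_mod_cast this.ne'
  have hdE : finrank ℂ (invariants (ρ.comp E.subtype)) = 1 := by
    have : (finrank ℂ (invariants (ρ.comp E.subtype)) : ℂ) = 1 := by
      have h2 : (Nat.card E : ℂ) * (finrank ℂ (invariants (ρ.comp E.subtype)) : ℂ) =
          (Nat.card E : ℂ) * 1 := by rw [hE, mul_one]
      exact mul_left_cancel₀ hcE h2
    exact_mod_cast this
  have hdA : finrank ℂ (invariants (ρ.comp A.subtype)) ≠ 0 := by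
    intro h
    apply hA
    rw [h]; simp
  have hdB : finrank ℂ (invariants (ρ.comp B.subtype)) ≠ 0 := by
    intro h
    apply hB
    rw [h]; simp
  -- the invariants of the whole group vanish
  have hinv0 : invariants ρ = ⊥ := by
    haveI : Invertible (Nat.card G : ℂ) := by
      apply invertibleOfNonzero
      have := Nat.card_pos (α := G)
      exact_mod_cast this.ne'
    have h1 := card_inv_mul_sum_char_eq_finrank ρ
    have h2 : classInner ρ.character (fun _ => (1 : ℂ)) = 0 := by
      rw [classInner_of_isIrrCharacter ⟨n, ρ, hρ, rfl⟩ isIrrCharacter_const_one, if_neg hχ1]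
    have h3 : classInner ρ.character (fun _ => (1 : ℂ)) =
        (Nat.card G : ℂ)⁻¹ * ∑ g : G, ρ.character g := by
      unfold classInner
      congr 1
      refine Finset.sum_congr rfl ?_
      intro g _
      rw [map_one, mul_one]
    rw [← h3, h2] at h1
    have h4 : finrank ℂ (invariants ρ) = 0 := by exact_mod_cast h1.symm
    exact Submodule.finrank_eq_zero.mp h4
  have hAE : invariants (ρ.comp A.subtype) ≤ invariants (ρ.comp E.subtype) := by
    intro v hv
    rw [mem_invariants_comp_subtype] at hv ⊢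
    intro h hh
    exact hv h (hEA hh)
  have hBE : invariants (ρ.comp B.subtype) ≤ invariants (ρ.comp E.subtype) := by
    intro v hv
    rw [mem_invariants_comp_subtype] at hv ⊢
    intro h hh
    exact hv h (hEB hh)
  have hAeq : invariants (ρ.comp A.subtype) = invariants (ρ.comp E.subtype) := by
    apply Submodule.eq_of_le_of_finrank_le hAE
    rw [hdE]
    omega
  have hBeq : invariants (ρ.comp B.subtype) = invariants (ρ.comp E.subtype) := by
    apply Submodule.eq_of_le_of_finrank_le hBE
    rw [hdE]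
    omega
  have hEbot : invariants (ρ.comp E.subtype) = ⊥ := by
    rw [eq_bot_iff]
    intro v hv
    have hvA : v ∈ invariants (ρ.comp A.subtype) := by rw [hAeq]; exact hv
    have hvB : v ∈ invariants (ρ.comp B.subtype) := by rw [hBeq]; exact hv
    rw [mem_invariants_comp_subtype] at hvA hvB
    have h1 := apply_eq_of_mem_sup ρ A B v hvA hvB
    rw [hAB] at h1
    rw [← hinv0, mem_invariants]
    intro g
    exact h1 g (Subgroup.mem_top g)
  rw [hEbot, finrank_bot] at hdE
  exact absurd hdE (by norm_num)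

end Cfsg.Agent.Helper27.W2p
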