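import Cfsg.Agent.Helper29.OC2K.Defs
import Cfsg.Agent.Helper29.OC2K.STAB
import Cfsg.Agent.Helper29.OC2K.BLK
import Cfsg.Agent.Helper29.OC2K.CMP1
import Cfsg.Agent.Helper29.OC2K.CMP2
import Cfsg.Agent.Helper29.OC2K.STEP0
import Cfsg.Agent.Helper29.OC2K.REFLMEM
import Cfsg.Agent.Helper29.OC2K.SIEGMEM
import Cfsg.Agent.Helper29.OC2K.GEOC

set_option autoImplicit false
set_option linter.unusedSectionVars false
set_option linter.unusedVariables false

/-! # S5694 CHAR2, `q = 2` route 2 (designer helper10), piece Q2GEO (helper27): geometry in a block. -/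

namespace Cfsg.Agent.OC2K

open Matrix Cfsg.Agent.Helper28.Sg Cfsg.Agent.Helper28.Spin Cfsg.Agent.Helper12.OrthGen
  Cfsg.Agent.S2614 Cfsg.Agent.S5683P Cfsg.Agent.Helper28.NDM

variable {F : Type*} [Field F] {t k : ℕ} {ι : Type} [Fintype ι] [DecidableEq ι] {Q : QuadraticForm F (ι → F)} [QHyp Q] {D : Fin t → Submodule F (ι → F)}
  {M : Subgroup (OGq Q)}

/-- `mem_perpIn` without finiteness of `F` -/
theorem Q2.GEO.aux_mem (N : Submodule F (ι → F)) (T : Set (ι → F)) (x : ι → F) :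
    x ∈ perpIn Q N T ↔ x ∈ N ∧ ∀ v ∈ T, B Q v x = 0 := by
  unfold perpIn
  rw [Submodule.mem_inf, LinearMap.BilinForm.mem_orthogonal_iff]
  constructor
  · rintro ⟨h1, h2⟩
    exact ⟨h1, fun v hv => h2 v (Submodule.subset_span hv)⟩
  · rintro ⟨h1, h2⟩
    refine ⟨h1, fun s hs => ?_⟩
    show B Q s x = 0
    induction hs using Submodule.span_induction with
    | mem v hv => exact h2 v hv
    | zero => simp [B]
    | add a b _ _ ha hb =>
      show QuadraticMap.polar _ (a + b) x = 0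
      rw [QuadraticMap.polar_add_left]
      simp only [B] at ha hb
      rw [ha, hb, add_zero]
    | smul c a _ ha =>
      show QuadraticMap.polar _ (c • a) x = 0
      rw [QuadraticMap.polar_smul_left]
      simp only [B] at ha
      rw [ha, smul_zero]

/-- `finrank_perpIn` without finiteness of `F` -/
theorem Q2.GEO.aux_finrank (hQ : (QuadraticMap.polarBilin Q).Nondegenerate)
    (N : Submodule F (ι → F)) (T : Finset (ι → F)) :
    Module.finrank F N ≤ Module.finrank F (perpIn Q N (T : Set (ι → F))) + T.card := by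
  unfold perpIn
  set X := LinearMap.BilinForm.orthogonal (QuadraticMap.polarBilin Q)
    (Submodule.span F (T : Set (ι → F))) with hX
  have h1 := LinearMap.BilinForm.finrank_orthogonal hQ (Submodule.span F (T : Set (ι → F)))
  have h2 : Module.finrank F (Submodule.span F (T : Set (ι → F))) ≤ T.card :=
    finrank_span_finset_le_card T
  have h3 := Submodule.finrank_sup_add_finrank_inf_eq N X
  have h4 : Module.finrank F ↥(N ⊔ X) ≤ Module.finrank F (ι → F) := Submodule.finrank_le _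
  have h5 : Module.finrank F (Submodule.span F (T : Set (ι → F))) ≤ Module.finrank F (ι → F) :=
    Submodule.finrank_le _
  rw [← hX] at h1
  omega

/-- CODIM2: the vectors of `D b` perpendicular to two given vectors contain a nonsingular one. -/
theorem Q2.GEO.codim2 (hD : HD Q k D)
    (hts : ∀ (c : Fin t) (W : Submodule F (ι → F)), W ≤ D c → (∀ x ∈ W, Q x = 0) →
      Module.finrank F W + 3 ≤ k) (b : Fin t) (p p' : ι → F) :
    ∃ z ∈ D b, Q z ≠ 0 ∧ B (Q) p z = 0 ∧ B (Q) p' z = 0 := by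
  classical
  by_contra hcon
  push Not at hcon
  set T : Finset (ι → F) := {p, p'} with hT
  set W := perpIn Q (D b) (T : Set (ι → F)) with hW
  have hWle : W ≤ D b := fun x hx => ((Q2.GEO.aux_mem (D b) _ x).mp hx).1
  have hsing : ∀ x ∈ W, Q x = 0 := by
    intro x hx
    obtain ⟨hxD, hxT⟩ := (Q2.GEO.aux_mem (D b) _ x).mp hx
    by_contra hQx
    have h1 : B Q p x = 0 := hxT p (by simp [hT])
    have h2 : B Q p' x = 0 := hxT p' (by simp [hT])
    exact hcon x hxD hQx h1 h2
  have h1 := hts b W hWle hsing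
  have h2 : Module.finrank F (D b) ≤ Module.finrank F W + T.card :=
    Q2.GEO.aux_finrank (Q := Q) QHyp.nd (D b) T
  have h3 : T.card ≤ 2 := Finset.card_le_two
  rw [hD.rank b] at h2
  omega

/-- a nonsingular vector of `D b` with prescribed value `1` against `x ∈ D b`, `x ≠ 0` -/
theorem Q2.GEO.nonsing_one (hD : HD Q k D)
    (hts : ∀ (c : Fin t) (W : Submodule F (ι → F)), W ≤ D c → (∀ x ∈ W, Q x = 0) →
      Module.finrank F W + 3 ≤ k) {b : Fin t} {x : ι → F} (hx : x ∈ D b) (hx0 : x ≠ 0) :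
    ∃ a ∈ D b, Q a ≠ 0 ∧ B (Q) x a = 1 := by
  obtain ⟨y, hy, hxy⟩ := hD.nd b x hx hx0
  set y₀ := (B Q x y)⁻¹ • y with hy₀
  have hy₀D : y₀ ∈ D b := (D b).smul_mem _ hy
  have hxy₀ : B Q x y₀ = 1 := by
    rw [hy₀]
    show QuadraticMap.polar _ x (_ • y) = 1
    rw [QuadraticMap.polar_smul_right, smul_eq_mul]
    exact inv_mul_cancel₀ hxy
  by_cases hQ : Q y₀ = 0
  · obtain ⟨z, hz, hQz, hxz, hyz⟩ := Q2.GEO.codim2 hD hts b x y₀
    refine ⟨y₀ + z, (D b).add_mem hy₀D hz, ?_, ?_⟩
    · rw [Q_add, hQ, hyz, zero_add, add_zero]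
      exact hQz
    · show QuadraticMap.polar _ x (y₀ + z) = 1
      rw [QuadraticMap.polar_add_right]
      simp only [B] at hxy₀ hxz
      rw [hxy₀, hxz, add_zero]
  · exact ⟨y₀, hy₀D, hQ, hxy₀⟩

/-- a nonzero singular vector of `D b` perpendicular to a nonsingular `x ∈ D b` (char 2, finite field) -/
theorem Q2.GEO.sing_perp [Fintype F] (h2 : (2 : F) = 0) (hD : HD Q k D) {b : Fin t} {x : ι → F}
    (hx : x ∈ D b) (hQx : Q x ≠ 0) :
    ∃ u ∈ D b, u ≠ 0 ∧ Q u = 0 ∧ B (Q) u x = 0 := by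
  classical
  have : CharP F 2 := CharTwo.of_one_ne_zero_of_two_eq_zero one_ne_zero h2
  have hx0 : x ≠ 0 := by
    intro h0
    apply hQx
    rw [h0, map_zero]
  have hxx : B Q x x = 0 := by rw [B_self, h2, zero_mul]
  set T : Finset (ι → F) := {x} with hT
  set W := perpIn Q (D b) (T : Set (ι → F)) with hW
  have h1 : Module.finrank F (D b) ≤ Module.finrank F W + T.card :=
    Q2.GEO.aux_finrank (Q := Q) QHyp.nd (D b) T
  rw [hD.rank b, hT, Finset.card_singleton] at h1
  have hk3 := hD.k3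
  -- a vector of `W` outside `F x`
  have hex : ∃ y ∈ W, y ∉ Submodule.span F ({x} : Set (ι → F)) := by
    by_contra hcon
    push Not at hcon
    have hle : W ≤ Submodule.span F ({x} : Set (ι → F)) := hcon
    have h3 := Submodule.finrank_mono hle
    rw [finrank_span_singleton hx0] at h3
    omega
  obtain ⟨y, hyW, hyx⟩ := hex
  obtain ⟨hyD, hyT⟩ := (Q2.GEO.aux_mem (D b) _ y).mp hyW
  have hxy : B Q x y = 0 := hyT x (by simp [hT])
  have hyx' : B Q y x = 0 := by rw [B_comm]; exact hxy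
  obtain ⟨s, hs⟩ := FiniteField.isSquare_of_char_two (ringChar.eq F 2) (Q y / Q x)
  refine ⟨y + s • x, (D b).add_mem hyD ((D b).smul_mem _ hx), ?_, ?_, ?_⟩
  · intro h0
    apply hyx
    have : y = (-s) • x := by
      rw [neg_smul]
      exact eq_neg_of_add_eq_zero_left h0
    rw [this]
    exact Submodule.smul_mem _ _ (Submodule.subset_span rfl)
  · rw [Q_add, Q_smul]
    show _ + _ + QuadraticMap.polar _ y (s • x) = 0
    rw [QuadraticMap.polar_smul_right]
    simp only [B] at hyx'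
    rw [hyx', smul_zero, add_zero, ← hs, div_mul_cancel₀ _ hQx]
    have : Q y + Q y = 2 * Q y := by ring
    rw [this, h2, zero_mul]
  · show QuadraticMap.polar _ (y + s • x) x = 0
    rw [QuadraticMap.polar_add_left, QuadraticMap.polar_smul_left]
    simp only [B] at hyx' hxx
    rw [hyx', hxx, smul_zero, add_zero]

/-- for `u ∈ D b` singular nonzero and `x ∈ D b` nonsingular: `y ∈ D b` with `y ⊥ u`, `B y x = 1` -/
theorem Q2.GEO.partner (hD : HD Q k D) {b : Fin t} {u x : ι → F} (hu : u ∈ D b) (hu0 : u ≠ 0)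
    (hQu : Q u = 0) (hx : x ∈ D b) (hQx : Q x ≠ 0) :
    ∃ y ∈ D b, B (Q) u y = 0 ∧ B (Q) y x = 1 := by
  have hex : ∃ w ∈ D b, B Q u w = 0 ∧ B Q w x ≠ 0 := by
    by_contra hcon
    push Not at hcon
    obtain ⟨s, hs⟩ := GEOC.perp_perp (D b) (BLK.ndon hD b) hu hu0 hQu hx hcon
    apply hQx
    rw [hs, Q_smul, hQu, mul_zero]
  obtain ⟨w, hw, huw, hwx⟩ := hex
  refine ⟨(B Q w x)⁻¹ • w, (D b).smul_mem _ hw, ?_, ?_⟩
  · show QuadraticMap.polar _ u (_ • w) = 0
    rw [QuadraticMap.polar_smul_right]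
    simp only [B] at huw
    rw [huw, smul_zero]
  · show QuadraticMap.polar _ (_ • w) x = 1
    rw [QuadraticMap.polar_smul_left, smul_eq_mul]
    exact inv_mul_cancel₀ hwx

end Cfsg.Agent.OC2K
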