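import Mathlib
import Cfsg.Agent.Helper10.S2092.DefsP

set_option autoImplicit false
set_option linter.unusedSectionVars false
set_option linter.unusedVariables false

/-! S2092 piece COMMPOS (driver helper10; helper27): the commutator relations of the root group
datum of type `C_n`: a simple root subgroup normalizes `UhE s`. The auxiliary lemmas (namespace
`COMMPOS`) are shared with the piece COMMNEG. -/

namespace Cfsg.Agent.S2092P

open scoped commutatorElement
open Matrix Cfsg.Agent.S3352P Cfsg.Agent.S2096P Cfsg.Agent.S2094P Cfsg.Agent.RGD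

variable {n : ℕ} {F : Type*} [Field F] {M : Type*} [Group M] {Ys : J n → J n → F → M}
  {Yl : J n → F → M}

namespace COMMPOS

open POSCOMB

/-! ### formal consequences of the relations -/

theorem Ys_zero' (hY : CRel Ys Yl) {a b : J n} (hab : IsRoot a b) : Ys a b (0 : F) = 1 := by
  have h := hY.adds a b hab 0 0
  rw [add_zero] at h
  exact (mul_eq_left (a := Ys a b (0 : F))).1 h.symm

theorem Ys_inv' (hY : CRel Ys Yl) {a b : J n} (hab : IsRoot a b) (t : F) :
    (Ys a b t)⁻¹ = Ys a b (-t) := by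
  apply inv_eq_of_mul_eq_one_right
  rw [← hY.adds a b hab, add_neg_cancel, Ys_zero' hY hab]

theorem Yl_zero' (hY : CRel Ys Yl) (a : J n) : Yl a (0 : F) = 1 := by
  have h := hY.addl a 0 0
  rw [add_zero] at h
  exact (mul_eq_left (a := Yl a (0 : F))).1 h.symm

theorem Yl_inv' (hY : CRel Ys Yl) (a : J n) (t : F) : (Yl a t)⁻¹ = Yl a (-t) := by
  apply inv_eq_of_mul_eq_one_right
  rw [← hY.addl a, add_neg_cancel, Yl_zero' hY]

theorem zl_sg (a : J n) (t : F) : zl Yl a (sgF F a * t) = Yl a t := by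
  unfold zl
  rw [← mul_assoc, sgF_mul_self, one_mul]

/-- the elements of a short root subgroup -/
theorem mem_U_lg' (hY : CRel Ys Yl) {a b : J n} (hab : IsRoot a b) {g : M} :
    g ∈ (RB.lg a b : RB n).U Ys (zl Yl) ↔ ∃ t : F, g = Ys a b t := by
  constructor
  · intro hg
    induction hg using Subgroup.closure_induction with
    | mem x hx => exact hx
    | one => exact ⟨0, (Ys_zero' hY hab).symm⟩
    | mul x y _ _ hx hy =>
      obtain ⟨s, rfl⟩ := hx
      obtain ⟨t, rfl⟩ := hy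
      exact ⟨s + t, (hY.adds a b hab s t).symm⟩
    | inv x _ hx =>
      obtain ⟨s, rfl⟩ := hx
      exact ⟨-s, Ys_inv' hY hab s⟩
  · rintro ⟨t, rfl⟩
    exact Subgroup.subset_closure ⟨t, rfl⟩

/-- the elements of a long root subgroup -/
theorem mem_U_sh' (hY : CRel Ys Yl) (a : J n) {g : M} :
    g ∈ (RB.sh a : RB n).U Ys (zl Yl) ↔ ∃ t : F, g = Yl a t := by
  constructor
  · intro hg
    induction hg using Subgroup.closure_induction with
    | mem x hx =>
      obtain ⟨t, rfl⟩ := hx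
      exact ⟨sgF F a * t, rfl⟩
    | one => exact ⟨0, (Yl_zero' hY a).symm⟩
    | mul x y _ _ hx hy =>
      obtain ⟨s, rfl⟩ := hx
      obtain ⟨t, rfl⟩ := hy
      exact ⟨s + t, (hY.addl a s t).symm⟩
    | inv x _ hx =>
      obtain ⟨s, rfl⟩ := hx
      exact ⟨-s, Yl_inv' hY a s⟩
  · rintro ⟨t, rfl⟩
    exact Subgroup.subset_closure ⟨sgF F a * t, (zl_sg a t).symm⟩

/-- a short positive root element other than that of `s` lies in `UhE s` -/
theorem lg_mem {s : RootB n} {a b : J n} (hab : IsRoot a b) (hpos : rk a < rk b)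
    (h1 : RB.lg a b ≠ s.1) (h2 : RB.lg a b ≠ s.1.alt) (t : F) :
    Ys a b t ∈ (datumC Ys Yl).UhE s := by
  apply Subgroup.subset_closure
  refine ⟨⟨RB.lg a b, hab⟩, hpos, ?_, ?_, Subgroup.subset_closure ⟨t, rfl⟩⟩
  · intro h; exact h1 (congrArg Subtype.val h)
  · intro h; exact h2 (congrArg Subtype.val h)

/-- a long positive root element other than that of `s` lies in `UhE s` -/
theorem sh_mem {s : RootB n} {a : J n} (hpos : ∃ i, a = Sum.inl i)
    (h1 : RB.sh a ≠ s.1) (h2 : RB.sh a ≠ s.1.alt) (t : F) :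
    Yl a t ∈ (datumC Ys Yl).UhE s := by
  apply Subgroup.subset_closure
  refine ⟨⟨RB.sh a, trivial⟩, hpos, ?_, ?_,
    Subgroup.subset_closure ⟨sgF F a * t, (zl_sg a t).symm⟩⟩
  · intro h; exact h1 (congrArg Subtype.val h)
  · intro h; exact h2 (congrArg Subtype.val h)

/-- conjugation by a commutator -/
theorem conj_eq_comm_mul (z x : M) : z * x * z⁻¹ = ⁅z, x⁆ * x := by
  rw [commutatorElement_def]; group

theorem conj_eq_comm_inv_mul (z x : M) : z * x * z⁻¹ = ⁅x, z⁆⁻¹ * x := by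
  rw [commutatorElement_def]; group

theorem conj_of_commute {z x : M} (h : Commute z x) : z * x * z⁻¹ = x := by
  rw [h.eq, mul_inv_cancel_right]

/-! ### the names -/

theorem isRoot_ee {k l : Fin n} (h : k ≠ l) : IsRoot (Sum.inl k : J n) (Sum.inl l) :=
  ⟨fun e => h (Sum.inl_injective e), by rw [ng_inl]; intro e; cases e⟩

theorem isRoot_ef {k l : Fin n} (h : k ≠ l) : IsRoot (Sum.inl k : J n) (Sum.inr l) := by
  refine ⟨?_, ?_⟩
  · intro e; cases e
  · rw [ng_inr]; intro e; exact h (Sum.inl_injective e)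

theorem ne_of_isRoot_ee {k l : Fin n} (h : IsRoot (Sum.inl k : J n) (Sum.inl l)) : k ≠ l :=
  fun e => h.1 (by rw [e])

theorem ne_of_isRoot_ef {k l : Fin n} (h : IsRoot (Sum.inl k : J n) (Sum.inr l)) : k ≠ l :=
  fun e => h.2 (by rw [e, ng_inr])

/-- the two names of the root `e_k + e_l` -/
theorem Ys_ef_swap (hY : CRel Ys Yl) {k l : Fin n} (h : k ≠ l) (t : F) :
    Ys (Sum.inl k) (Sum.inr l) t = Ys (Sum.inl l) (Sum.inr k) t := by
  have h1 := hY.flip (Sum.inl l) (Sum.inr k) (isRoot_ef (Ne.symm h)) t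
  rw [ng_inr, ng_inl, sgF_inl, sgF_inr] at h1
  rw [h1]
  congr 1
  ring

/-- the other name of the root `e_l - e_k` -/
theorem Ys_ff (hY : CRel Ys Yl) {k l : Fin n} (h : k ≠ l) (t : F) :
    Ys (Sum.inr k) (Sum.inr l) t = Ys (Sum.inl l) (Sum.inl k) (-t) := by
  have h1 := hY.flip (Sum.inl l) (Sum.inl k) (isRoot_ee (Ne.symm h)) t
  rw [ng_inl, ng_inl, sgF_inl, sgF_inl] at h1
  rw [h1]
  congr 1
  ring

/-! ### membership in `UhE s`, `s = e_i - e_j` short simple -/

theorem lg_ee_ne_alt (k : Fin n) (b : J n) (i j : Fin n) :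
    (RB.lg (Sum.inl k) b : RB n) ≠ (RB.lg (Sum.inl i) (Sum.inl j) : RB n).alt := by
  intro h
  simp only [RB.alt, ng_inl] at h
  injection h with h1 _
  cases h1

theorem ee_mem {i j : Fin n} (hsv : IsRoot (Sum.inl i : J n) (Sum.inl j)) {k l : Fin n}
    (hkl : k.val < l.val) (hne : ¬ (k = i ∧ l = j)) (t : F) :
    Ys (Sum.inl k) (Sum.inl l) t ∈
      (datumC Ys Yl).UhE ⟨RB.lg (Sum.inl i) (Sum.inl j), hsv⟩ := by
  apply lg_mem (isRoot_ee (fun e => by rw [e] at hkl; exact lt_irrefl _ hkl))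
  · rw [rk_inl, rk_inl]; exact hkl
  · intro h
    injection h with h1 h2
    exact hne ⟨Sum.inl_injective h1, Sum.inl_injective h2⟩
  · exact lg_ee_ne_alt k _ i j

theorem ef_mem {i j : Fin n} (hsv : IsRoot (Sum.inl i : J n) (Sum.inl j)) {k l : Fin n}
    (hkl : k ≠ l) (t : F) :
    Ys (Sum.inl k) (Sum.inr l) t ∈
      (datumC Ys Yl).UhE ⟨RB.lg (Sum.inl i) (Sum.inl j), hsv⟩ := by
  apply lg_mem (isRoot_ef hkl)
  · rw [rk_inl, rk_inr]
    have := k.isLt
    have := l.isLt
    omega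
  · intro h
    injection h with _ h2
    cases h2
  · exact lg_ee_ne_alt k _ i j

theorem l_mem {i j : Fin n} (hsv : IsRoot (Sum.inl i : J n) (Sum.inl j)) (k : Fin n) (t : F) :
    Yl (Sum.inl k) t ∈ (datumC Ys Yl).UhE ⟨RB.lg (Sum.inl i) (Sum.inl j), hsv⟩ := by
  apply sh_mem ⟨k, rfl⟩
  · intro h; cases h
  · intro h; cases h

/-! ### `s = e_i - e_j`, `j = i + 1`: conjugation by the root elements of `s` -/

/-- `z = x_s(c)`, `x` a root element of `e_k - e_l` -/
theorem pos_ee (hY : CRel Ys Yl) {i j : Fin n} (hij : j.val = i.val + 1)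
    (hsv : IsRoot (Sum.inl i : J n) (Sum.inl j)) {k l : Fin n} (hkl : k.val < l.val)
    (hne : ¬ (k = i ∧ l = j)) (c u : F) :
    Ys (Sum.inl i) (Sum.inl j) c * Ys (Sum.inl k) (Sum.inl l) u *
      (Ys (Sum.inl i) (Sum.inl j) c)⁻¹ ∈
      (datumC Ys Yl).UhE ⟨RB.lg (Sum.inl i) (Sum.inl j), hsv⟩ := by
  have hx := ee_mem (Ys := Ys) (Yl := Yl) hsv hkl hne u
  have hklne : k ≠ l := fun e => by rw [e] at hkl; exact lt_irrefl _ hkl
  by_cases hkj : k = j
  · subst hkj
    have hil : i.val < l.val := by omega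
    have hilne : i ≠ l := fun e => by rw [e] at hil; exact lt_irrefl _ hil
    rw [conj_eq_comm_mul, hY.mul _ _ _ hsv (isRoot_ee hklne) (isRoot_ee hilne)]
    refine Subgroup.mul_mem _ (ee_mem hsv hil ?_ _) hx
    rintro ⟨_, rfl⟩
    exact hklne rfl
  · by_cases hli : l = i
    · subst hli
      have hkj' : k.val < j.val := by omega
      have hkjne : k ≠ j := hkj
      rw [conj_eq_comm_inv_mul, hY.mul _ _ _ (isRoot_ee hklne) hsv (isRoot_ee hkjne)]
      refine Subgroup.mul_mem _ (Subgroup.inv_mem _ (ee_mem hsv hkj' ?_ _)) hx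
      rintro ⟨rfl, _⟩
      exact hklne rfl
    · rw [conj_of_commute]
      · exact hx
      · apply hY.comm _ _ _ _ hsv (isRoot_ee hklne)
        · intro e; exact hkj (Sum.inl_injective e).symm
        · intro e; exact hli (Sum.inl_injective e).symm
        · rw [ng_inl]; intro e; cases e
        · rw [ng_inl]; intro e; cases e
        · rw [ng_inl]; intro e; cases e
        · rw [ng_inl]; intro e; cases e

/-- `z = x_{-s}(c)`, `x` a root element of `e_k - e_l` -/
theorem neg_ee (hY : CRel Ys Yl) {i j : Fin n} (hij : j.val = i.val + 1)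
    (hsv : IsRoot (Sum.inl i : J n) (Sum.inl j)) {k l : Fin n} (hkl : k.val < l.val)
    (hne : ¬ (k = i ∧ l = j)) (c u : F) :
    Ys (Sum.inl j) (Sum.inl i) c * Ys (Sum.inl k) (Sum.inl l) u *
      (Ys (Sum.inl j) (Sum.inl i) c)⁻¹ ∈
      (datumC Ys Yl).UhE ⟨RB.lg (Sum.inl i) (Sum.inl j), hsv⟩ := by
  have hx := ee_mem (Ys := Ys) (Yl := Yl) hsv hkl hne u
  have hklne : k ≠ l := fun e => by rw [e] at hkl; exact lt_irrefl _ hkl
  have hji : IsRoot (Sum.inl j : J n) (Sum.inl i) := hsv.symm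
  by_cases hki : k = i
  · subst hki
    have hlj : l ≠ j := fun e => hne ⟨rfl, e⟩
    have hjl : j.val < l.val := by
      have : l.val ≠ j.val := fun e => hlj (Fin.ext e)
      omega
    have hjlne : j ≠ l := fun e => by rw [e] at hjl; exact lt_irrefl _ hjl
    rw [conj_eq_comm_mul, hY.mul _ _ _ hji (isRoot_ee hklne) (isRoot_ee hjlne)]
    refine Subgroup.mul_mem _ (ee_mem hsv hjl ?_ _) hx
    rintro ⟨rfl, _⟩
    omega
  · by_cases hlj : l = j
    · subst hlj
      have hki' : k.val < i.val := by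
        have : k.val ≠ i.val := fun e => hki (Fin.ext e)
        omega
      have hkine : k ≠ i := hki
      rw [conj_eq_comm_inv_mul, hY.mul _ _ _ (isRoot_ee hklne) hji (isRoot_ee hkine)]
      refine Subgroup.mul_mem _ (Subgroup.inv_mem _ (ee_mem hsv hki' ?_ _)) hx
      rintro ⟨rfl, _⟩
      exact hkine rfl
    · rw [conj_of_commute]
      · exact hx
      · apply hY.comm _ _ _ _ hji (isRoot_ee hklne)
        · intro e; exact hki (Sum.inl_injective e).symm
        · intro e; exact hlj (Sum.inl_injective e).symm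
        · rw [ng_inl]; intro e; cases e
        · rw [ng_inl]; intro e; cases e
        · rw [ng_inl]; intro e; cases e
        · rw [ng_inl]; intro e; cases e

/-- `z` a root element of `e_p - e_q`, `x` a root element of `e_q + e_l` -/
theorem ss_ef_core (hY : CRel Ys Yl) {i j : Fin n} (hsv : IsRoot (Sum.inl i : J n) (Sum.inl j))
    {p q : Fin n} (hpq : p ≠ q) {l : Fin n} (hql : q ≠ l) (c u : F) :
    Ys (Sum.inl p) (Sum.inl q) c * Ys (Sum.inl q) (Sum.inr l) u *
      (Ys (Sum.inl p) (Sum.inl q) c)⁻¹ ∈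
      (datumC Ys Yl).UhE ⟨RB.lg (Sum.inl i) (Sum.inl j), hsv⟩ := by
  have hx := ef_mem (Ys := Ys) (Yl := Yl) hsv hql u
  by_cases hlp : l = p
  · subst hlp
    have h := hY.orthC _ _ (isRoot_ee hpq) c u
    rw [ng_inl] at h
    rw [conj_eq_comm_mul, h]
    exact Subgroup.mul_mem _ (l_mem hsv _ _) hx
  · have hpl : p ≠ l := fun e => hlp e.symm
    rw [conj_eq_comm_mul, hY.mul _ _ _ (isRoot_ee hpq) (isRoot_ef hql) (isRoot_ef hpl)]
    exact Subgroup.mul_mem _ (ef_mem hsv hpl _) hx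

/-- `z` a root element of `e_p - e_q`, `x` a root element of `e_k + e_l` -/
theorem ss_ef (hY : CRel Ys Yl) {i j : Fin n} (hsv : IsRoot (Sum.inl i : J n) (Sum.inl j))
    {p q : Fin n} (hpq : p ≠ q) {k l : Fin n} (hkl : k ≠ l) (c u : F) :
    Ys (Sum.inl p) (Sum.inl q) c * Ys (Sum.inl k) (Sum.inr l) u *
      (Ys (Sum.inl p) (Sum.inl q) c)⁻¹ ∈
      (datumC Ys Yl).UhE ⟨RB.lg (Sum.inl i) (Sum.inl j), hsv⟩ := by
  have hcomm : ∀ {k l : Fin n}, k ≠ l → k ≠ q → l ≠ p → l ≠ q →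
      Ys (Sum.inl p) (Sum.inl q) c * Ys (Sum.inl k) (Sum.inr l) u *
        (Ys (Sum.inl p) (Sum.inl q) c)⁻¹ ∈
        (datumC Ys Yl).UhE ⟨RB.lg (Sum.inl i) (Sum.inl j), hsv⟩ := by
    intro k l hkl hkq hlp hlq
    rw [conj_of_commute]
    · exact ef_mem hsv hkl u
    · apply hY.comm _ _ _ _ (isRoot_ee hpq) (isRoot_ef hkl)
      · intro e; exact hkq (Sum.inl_injective e).symm
      · intro e; cases e
      · rw [ng_inl]; intro e; cases e
      · rw [ng_inr]; intro e; exact hlp (Sum.inl_injective e).symm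
      · rw [ng_inl]; intro e; cases e
      · rw [ng_inr]; intro e; exact hlq (Sum.inl_injective e).symm
  by_cases hkq : k = q
  · subst hkq
    exact ss_ef_core hY hsv hpq hkl c u
  · by_cases hlq : l = q
    · subst hlq
      rw [Ys_ef_swap hY hkl]
      exact ss_ef_core hY hsv hpq (Ne.symm hkl) c u
    · by_cases hlp : l = p
      · subst hlp
        rw [Ys_ef_swap hY hkl]
        exact hcomm (Ne.symm hkl) hpq hkl hkq
      · exact hcomm hkl hkq hlp hlq

/-- `z` a root element of `e_p - e_q`, `x` a root element of `2 e_k` -/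
theorem ss_l (hY : CRel Ys Yl) {i j : Fin n} (hsv : IsRoot (Sum.inl i : J n) (Sum.inl j))
    {p q : Fin n} (hpq : p ≠ q) (k : Fin n) (c u : F) :
    Ys (Sum.inl p) (Sum.inl q) c * Yl (Sum.inl k) u * (Ys (Sum.inl p) (Sum.inl q) c)⁻¹ ∈
      (datumC Ys Yl).UhE ⟨RB.lg (Sum.inl i) (Sum.inl j), hsv⟩ := by
  have hx := l_mem (Ys := Ys) (Yl := Yl) hsv k u
  by_cases hkq : k = q
  · subst hkq
    have h := hY.sl _ _ (isRoot_ee hpq) c u
    rw [ng_inl] at h
    rw [conj_eq_comm_mul, h]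
    exact Subgroup.mul_mem _ (Subgroup.mul_mem _ (ef_mem hsv hpq _) (l_mem hsv _ _)) hx
  · rw [conj_of_commute]
    · exact hx
    · apply hY.slcomm _ _ _ (isRoot_ee hpq)
      · intro e; exact hkq (Sum.inl_injective e)
      · rw [ng_inl]; intro e; cases e

/-! ### membership in `UhE s`, `s = 2 e_m` long simple -/

theorem ee_mem_l {m : Fin n} {k l : Fin n} (hkl : k.val < l.val) (t : F) :
    Ys (Sum.inl k) (Sum.inl l) t ∈ (datumC Ys Yl).UhE ⟨RB.sh (Sum.inl m), trivial⟩ := by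
  apply lg_mem (isRoot_ee (fun e => by rw [e] at hkl; exact lt_irrefl _ hkl))
  · rw [rk_inl, rk_inl]; exact hkl
  · intro h; cases h
  · intro h; cases h

theorem ef_mem_l {m : Fin n} {k l : Fin n} (hkl : k ≠ l) (t : F) :
    Ys (Sum.inl k) (Sum.inr l) t ∈ (datumC Ys Yl).UhE ⟨RB.sh (Sum.inl m), trivial⟩ := by
  apply lg_mem (isRoot_ef hkl)
  · rw [rk_inl, rk_inr]
    have := k.isLt
    have := l.isLt
    omega
  · intro h; cases h
  · intro h; cases h

theorem l_mem_l {m : Fin n} {k : Fin n} (hkm : k ≠ m) (t : F) :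
    Yl (Sum.inl k) t ∈ (datumC Ys Yl).UhE ⟨RB.sh (Sum.inl m), trivial⟩ := by
  apply sh_mem ⟨k, rfl⟩
  · intro h
    injection h with h1
    exact hkm (Sum.inl_injective h1)
  · intro h
    simp only [RB.alt] at h
    injection h with h1
    exact hkm (Sum.inl_injective h1)

/-! ### `s = 2 e_m`, `m = n - 1` -/

theorem posl_ee (hY : CRel Ys Yl) {m : Fin n} {k l : Fin n} (hkl : k.val < l.val) (c u : F) :
    Yl (Sum.inl m) c * Ys (Sum.inl k) (Sum.inl l) u * (Yl (Sum.inl m) c)⁻¹ ∈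
      (datumC Ys Yl).UhE ⟨RB.sh (Sum.inl m), trivial⟩ := by
  have hx := ee_mem_l (Ys := Ys) (Yl := Yl) (m := m) hkl u
  have hklne : k ≠ l := fun e => by rw [e] at hkl; exact lt_irrefl _ hkl
  by_cases hlm : l = m
  · subst hlm
    have h := hY.sl _ _ (isRoot_ee hklne) u c
    rw [ng_inl] at h
    rw [conj_eq_comm_inv_mul, h]
    exact Subgroup.mul_mem _ (Subgroup.inv_mem _
      (Subgroup.mul_mem _ (ef_mem_l hklne _) (l_mem_l hklne _))) hx
  · rw [conj_of_commute]
    · exact hx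
    · apply Commute.symm
      apply hY.slcomm _ _ _ (isRoot_ee hklne)
      · intro e; exact hlm (Sum.inl_injective e).symm
      · rw [ng_inl]; intro e; cases e

theorem posl_ef (hY : CRel Ys Yl) {m : Fin n} {k l : Fin n} (hkl : k ≠ l) (c u : F) :
    Yl (Sum.inl m) c * Ys (Sum.inl k) (Sum.inr l) u * (Yl (Sum.inl m) c)⁻¹ ∈
      (datumC Ys Yl).UhE ⟨RB.sh (Sum.inl m), trivial⟩ := by
  rw [conj_of_commute]
  · exact ef_mem_l hkl u
  · apply Commute.symm
    apply hY.slcomm _ _ _ (isRoot_ef hkl)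
    · intro e; cases e
    · rw [ng_inl]; intro e; cases e

theorem posl_l (hY : CRel Ys Yl) {m : Fin n} {k : Fin n} (hkm : k ≠ m) (c u : F) :
    Yl (Sum.inl m) c * Yl (Sum.inl k) u * (Yl (Sum.inl m) c)⁻¹ ∈
      (datumC Ys Yl).UhE ⟨RB.sh (Sum.inl m), trivial⟩ := by
  rw [conj_of_commute]
  · exact l_mem_l hkm u
  · apply hY.ll
    rw [ng_inl]; intro e; cases e

theorem negl_ee (hY : CRel Ys Yl) {m : Fin n} (hm : m.val + 1 = n) {k l : Fin n}
    (hkl : k.val < l.val) (c u : F) :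
    Yl (Sum.inr m) c * Ys (Sum.inl k) (Sum.inl l) u * (Yl (Sum.inr m) c)⁻¹ ∈
      (datumC Ys Yl).UhE ⟨RB.sh (Sum.inl m), trivial⟩ := by
  have hklne : k ≠ l := fun e => by rw [e] at hkl; exact lt_irrefl _ hkl
  rw [conj_of_commute]
  · exact ee_mem_l hkl u
  · apply Commute.symm
    apply hY.slcomm _ _ _ (isRoot_ee hklne)
    · intro e; cases e
    · rw [ng_inl]
      intro e
      have e' : m = k := Sum.inr_injective e
      have := l.isLt
      rw [← e'] at hkl
      omega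

theorem negl_ef_core (hY : CRel Ys Yl) {m : Fin n} (hm : m.val + 1 = n) {k : Fin n}
    (hkm : k ≠ m) (c u : F) :
    Yl (Sum.inr m) c * Ys (Sum.inl k) (Sum.inr m) u * (Yl (Sum.inr m) c)⁻¹ ∈
      (datumC Ys Yl).UhE ⟨RB.sh (Sum.inl m), trivial⟩ := by
  have hx := ef_mem_l (Ys := Ys) (Yl := Yl) (m := m) hkm u
  have h := hY.sl _ _ (isRoot_ef hkm) u c
  rw [ng_inr] at h
  rw [conj_eq_comm_inv_mul, h]
  have hkm' : k.val < m.val := by
    have : k.val ≠ m.val := fun e => hkm (Fin.ext e)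
    have := k.isLt
    omega
  exact Subgroup.mul_mem _ (Subgroup.inv_mem _
    (Subgroup.mul_mem _ (ee_mem_l hkm' _) (l_mem_l hkm _))) hx

theorem negl_ef (hY : CRel Ys Yl) {m : Fin n} (hm : m.val + 1 = n) {k l : Fin n}
    (hkl : k ≠ l) (c u : F) :
    Yl (Sum.inr m) c * Ys (Sum.inl k) (Sum.inr l) u * (Yl (Sum.inr m) c)⁻¹ ∈
      (datumC Ys Yl).UhE ⟨RB.sh (Sum.inl m), trivial⟩ := by
  by_cases hlm : l = m
  · subst hlm
    exact negl_ef_core hY hm hkl c u
  · by_cases hkm : k = m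
    · subst hkm
      rw [Ys_ef_swap hY hkl]
      exact negl_ef_core hY hm hlm c u
    · rw [conj_of_commute]
      · exact ef_mem_l hkl u
      · apply Commute.symm
        apply hY.slcomm _ _ _ (isRoot_ef hkl)
        · intro e; exact hlm (Sum.inr_injective e).symm
        · rw [ng_inl]; intro e; exact hkm (Sum.inr_injective e).symm

theorem negl_l (hY : CRel Ys Yl) {m : Fin n} {k : Fin n} (hkm : k ≠ m) (c u : F) :
    Yl (Sum.inr m) c * Yl (Sum.inl k) u * (Yl (Sum.inr m) c)⁻¹ ∈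
      (datumC Ys Yl).UhE ⟨RB.sh (Sum.inl m), trivial⟩ := by
  rw [conj_of_commute]
  · exact l_mem_l hkm u
  · apply hY.ll
    rw [ng_inr]; intro e; exact hkm (Sum.inl_injective e)

/-! ### dispatch over the positive root elements -/

theorem pos_cases (hY : CRel Ys Yl) {S : Subgroup M} {z : M} {r : RootB n} (hr : r.1.Pos) {x : M}
    (hx : x ∈ (datumC Ys Yl).U r)
    (hee : ∀ k l : Fin n, k.val < l.val →
      (r.1 = RB.lg (Sum.inl k) (Sum.inl l) ∨ r.1 = RB.lg (Sum.inr l) (Sum.inr k)) →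
      ∀ u : F, z * Ys (Sum.inl k) (Sum.inl l) u * z⁻¹ ∈ S)
    (hef : ∀ k l : Fin n, k ≠ l → r.1 = RB.lg (Sum.inl k) (Sum.inr l) →
      ∀ u : F, z * Ys (Sum.inl k) (Sum.inr l) u * z⁻¹ ∈ S)
    (hl : ∀ k : Fin n, r.1 = RB.sh (Sum.inl k) → ∀ u : F, z * Yl (Sum.inl k) u * z⁻¹ ∈ S) :
    z * x * z⁻¹ ∈ S := by
  obtain ⟨r, hrv⟩ := r
  cases r with
  | lg a b =>
    obtain ⟨u, rfl⟩ := (mem_U_lg' hY hrv).1 hx
    have hr' : rk a < rk b := hr
    cases a with
    | inl k =>
      cases b with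
      | inl l =>
        rw [rk_inl, rk_inl] at hr'
        exact hee k l hr' (Or.inl rfl) u
      | inr l => exact hef k l (ne_of_isRoot_ef hrv) rfl u
    | inr k =>
      cases b with
      | inl l =>
        exfalso
        rw [rk_inl, rk_inr] at hr'
        have := k.isLt
        have := l.isLt
        omega
      | inr l =>
        rw [rk_inr, rk_inr] at hr'
        have hlk : l.val < k.val := by
          have := k.isLt
          have := l.isLt
          omega
        have hkl : k ≠ l := fun e => by rw [e] at hlk; exact lt_irrefl _ hlk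
        rw [Ys_ff hY hkl]
        exact hee l k hlk (Or.inr rfl) (-u)
  | sh a =>
    obtain ⟨u, rfl⟩ := (mem_U_sh' hY a).1 hx
    obtain ⟨k, rfl⟩ := hr
    exact hl k rfl u

end COMMPOS

open COMMPOS

/-- COMMPOS: a simple root subgroup normalizes `UhE s` -/
theorem comm_mem_UhE_pos (hY : CRel Ys Yl) {s : RootB n} (hs : s.1.Simple) {z : M}
    (hz : z ∈ (datumC Ys Yl).U s) {r : RootB n} (hr : r.1.Pos) (h1 : r ≠ s)
    (h2 : r ≠ (datumC Ys Yl).alt s) {x : M} (hx : x ∈ (datumC Ys Yl).U r) :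
    z * x * z⁻¹ ∈ (datumC Ys Yl).UhE s := by
  obtain ⟨s, hsv⟩ := s
  cases s with
  | lg p p' =>
    obtain ⟨i, j, hij, rfl, rfl⟩ := hs
    obtain ⟨c, rfl⟩ := (mem_U_lg' hY hsv).1 hz
    have hne : i ≠ j := ne_of_isRoot_ee hsv
    apply pos_cases hY hr hx
    · intro k l hkl hrk u
      apply pos_ee hY hij hsv hkl _ c u
      rintro ⟨rfl, rfl⟩
      rcases hrk with hrk | hrk
      · exact h1 (Subtype.ext hrk)
      · exact h2 (Subtype.ext hrk)
    · intro k l hkl _ u
      exact ss_ef hY hsv hne hkl c u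
    · intro k _ u
      exact ss_l hY hsv hne k c u
  | sh a =>
    obtain ⟨m, hm, rfl⟩ := hs
    obtain ⟨c, rfl⟩ := (mem_U_sh' hY _).1 hz
    apply pos_cases hY hr hx
    · intro k l hkl _ u
      exact posl_ee hY hkl c u
    · intro k l hkl _ u
      exact posl_ef hY hkl c u
    · intro k hrk u
      apply posl_l hY _ c u
      rintro rfl
      exact h1 (Subtype.ext hrk)

end Cfsg.Agent.S2092P
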