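import Mathlib
import Cfsg.Agent.Helper10.S2092.DefsP
import Cfsg.Agent.Helper27.S2092COMMPOS

set_option autoImplicit false
set_option linter.unusedSectionVars false
set_option linter.unusedVariables false

/-! S2092 piece COMMNEG (driver helper10; helper27): the root subgroup of the NEGATIVE of a simple
root `s` of the root group datum of type `C_n` normalizes `UhE s`. (The case lemmas are in
`Cfsg.Agent.Helper27.S2092COMMPOS`, namespace `COMMPOS`.) -/

namespace Cfsg.Agent.S2092P

open scoped commutatorElement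
open Matrix Cfsg.Agent.S3352P Cfsg.Agent.S2096P Cfsg.Agent.S2094P Cfsg.Agent.RGD

variable {n : ℕ} {F : Type*} [Field F] {M : Type*} [Group M] {Ys : J n → J n → F → M}
  {Yl : J n → F → M}

open COMMPOS

/-- COMMNEG: the opposite of a simple root subgroup normalizes `UhE s` -/
theorem comm_mem_UhE_neg (hY : CRel Ys Yl) {s : RootB n} (hs : s.1.Simple) {z : M}
    (hz : z ∈ (datumC Ys Yl).U ((datumC Ys Yl).neg s)) {r : RootB n} (hr : r.1.Pos) (h1 : r ≠ s)
    (h2 : r ≠ (datumC Ys Yl).alt s) {x : M} (hx : x ∈ (datumC Ys Yl).U r) :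
    z * x * z⁻¹ ∈ (datumC Ys Yl).UhE s := by
  obtain ⟨s, hsv⟩ := s
  cases s with
  | lg p p' =>
    obtain ⟨i, j, hij, rfl, rfl⟩ := hs
    have hz' : z ∈ (RB.lg (Sum.inl j) (Sum.inl i) : RB n).U Ys (zl Yl) := hz
    obtain ⟨c, rfl⟩ := (mem_U_lg' hY (IsRoot.symm hsv)).1 hz'
    have hne : i ≠ j := ne_of_isRoot_ee hsv
    apply pos_cases hY hr hx
    · intro k l hkl hrk u
      apply neg_ee hY hij hsv hkl _ c u
      rintro ⟨rfl, rfl⟩
      rcases hrk with hrk | hrk
      · exact h1 (Subtype.ext hrk)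
      · exact h2 (Subtype.ext hrk)
    · intro k l hkl _ u
      exact ss_ef hY hsv (Ne.symm hne) hkl c u
    · intro k _ u
      exact ss_l hY hsv (Ne.symm hne) k c u
  | sh a =>
    obtain ⟨m, hm, rfl⟩ := hs
    have hz' : z ∈ (RB.sh (Sum.inr m) : RB n).U Ys (zl Yl) := hz
    obtain ⟨c, rfl⟩ := (mem_U_sh' hY _).1 hz'
    apply pos_cases hY hr hx
    · intro k l hkl _ u
      exact negl_ee hY hm hkl c u
    · intro k l hkl _ u
      exact negl_ef hY hm hkl c u
    · intro k hrk u
      apply negl_l hY _ c u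
      rintro rfl
      exact h1 (Subtype.ext hrk)

end Cfsg.Agent.S2092P
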