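import Mathlib
import Cfsg.Agent.Helper28.S3000Defs

/-! S3001 (board `s3001qpieces`): the QUOTIENT DICTIONARY.  For a subgroup `R` of `G` the section group
`QG R = N_G(R)/R`, the projection `qpi R : N_G(R) →* QG R`, the image `hat R X = (X ∩ N_G(R)) R / R` of a subgroup `X` of `G`,
the full preimage `pre R Y` (a subgroup of `G` between `R` and `N_G(R)`) of a subgroup `Y` of `QG R`, and
`fixMod R U E = C_U(E mod R)`.  For S3001: `R = V0 p V P = C_V(O^p(P))`.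
Conventions as in `Helper28.S3000Defs`: `fixV V A = C_V(A) = V ⊓ centralizer A`, `cjs g A = g A g⁻¹`. -/

set_option autoImplicit false

namespace Cfsg.Agent.S3001P

open Cfsg.Agent.S2789P Cfsg.Agent.S2999P Cfsg.Agent.S3000P

universe u

variable {G : Type u} [Group G]

/-- `O^p(P)` as a subgroup of `G`: generated by the `p'`-elements of `P` -/
def OpP (p : ℕ) (P : Subgroup G) : Subgroup G :=
  Subgroup.closure {g : G | g ∈ P ∧ (orderOf g).Coprime p}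

/-- `V₀ = C_V(O^p(P))` -/
def V0 (p : ℕ) (V P : Subgroup G) : Subgroup G := fixV V (OpP p P)

/-- `N_G(R)` -/
abbrev NR (R : Subgroup G) : Subgroup G := Subgroup.normalizer (R : Set G)

/-- the section group `N_G(R)/R` -/
abbrev QG (R : Subgroup G) : Type u := ↥(NR R) ⧸ R.subgroupOf (NR R)

/-- the projection `N_G(R) →* N_G(R)/R` -/
def qpi (R : Subgroup G) : ↥(NR R) →* QG R := QuotientGroup.mk' (R.subgroupOf (NR R))

/-- the image `X̂ = (X ∩ N_G(R)) R / R` of a subgroup `X` of `G` in `N_G(R)/R` -/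
def hat (R X : Subgroup G) : Subgroup (QG R) := (X.subgroupOf (NR R)).map (qpi R)

/-- the full preimage in `N_G(R)`, as a subgroup of `G`, of a subgroup `Y` of `N_G(R)/R` -/
def pre (R : Subgroup G) (Y : Subgroup (QG R)) : Subgroup G := (Y.comap (qpi R)).map (NR R).subtype

/-- `C_U(E mod R)`: the elements of `U` which `E` centralises modulo `R` (see `mem_fixMod`) -/
def fixMod (R U E : Subgroup G) : Subgroup G :=
  U ⊓ pre R (Subgroup.centralizer ((hat R E : Subgroup (QG R)) : Set (QG R)))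

/-- the standing hypotheses of S3001 -/
structure Hyp1 (p : ℕ) (V P : Subgroup G) : Prop where
  hV : Cfsg.IsElementaryAbelian p V
  hPV : P ≤ Subgroup.normalizer (V : Set G)
  hf : P ⊓ Subgroup.centralizer (V : Set G) = ⊥
  hmin : Cfsg.IsPMinimal p ↥P
  hOp : Cfsg.pCore p ↥P = ⊥

/-- the restriction of `qpi R` to a subgroup `X ≤ N_G(R)`, as a map onto `hat R X` -/
def hatHom {R X : Subgroup G} (hX : X ≤ NR R) : ↥X →* ↥(hat R X) where
  toFun x := ⟨qpi R ⟨(x : G), hX x.2⟩, ⟨⟨(x : G), hX x.2⟩, x.2, rfl⟩⟩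
  map_one' := by
    apply Subtype.ext
    change qpi R ⟨((1 : ↥X) : G), _⟩ = 1
    have : (⟨((1 : ↥X) : G), hX (1 : ↥X).2⟩ : ↥(NR R)) = 1 := Subtype.ext (by simp)
    rw [this, map_one]
  map_mul' a b := by
    apply Subtype.ext
    change qpi R ⟨((a * b : ↥X) : G), _⟩ = qpi R ⟨(a : G), _⟩ * qpi R ⟨(b : G), _⟩
    rw [← map_mul]
    rfl

theorem coe_hatHom {R X : Subgroup G} (hX : X ≤ NR R) (x : ↥X) :
    ((hatHom hX x : ↥(hat R X)) : QG R) = qpi R ⟨(x : G), hX x.2⟩ := rfl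

/-- The pulled-back conclusion of S3000 for the action of `P` on `V / R`: everything is stated inside `G`.
`fixMod R U E = C_U(E mod R)`; the `i`-th section is `([V,E i] R) / C_{[V,E i]R}(E i mod R)`. -/
def ConclPB (p : ℕ) (R V P Tg : Subgroup G) : Prop :=
  ∃ (r : ℕ) (E : Fin r → Subgroup G), 1 ≤ r ∧ (∀ i, E i ≤ P) ∧ (∀ i j, i ≠ j → ⁅E i, E j⁆ = ⊥) ∧
    (∀ i, E i ⊓ (⨆ j ∈ {j | j ≠ i}, E j) = ⊥) ∧ (⨆ i, E i) ⊔ Tg = P ∧
    (∀ i j, ∃ t ∈ Tg, (E i).map (MulAut.conj t).toMonoidHom = E j) ∧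
    fixMod R V (⨆ i, E i) ⊔ (⨆ i, ⁅V, E i⁆) = V ∧
    (∀ i j, i ≠ j → ⁅⁅V, E i⁆, E j⁆ ≤ R) ∧
    ∀ i, ∃ n : ℕ, 1 ≤ n ∧
      ((∃ (F : Type) (_ : Field F) (_ : Fintype F), Fintype.card F = p ^ n ∧
        Nonempty (↥(E i) ≃* Matrix.SpecialLinearGroup (Fin 2) F) ∧
        Cfsg.ActsAsSL2OnSection F ⊤ (E i) (⁅V, E i⁆ ⊔ R) (fixMod R (⁅V, E i⁆ ⊔ R) (E i))) ∨
      (p = 2 ∧ Nonempty (↥(E i) ≃* Equiv.Perm (Fin (2 ^ n + 1))) ∧
        Cfsg.ActsAsOddPermModuleOnSection (2 ^ n + 1) ⊤ (E i) (⁅V, E i⁆ ⊔ R) (fixMod R (⁅V, E i⁆ ⊔ R) (E i))))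

end Cfsg.Agent.S3001P
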