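import Mathlib
import Cfsg.Agent.Helper27.S3001QDefs

/-! S3001 quotient dictionary, board `s3001qpieces`, piece G1: membership lemmas. -/

set_option autoImplicit false

namespace Cfsg.Agent.S3001P

open Cfsg.Agent.S2789P Cfsg.Agent.S2999P Cfsg.Agent.S3000P

universe u

variable {G : Type u} [Group G]

theorem qpi_surj (R : Subgroup G) : Function.Surjective (qpi R) :=
  QuotientGroup.mk'_surjective _

theorem qpi_eq_one_iff {R : Subgroup G} (a : ↥(NR R)) : qpi R a = 1 ↔ (a : G) ∈ R := by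
  unfold qpi
  rw [QuotientGroup.mk'_apply, QuotientGroup.eq_one_iff, Subgroup.mem_subgroupOf]

theorem qpi_eq_iff {R : Subgroup G} (a b : ↥(NR R)) : qpi R a = qpi R b ↔ (a : G)⁻¹ * (b : G) ∈ R := by
  unfold qpi
  rw [QuotientGroup.mk'_apply, QuotientGroup.mk'_apply, QuotientGroup.eq, Subgroup.mem_subgroupOf]
  simp

theorem mem_hat {R X : Subgroup G} {y : QG R} : y ∈ hat R X ↔ ∃ x : ↥(NR R), (x : G) ∈ X ∧ qpi R x = y := by
  unfold hat
  rw [Subgroup.mem_map]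
  constructor
  · rintro ⟨x, hx, rfl⟩
    exact ⟨x, Subgroup.mem_subgroupOf.1 hx, rfl⟩
  · rintro ⟨x, hx, rfl⟩
    exact ⟨x, Subgroup.mem_subgroupOf.2 hx, rfl⟩

theorem qpi_mem_hat {R X : Subgroup G} (x : ↥(NR R)) (hx : (x : G) ∈ X) : qpi R x ∈ hat R X :=
  mem_hat.2 ⟨x, hx, rfl⟩

theorem mem_pre {R : Subgroup G} {Y : Subgroup (QG R)} {x : G} : x ∈ pre R Y ↔ ∃ h : x ∈ NR R, qpi R ⟨x, h⟩ ∈ Y := by
  unfold pre
  rw [Subgroup.mem_map]
  constructor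
  · rintro ⟨a, ha, rfl⟩
    exact ⟨a.2, ha⟩
  · rintro ⟨h, hx⟩
    exact ⟨⟨x, h⟩, hx, rfl⟩

theorem R_le_NR (R : Subgroup G) : R ≤ NR R := Subgroup.le_normalizer

theorem pre_le_NR {R : Subgroup G} (Y : Subgroup (QG R)) : pre R Y ≤ NR R := by
  intro x hx
  exact (mem_pre.1 hx).1

theorem R_le_pre {R : Subgroup G} (Y : Subgroup (QG R)) : R ≤ pre R Y := by
  intro x hx
  refine mem_pre.2 ⟨R_le_NR R hx, ?_⟩
  have : qpi R ⟨x, R_le_NR R hx⟩ = 1 := (qpi_eq_one_iff _).2 hx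
  rw [this]
  exact Y.one_mem

theorem hat_mono {R X Y : Subgroup G} (h : X ≤ Y) : hat R X ≤ hat R Y := by
  intro y hy
  obtain ⟨x, hx, rfl⟩ := mem_hat.1 hy
  exact qpi_mem_hat x (h hx)

theorem pre_mono {R : Subgroup G} {Y Z : Subgroup (QG R)} (h : Y ≤ Z) : pre R Y ≤ pre R Z := by
  intro x hx
  obtain ⟨hN, hY⟩ := mem_pre.1 hx
  exact mem_pre.2 ⟨hN, h hY⟩

end Cfsg.Agent.S3001P
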