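import Mathlib
import Cfsg.Agent.Helper27.S3001QDefs

/-! S3001 quotient dictionary (board `s3001qpieces`): the bodies of `Concl` and `ConclPB` for an explicit family `E`,
so that extra clauses on the family (e.g. `T`-invariance, TINV) can be pulled back together with them. -/

set_option autoImplicit false

namespace Cfsg.Agent.S3001P

open Cfsg.Agent.S2789P Cfsg.Agent.S2999P Cfsg.Agent.S3000P

universe u

variable {G : Type u} [Group G]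

/-- the body of `Concl` (the conclusion of S3000) for a given family `E` -/
def ConclB (p : ℕ) (V P Tg : Subgroup G) (r : ℕ) (E : Fin r → Subgroup G) : Prop :=
  1 ≤ r ∧ (∀ i, E i ≤ P) ∧ (∀ i j, i ≠ j → ⁅E i, E j⁆ = ⊥) ∧
    (∀ i, E i ⊓ (⨆ j ∈ {j | j ≠ i}, E j) = ⊥) ∧ (⨆ i, E i) ⊔ Tg = P ∧
    (∀ i j, ∃ t ∈ Tg, (E i).map (MulAut.conj t).toMonoidHom = E j) ∧
    (V ⊓ Subgroup.centralizer (((⨆ i, E i) : Subgroup G) : Set G)) ⊔ (⨆ i, ⁅V, E i⁆) = V ∧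
    (∀ i j, i ≠ j → ⁅⁅V, E i⁆, E j⁆ = ⊥) ∧
    ∀ i, ∃ n : ℕ, 1 ≤ n ∧
      ((∃ (F : Type) (_ : Field F) (_ : Fintype F), Fintype.card F = p ^ n ∧
        Nonempty (↥(E i) ≃* Matrix.SpecialLinearGroup (Fin 2) F) ∧
        Cfsg.ActsAsSL2OnSection F ⊤ (E i) ⁅V, E i⁆ (⁅V, E i⁆ ⊓ Subgroup.centralizer ((E i : Subgroup G) : Set G))) ∨
      (p = 2 ∧ Nonempty (↥(E i) ≃* Equiv.Perm (Fin (2 ^ n + 1))) ∧
        Cfsg.ActsAsOddPermModuleOnSection (2 ^ n + 1) ⊤ (E i) ⁅V, E i⁆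
          (⁅V, E i⁆ ⊓ Subgroup.centralizer ((E i : Subgroup G) : Set G))))

theorem Concl_iff {p : ℕ} {V P Tg : Subgroup G} :
    Concl p V P Tg ↔ ∃ (r : ℕ) (E : Fin r → Subgroup G), ConclB p V P Tg r E := Iff.rfl

/-- the body of `ConclPB` for a given family `E` -/
def ConclPBB (p : ℕ) (R V P Tg : Subgroup G) (r : ℕ) (E : Fin r → Subgroup G) : Prop :=
  1 ≤ r ∧ (∀ i, E i ≤ P) ∧ (∀ i j, i ≠ j → ⁅E i, E j⁆ = ⊥) ∧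
    (∀ i, E i ⊓ (⨆ j ∈ {j | j ≠ i}, E j) = ⊥) ∧ (⨆ i, E i) ⊔ Tg = P ∧
    (∀ i j, ∃ t ∈ Tg, (E i).map (MulAut.conj t).toMonoidHom = E j) ∧
    fixMod R V (⨆ i, E i) ⊔ (⨆ i, ⁅V, E i⁆) = V ∧
    (∀ i j, i ≠ j → ⁅⁅V, E i⁆, E j⁆ ≤ R) ∧
    ∀ i, ∃ n : ℕ, 1 ≤ n ∧
      ((∃ (F : Type) (_ : Field F) (_ : Fintype F), Fintype.card F = p ^ n ∧
        Nonempty (↥(E i) ≃* Matrix.SpecialLinearGroup (Fin 2) F) ∧
        Cfsg.ActsAsSL2OnSection F ⊤ (E i) (⁅V, E i⁆ ⊔ R) (fixMod R (⁅V, E i⁆ ⊔ R) (E i))) ∨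
      (p = 2 ∧ Nonempty (↥(E i) ≃* Equiv.Perm (Fin (2 ^ n + 1))) ∧
        Cfsg.ActsAsOddPermModuleOnSection (2 ^ n + 1) ⊤ (E i) (⁅V, E i⁆ ⊔ R) (fixMod R (⁅V, E i⁆ ⊔ R) (E i))))

theorem ConclPB_iff {p : ℕ} {R V P Tg : Subgroup G} :
    ConclPB p R V P Tg ↔ ∃ (r : ℕ) (E : Fin r → Subgroup G), ConclPBB p R V P Tg r E := Iff.rfl

end Cfsg.Agent.S3001P
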