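import Mathlib
import Cfsg.Agent.Helper27.S3001G1
import Cfsg.Agent.Helper3.S3001S1
import Cfsg.Agent.Helper3.S3001S2a
import Cfsg.Agent.Helper14.S3001G8

/-! S3001 quotient dictionary, board `s3001qpieces`, piece S2b: `P` is faithful on `V / V₀`. -/

set_option autoImplicit false

namespace Cfsg.Agent.S3001P

open Cfsg.Agent.S2789P Cfsg.Agent.S2999P Cfsg.Agent.S3000P

universe u

variable {G : Type u} [Group G] {p : ℕ} {V P : Subgroup G}

/-- `K = C_P(V / V₀)` as a subgroup of `↥P` -/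
def S2b_aux_K (p : ℕ) (V P : Subgroup G) : Subgroup ↥P := (fixMod (V0 p V P) P V).subgroupOf P

theorem S2b_aux_mem_K (H : Hyp1 p V P) (k : ↥P) :
    k ∈ S2b_aux_K p V P ↔ ∀ v ∈ V, (k : G) * v * (k : G)⁻¹ * v⁻¹ ∈ V0 p V P := by
  unfold S2b_aux_K
  rw [Subgroup.mem_subgroupOf, mem_fixMod (P_le_NR H.hPV) (V_le_NR H.hV)]
  constructor
  · rintro ⟨-, h⟩ v hv
    have h1 := (V0 p V P).inv_mem (h v hv)
    have e : (v * (k : G) * v⁻¹ * (k : G)⁻¹)⁻¹ = (k : G) * v * (k : G)⁻¹ * v⁻¹ := by group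
    rwa [e] at h1
  · intro h
    refine ⟨k.2, fun v hv => ?_⟩
    have h1 := (V0 p V P).inv_mem (h v hv)
    have e : ((k : G) * v * (k : G)⁻¹ * v⁻¹)⁻¹ = v * (k : G) * v⁻¹ * (k : G)⁻¹ := by group
    rwa [e] at h1

theorem S2b_aux_K_normal (H : Hyp1 p V P) : (S2b_aux_K p V P).Normal := by
  constructor
  intro k hk g
  rw [S2b_aux_mem_K H] at hk ⊢
  intro v hv
  have hgN : (g : G) ∈ Subgroup.normalizer (V : Set G) := H.hPV g.2
  have hv' : (g : G)⁻¹ * v * (g : G) ∈ V := by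
    rw [Subgroup.mem_normalizer_iff] at hgN
    have h2 := (hgN ((g : G)⁻¹ * v * (g : G))).2
    apply h2
    have e : (g : G) * ((g : G)⁻¹ * v * (g : G)) * (g : G)⁻¹ = v := by group
    rw [e]; exact hv
  have h1 := hk _ hv'
  have hgR : (g : G) ∈ NR (V0 p V P) := P_le_NR H.hPV g.2
  have h2 := (Subgroup.mem_normalizer_iff.1 hgR _).1 h1
  have e : ((g * k * g⁻¹ : ↥P) : G) * v * ((g * k * g⁻¹ : ↥P) : G)⁻¹ * v⁻¹ =
      (g : G) * ((k : G) * ((g : G)⁻¹ * v * (g : G)) * (k : G)⁻¹ * ((g : G)⁻¹ * v * (g : G))⁻¹) * (g : G)⁻¹ := by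
    simp only [Subgroup.coe_mul, Subgroup.coe_inv]
    group
  rw [e]
  exact h2

theorem S2b_aux_K_pgroup [Finite G] [Fact p.Prime] (H : Hyp1 p V P) : IsPGroup p ↥(S2b_aux_K p V P) := by
  have hp : p.Prime := Fact.out
  rintro ⟨k, hk⟩
  have ho : orderOf k ≠ 0 := (orderOf_pos k).ne'
  obtain ⟨a, m, hm, hom⟩ := Nat.exists_eq_pow_mul_and_not_dvd ho p hp.ne_one
  refine ⟨a, ?_⟩
  have hyK : k ^ p ^ a ∈ S2b_aux_K p V P := Subgroup.pow_mem _ hk _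
  have hord : orderOf (k ^ p ^ a) = m := by
    rw [orderOf_pow_of_dvd (pow_ne_zero _ hp.ne_zero) ⟨m, hom⟩, hom,
      Nat.mul_div_cancel_left _ (pow_pos hp.pos a)]
  have hordG : orderOf (((k ^ p ^ a : ↥P)) : G) = m := by
    rw [← hord]; exact Subgroup.orderOf_coe _
  have hcop : (orderOf (((k ^ p ^ a : ↥P)) : G)).Coprime p := by
    rw [hordG]
    exact ((Nat.Prime.coprime_iff_not_dvd hp).2 hm).symm
  have h1 : (((k ^ p ^ a : ↥P)) : G) = 1 :=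
    QFAITH_pprime H (k ^ p ^ a).2 hcop ((S2b_aux_mem_K H _).1 hyK)
  apply Subtype.ext
  apply Subtype.ext
  simpa using h1

theorem QFAITH [Finite G] [Fact p.Prime] (H : Hyp1 p V P) :
    hat (V0 p V P) P ⊓ Subgroup.centralizer ((hat (V0 p V P) V : Subgroup (QG (V0 p V P))) : Set (QG (V0 p V P))) = ⊥ := by
  have hK : S2b_aux_K p V P = ⊥ := by
    have h1 : S2b_aux_K p V P ≤ Cfsg.pCore p ↥P := le_sSup ⟨S2b_aux_K_normal H, S2b_aux_K_pgroup H⟩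
    rw [H.hOp] at h1
    exact le_bot_iff.1 h1
  rw [eq_bot_iff]
  intro y hy
  obtain ⟨hyP, hyC⟩ := Subgroup.mem_inf.1 hy
  obtain ⟨x, hxP, rfl⟩ := mem_hat.1 hyP
  have hxK : (⟨(x : G), hxP⟩ : ↥P) ∈ S2b_aux_K p V P := by
    unfold S2b_aux_K
    rw [Subgroup.mem_subgroupOf]
    refine Subgroup.mem_inf.2 ⟨hxP, mem_pre.2 ⟨x.2, ?_⟩⟩
    exact hyC
  rw [hK, Subgroup.mem_bot] at hxK
  have hx1 : (x : G) = 1 := congrArg Subtype.val hxK
  have : x = 1 := Subtype.ext hx1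
  rw [this, map_one]
  exact Subgroup.mem_bot.2 rfl

end Cfsg.Agent.S3001P
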