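import Mathlib
import Cfsg.Agent.Helper27.S3001G1
import Cfsg.Agent.Helper6.S3001G5
import Cfsg.Agent.Helper10.S3001G7
import Cfsg.Agent.Helper3.S3001S1
import Cfsg.Agent.Helper17.S3001S3a
import Cfsg.Agent.Helper5.S3001S3b
import Cfsg.Agent.Helper8.S3001S4
import Cfsg.Agent.Helper27.S3001S2b
import Cfsg.Agent.Helper14.PMinimal
import Cfsg.Agent.Helper14.PCore

/-! S3001 quotient dictionary, board `s3001qpieces`, piece S6: the hypotheses of S3000 hold for `(V/V₀, P̂)`. -/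

set_option autoImplicit false

namespace Cfsg.Agent.S3001P

open Cfsg.Agent.S2789P Cfsg.Agent.S2999P Cfsg.Agent.S3000P

universe u

variable {G : Type u} [Group G] {p : ℕ} {V P : Subgroup G}

theorem QHYP [Finite G] [Fact p.Prime] (H : Hyp1 p V P) (T : Sylow p ↥P) (M : Subgroup ↥P) (hM : IsCoatom M)
    (hTM : (T : Subgroup ↥P) ≤ M) :
    ∃ (That : Sylow p ↥(hat (V0 p V P) P)) (Mhat : Subgroup ↥(hat (V0 p V P) P)),
      TT That = hat (V0 p V P) (TT T) ∧ MM Mhat = hat (V0 p V P) (MM M) ∧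
      Hyp p (hat (V0 p V P) V) (hat (V0 p V P) P) That Mhat := by
  have hPN : P ≤ NR (V0 p V P) := P_le_NR H.hPV
  have hPR : P ⊓ V0 p V P = ⊥ := P_inf_V0 H.hV H.hf
  have hsurj : Function.Surjective (hatHom hPN) := hatHom_surj hPN
  let e : ↥P ≃* ↥(hat (V0 p V P) P) :=
    MulEquiv.ofBijective (hatHom hPN) ⟨hatHom_inj hPN hPR, hsurj⟩
  have hee : e.toMonoidHom = hatHom hPN := rfl
  have hmin' : Cfsg.IsPMinimal p ↥(hat (V0 p V P) P) := Cfsg.Agent.Helper14.isPMinimal_of_mulEquiv e H.hmin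
  have hM' : IsCoatom (M.map (hatHom hPN)) := by
    have := (OrderIso.isCoatom_iff e.mapSubgroup M).2 hM
    exact this
  have hTM' : ((T.mapSurjective hsurj : Sylow p ↥(hat (V0 p V P) P)) : Subgroup ↥(hat (V0 p V P) P)) ≤
      M.map (hatHom hPN) := by
    rw [Sylow.coe_mapSurjective]
    exact Subgroup.map_mono hTM
  refine ⟨T.mapSurjective hsurj, M.map (hatHom hPN), ?_, map_hatHom hPN M, ?_⟩
  · change ((T.mapSurjective hsurj : Sylow p ↥(hat (V0 p V P) P)) : Subgroup ↥(hat (V0 p V P) P)).map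
      (hat (V0 p V P) P).subtype = _
    rw [Sylow.coe_mapSurjective]
    exact map_hatHom hPN _
  · refine ⟨hat_elab H.hV, hat_le_normalizer H.hPV, QFAITH H, hmin', hM', hTM', ?_, ?_⟩
    · rw [← Cfsg.Agent.Helper14.pCore_map_equiv p e, H.hOp, Subgroup.map_bot]
    · exact HCT_of_fix (hat_elab H.hV) (hat_le_normalizer H.hPV) hmin' _ _ hM' hTM' (QFIXP H) (QVNE H)

end Cfsg.Agent.S3001P
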