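import Mathlib
import Cfsg.Agent.Helper27.S3001G1
import Cfsg.Agent.Helper27.S3001QDefs2
import Cfsg.Agent.Helper27.S3001S2b
import Cfsg.Agent.Helper27.S3001S6
import Cfsg.Agent.Helper3.S3001S1
import Cfsg.Agent.Helper14.S3001S5
import Cfsg.Agent.Helper14.S3001S7B
import Cfsg.Agent.Helper15.S3001S8

/-! S3001 quotient dictionary, board `s3001qpieces`, piece TOP: S3000 (resp. the strong S3000 = S3000 + `T`-invariance of the
family) for `(V/V₀, P̂)` pulled back to `G`.  The S3000 statement for the section group is a hypothesis `hS`. -/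

set_option autoImplicit false

namespace Cfsg.Agent.S3001P

open Cfsg.Agent.S2789P Cfsg.Agent.S2999P Cfsg.Agent.S3000P

universe u

variable {G : Type u} [Group G] {p : ℕ} {V P : Subgroup G}

/-- TOP, with S3000 for the section group as a hypothesis -/
theorem QCONCL_core [Finite G] [Fact p.Prime] (H : Hyp1 p V P)
    (hS : ∀ (That : Sylow p ↥(hat (V0 p V P) P)) (Mhat : Subgroup ↥(hat (V0 p V P) P)),
      Hyp p (hat (V0 p V P) V) (hat (V0 p V P) P) That Mhat →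
      (∃ A' : Subgroup (QG (V0 p V P)), A' ≤ hat (V0 p V P) P ∧
        ¬ A' ≤ Subgroup.centralizer ((hat (V0 p V P) V : Subgroup (QG (V0 p V P))) : Set (QG (V0 p V P))) ∧
        Cfsg.IsBestOffenderOn p (hat (V0 p V P) V) A') →
      Concl p (hat (V0 p V P) V) (hat (V0 p V P) P) (TT That))
    (hoff : ∃ A : Subgroup G, A ≤ P ∧ ¬ A ≤ Subgroup.centralizer (V : Set G) ∧ Cfsg.IsBestOffenderOn p V A)
    (T : Sylow p ↥P) : ConclPB p (V0 p V P) V P (TT T) := by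
  obtain ⟨-, M, ⟨hM, hTM⟩, -⟩ := H.hmin T
  obtain ⟨That, Mhat, hTT, -, Hy⟩ := QHYP H T M hM hTM
  have hVN : V ≤ NR (V0 p V P) := V_le_NR H.hV
  have hPN : P ≤ NR (V0 p V P) := P_le_NR H.hPV
  have hPR : P ⊓ V0 p V P = ⊥ := P_inf_V0 H.hV H.hf
  have hoff' := QOFF hVN (V0_le_V p V P) hPN hPR (QFAITH H) hoff
  have hC := hS That Mhat Hy hoff'
  rw [hTT] at hC
  obtain ⟨r, Eh, hB⟩ := Concl_iff.1 hC
  exact ConclPB_iff.2 ⟨r, _, (QPULLB hVN (V0_le_V p V P) hPN hPR (Subgroup.map_subtype_le _) hB).1⟩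

/-- TOP (strong form), with the strong S3000 (`Concl` + `T`-invariance of the family) for the section group as a hypothesis -/
theorem QCONCLS_core [Finite G] [Fact p.Prime] (H : Hyp1 p V P)
    (hS : ∀ (That : Sylow p ↥(hat (V0 p V P) P)) (Mhat : Subgroup ↥(hat (V0 p V P) P)),
      Hyp p (hat (V0 p V P) V) (hat (V0 p V P) P) That Mhat →
      (∃ A' : Subgroup (QG (V0 p V P)), A' ≤ hat (V0 p V P) P ∧
        ¬ A' ≤ Subgroup.centralizer ((hat (V0 p V P) V : Subgroup (QG (V0 p V P))) : Set (QG (V0 p V P))) ∧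
        Cfsg.IsBestOffenderOn p (hat (V0 p V P) V) A') →
      ∃ (r : ℕ) (E : Fin r → Subgroup (QG (V0 p V P))),
        ConclB p (hat (V0 p V P) V) (hat (V0 p V P) P) (TT That) r E ∧
        ∀ i, ∀ t ∈ TT That, ∃ j, cjs t (E i) = E j)
    (hoff : ∃ A : Subgroup G, A ≤ P ∧ ¬ A ≤ Subgroup.centralizer (V : Set G) ∧ Cfsg.IsBestOffenderOn p V A)
    (T : Sylow p ↥P) :
    ∃ (r : ℕ) (E : Fin r → Subgroup G), ConclPBB p (V0 p V P) V P (TT T) r E ∧
      ∀ i, ∀ t ∈ TT T, ∃ j, cjs t (E i) = E j := by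
  obtain ⟨-, M, ⟨hM, hTM⟩, -⟩ := H.hmin T
  obtain ⟨That, Mhat, hTT, -, Hy⟩ := QHYP H T M hM hTM
  have hVN : V ≤ NR (V0 p V P) := V_le_NR H.hV
  have hPN : P ≤ NR (V0 p V P) := P_le_NR H.hPV
  have hPR : P ⊓ V0 p V P = ⊥ := P_inf_V0 H.hV H.hf
  have hoff' := QOFF hVN (V0_le_V p V P) hPN hPR (QFAITH H) hoff
  obtain ⟨r, Eh, hB, hinv⟩ := hS That Mhat Hy hoff'
  rw [hTT] at hB hinv
  have hTP : TT T ≤ P := Subgroup.map_subtype_le _
  refine ⟨r, fun i => P ⊓ pre (V0 p V P) (Eh i), (QPULLB hVN (V0_le_V p V P) hPN hPR hTP hB).1, ?_⟩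
  exact QTINV hPN hPR hTP hB.2.1 hinv

end Cfsg.Agent.S3001P
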