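import Mathlib

/-!
# S4009 (Mann's lower bound for the order of a p-group of given derived length): definitions (helper27)

`Gam P b` is the `b`-th term of the lower central series (0-indexed, `Gam P 0 = ⊤`), `Cyc P X b` says that the image of `X` in
`Gam b / Gam (b+1)` is cyclic, `gB m = max (2 m - 2) 1` (`gB 0 = 0`).
Blueprint: `departures/helper27_S4009_blueprint.md`.
-/

set_option autoImplicit false

namespace Cfsg.Agent.S4009P

/-- the lower central series, 0-indexed. -/
abbrev Gam (P : Type*) [Group P] (b : ℕ) : Subgroup P := (⊤ : Subgroup P).lowerCentralSeries b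

/-- the image of `X` modulo `Gam (b+1)` is cyclic. -/
def Cyc (P : Type*) [Group P] (X : Subgroup P) (b : ℕ) : Prop :=
  ∃ c ∈ X, X ≤ Subgroup.zpowers c ⊔ Gam P (b + 1)

/-- the gain function. -/
def gB (m : ℕ) : ℕ := if m = 0 then 0 else max (2 * m - 2) 1

instance Gam_normal (P : Type*) [Group P] (b : ℕ) : (Gam P b).Normal := by
  unfold Gam
  infer_instance

end Cfsg.Agent.S4009P
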