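import Mathlib
import Cfsg.Agent.Helper10.S4017Defs

/-!
# S4017, piece UCONJ: `U p t` is conjugation-equivariant in `t`
-/

set_option autoImplicit false

namespace Cfsg.Agent.S4017P

theorem UCONJ_orderOf_conj {G : Type*} [Group G] (g x : G) :
    orderOf (g * x * g⁻¹) = orderOf x := by
  have h := (MulAut.conj g).orderOf_eq x
  simpa [MulAut.conj_apply] using h

theorem UCONJ {G : Type*} [Group G] (p : ℕ) (g t x : G) (hx : x ∈ U p t) :
    g * x * g⁻¹ ∈ U p (g * t * g⁻¹) := by
  unfold U at hx ⊢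
  induction hx using Subgroup.closure_induction with
  | mem y hy =>
    apply Subgroup.subset_closure
    refine ⟨?_, ?_⟩
    · have h1 : g * y * g⁻¹ * (g * t * g⁻¹) = g * (y * t) * g⁻¹ := by group
      have h2 : g * t * g⁻¹ * (g * y * g⁻¹) = g * (t * y) * g⁻¹ := by group
      rw [h1, h2, hy.1]
    · obtain ⟨k, hk⟩ := hy.2
      exact ⟨k, by rw [UCONJ_orderOf_conj, hk]⟩
  | one =>
    have : g * 1 * g⁻¹ = 1 := by group
    rw [this]; exact Subgroup.one_mem _
  | mul a b _ _ ha hb =>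
    have : g * (a * b) * g⁻¹ = (g * a * g⁻¹) * (g * b * g⁻¹) := by group
    rw [this]; exact Subgroup.mul_mem _ ha hb
  | inv a _ ha =>
    have : g * a⁻¹ * g⁻¹ = (g * a * g⁻¹)⁻¹ := by group
    rw [this]; exact Subgroup.inv_mem _ ha

end Cfsg.Agent.S4017P
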