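import Mathlib
import Cfsg.Agent.Helper10.S4017Defs

/-!
# S4017, piece ELEM: `Q` is elementary abelian (every element squares to 1)
-/

set_option autoImplicit false

namespace Cfsg.Agent.S4017P

theorem ELEM_three_le {G : Type*} [Group G] [Finite G] {p a : ℕ} {Q : Subgroup G} {z : G}
    (h : Cfg G p a Q z) : 3 ≤ p := by
  have h1 := h.hp.two_le
  have h2 := h.hp2
  omega

theorem ELEM_one_le {G : Type*} [Group G] [Finite G] {p a : ℕ} {Q : Subgroup G} {z : G}
    (h : Cfg G p a Q z) : 1 ≤ a := by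
  have hp3 := ELEM_three_le h
  rcases Nat.eq_zero_or_pos a with h0 | h0
  · have h1 := h.ha
    rw [h0] at h1
    simp at h1
    omega
  · exact h0

theorem ELEM {G : Type*} [Group G] [Finite G] {p a : ℕ} {Q : Subgroup G} {z : G}
    (h : Cfg G p a Q z) : ∀ x ∈ Q, x * x = 1 := by
  have ha1 := ELEM_one_le h
  have h2 : 2 ∣ Nat.card Q := by rw [h.hQ]; exact dvd_pow_self 2 (by omega)
  haveI : Fact (Nat.Prime 2) := ⟨Nat.prime_two⟩
  obtain ⟨t, ht⟩ := exists_prime_orderOf_dvd_card' 2 h2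
  have ht2 : orderOf (t : G) = 2 := by rw [Subgroup.orderOf_coe]; exact ht
  have ht1 : (t : G) ≠ 1 := by
    intro h1
    rw [h1, orderOf_one] at ht2
    omega
  have htt : (t : G) * (t : G) = 1 := by
    have := pow_orderOf_eq_one (t : G)
    rw [ht2, pow_two] at this
    exact this
  intro x hx
  by_cases hx1 : x = 1
  · rw [hx1, mul_one]
  · obtain ⟨i, hi⟩ := h.htrans (t : G) t.2 ht1 x hx hx1
    rw [← hi]
    have : z ^ i * (t : G) * (z ^ i)⁻¹ * (z ^ i * (t : G) * (z ^ i)⁻¹)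
        = z ^ i * ((t : G) * (t : G)) * (z ^ i)⁻¹ := by group
    rw [this, htt]
    group

end Cfsg.Agent.S4017P
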