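import Mathlib
import Cfsg.Agent.Helper10.S4017Defs

/-!
# S4017, piece MAXORD: proper subgroups of even order have order dividing `2^a p^(v_p |G|)`
-/

set_option autoImplicit false

namespace Cfsg.Agent.S4017P

theorem MAXORD {G : Type*} [Group G] [Finite G] {p a : ℕ} {Q : Subgroup G} {z : G}
    (h : Cfg G p a Q z) :
    ∀ H : Subgroup G, H ≠ ⊤ → 2 ∣ Nat.card H →
      Nat.card H ∣ 2 ^ a * p ^ (Nat.card G).factorization p := by
  intro H hH h2
  have hpq := h.hI H hH h2
  have hHG : Nat.card H ∣ Nat.card G := Subgroup.card_subgroup_dvd_card H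
  have hH0 : Nat.card H ≠ 0 := Nat.card_pos.ne'
  have hG0 : Nat.card G ≠ 0 := Nat.card_pos.ne'
  have hp := h.hp
  have hp0 : p ≠ 0 := hp.ne_zero
  have hT0 : 2 ^ a * p ^ (Nat.card G).factorization p ≠ 0 :=
    mul_ne_zero (pow_ne_zero _ (by norm_num)) (pow_ne_zero _ hp0)
  rw [← Nat.factorization_prime_le_iff_dvd hH0 hT0]
  intro r hr
  have hle : (Nat.card H).factorization r ≤ (Nat.card G).factorization r :=
    (Nat.factorization_le_iff_dvd hH0 hG0).mpr hHG r
  rw [Nat.factorization_mul (pow_ne_zero _ (by norm_num)) (pow_ne_zero _ hp0),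
    Nat.Prime.factorization_pow Nat.prime_two, Nat.Prime.factorization_pow hp]
  simp only [Finsupp.coe_add, Pi.add_apply, Finsupp.single_apply]
  by_cases hrH : r ∣ Nat.card H
  · rcases hpq r hr hrH with hrp | hr2
    · subst hrp
      rw [if_neg (Ne.symm h.hp2), if_pos rfl]
      omega
    · subst hr2
      rw [if_pos rfl, if_neg h.hp2]
      have := h.hG2
      omega
  · rw [Nat.factorization_eq_zero_of_not_dvd hrH]
    exact Nat.zero_le _

end Cfsg.Agent.S4017P
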