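import Mathlib
import Cfsg.Agent.Helper10.S4017Defs

/-!
# S4017, piece SYLQ: `Q` is a Sylow 2-subgroup, every 2-subgroup is conjugate into `Q`
-/

set_option autoImplicit false

open scoped Pointwise

namespace Cfsg.Agent.S4017P

theorem SYLQ {G : Type*} [Group G] [Finite G] {p a : ℕ} {Q : Subgroup G} {z : G}
    (h : Cfg G p a Q z) :
    ∀ S : Subgroup G, IsPGroup 2 S → ∃ g : G, ∀ x ∈ S, g * x * g⁻¹ ∈ Q := by
  intro S hS
  have : Fact (Nat.Prime 2) := ⟨Nat.prime_two⟩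
  have hcard : Nat.card Q = 2 ^ (Nat.card G).factorization 2 := by rw [h.hQ, h.hG2]
  obtain ⟨P, hP⟩ := hS.exists_le_sylow
  obtain ⟨g, hg⟩ := MulAction.exists_smul_eq G P (Sylow.ofCard Q hcard)
  refine ⟨g, fun x hx => ?_⟩
  have hxP : x ∈ (P : Subgroup G) := hP hx
  have h1 : MulAut.conj g • x ∈ MulAut.conj g • (P : Subgroup G) :=
    Subgroup.smul_mem_pointwise_smul x (MulAut.conj g) _ hxP
  have h2 : ((g • P : Sylow 2 G) : Subgroup G) = Q := by rw [hg]; rfl
  rw [Sylow.coe_subgroup_smul] at h2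
  rw [h2] at h1
  simpa [MulAut.smul_def, MulAut.conj_apply] using h1

end Cfsg.Agent.S4017P
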