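import Mathlib
import Cfsg.Agent.Helper10.S4017Defs

/-!
# S4017, piece ZNC: `z` does not centralize `Q`
-/

set_option autoImplicit false

namespace Cfsg.Agent.S4017P

theorem ZNC_two_nontrivial {G : Type*} [Group G] [Finite G] (Q : Subgroup G)
    (hQ : 2 < Nat.card Q) : ∃ x ∈ Q, ∃ y ∈ Q, x ≠ 1 ∧ y ≠ 1 ∧ x ≠ y := by
  have : Fintype Q := Fintype.ofFinite Q
  rw [Nat.card_eq_fintype_card, Fintype.two_lt_card_iff] at hQ
  obtain ⟨u, v, w, huv, huw, hvw⟩ := hQ
  have huv' : (u : G) ≠ v := fun h => huv (Subtype.ext h)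
  have huw' : (u : G) ≠ w := fun h => huw (Subtype.ext h)
  have hvw' : (v : G) ≠ w := fun h => hvw (Subtype.ext h)
  by_cases hu : (u : G) = 1
  · refine ⟨v, v.2, w, w.2, ?_, ?_, hvw'⟩
    · intro hv; exact huv' (hu.trans hv.symm)
    · intro hw; exact huw' (hu.trans hw.symm)
  · by_cases hv : (v : G) = 1
    · refine ⟨u, u.2, w, w.2, hu, ?_, huw'⟩
      intro hw; exact hvw' (hv.trans hw.symm)
    · exact ⟨u, u.2, v, v.2, hu, hv, huv'⟩

theorem ZNC {G : Type*} [Group G] [Finite G] {p a : ℕ} {Q : Subgroup G} {z : G}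
    (h : Cfg G p a Q z) : ∃ v ∈ Q, z * v ≠ v * z := by
  by_contra hcon
  push Not at hcon
  have hp3 : 3 ≤ p := by
    have h1 := h.hp.two_le
    have h2 := h.hp2
    omega
  have hQ : 2 < Nat.card Q := by
    rw [h.hQ, h.ha]; omega
  obtain ⟨x, hx, y, hy, hx1, hy1, hxy⟩ := ZNC_two_nontrivial Q hQ
  obtain ⟨i, hi⟩ := h.htrans x hx hx1 y hy hy1
  have hcomm : ∀ i : ℕ, z ^ i * x = x * z ^ i := by
    intro i
    induction i with
    | zero => simp
    | succ n ih =>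
      rw [pow_succ, mul_assoc, hcon x hx, ← mul_assoc, ih, mul_assoc]
  apply hxy
  rw [← hi, hcomm i]
  group

end Cfsg.Agent.S4017P
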