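import Mathlib
import Cfsg.Prelude.Def_GeometricClasses
import Cfsg.Agent.Helper28.SLMax

set_option autoImplicit false
set_option linter.unusedSectionVars false
set_option linter.unusedVariables false
set_option linter.deprecated false

/-! # S5634, the half `m ≥ 2` (`GL_m(q) ≀ S_t` is maximal in `SL_n(q)`): definitions (driver helper27)

Vectors are `Fin n → F`; linear functionals are vectors too, through the dot product `φ ⬝ᵥ x`.
`E v φ = 1 + v φᵀ`, `Eg`, `SL_le_of_transvections`, `exists_dual` come from `Cfsg.Agent.Helper28.SLMax`. -/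

namespace Cfsg.Agent.S5634P

open Matrix Cfsg.Agent.Helper28.SLMax
open scoped MatrixGroups

variable {F : Type*} [Field F] {n t : ℕ}

/-- the sum of the blocks other than `D c` -/
def Oth (D : Fin t → Submodule F (Fin n → F)) (c : Fin t) : Submodule F (Fin n → F) :=
  ⨆ b : {b : Fin t // b ≠ c}, D b.1

/-- the functionals (as vectors, through the dot product) vanishing on the blocks other than `D c` -/
def Dl (D : Fin t → Submodule F (Fin n → F)) (c : Fin t) : Submodule F (Fin n → F) where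
  carrier := {φ | ∀ x ∈ Oth D c, φ ⬝ᵥ x = 0}
  zero_mem' := fun x _ => zero_dotProduct x
  add_mem' := by
    intro a b ha hb x hx
    rw [add_dotProduct, ha x hx, hb x hx, add_zero]
  smul_mem' := by
    intro r a ha x hx
    rw [smul_dotProduct, ha x hx, smul_zero]

theorem mem_Dl {D : Fin t → Submodule F (Fin n → F)} {c : Fin t} {φ : Fin n → F} :
    φ ∈ Dl D c ↔ ∀ x ∈ Oth D c, φ ⬝ᵥ x = 0 := Iff.rfl

/-- the rank one update `1 + v φᵀ` as an element of `GL` (`1` when it is singular): a transvection when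
`φ ⬝ᵥ v = 0`, a dilation of determinant `1 + φ ⬝ᵥ v` otherwise -/
noncomputable def EE (v φ : Fin n → F) : GL (Fin n) F :=
  haveI := Classical.propDecidable (1 + φ ⬝ᵥ v ≠ 0)
  if h : 1 + φ ⬝ᵥ v ≠ 0 then Eg v φ h else 1

theorem EE_val {v φ : Fin n → F} (h : 1 + φ ⬝ᵥ v ≠ 0) :
    ((EE v φ : GL (Fin n) F) : Matrix (Fin n) (Fin n) F) = E v φ := by
  rw [EE, dif_pos h]; rfl

theorem EE_val0 {v φ : Fin n → F} (h : φ ⬝ᵥ v = 0) :
    ((EE v φ : GL (Fin n) F) : Matrix (Fin n) (Fin n) F) = E v φ :=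
  EE_val (by rw [h, add_zero]; exact one_ne_zero)

theorem EE_eq_Eg {v φ : Fin n → F} (h : φ ⬝ᵥ v = 0) :
    EE v φ = Eg v φ (by rw [h, add_zero]; exact one_ne_zero) := by
  rw [EE, dif_pos]

theorem EE_mulVec {v φ : Fin n → F} (h : 1 + φ ⬝ᵥ v ≠ 0) (x : Fin n → F) :
    ((EE v φ : GL (Fin n) F) : Matrix (Fin n) (Fin n) F) *ᵥ x = x + (φ ⬝ᵥ x) • v := by
  rw [EE_val h, E_mulVec]

theorem EE_mulVec0 {v φ : Fin n → F} (h : φ ⬝ᵥ v = 0) (x : Fin n → F) :
    ((EE v φ : GL (Fin n) F) : Matrix (Fin n) (Fin n) F) *ᵥ x = x + (φ ⬝ᵥ x) • v := by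
  rw [EE_val0 h, E_mulVec]

/-- the stabiliser of the decomposition in `SL_n(F)` -/
abbrev HH (D : Fin t → Submodule F (Fin n → F)) : Subgroup (GL (Fin n) F) :=
  Cfsg.Geo.decompositionStabilizer D ⊓ Cfsg.Geo.specialLinear (Fin n) F

/-- the action of `g` on functionals: `φ ∘ g⁻¹` -/
noncomputable def dact (g : GL (Fin n) F) (φ : Fin n → F) : Fin n → F :=
  φ ᵥ* ((g⁻¹ : GL (Fin n) F) : Matrix (Fin n) (Fin n) F)

theorem dact_dot (g : GL (Fin n) F) (φ y : Fin n → F) :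
    dact g φ ⬝ᵥ y = φ ⬝ᵥ (((g⁻¹ : GL (Fin n) F) : Matrix (Fin n) (Fin n) F) *ᵥ y) := by
  rw [dact, Matrix.dotProduct_mulVec]

theorem dact_dot_mulVec (g : GL (Fin n) F) (φ x : Fin n → F) :
    dact g φ ⬝ᵥ ((g : Matrix (Fin n) (Fin n) F) *ᵥ x) = φ ⬝ᵥ x := by
  rw [dact_dot, Matrix.mulVec_mulVec, ← Units.val_mul, inv_mul_cancel, Units.val_one, Matrix.one_mulVec]

open Classical in
/-- the projection onto the block `D c` along the sum of the other blocks -/
noncomputable def cmp (D : Fin t → Submodule F (Fin n → F)) (c : Fin t) :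
    (Fin n → F) →ₗ[F] (Fin n → F) :=
  if h : IsCompl (D c) (Oth D c) then
    (D c).subtype ∘ₗ Submodule.linearProjOfIsCompl (D c) (Oth D c) h
  else 0

/-- `M` contains an off-diagonal block transvection -/
def OffIn (D : Fin t → Submodule F (Fin n → F)) (M : Subgroup (GL (Fin n) F)) : Prop :=
  ∃ (c d : Fin t) (x χ : Fin n → F), c ≠ d ∧ x ∈ D c ∧ x ≠ 0 ∧ χ ∈ Dl D d ∧ χ ≠ 0 ∧ EE x χ ∈ M

end Cfsg.Agent.S5634P
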