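import Mathlib
import Cfsg.Agent.Helper5.VL.Defs

/-! # S3777 pieces KER (`index_ker`) and AFFEQ (`card_affine_eq`) (helper27). -/

set_option autoImplicit false
set_option linter.style.haveILetI false
set_option linter.unusedSectionVars false
set_option linter.unusedVariables false

namespace Cfsg.Agent.Helper5.VL

open Subgroup
open scoped commutatorElement

universe u
variable {p : ℕ} [Fact p.Prime] {G : Type u} [Group G] [Finite G]

/-- KER -/
theorem index_ker {φ : Fn p G} (hφ : φ ≠ 1) : φ.ker.index = p := by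
  have hp : p.Prime := Fact.out
  rw [Subgroup.index_ker]
  have hcard : Nat.card (Multiplicative (ZMod p)) = p := by
    rw [Nat.card_eq_fintype_card, Fintype.card_multiplicative, ZMod.card]
  have hdvd : Nat.card φ.range ∣ p := by
    have := Subgroup.card_subgroup_dvd_card φ.range
    rwa [hcard] at this
  rcases (Nat.dvd_prime hp).mp hdvd with h1 | h1
  · exfalso
    apply hφ
    have hbot : φ.range = ⊥ := Subgroup.card_eq_one.mp h1
    ext g
    have : φ g ∈ φ.range := ⟨g, rfl⟩
    rw [hbot, Subgroup.mem_bot] at this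
    rw [this]; rfl
  · exact h1

/-- AFFEQ -/
theorem card_affine_eq (φ0 : Fn p G) (W : Subgroup G) (h : ¬ W ≤ φ0.ker) :
    Nat.card {w : G // w ∈ W ∧ φ0 w ≠ 1} * p = Nat.card W * (p - 1) := by
  have hp : p.Prime := Fact.out
  set ψ : Fn p ↥W := φ0.comp W.subtype with hψ
  have hne : ψ ≠ 1 := by
    intro h1
    apply h
    intro w hw
    rw [MonoidHom.mem_ker]
    have := DFunLike.congr_fun h1 ⟨w, hw⟩
    simpa [hψ] using this
  have hidx : ψ.ker.index = p := index_ker hne
  have hmul : Nat.card ψ.ker * p = Nat.card W := by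
    have := Subgroup.card_mul_index ψ.ker
    rwa [hidx] at this
  have e1 : {w : G // w ∈ W ∧ φ0 w ≠ 1} ≃ {w : ↥W // ψ w ≠ 1} :=
    { toFun := fun w => ⟨⟨w.1, w.2.1⟩, w.2.2⟩
      invFun := fun w => ⟨w.1.1, w.1.2, w.2⟩
      left_inv := fun w => rfl
      right_inv := fun w => rfl }
  have e2 : ↥ψ.ker ≃ {w : ↥W // ψ w = 1} :=
    { toFun := fun w => ⟨w.1, MonoidHom.mem_ker.mp w.2⟩
      invFun := fun w => ⟨w.1, MonoidHom.mem_ker.mpr w.2⟩
      left_inv := fun w => rfl
      right_inv := fun w => rfl }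
  have hsum : Nat.card ↥W = Nat.card {w : ↥W // ψ w = 1} + Nat.card {w : ↥W // ψ w ≠ 1} := by
    rw [← Nat.card_sum]
    exact Nat.card_congr (Equiv.sumCompl (fun w : ↥W => ψ w = 1)).symm
  rw [Nat.card_congr e1]
  rw [← Nat.card_congr e2] at hsum
  have hp1 : 1 ≤ p := hp.one_lt.le
  have key : ∀ (a b c q : ℕ), 1 ≤ q → a * q = c → c = a + b → b * q = c * (q - 1) := by
    intro a b c q hq1 h1 h2
    obtain ⟨k, rfl⟩ : ∃ k, q = k + 1 := ⟨q - 1, by omega⟩
    simp only [Nat.add_sub_cancel]
    nlinarith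
  exact key _ _ _ _ hp1 hmul hsum
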