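import Mathlib
import Cfsg.Agent.Helper7.K2M.Defs2

set_option autoImplicit false
set_option linter.unusedSectionVars false
set_option linter.unusedVariables false

/-! # S5694, `k = 2` minus blocks, chapter INV (driver helper27), piece INV-IND2: the plane `Fin 2 → F`. -/

namespace Cfsg.Agent.K2M

open Matrix Cfsg.Agent.OC2P Cfsg.Agent.Helper28.Sg Cfsg.Agent.Helper28.Spin
  Cfsg.Agent.Helper12.OrthGen

variable {F : Type*} [Field F] [Fintype F] {t : ℕ} {Q : QuadraticForm F (Fin t × Fin 2 → F)}
  {q : QuadraticForm F (Fin 2 → F)}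

theorem IND2.aux_det {y y' : Fin 2 → F} (h : Indep2 (F := F) y y') : y 0 * y' 1 - y 1 * y' 0 ≠ 0 := by
  intro hd
  -- `(y' 1) • y - (y 1) • y' = 0` and `(y' 0) • y - (y 0) • y' = 0`
  have h1 : (y' 1) • y + (-(y 1)) • y' = 0 := by
    funext j
    fin_cases j
    · simp only [Fin.zero_eta, Pi.add_apply, Pi.smul_apply, smul_eq_mul, Pi.zero_apply]
      linear_combination hd
    · simp only [Fin.mk_one, Pi.add_apply, Pi.smul_apply, smul_eq_mul, Pi.zero_apply]
      ring
  have h2 : (y' 0) • y + (-(y 0)) • y' = 0 := by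
    funext j
    fin_cases j
    · simp only [Fin.zero_eta, Pi.add_apply, Pi.smul_apply, smul_eq_mul, Pi.zero_apply]
      ring
    · simp only [Fin.mk_one, Pi.add_apply, Pi.smul_apply, smul_eq_mul, Pi.zero_apply]
      linear_combination -hd
  obtain ⟨h1a, h1b⟩ := h _ _ h1
  obtain ⟨h2a, h2b⟩ := h _ _ h2
  have hy0 : y 0 = 0 := by simpa using h2b
  have hy1 : y 1 = 0 := by simpa using h1b
  have hy : y = 0 := by
    funext j
    fin_cases j
    · simpa using hy0
    · simpa using hy1
  have h3 : (1 : F) • y + (0 : F) • y' = 0 := by rw [hy]; simp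
  exact one_ne_zero (h _ _ h3).1

/-- two independent vectors span the plane -/
theorem IND2.span {y y' : Fin 2 → F} (h : Indep2 (F := F) y y') (z : Fin 2 → F) :
    ∃ α β : F, z = α • y + β • y' := by
  have hd := IND2.aux_det h
  set d := y 0 * y' 1 - y 1 * y' 0 with hdd
  refine ⟨d⁻¹ * (z 0 * y' 1 - z 1 * y' 0), d⁻¹ * (y 0 * z 1 - y 1 * z 0), ?_⟩
  funext j
  fin_cases j
  · simp only [Fin.zero_eta, Pi.add_apply, Pi.smul_apply, smul_eq_mul]
    field_simp
    rw [hdd]
    ring
  · simp only [Fin.mk_one, Pi.add_apply, Pi.smul_apply, smul_eq_mul]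
    field_simp
    rw [hdd]
    ring

/-- an additive self-map of the (finite) plane with trivial kernel is onto -/
theorem IND2.surj (f : (Fin 2 → F) → (Fin 2 → F)) (hadd : ∀ y y', f (y + y') = f y + f y')
    (hker : ∀ y, f y = 0 → y = 0) (z : Fin 2 → F) : ∃ y, f y = z := by
  have h0 : f 0 = 0 := by
    have := hadd 0 0
    rw [add_zero] at this
    exact left_eq_add.mp this
  have hneg : ∀ y, f (-y) = - f y := by
    intro y
    have := hadd y (-y)
    rw [add_neg_cancel, h0] at this
    exact (neg_eq_of_add_eq_zero_right this.symm).symm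
  have hinj : Function.Injective f := by
    intro y y' hyy
    have h1 : f (y + -y') = 0 := by rw [hadd, hneg, hyy, add_neg_cancel]
    have h2 := hker _ h1
    exact add_neg_eq_zero.mp h2
  exact (Finite.injective_iff_surjective.mp hinj) z

end Cfsg.Agent.K2M
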