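import Mathlib

/-! S3361 pieces (Z0), (Z1), (Z2): existence of normal subgroups of index two. -/

set_option autoImplicit false

namespace Cfsg.Agent.Helper27.RegZ

/-- (Z0) a normal subgroup of index `2 * p ^ k` lies in a normal subgroup of index `2`. -/
theorem exists_index_two_of_index {G : Type*} [Group G] (K : Subgroup G) [K.Normal] (p k : ℕ)
    [Fact p.Prime] (hK : K.index = 2 * p ^ k) : ∃ N : Subgroup G, N.Normal ∧ N.index = 2 := by
  have hp : p.Prime := Fact.out
  have hcard : Nat.card (G ⧸ K) = 2 * p ^ k := by rw [← Subgroup.index_eq_card, hK]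
  have hfin : Finite (G ⧸ K) := by
    apply Nat.finite_of_card_ne_zero
    rw [hcard]
    exact mul_ne_zero two_ne_zero (pow_ne_zero _ hp.ne_zero)
  obtain ⟨M, hM⟩ := Sylow.exists_subgroup_card_pow_prime p (n := k)
    (show p ^ k ∣ Nat.card (G ⧸ K) by rw [hcard]; exact Dvd.intro_left _ rfl)
  have hMidx : M.index = 2 := by
    have h1 := M.card_mul_index
    rw [hM, hcard] at h1
    have hpos : 0 < p ^ k := pow_pos hp.pos k
    have : p ^ k * M.index = p ^ k * 2 := by rw [h1, mul_comm]
    exact Nat.eq_of_mul_eq_mul_left hpos this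
  refine ⟨M.comap (QuotientGroup.mk' K), ?_, ?_⟩
  · apply Subgroup.normal_of_index_eq_two
    rw [Subgroup.index_comap_of_surjective M (QuotientGroup.mk'_surjective K), hMidx]
  · rw [Subgroup.index_comap_of_surjective M (QuotientGroup.mk'_surjective K), hMidx]

/-- (Z1) a finite group of even order with cyclic Sylow 2-subgroup has a normal subgroup of
index `2`. -/
theorem exists_index_two_of_cyclic_sylow {G : Type*} [Group G] [Finite G] (P : Sylow 2 G)
    (hP : IsCyclic P) (heven : 2 ∣ Nat.card G) : ∃ N : Subgroup G, N.Normal ∧ N.index = 2 := by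
  have hmin : (Nat.card G).minFac = 2 := (Nat.minFac_eq_two_iff _).mpr heven
  have hcompl := IsCyclic.isComplement' hmin hP
  set K := (MonoidHom.transferSylow P (hP.normalizer_le_centralizer hmin)).ker with hKdef
  have hKidx : K.index = Nat.card P := hcompl.symm.index_eq_card
  obtain ⟨n, hn⟩ := P.2.exists_card_eq
  have hn1 : n ≠ 0 := by
    rintro rfl
    rw [pow_zero] at hn
    have h1 : (P : Subgroup G) = ⊥ := Subgroup.card_eq_one.mp hn
    have h2 := P.ne_bot_of_dvd_card heven
    exact h2 h1
  obtain ⟨m, rfl⟩ := Nat.exists_eq_succ_of_ne_zero hn1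
  have : K.Normal := MonoidHom.normal_ker _
  exact exists_index_two_of_index K 2 m (by
    rw [hKidx]
    rw [hn, pow_succ, mul_comm])

/-- (Z2) a finite group of even order with a cyclic normal subgroup containing all commutators
has a normal subgroup of index `2`. -/
theorem exists_index_two_of_cyclic_of_comm {G : Type*} [Group G] [Finite G] (C : Subgroup G)
    [C.Normal] (hC : IsCyclic C) (hab : ∀ a b : G, a * b * a⁻¹ * b⁻¹ ∈ C)
    (heven : 2 ∣ Nat.card G) : ∃ N : Subgroup G, N.Normal ∧ N.index = 2 := by
  classical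
  by_cases h2 : 2 ∣ C.index
  · -- the quotient is commutative of even order
    have hcommQ : ∀ x y : G ⧸ C, x * y = y * x := by
      intro x y
      induction x using QuotientGroup.induction_on with
      | H a =>
        induction y using QuotientGroup.induction_on with
        | H b =>
          rw [← QuotientGroup.mk_mul, ← QuotientGroup.mk_mul, QuotientGroup.eq]
          have h := hab b⁻¹ a⁻¹
          have e : (a * b)⁻¹ * (b * a) = b⁻¹ * a⁻¹ * b⁻¹⁻¹ * a⁻¹⁻¹ := by group
          rw [e]
          exact h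
    let _ : CommGroup (G ⧸ C) := { (inferInstance : Group (G ⧸ C)) with mul_comm := hcommQ }
    have hcardQ : Nat.card (G ⧸ C) = C.index := (Subgroup.index_eq_card C).symm
    -- odd part
    obtain ⟨a, m, hm, hcm⟩ := Nat.exists_eq_two_pow_mul_odd (n := Nat.card (G ⧸ C))
      (Nat.card_pos.ne')
    let ψ : (G ⧸ C) →* (G ⧸ C) := powMonoidHom m
    let f : G →* (G ⧸ C) := ψ.comp (QuotientGroup.mk' C)
    have hfidx : f.ker.index = Nat.card f.range := Subgroup.index_ker f
    -- the range is a nontrivial 2-group
    have hr2 : IsPGroup 2 f.range := by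
      rintro ⟨y, g, rfl⟩
      refine ⟨a, ?_⟩
      apply Subtype.ext
      simp only [f, ψ, MonoidHom.comp_apply, powMonoidHom_apply, Subgroup.coe_pow,
        Subgroup.coe_one]
      rw [← pow_mul, mul_comm, ← hcm]
      exact pow_card_eq_one'
    have hrne : Nat.card f.range ≠ 1 := by
      intro h1
      have hbot : f.range = ⊥ := Subgroup.card_eq_one.mp h1
      have : Fact (Nat.Prime 2) := ⟨Nat.prime_two⟩
      obtain ⟨x, hx⟩ := exists_prime_orderOf_dvd_card' (G := G ⧸ C) 2 (by rw [hcardQ]; exact h2)
      obtain ⟨g, rfl⟩ := QuotientGroup.mk_surjective x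
      have hmem : f g ∈ f.range := ⟨g, rfl⟩
      rw [hbot, Subgroup.mem_bot] at hmem
      have hfg : f g = ((g : G ⧸ C)) ^ m := rfl
      rw [hfg] at hmem
      have hdvd : orderOf (g : G ⧸ C) ∣ m := orderOf_dvd_of_pow_eq_one hmem
      rw [hx] at hdvd
      exact (Nat.not_even_iff_odd.mpr hm) (even_iff_two_dvd.mpr hdvd)
    obtain ⟨n, hn⟩ := (IsPGroup.iff_card.mp hr2)
    have hn1 : n ≠ 0 := by
      rintro rfl
      exact hrne (by rw [hn, pow_zero])
    obtain ⟨k, rfl⟩ := Nat.exists_eq_succ_of_ne_zero hn1
    have : f.ker.Normal := MonoidHom.normal_ker f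
    exact exists_index_two_of_index f.ker 2 k (by rw [hfidx, hn, pow_succ, mul_comm])
  · -- a Sylow 2-subgroup lies in `C`
    have : Fact (Nat.Prime 2) := ⟨Nat.prime_two⟩
    obtain ⟨P⟩ : Nonempty (Sylow 2 G) := inferInstance
    have hPC : (P : Subgroup G) ≤ C := by
      intro x hx
      obtain ⟨k, hk⟩ := P.2 ⟨x, hx⟩
      have hk' : x ^ 2 ^ k = 1 := by
        have := congrArg Subtype.val hk
        simpa using this
      have h1 : orderOf (x : G ⧸ C) ∣ 2 ^ k := by
        apply orderOf_dvd_of_pow_eq_one
        rw [← QuotientGroup.mk_pow, hk', QuotientGroup.mk_one]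
      have h3 : orderOf (x : G ⧸ C) ∣ C.index := by
        rw [Subgroup.index_eq_card]
        exact orderOf_dvd_natCard _
      have hcop : Nat.Coprime (2 ^ k) C.index := by
        apply Nat.Coprime.pow_left
        exact (Nat.Prime.coprime_iff_not_dvd Nat.prime_two).mpr h2
      have h4 : orderOf (x : G ⧸ C) = 1 := Nat.eq_one_of_dvd_coprimes hcop h1 h3
      rw [orderOf_eq_one_iff] at h4
      exact (QuotientGroup.eq_one_iff x).mp h4
    have hPcyc : IsCyclic P := by
      have := hC
      exact isCyclic_of_injective (Subgroup.inclusion hPC) (Subgroup.inclusion_injective hPC)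
    exact exists_index_two_of_cyclic_sylow P hPcyc heven

end Cfsg.Agent.Helper27.RegZ
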