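import Mathlib
import Cfsg.Prelude.Def_Characters
import Cfsg.Agent.Helper1.W2pDefs
import Cfsg.Agent.Helper24.Orthogonality

set_option autoImplicit false

/-!
# S0996 (Brauer: self-centralizing element of prime order `p`, few Sylow `p`-subgroups): shared definitions

Notation of the proof document `departures/helper27_s0996_pieces.md`:
`P = ⟨z⟩` (Sylow, `|P| = p`, `C_G(P) = P`), `N = NP P = N_G(P)`, `e = eN P = |N : P|`,
`|G : N| = 1 + n p`, `L = Lin P` the group of linear characters of `N / P` (there are `e` of them),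
`lam P φ : N → ℂ` the corresponding function on `N`, `indL P φ = (lam P φ)^G` the induced character
`Λ_φ` of degree `1 + n p` and `mult P φ χ = ⟨Λ_φ, χ⟩ ∈ ℕ`.
`D : BrauerData p P` (from `Cfsg.Agent.Helper1.W2p`) is Brauer's description of the principal `p`-block.
-/

namespace Cfsg.Agent.S0996P

open Cfsg Cfsg.Agent.Helper24 Cfsg.Agent.Helper1.W2p

universe u

variable {G : Type u} [Group G]

/-- `N = N_G(P)`. -/
abbrev NP (P : Subgroup G) : Subgroup G := Subgroup.normalizer (P : Set G)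

/-- `N_G(P) / P`. -/
abbrev QP (P : Subgroup G) : Type u := ↥(NP P) ⧸ (P.subgroupOf (NP P))

/-- `L`: the linear characters of `N_G(P)` that are trivial on `P`, as the dual group of `N_G(P)/P`. -/
abbrev Lin (P : Subgroup G) : Type u := QP P →* ℂˣ

/-- The function on `N = N_G(P)` afforded by `φ ∈ L`. -/
noncomputable def lam (P : Subgroup G) (φ : Lin P) : ↥(NP P) → ℂ :=
  fun h => ((φ (QuotientGroup.mk h) : ℂˣ) : ℂ)

/-- `Λ_φ = φ^G`, the character of `G` induced from `φ ∈ L`. -/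
noncomputable def indL [Fintype G] (P : Subgroup G) (φ : Lin P) : G → ℂ :=
  Cfsg.indFun (NP P) (lam P φ)

/-- `a_φ(χ) = ⟨Λ_φ, χ⟩`, as a natural number. -/
noncomputable def mult [Fintype G] (P : Subgroup G) (φ : Lin P) (χ : IrrCharacter G) : ℕ :=
  ⌊(Cfsg.classInner (indL P φ) (χ : G → ℂ)).re⌋₊

/-- The conjugate subgroup `g K g⁻¹`. -/
def cj (g : G) (K : Subgroup G) : Subgroup G := K.map (MulAut.conj g).toMonoidHom

/-- The two-point stabilizer `E_g = N ∩ g N g⁻¹`. -/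
def EE (P : Subgroup G) (g : G) : Subgroup G := NP P ⊓ cj g (NP P)

/-- The standing hypotheses: `P` of prime order `p` is self-centralizing, `G` is perfect, the number of
Sylow `p`-subgroups is `1 + n p` with `2 n < p + 3`. -/
structure Hyp (p : ℕ) (P : Subgroup G) (n : ℕ) : Prop where
  card_P : Nat.card P = p
  cent : Subgroup.centralizer (P : Set G) = P
  perf : commutator G = ⊤
  sylow : Nat.card (Sylow p G) = 1 + n * p
  bound : 2 * n < p + 3

section BD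

variable [Finite G] {p : ℕ} {P : Subgroup G}

/-- The set `X` of non-exceptional characters, as a finset. -/
noncomputable def XF (D : BrauerData p P) : Finset (IrrCharacter G) := (Set.toFinite D.X).toFinset

/-- The set `Y` of exceptional characters, as a finset. -/
noncomputable def YF (D : BrauerData p P) : Finset (IrrCharacter G) := (Set.toFinite D.Y).toFinset

open Classical in
/-- `X₊ ∖ {1}`: the non-trivial non-exceptional characters with `δ = +1`. -/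
noncomputable def Xp (D : BrauerData p P) : Finset (IrrCharacter G) :=
  (XF D).filter (fun χ => D.δ χ = 1 ∧ χ ≠ trivIrr G)

theorem mem_XF (D : BrauerData p P) (χ : IrrCharacter G) : χ ∈ XF D ↔ χ ∈ D.X :=
  Set.Finite.mem_toFinset _

theorem mem_YF (D : BrauerData p P) (χ : IrrCharacter G) : χ ∈ YF D ↔ χ ∈ D.Y :=
  Set.Finite.mem_toFinset _

theorem mem_Xp (D : BrauerData p P) (χ : IrrCharacter G) :
    χ ∈ Xp D ↔ χ ∈ D.X ∧ D.δ χ = 1 ∧ χ ≠ trivIrr G := by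
  classical
  unfold Xp
  rw [Finset.mem_filter, mem_XF]

theorem card_XF (D : BrauerData p P) : (XF D).card = eN P := by
  rw [← D.card_X, Nat.card_eq_card_finite_toFinset (Set.toFinite D.X)]
  rfl

theorem card_YF (D : BrauerData p P) : (YF D).card = Nat.card D.Y := by
  rw [Nat.card_eq_card_finite_toFinset (Set.toFinite D.Y)]
  rfl

end BD

/-! ## Bundles of intermediate results (each field is the conclusion of a piece) -/

/-- Layer 1: elementary group-theoretic consequences of `Hyp`. -/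
structure Basic (p : ℕ) (P : Subgroup G) (n : ℕ) : Prop extends Hyp p P n where
  card_NP : Nat.card (NP P) = p * eN P
  index_NP : (NP P).index = 1 + n * p
  card_G : Nat.card G = p * eN P * (1 + n * p)
  eN_dvd : eN P ∣ p - 1
  two_le_eN : 2 ≤ eN P
  one_le_n : 1 ≤ n
  five_le : 5 ≤ p
  /-- elements of `N ∖ P` are `p`-regular -/
  regular : ∀ h ∈ NP P, h ∉ P → ¬ p ∣ orderOf h
  /-- a non-trivial element of `P` is conjugated into `N` only by elements of `N` -/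
  conj_mem : ∀ x y : G, y ∈ P → y ≠ 1 → x⁻¹ * y * x ∈ NP P → x ∈ NP P
  /-- for `h ∈ N ∖ P` the coset `h P` is the `P`-conjugacy class of `h` -/
  conj_mul : ∀ h ∈ NP P, h ∉ P → ∀ y ∈ P, ∃ u ∈ P, u * h * u⁻¹ = h * y
  /-- `C_P(h) = 1` for `h ∈ N ∖ P` -/
  cent_P : ∀ h ∈ NP P, h ∉ P → ∀ y ∈ P, h * y = y * h → y = 1
  /-- `N / P` is cyclic -/
  cyc : IsCyclic (QP P)

/-- Layer 2a: the dual group `L` of `N / P`. -/
structure LinFacts (P : Subgroup G) [Fintype (Lin P)] : Prop where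
  card : Fintype.card (Lin P) = eN P
  sum_mem : ∀ h : ↥(NP P), (h : G) ∈ P → ∑ φ : Lin P, lam P φ h = (eN P : ℂ)
  sum_not_mem : ∀ h : ↥(NP P), (h : G) ∉ P → ∑ φ : Lin P, lam P φ h = 0

/-- Layer 2b: the induced characters `Λ_φ` and their multiplicities. -/
structure Dict0 [Fintype G] [Fintype (IrrCharacter G)] (P : Subgroup G) : Prop where
  isChar : ∀ φ : Lin P, IsCharacter G (indL P φ)
  inner : ∀ (φ : Lin P) (χ : IrrCharacter G),
    Cfsg.classInner (indL P φ) (χ : G → ℂ) = (mult P φ χ : ℂ)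
  expand : ∀ φ : Lin P, indL P φ = ∑ χ : IrrCharacter G, (mult P φ χ : ℂ) • (χ : G → ℂ)
  conj : ∀ φ : Lin P, indL P φ⁻¹ = fun g => (starRingEnd ℂ) (indL P φ g)

/-- Layer 3: the dictionary between the `Λ_φ` and Brauer's description of the principal block. -/
structure Dict [Fintype G] [Fintype (IrrCharacter G)] (p : ℕ) (P : Subgroup G) (n : ℕ)
    [Fintype (Lin P)] (D : BrauerData p P) : Prop extends Dict0 P where
  val1 : ∀ φ : Lin P, indL P φ 1 = ((1 + n * p : ℕ) : ℂ)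
  valP : ∀ φ : Lin P, ∀ y ∈ P, y ≠ 1 → indL P φ y = 1
  deg : ∀ φ : Lin P, ∑ χ : IrrCharacter G, mult P φ χ * irrDeg χ = 1 + n * p
  triv_one : mult P (1 : Lin P) (trivIrr G) = 1
  triv_ne : ∀ φ : Lin P, φ ≠ 1 → mult P φ (trivIrr G) = 0
  sumP : ∀ χ : IrrCharacter G,
    (p : ℂ) * ∑ φ : Lin P, (mult P φ χ : ℂ) = ∑ᶠ y : ↥P, (χ : G → ℂ) (y : G)
  sumX : ∀ χ ∈ D.X,
    (p : ℤ) * ∑ φ : Lin P, (mult P φ χ : ℤ) = (irrDeg χ : ℤ) + ((p : ℤ) - 1) * D.δ χ
  sumY : ∀ ψ ∈ D.Y, ∑ φ : Lin P, mult P φ ψ = D.a ψ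
  sumO : ∀ χ : IrrCharacter G, χ ∉ D.X → χ ∉ D.Y → p * ∑ φ : Lin P, mult P φ χ = irrDeg χ
  rel : ∀ φ : Lin P, ∀ ψ ∈ D.Y,
    ∑ χ ∈ XF D, D.δ χ * (mult P φ χ : ℤ) - D.ε * (mult P φ ψ : ℤ) = 1
  val : ∀ (χ : IrrCharacter G) (h : ↥(NP P)), (h : G) ∉ P →
    (χ : G → ℂ) (h : G) = ∑ φ : Lin P, (mult P φ χ : ℂ) * lam P φ h

/-- Layer 4: the decomposition of the `Λ_φ` (uses the hypothesis `2 n < p + 3`). -/
structure Struc [Fintype G] [Fintype (IrrCharacter G)] (p : ℕ) (P : Subgroup G) (n : ℕ)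
    [Fintype (Lin P)] (D : BrauerData p P) : Prop where
  degXp : ∀ χ ∈ D.X, D.δ χ = 1 → χ ≠ trivIrr G → irrDeg χ = 1 + n * p
  posY : D.ε = 1 → ∀ ψ ∈ D.Y, irrDeg ψ = eN P ∧ D.a ψ = 0
  negY : D.ε = -1 → ∀ ψ ∈ D.Y,
    Nat.card D.Y * irrDeg ψ = 1 + n * p ∧ D.a ψ * Nat.card D.Y = n + 1
  form : ∀ φ : Lin P, φ ≠ 1 →
    (∃ χ ∈ D.X, D.δ χ = 1 ∧ χ ≠ trivIrr G ∧ mult P φ χ = 1 ∧
        ∀ χ' : IrrCharacter G, χ' ≠ χ → mult P φ χ' = 0) ∨
    (D.ε = -1 ∧ (∀ ψ ∈ D.Y, mult P φ ψ = 1) ∧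
        ∀ χ' : IrrCharacter G, χ' ∉ D.Y → mult P φ χ' = 0)
  pi_zero : ∀ χ : IrrCharacter G, (χ ∈ D.X ∧ χ ≠ trivIrr G) ∨ χ ∈ D.Y → mult P (1 : Lin P) χ = 0
  pi_norm : ∑ χ : IrrCharacter G, mult P (1 : Lin P) χ ^ 2 = n + 1
  other : ∀ χ : IrrCharacter G, χ ∉ D.X → χ ∉ D.Y → irrDeg χ = p * mult P (1 : Lin P) χ
  countX : ∀ χ ∈ D.X, D.δ χ = 1 → χ ≠ trivIrr G →
    (Finset.univ.filter (fun φ : Lin P => mult P φ χ = 1)).card = n + 1
  countY : D.ε = -1 → ∀ ψ ∈ D.Y,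
    (Finset.univ.filter (fun φ : Lin P => mult P φ ψ = 1)).card = D.a ψ
  star_pos : D.ε = 1 → (n + 1) * (Xp D).card + 1 = eN P
  star_neg : D.ε = -1 → ∀ ψ ∈ D.Y, (n + 1) * (Xp D).card + D.a ψ + 1 = eN P

/-- Layer 5: the permutation structure of `G` on the cosets of `N` (rank `n + 1`, two-point
stabilizers are the `e` complements of `P` in `N`). -/
structure Perm (p : ℕ) (P : Subgroup G) (n : ℕ) : Prop where
  /-- every `h ∈ N ∖ P` fixes exactly `n + 1` cosets of `N` -/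
  fixcount : ∀ h ∈ NP P, h ∉ P →
    Nat.card {x : G // x⁻¹ * h * x ∈ NP P} = (n + 1) * (p * eN P)
  /-- `|N ∩ g N g⁻¹| = e` for `g ∉ N` -/
  rk : ∀ g : G, g ∉ NP P → Nat.card ↥(EE P g) = eN P
  /-- subgroups of order `e` of `N` meet `P` trivially, are cyclic, and complement `P` -/
  compl_inf : ∀ E : Subgroup G, E ≤ NP P → Nat.card E = eN P → E ⊓ P = ⊥
  compl_cyc : ∀ E : Subgroup G, E ≤ NP P → Nat.card E = eN P → IsCyclic E
  compl_mul : ∀ E : Subgroup G, E ≤ NP P → Nat.card E = eN P →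
    ∀ h ∈ NP P, ∃ c ∈ E, ∃ y ∈ P, h = c * y
  /-- two complements with a common non-trivial element coincide -/
  compl_ti : ∀ E₁ E₂ : Subgroup G, E₁ ≤ NP P → E₂ ≤ NP P → Nat.card E₁ = eN P →
    Nat.card E₂ = eN P → ∀ h : G, h ∈ E₁ → h ∈ E₂ → h ≠ 1 → E₁ = E₂
  /-- complements are conjugate under `P` -/
  compl_conj : ∀ E₁ E₂ : Subgroup G, E₁ ≤ NP P → E₂ ≤ NP P → Nat.card E₁ = eN P →
    Nat.card E₂ = eN P → ∃ y ∈ P, E₂ = cj y E₁

end Cfsg.Agent.S0996P
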