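import Mathlib
import Cfsg.Agent.Helper20.ZassD
import Cfsg.Agent.Helper24.TwoTransitive

/-!
Piece (G3) of Feit's theorem on Zassenhaus groups (S0885): the character inputs for the point
stabiliser.
-/

set_option autoImplicit false
set_option linter.style.haveILetI false

namespace Cfsg.Agent.Helper27.FeitG3

open Cfsg MulAction

theorem zdata_chars {G Ω : Type*} [Group G] [Fintype G] [MulAction G Ω] [Fintype Ω]
    (hZ : IsZassenhausGroup G Ω) {a b : Ω} (hab : a ≠ b) [IsSimpleGroup G]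
    (hodd : Odd (Nat.card ↥(stabilizer G a ⊓ stabilizer G b))) (H : Subgroup G)
    (hHa : H ≤ stabilizer G a) (hHcard : Nat.card H + 1 = Fintype.card Ω)
    (hHfix : ∀ u ∈ H, u ≠ 1 → ∀ c : Ω, u • c = c → c = a) :
    (∀ μ : stabilizer G a → ℂ, IsCharacter (stabilizer G a) μ → μ 1 = 1 →
      (∀ k : stabilizer G a, (k : G) ∈ H → μ k = 1) → μ ≠ (fun _ => 1) →
      IsIrrCharacter G (indFun (stabilizer G a) μ) ∧
        ∀ u ∈ H, u ≠ 1 → indFun (stabilizer G a) μ u = 1) ∧
    (∀ u ∈ H, u ≠ 1 → indFun (stabilizer G a) (fun _ : stabilizer G a => (1 : ℂ)) u = 1) ∧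
    IsIrrCharacter G (indFun (stabilizer G a) (fun _ : stabilizer G a => (1 : ℂ)) - 1) := by
  classical
  refine ⟨?_, ?_, ?_⟩
  · intro μ hμ hμ1 hμH hμne
    exact ⟨Cfsg.Agent.Helper20.Zass.indFun_irreducible hZ hab hodd H hHa hHcard hHfix μ hμ hμ1
        hμH hμne,
      (Cfsg.Agent.Helper20.Zass.indFun_values hZ hab hodd H hHa hHcard hHfix μ hμ hμ1 hμH).2.1⟩
  · exact (Cfsg.Agent.Helper20.Zass.indFun_values hZ hab hodd H hHa hHcard hHfix
      (fun _ => (1 : ℂ)) Cfsg.Agent.Helper24.isCharacter_const_one rfl (fun _ _ => rfl)).2.1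
  · haveI : IsMultiplyPretransitive G Ω 2 := hZ.2.1
    haveI : IsPretransitive G Ω := isPretransitive_of_is_two_pretransitive
    have h2 : 2 ≤ Nat.card Ω := by
      rw [Nat.card_eq_fintype_card]
      exact Fintype.one_lt_card_iff.mpr ⟨a, b, hab⟩
    have h3 := (Cfsg.Agent.Helper24.isIrrCharacter_permChar_sub_one_iff (G := G) Ω h2).mpr hZ.2.1
    rw [← Cfsg.Agent.Helper24.permChar_eq_indFun Ω a]
    exact h3

end Cfsg.Agent.Helper27.FeitG3
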