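import Mathlib
import Cfsg.Agent.Helper8.TIFN3
import Cfsg.Agent.Helper24.ColumnOrth
import Cfsg.Agent.Helper24.Product
import Cfsg.Agent.Helper24.RealChar
import Cfsg.Agent.Helper8.CoherenceKernel
import Cfsg.Agent.Helper5.IndFun

/-!
Piece (P6) of Feit's theorem on Zassenhaus groups (S0885): the degree count for `χ * conj χ`.
-/

set_option autoImplicit false
set_option linter.style.haveILetI false

namespace Cfsg.Agent.Helper27.FeitP6

open Cfsg Cfsg.Agent.Helper24 Cfsg.Agent.Helper8.FrobKer Cfsg.Agent.Helper8.TIFN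

variable {G : Type*} [Group G] [Fintype G] {K N : Subgroup G}

/-- members of `SS K N` vanish off `K` -/
theorem vanish (hyp : Hyp K N) {ξ : N → ℂ} (hξ : ξ ∈ SS K N) (n : N) (hn : (n : G) ∉ K) :
    ξ n = 0 := by
  classical
  haveI : Fintype N := Fintype.ofFinite _
  haveI := hyp.normal
  exact vanish_off (K.subgroupOf N) (frob hyp) ⟨ξ, hξ.1⟩ hξ.2 hn

/-- `(χ χ̄, Ind μ) = 1` for `μ` trivial on `K` -/
theorem inner_lin (hyp : Hyp K N) (χ : G → ℂ) (hχ : IsClassFunction G χ) (θ : N → ℂ)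
    (hθ : θ ∈ SS K N) (hres : ∀ n : N, χ n = θ n) (μ : N → ℂ)
    (hμ : ∀ k : N, (k : G) ∈ K → μ k = 1) :
    classInner (fun g => χ g * (starRingEnd ℂ) (χ g)) (indFun N μ) = 1 := by
  classical
  haveI : Fintype N := Fintype.ofFinite _
  have hΨ : IsClassFunction G (fun g => χ g * (starRingEnd ℂ) (χ g)) := by
    intro g x
    simp only [hχ g x]
  rw [← classInner_restrict _ hΨ μ]
  have h1 : classInner θ θ = 1 := by
    rw [classInner_of_isIrrCharacter hθ.1 hθ.1, if_pos rfl]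
  rw [← h1]
  unfold classInner
  congr 1
  refine Finset.sum_congr rfl fun n _ => ?_
  simp only [hres n]
  by_cases hn : (n : G) ∈ K
  · rw [hμ n hn, map_one, mul_one]
  · rw [vanish hyp hθ n hn, zero_mul, zero_mul]

/-- `(χ χ̄, 1) = 1` -/
theorem inner_one (χ : G → ℂ) (hχ : IsIrrCharacter G χ) :
    classInner (fun g => χ g * (starRingEnd ℂ) (χ g)) (fun _ => (1 : ℂ)) = 1 := by
  classical
  have h1 : classInner χ χ = 1 := by
    rw [classInner_of_isIrrCharacter hχ hχ, if_pos rfl]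
  have h2 : classInner (fun g => χ g * (starRingEnd ℂ) (χ g)) (fun _ => (1 : ℂ))
      = classInner χ χ := by
    unfold classInner
    congr 1
    refine Finset.sum_congr rfl fun g _ => ?_
    rw [map_one, mul_one]
  rw [h2, h1]

/-- irreducible characters of `N` constant on `K` are linear when `N/K` is abelian -/
theorem lin_of_const (hab : ∀ x y : N, x * y * x⁻¹ * y⁻¹ ∈ K.subgroupOf N) (ψ : IrrCharacter N)
    (hψ : ¬ NonConst (K.subgroupOf N) (ψ : N → ℂ)) : (ψ : N → ℂ) 1 = 1 := by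
  apply Cfsg.Agent.Helper8.irr_degree_one_of_commutator_le_ker ψ
  intro a ha
  have hle : commutator N ≤ K.subgroupOf N := by
    rw [commutator_def, Subgroup.commutator_le]
    intro x _ y _
    rw [commutatorElement_def]
    exact hab x y
  unfold NonConst at hψ
  push Not at hψ
  exact hψ a (hle ha)

theorem one_of_const (hab : ∀ x y : N, x * y * x⁻¹ * y⁻¹ ∈ K.subgroupOf N) (ψ : IrrCharacter N)
    (hψ : ¬ NonConst (K.subgroupOf N) (ψ : N → ℂ)) (k : N) (hk : (k : G) ∈ K) :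
    (ψ : N → ℂ) k = 1 := by
  have h1 := lin_of_const hab ψ hψ
  unfold NonConst at hψ
  push Not at hψ
  rw [hψ k (Subgroup.mem_subgroupOf.mpr hk), h1]


section Sums

variable [Fintype N] [Fintype (IrrCharacter N)]

open Classical in
/-- the set `L` of irreducible characters of `N` constant on `K` -/
noncomputable def LL (K N : Subgroup G) [Fintype (IrrCharacter N)] : Finset (IrrCharacter N) :=
  Finset.univ.filter (fun ψ : IrrCharacter N => ¬ NonConst (K.subgroupOf N) (ψ : N → ℂ))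

omit [Fintype G] [Fintype N] in
theorem mem_LL (ψ : IrrCharacter N) :
    ψ ∈ LL K N ↔ ¬ NonConst (K.subgroupOf N) (ψ : N → ℂ) := by
  classical
  unfold LL
  rw [Finset.mem_filter]
  exact ⟨fun h => h.2, fun h => ⟨Finset.mem_univ _, h⟩⟩

theorem sum_LL (hyp : Hyp K N) (hab : ∀ x y : N, x * y * x⁻¹ * y⁻¹ ∈ K.subgroupOf N) (n : N) :
    ∑ ψ ∈ LL K N, (ψ : N → ℂ) n
      = ((K.subgroupOf N).index : ℂ) * indK (K.subgroupOf N) n := by
  classical
  haveI := hyp.normal
  have h := sum_const (K.subgroupOf N) n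
  rw [← h]
  unfold LL
  rw [Finset.sum_filter]
  refine Finset.sum_congr rfl fun ψ _ => ?_
  by_cases hψ : NonConst (K.subgroupOf N) (ψ : N → ℂ)
  · rw [if_pos hψ, if_neg (not_not.mpr hψ)]
  · rw [if_neg hψ, if_pos hψ, lin_of_const hab ψ hψ, one_mul]

theorem card_LL (hyp : Hyp K N) (hab : ∀ x y : N, x * y * x⁻¹ * y⁻¹ ∈ K.subgroupOf N) :
    (LL K N).card = (K.subgroupOf N).index := by
  classical
  have h := sum_LL hyp hab (1 : N)
  rw [indK_mem _ (Subgroup.one_mem _), mul_one] at h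
  have h2 : ∑ ψ ∈ LL K N, (ψ : N → ℂ) 1 = ((LL K N).card : ℂ) := by
    rw [Finset.sum_congr rfl (fun ψ hψ => lin_of_const hab ψ ((mem_LL ψ).mp hψ)),
      Finset.sum_const, nsmul_eq_mul, mul_one]
  rw [h2] at h
  exact_mod_cast h

omit [Fintype N] in
theorem triv_mem_LL : trivIrr N ∈ LL K N := by
  rw [mem_LL]
  rintro ⟨k, _, hk⟩
  exact hk rfl

/-- for a class function `P` of `G` of degree `h + 1` which is `1` on `K ∖ 1`:
`∑_{ψ ∈ L} (P, Ind ψ) = 2`. -/
theorem sum_inner_LL (hyp : Hyp K N) (e h : ℕ) (hK : Nat.card K = h)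
    (hidx : (K.subgroupOf N).index = e)
    (hab : ∀ x y : N, x * y * x⁻¹ * y⁻¹ ∈ K.subgroupOf N)
    (P : G → ℂ) (hP : IsClassFunction G P) (hP1 : P 1 = (h : ℂ) + 1)
    (hPK : ∀ u ∈ K, u ≠ 1 → P u = 1) :
    ∑ ψ ∈ LL K N, classInner P (indFun N (ψ : N → ℂ)) = 2 := by
  classical
  haveI := hyp.normal
  have hcardK' : Nat.card (K.subgroupOf N) = h := by
    rw [← hK]
    exact Nat.card_congr (Subgroup.subgroupOfEquivOfLe hyp.le).toEquiv
  have hcardN : (Nat.card N : ℂ) = (h : ℂ) * (e : ℂ) := by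
    rw [← card_mul_index_complex (K.subgroupOf N), hcardK', hidx]
  have hh0 : (h : ℂ) ≠ 0 := by
    rw [← hK]
    exact_mod_cast (Nat.card_pos (α := K)).ne'
  have he0 : (e : ℂ) ≠ 0 := by
    rw [← hidx]
    have : (K.subgroupOf N).index ≠ 0 := Subgroup.index_ne_zero_of_finite
    exact_mod_cast this
  have h1 : ∀ ψ ∈ LL K N, classInner P (indFun N (ψ : N → ℂ))
      = classInner (fun n : N => P n) (ψ : N → ℂ) := by
    intro ψ _
    rw [classInner_restrict P hP]
  rw [Finset.sum_congr rfl h1, ← classInner_sum_right]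
  have h2 : (∑ ψ ∈ LL K N, (ψ : N → ℂ)) = fun n => (e : ℂ) * indK (K.subgroupOf N) n := by
    funext n
    rw [Finset.sum_apply, sum_LL hyp hab, hidx]
  rw [h2]
  unfold classInner
  have h3 : ∀ n : N, P n * (starRingEnd ℂ) ((e : ℂ) * indK (K.subgroupOf N) n)
      = (e : ℂ) * (indK (K.subgroupOf N) n + (if n = 1 then (h : ℂ) else 0)) := by
    intro n
    rw [map_mul, Complex.conj_natCast, conj_indK]
    by_cases hn : n = 1
    · subst hn
      rw [if_pos rfl, indK_mem _ (Subgroup.one_mem _), show ((1 : N) : G) = 1 from rfl, hP1]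
      ring
    · rw [if_neg hn]
      by_cases hnK : (n : G) ∈ K
      · rw [indK_mem _ (Subgroup.mem_subgroupOf.mpr hnK),
          hPK n hnK (fun h' => hn (Subtype.ext h'))]
        ring
      · rw [indK_not_mem _ (fun h' => hnK (Subgroup.mem_subgroupOf.mp h'))]
        ring
  rw [Finset.sum_congr rfl (fun n _ => h3 n), ← Finset.mul_sum, Finset.sum_add_distrib,
    sum_indK, Finset.sum_ite_eq' Finset.univ (1 : N), if_pos (Finset.mem_univ _), hcardK',
    hcardN]
  field_simp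
  ring

end Sums


/-- **(P6)** the degree count for `χ χ̄`. -/
theorem final (hyp : Hyp K N) (e h : ℕ) (hK : Nat.card K = h)
    (hidx : (K.subgroupOf N).index = e) (hGN : N.index = h + 1)
    (hab : ∀ x y : N, x * y * x⁻¹ * y⁻¹ ∈ K.subgroupOf N)
    (hInd : ∀ μ : N → ℂ, IsCharacter N μ → μ 1 = 1 → (∀ k : N, (k : G) ∈ K → μ k = 1) →
      μ ≠ (fun _ => 1) → IsIrrCharacter G (indFun N μ) ∧ ∀ u ∈ K, u ≠ 1 → indFun N μ u = 1)
    (χ : G → ℂ) (hχ : IsIrrCharacter G χ) (θ : N → ℂ) (hθ : θ ∈ SS K N)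
    (hθ1 : θ 1 = (e : ℂ)) (hres : ∀ n : N, χ n = θ n) :
    2 + (e - 1) * (h + 1) ≤ 2 * e ^ 2 := by
  classical
  haveI : Fintype N := Fintype.ofFinite _
  haveI : Fintype (IrrCharacter N) := Fintype.ofFinite _
  haveI : Fintype (IrrCharacter G) := Fintype.ofFinite _
  have hχc : IsCharacter G χ := IsIrrCharacter.isCharacter hχ
  have hΨchar : IsCharacter G (fun g => χ g * (starRingEnd ℂ) (χ g)) :=
    IsCharacter.mul hχc (isCharacter_star hχc)
  obtain ⟨a, ha⟩ := IsCharacter.exists_nat_coeff hΨchar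
  have hcoef : ∀ P : IrrCharacter G,
      classInner (fun g => χ g * (starRingEnd ℂ) (χ g)) (P : G → ℂ) = a P := by
    intro P
    rw [ha]
    exact classInner_sum_irr _ P
  -- degree equation in ℕ
  have hdeg : e ^ 2 = ∑ P : IrrCharacter G, a P * irrDeg P := by
    have h1 := congrFun ha 1
    simp only [Finset.sum_apply, Pi.smul_apply, smul_eq_mul] at h1
    have hχ1 : χ 1 = (e : ℂ) := by
      have := hres 1
      rw [show ((1 : N) : G) = 1 from rfl] at this
      rw [this, hθ1]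
    rw [hχ1, Complex.conj_natCast] at h1
    have h2 : ((e ^ 2 : ℕ) : ℂ) = ((∑ P : IrrCharacter G, a P * irrDeg P : ℕ) : ℂ) := by
      push_cast
      rw [pow_two, h1]
      refine Finset.sum_congr rfl fun P _ => ?_
      rw [irrDeg_spec]
    exact_mod_cast h2
  -- the map `f`
  let f : IrrCharacter N → IrrCharacter G := fun ψ =>
    if hψ : IsIrrCharacter G (indFun N (ψ : N → ℂ)) then ⟨indFun N (ψ : N → ℂ), hψ⟩
    else trivIrr G
  let L' := (LL K N).erase (trivIrr N)
  have hL'card : L'.card = e - 1 := by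
    rw [Finset.card_erase_of_mem triv_mem_LL, card_LL hyp hab, hidx]
  have hprop : ∀ ψ ∈ L', IsIrrCharacter G (indFun N (ψ : N → ℂ)) ∧
      (∀ u ∈ K, u ≠ 1 → indFun N (ψ : N → ℂ) u = 1) := by
    intro ψ hψ
    rw [Finset.mem_erase] at hψ
    obtain ⟨hne, hL⟩ := hψ
    rw [mem_LL] at hL
    apply hInd (ψ : N → ℂ) (IsIrrCharacter.isCharacter ψ.2) (lin_of_const hab ψ hL)
      (one_of_const hab ψ hL)
    intro heq
    apply hne
    exact Subtype.ext heq
  have hf : ∀ ψ ∈ L', ((f ψ : IrrCharacter G) : G → ℂ) = indFun N (ψ : N → ℂ) := by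
    intro ψ hψ
    simp only [f, dif_pos (hprop ψ hψ).1]
  have hdeg_f : ∀ ψ ∈ L', irrDeg (f ψ) = h + 1 := by
    intro ψ hψ
    have h1 := irrDeg_spec (f ψ)
    rw [hf ψ hψ, Cfsg.Agent.Helper5.indFun_apply_one, hGN] at h1
    rw [Finset.mem_erase, mem_LL] at hψ
    rw [lin_of_const hab ψ hψ.2, mul_one] at h1
    exact_mod_cast h1.symm
  have ha_f : ∀ ψ ∈ L', a (f ψ) = 1 := by
    intro ψ hψ
    have h1 := hcoef (f ψ)
    rw [hf ψ hψ] at h1
    rw [Finset.mem_erase, mem_LL] at hψ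
    rw [inner_lin hyp χ (IsCharacter.isClassFunction hχc) θ hθ hres _ (one_of_const hab ψ hψ.2)] at h1
    exact_mod_cast h1.symm
  have ha_triv : a (trivIrr G) = 1 := by
    have h1 := hcoef (trivIrr G)
    have h2 : ((trivIrr G : IrrCharacter G) : G → ℂ) = fun _ => 1 := rfl
    rw [h2, inner_one χ hχ] at h1
    exact_mod_cast h1.symm
  have hdeg_triv : irrDeg (trivIrr G) = 1 := by
    have h1 := irrDeg_spec (trivIrr G)
    rw [trivIrr_apply] at h1
    exact_mod_cast h1.symm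
  have hh_pos : 0 < h := by
    rw [← hK]
    exact Nat.card_pos
  -- the image
  let T := L'.image f
  have htriv_notin : trivIrr G ∉ T := by
    intro hmem
    rw [Finset.mem_image] at hmem
    obtain ⟨ψ, hψ, heq⟩ := hmem
    have := hdeg_f ψ hψ
    rw [heq, hdeg_triv] at this
    omega
  -- fibres have at most two elements
  have hfiber : ∀ P ∈ T, (L'.filter (fun ψ => f ψ = P)).card ≤ 2 := by
    intro P hP
    rw [Finset.mem_image] at hP
    obtain ⟨ψ₀, hψ₀, rfl⟩ := hP
    have hPcf : IsClassFunction G ((f ψ₀ : IrrCharacter G) : G → ℂ) := isClassFunction_irr _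
    have hP1 : ((f ψ₀ : IrrCharacter G) : G → ℂ) 1 = (h : ℂ) + 1 := by
      rw [irrDeg_spec, hdeg_f ψ₀ hψ₀]
      push_cast
      rfl
    have hPK : ∀ u ∈ K, u ≠ 1 → ((f ψ₀ : IrrCharacter G) : G → ℂ) u = 1 := by
      rw [hf ψ₀ hψ₀]
      exact (hprop ψ₀ hψ₀).2
    have hsum := sum_inner_LL hyp e h hK hidx hab _ hPcf hP1 hPK
    have hnat : ∀ ψ : IrrCharacter N, ∃ m : ℕ,
        classInner ((f ψ₀ : IrrCharacter G) : G → ℂ) (indFun N (ψ : N → ℂ)) = m := by
      intro ψ
      exact IsCharacter.classInner_nat (IsIrrCharacter.isCharacter (f ψ₀).2)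
        (isCharacter_indFun N (IsIrrCharacter.isCharacter ψ.2))
    choose m hm using hnat
    have hsum' : ∑ ψ ∈ LL K N, m ψ = 2 := by
      have h3 : ((∑ ψ ∈ LL K N, m ψ : ℕ) : ℂ) = 2 := by
        push_cast
        rw [← hsum]
        exact Finset.sum_congr rfl fun ψ _ => (hm ψ).symm
      exact_mod_cast h3
    have hm1 : ∀ ψ ∈ L'.filter (fun ψ => f ψ = f ψ₀), m ψ = 1 := by
      intro ψ hψ
      rw [Finset.mem_filter] at hψ
      have h1 := hm ψ
      rw [← hf ψ hψ.1, hψ.2, classInner_irr_self] at h1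
      exact_mod_cast h1.symm
    calc (L'.filter (fun ψ => f ψ = f ψ₀)).card
        = ∑ ψ ∈ L'.filter (fun ψ => f ψ = f ψ₀), m ψ := by
          rw [Finset.sum_congr rfl hm1, Finset.sum_const, smul_eq_mul, mul_one]
      _ ≤ ∑ ψ ∈ LL K N, m ψ := by
          apply Finset.sum_le_sum_of_subset
          intro ψ hψ
          exact Finset.mem_of_mem_erase (Finset.mem_of_mem_filter _ hψ)
      _ = 2 := hsum'
  have hcount : L'.card ≤ 2 * T.card :=
    Finset.card_le_mul_card_image_of_maps_to (fun ψ hψ => Finset.mem_image_of_mem f hψ) 2 hfiber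
  -- lower bound for `e ^ 2`
  have hlow : 1 + T.card * (h + 1) ≤ e ^ 2 := by
    rw [hdeg]
    calc 1 + T.card * (h + 1) = ∑ P ∈ insert (trivIrr G) T, a P * irrDeg P := by
          rw [Finset.sum_insert htriv_notin, ha_triv, hdeg_triv]
          congr 1
          rw [Finset.sum_congr rfl (g := fun _ => h + 1), Finset.sum_const, smul_eq_mul]
          intro P hP
          rw [Finset.mem_image] at hP
          obtain ⟨ψ, hψ, rfl⟩ := hP
          rw [ha_f ψ hψ, hdeg_f ψ hψ, one_mul]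
      _ ≤ ∑ P : IrrCharacter G, a P * irrDeg P :=
          Finset.sum_le_sum_of_subset (Finset.subset_univ _)
  have hfin : (e - 1) * (h + 1) ≤ 2 * T.card * (h + 1) := by
    rw [← hL'card]
    exact Nat.mul_le_mul_right _ hcount
  nlinarith [hfin, hlow]

end Cfsg.Agent.Helper27.FeitP6
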