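import Cfsg.Agent.Helper22.S1589Basic

/-! S1589 piece LB (helper27): a transitive `K ≤ M24` containing `fixG o` whose point stabiliser `K_x`
(`x ∈ o`) stabilises the octad `o` has order prime to 5. -/

set_option autoImplicit false
set_option linter.all false

namespace Cfsg.Agent.S1589P

open Cfsg Cfsg.Agent.Helper27 Cfsg.Agent.Helper17.M23Idx
open scoped Pointwise

variable {K : Subgroup (Equiv.Perm GolayPt)}

namespace LB

/-- if `k⁻¹ h k` stabilises `o` then `h` stabilises `k • o` -/
theorem smul_of_conj {k h : Equiv.Perm GolayPt} {o : Finset GolayPt} (h2 : (k⁻¹ * h * k) • o = o) :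
    h • (k • o) = k • o := by
  rw [mul_smul, mul_smul] at h2
  have := congrArg (fun s => k • s) h2
  simpa using this

theorem card_smul_octad {o : Finset GolayPt} (ho : o ∈ octads) (k : Equiv.Perm GolayPt) :
    (k • o).card = 8 := by
  rw [Finset.card_smul_finset]
  exact ho.2

/-- `k ∈ K`, `k x ∈ o` ⇒ `k • o = o` -/
theorem star (hM : K ≤ M24) {o : Finset GolayPt} (ho : o ∈ octads) (hQ : fixG o ≤ K)
    {x : GolayPt} (hxo : x ∈ o) (hst : ∀ k ∈ fixH K {x}, k • o = o) {k : Equiv.Perm GolayPt}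
    (hk : k ∈ K) (hkx : k x ∈ o) : k • o = o := by
  classical
  have hstab : ∀ h ∈ fixG o, h • (k • o) = k • o := by
    intro h hh
    have hhK : h ∈ K := hQ hh
    have hfix : h (k x) = k x := ((mem_fixG _ _).mp hh).2 _ hkx
    have h1 : k⁻¹ * h * k ∈ fixH K {x} :=
      conj_mem_fixH' hk x ((mem_fixH_singleton K (k x) h).mpr ⟨hhK, hfix⟩)
    exact smul_of_conj (hst _ h1)
  have hsub : k • o ⊆ o := by
    intro z hz
    by_contra hzo
    have hall : ∀ b, b ∉ o → b ∈ k • o := by
      intro b hb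
      obtain ⟨h, hh, hhz⟩ := fixG_octad_trans ho hzo hb
      have := (mem_smul_finset_perm h (k • o) z).mpr hz
      rw [hstab h hh, hhz] at this
      exact this
    have hkxmem : k x ∈ k • o := (mem_smul_finset_perm k o x).mpr hxo
    have hcard : (Finset.univ \ o).card ≤ ((k • o).erase (k x)).card := by
      apply Finset.card_le_card
      intro b hb
      rw [Finset.mem_sdiff] at hb
      rw [Finset.mem_erase]
      refine ⟨?_, hall b hb.2⟩
      rintro rfl
      exact hb.2 hkx
    rw [Finset.card_erase_of_mem hkxmem, card_smul_octad ho,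
      Finset.card_sdiff_of_subset (Finset.subset_univ o), card_univ_golay, ho.2] at hcard
    omega
  exact Finset.eq_of_subset_of_card_le hsub (by rw [Finset.card_smul_finset])

/-- `k ∈ K`, `y ∈ o`, `k y ∈ o` ⇒ `k • o = o` -/
theorem star2 (hM : K ≤ M24) (hT : Trans K) {o : Finset GolayPt} (ho : o ∈ octads)
    (hQ : fixG o ≤ K) {x : GolayPt} (hxo : x ∈ o) (hst : ∀ k ∈ fixH K {x}, k • o = o)
    {k : Equiv.Perm GolayPt} (hk : k ∈ K) {y : GolayPt} (hy : y ∈ o) (hky : k y ∈ o) :
    k • o = o := by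
  obtain ⟨k₁, hk₁, hk₁x⟩ := hT x y
  have h1 : k₁ • o = o := star hM ho hQ hxo hst hk₁ (by rw [hk₁x]; exact hy)
  have h2 : (k * k₁) • o = o :=
    star hM ho hQ hxo hst (K.mul_mem hk hk₁) (by rw [Equiv.Perm.mul_apply, hk₁x]; exact hky)
  rw [mul_smul, h1] at h2
  exact h2

end LB

open LB in
/-- LB -/
theorem no_octad_block (hM : K ≤ M24) (hT : Trans K) {o : Finset GolayPt} (ho : o ∈ octads) (hQ : fixG o ≤ K)
    {x : GolayPt} (hxo : x ∈ o) (hst : ∀ k ∈ fixH K {x}, k • o = o) (h5 : 5 ∣ Nat.card K) : False := by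
  classical
  haveI : Fact (Nat.Prime 5) := ⟨by norm_num⟩
  obtain ⟨g, hgK, hg5⟩ := exists_orderOf_mem K 5 h5
  have hgM := hM hgK
  have hfix4 := five_fixed hgM hg5
  have hgp := pow_eq_one_of_orderOf hg5
  have hblock : ∀ p, g p = p → ∃ k ∈ K, k x = p ∧ ((k • o) ∩ g.supportᶜ).card = 3 := by
    intro p hp
    obtain ⟨k, hk, hkx⟩ := hT x p
    have h1 : k⁻¹ * g * k ∈ fixH K {x} :=
      conj_mem_fixH' hk x ((mem_fixH_singleton K (k x) g).mpr ⟨hgK, by rw [hkx]; exact hp⟩)
    have hg_inv : g • (k • o) = k • o := smul_of_conj (hst _ h1)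
    have hinv : ∀ q, g q ∈ k • o ↔ q ∈ k • o := by
      intro q
      conv_lhs => rw [← hg_inv]
      exact mem_smul_finset_perm g (k • o) q
    have hc := inv_card_mod_le hgp (k • o) hinv (by rw [hfix4]; norm_num)
    rw [card_smul_octad ho] at hc
    exact ⟨k, hk, hkx, by omega⟩
  have hne : (g.supportᶜ).Nonempty := by
    rw [← Finset.card_pos, hfix4]; norm_num
  obtain ⟨p, hp⟩ := hne
  obtain ⟨k, hk, hkx, hc3⟩ := hblock p ((mem_fix_iff g p).mp hp)
  have hex : ∃ p' ∈ g.supportᶜ, p' ∉ k • o := by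
    by_contra hcon
    push Not at hcon
    have hsub : g.supportᶜ ⊆ (k • o) ∩ g.supportᶜ :=
      fun q hq => Finset.mem_inter.mpr ⟨hcon q hq, hq⟩
    have := Finset.card_le_card hsub
    omega
  obtain ⟨p', hp', hp'D⟩ := hex
  obtain ⟨k', hk', hk'x, hc3'⟩ := hblock p' ((mem_fix_iff g p').mp hp')
  have hdisj : Disjoint (k • o) (k' • o) := by
    rw [Finset.disjoint_left]
    intro z hz hz'
    rw [mem_smul_perm_iff] at hz hz'
    have h1 : (k'⁻¹ * k) • o = o :=
      star2 hM hT ho hQ hxo hst (K.mul_mem (K.inv_mem hk') hk) hz (by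
        rw [Equiv.Perm.mul_apply]
        simpa using hz')
    have heq : k • o = k' • o := by
      have := congrArg (fun s => k' • s) h1
      simpa [mul_smul] using this
    apply hp'D
    rw [heq, ← hk'x]
    exact (mem_smul_finset_perm k' o x).mpr hxo
  have hdisj2 : Disjoint ((k • o) ∩ g.supportᶜ) ((k' • o) ∩ g.supportᶜ) :=
    Finset.disjoint_of_subset_left Finset.inter_subset_left
      (Finset.disjoint_of_subset_right Finset.inter_subset_left hdisj)
  have hunion : ((k • o) ∩ g.supportᶜ ∪ (k' • o) ∩ g.supportᶜ).card ≤ (g.supportᶜ).card :=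
    Finset.card_le_card (Finset.union_subset Finset.inter_subset_right Finset.inter_subset_right)
  rw [Finset.card_union_of_disjoint hdisj2, hc3, hc3', hfix4] at hunion
  omega

end Cfsg.Agent.S1589P
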