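import Cfsg.Agent.Helper22.S1589Basic
import Cfsg.Agent.Helper9.S1589SMALLFIX
import Cfsg.Agent.Helper27.S1589LB

/-! S1589 piece LA (helper27): a transitive `K ≤ M24` whose point stabiliser `K_x` stabilises a duad
`s ∌ x`, is transitive on the 21 other points and has order divisible by 105 does not exist. -/

set_option autoImplicit false
set_option linter.all false

namespace Cfsg.Agent.S1589P

open Cfsg Cfsg.Agent.Helper27 Cfsg.Agent.Helper17.M23Idx
open scoped Pointwise

variable {K : Subgroup (Equiv.Perm GolayPt)}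

namespace LA

theorem fixH_fixH_comm (K : Subgroup (Equiv.Perm GolayPt)) (x y : GolayPt) :
    fixH (fixH K {x}) {y} = fixH (fixH K {y}) {x} := by
  ext g
  rw [mem_fixH_singleton, mem_fixH_singleton, mem_fixH_singleton, mem_fixH_singleton]
  tauto

theorem card_sub_pos (H : Subgroup (Equiv.Perm GolayPt)) : 0 < Nat.card H := Nat.card_pos

theorem card_fixH_eq (hT : Trans K) (x y : GolayPt) :
    Nat.card (fixH K {x}) = Nat.card (fixH K {y}) := by
  have h1 := card_of_trans hT x
  have h2 := card_of_trans hT y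
  omega

theorem card_T {x : GolayPt} {s : Finset GolayPt} (hs : s.card = 2) (hxs : x ∉ s) :
    (insert x s).card = 3 := by
  rw [Finset.card_insert_of_notMem hxs, hs]

theorem card_compl_T (T : Finset GolayPt) (hT3 : T.card = 3) : (Finset.univ \ T).card = 21 := by
  rw [Finset.card_sdiff_of_subset (Finset.subset_univ T), card_univ_golay, hT3]

/-- an orbit containing all points outside a 3-set has at least 21 points -/
theorem orb_ge (H : Subgroup (Equiv.Perm GolayPt)) (T : Finset GolayPt) (hT3 : T.card = 3) (a : GolayPt)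
    (htr : ∀ b, b ∉ T → ∃ h ∈ H, h a = b) : 21 ≤ (orbF H a).card := by
  rw [← card_compl_T T hT3]
  apply Finset.card_le_card
  intro b hb
  rw [Finset.mem_sdiff] at hb
  exact (mem_orbF H a b).mpr (htr b hb.2)

section main

variable (hM : K ≤ M24) (hT : Trans K) {x : GolayPt} {s : Finset GolayPt} (hs : s.card = 2) (hxs : x ∉ s)
  (hstab : ∀ k ∈ fixH K {x}, k • s = s)
  (htr : ∀ a b : GolayPt, a ∉ insert x s → b ∉ insert x s → ∃ k ∈ fixH K {x}, k a = b)

include hstab in
/-- `K_{k x}` stabilises `k • s` -/
theorem conj_stab {k : Equiv.Perm GolayPt} (hk : k ∈ K) :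
    ∀ h ∈ fixH K {k x}, h • (k • s) = k • s := by
  intro h hh
  exact LB.smul_of_conj (hstab _ (conj_mem_fixH' hk x hh))

include htr in
/-- `K_{k x}` is transitive outside `k • T` -/
theorem conj_tr {k : Equiv.Perm GolayPt} (hk : k ∈ K) (a b : GolayPt) (ha : a ∉ k • insert x s)
    (hb : b ∉ k • insert x s) : ∃ h ∈ fixH K {k x}, h a = b := by
  rw [mem_smul_perm_iff] at ha hb
  obtain ⟨h', hh', hh'a⟩ := htr _ _ ha hb
  refine ⟨k * h' * k⁻¹, conj_mem_fixH hk x hh', ?_⟩
  simp only [Equiv.Perm.mul_apply]
  rw [hh'a]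
  simp

include hT hs hxs hstab htr in
/-- Claim A: `k x ∈ s` ⇒ `k • T = T` -/
theorem claimA {k : Equiv.Perm GolayPt} (hk : k ∈ K) (hkx : k x ∈ s) :
    k • insert x s = insert x s := by
  classical
  set y := k x with hy
  have hyx : y ≠ x := fun h => hxs (h ▸ hkx)
  have hT3 : (insert x s).card = 3 := card_T hs hxs
  have hkT3 : (k • insert x s).card = 3 := by rw [Finset.card_smul_finset, hT3]
  -- the `K_x`-orbit of `y` lies in `s`
  have horb_y : (orbF (fixH K {x}) y).card ≤ 2 := by
    rw [← hs]
    apply Finset.card_le_card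
    intro b hb
    obtain ⟨h, hh, rfl⟩ := (mem_orbF _ _ _).mp hb
    have := (mem_smul_finset_perm h s y).mpr hkx
    rwa [hstab h hh] at this
  have e1 := card_eq_orbF_mul (fixH K {x}) y
  have e2 := card_eq_orbF_mul (fixH K {y}) x
  rw [← fixH_fixH_comm K x y, ← card_fixH_eq hT x y] at e2
  have hpos := card_sub_pos (fixH (fixH K {x}) {y})
  have horb_eq : (orbF (fixH K {y}) x).card = (orbF (fixH K {x}) y).card := by
    have : (orbF (fixH K {y}) x).card * Nat.card (fixH (fixH K {x}) {y}) =
        (orbF (fixH K {x}) y).card * Nat.card (fixH (fixH K {x}) {y}) := by rw [← e1, ← e2]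
    exact Nat.eq_of_mul_eq_mul_right hpos this
  -- `x ∈ k • T`
  have hxkT : x ∈ k • insert x s := by
    by_contra hcon
    have := orb_ge (fixH K {y}) (k • insert x s) hkT3 x
      (fun b hb => conj_tr htr hk x b hcon hb)
    omega
  rw [Finset.smul_finset_insert, Equiv.Perm.smul_def] at hxkT
  have hxks : x ∈ k • s := by
    rcases Finset.mem_insert.mp hxkT with h | h
    · exact absurd h.symm hyx
    · exact h
  have hks2 : (k • s).card = 2 := by rw [Finset.card_smul_finset, hs]
  -- `k • s ⊆ T`
  have hsub : k • s ⊆ insert x s := by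
    intro w hw
    by_contra hwT
    have hwx : w ≠ x := fun h => hwT (h ▸ Finset.mem_insert_self x s)
    have hpair : k • s = {x, w} := by
      symm
      apply Finset.eq_of_subset_of_card_le
      · intro q hq
        rcases Finset.mem_insert.mp hq with rfl | hq
        · exact hxks
        · rw [Finset.mem_singleton.mp hq]; exact hw
      · rw [hks2, Finset.card_pair hwx.symm]
    have hle : fixH (fixH K {x}) {y} ≤ fixH (fixH K {x}) {w} := by
      intro g hg
      rw [mem_fixH_singleton] at hg ⊢
      refine ⟨hg.1, ?_⟩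
      have hgx : g x = x := ((mem_fixH_singleton K x g).mp hg.1).2
      have hgy : g ∈ fixH K {y} :=
        (mem_fixH_singleton K y g).mpr ⟨((mem_fixH_singleton K x g).mp hg.1).1, hg.2⟩
      have h1 := conj_stab hstab hk g hgy
      have h2 : g w ∈ k • s := by
        rw [← h1]
        exact (mem_smul_finset_perm g (k • s) w).mpr hw
      rw [hpair, Finset.mem_insert, Finset.mem_singleton] at h2
      rcases h2 with h2 | h2
      · exfalso
        apply hwx
        apply g.injective
        rw [h2, hgx]
      · exact h2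
    have hcle := Subgroup.card_le_of_le hle
    have e3 := card_eq_orbF_mul (fixH K {x}) w
    have h21 := orb_ge (fixH K {x}) (insert x s) hT3 w (fun b hb => htr w b hwT hb)
    have hposw := card_sub_pos (fixH (fixH K {x}) {w})
    have hA : 21 * Nat.card (fixH (fixH K {x}) {w}) ≤ Nat.card (fixH K {x}) := by
      rw [e3]; exact Nat.mul_le_mul_right _ h21
    have hB : Nat.card (fixH K {x}) ≤ 2 * Nat.card (fixH (fixH K {x}) {y}) := by
      rw [e1]; exact Nat.mul_le_mul_right _ horb_y
    omega
  apply Finset.eq_of_subset_of_card_le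
  · rw [Finset.smul_finset_insert, Equiv.Perm.smul_def]
    intro q hq
    rcases Finset.mem_insert.mp hq with rfl | hq
    · exact Finset.mem_insert_of_mem hkx
    · exact hsub hq
  · rw [Finset.card_smul_finset]

include hT hs hxs hstab htr in
/-- Claim B: `k' x ∈ k • s` ⇒ `k' • T = k • T` -/
theorem claimB {k k' : Equiv.Perm GolayPt} (hk : k ∈ K) (hk' : k' ∈ K) (h : k' x ∈ k • s) :
    k' • insert x s = k • insert x s := by
  rw [mem_smul_perm_iff] at h
  have h1 : (k⁻¹ * k') • insert x s = insert x s :=
    claimA hT hs hxs hstab htr (K.mul_mem (K.inv_mem hk) hk') (by rw [Equiv.Perm.mul_apply]; exact h)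
  have := congrArg (fun t => k • t) h1
  simpa [mul_smul] using this

end main

end LA

open LA in
/-- LA -/
theorem no_triple (hM : K ≤ M24) (hT : Trans K) {x : GolayPt} {s : Finset GolayPt} (hs : s.card = 2) (hxs : x ∉ s)
    (hstab : ∀ k ∈ fixH K {x}, k • s = s)
    (htr : ∀ a b : GolayPt, a ∉ insert x s → b ∉ insert x s → ∃ k ∈ fixH K {x}, k a = b)
    (h105 : 105 ∣ Nat.card (fixH K {x})) : False := by
  classical
  haveI : Fact (Nat.Prime 5) := ⟨by norm_num⟩
  have hT3 : (insert x s).card = 3 := card_T hs hxs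
  -- a point outside `T`
  obtain ⟨a, haT⟩ : ∃ a, a ∉ insert x s := by
    by_contra hne
    push Not at hne
    have : insert x s = Finset.univ := Finset.eq_univ_iff_forall.mpr hne
    rw [this, card_univ_golay] at hT3
    omega
  -- an element of order 5 in `K_{x a}`
  have e1 := card_eq_orbF_mul (fixH K {x}) a
  have h21 := orb_ge (fixH K {x}) (insert x s) hT3 a (fun b hb => htr a b haT hb)
  have h24 : (orbF (fixH K {x}) a).card ≤ 24 := by
    rw [← card_univ_golay]; exact Finset.card_le_card (Finset.subset_univ _)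
  have h5 : 5 ∣ Nat.card (fixH (fixH K {x}) {a}) := by
    have h5' : 5 ∣ (orbF (fixH K {x}) a).card * Nat.card (fixH (fixH K {x}) {a}) := by
      rw [← e1]; exact Dvd.dvd.trans (by norm_num) h105
    rcases (Nat.Prime.dvd_mul (by norm_num)).mp h5' with h | h
    · exfalso
      generalize (orbF (fixH K {x}) a).card = c at h h21 h24
      interval_cases c <;> omega
    · exact h
  obtain ⟨g, hg, hg5⟩ := exists_orderOf_mem (fixH (fixH K {x}) {a}) 5 h5
  rw [mem_fixH_singleton] at hg
  obtain ⟨hgx, hga⟩ := hg
  have hgK : g ∈ K := ((mem_fixH_singleton K x g).mp hgx).1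
  have hgxx : g x = x := ((mem_fixH_singleton K x g).mp hgx).2
  have hgp := pow_eq_one_of_orderOf hg5
  have hfix4 := five_fixed (hM hgK) hg5
  -- `g` fixes `s` pointwise
  have hinv_of : ∀ (h : Equiv.Perm GolayPt), h • s = s → ∀ q, h q ∈ s ↔ q ∈ s := by
    intro h hh q
    conv_lhs => rw [← hh]
    exact mem_smul_finset_perm h s q
  have hgs : ∀ q ∈ s, g q = q :=
    fix_of_small_prime hgp s (by rw [hs]; norm_num) (hinv_of g (hstab g hgx))
  -- the fixed points of `g` are `insert a T`
  have hfixset : g.supportᶜ = insert a (insert x s) := by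
    symm
    apply Finset.eq_of_subset_of_card_le
    · intro q hq
      rw [mem_fix_iff]
      rcases Finset.mem_insert.mp hq with rfl | hq
      · exact hga
      · rcases Finset.mem_insert.mp hq with rfl | hq
        · exact hgxx
        · exact hgs q hq
    · rw [hfix4, Finset.card_insert_of_notMem haT, hT3]
  -- `k x = a`
  obtain ⟨k, hk, hkx⟩ := hT x a
  have hconj : k⁻¹ * g * k ∈ fixH K {x} :=
    conj_mem_fixH' hk x ((mem_fixH_singleton K (k x) g).mpr ⟨hgK, by rw [hkx]; exact hga⟩)
  have hconj5 : (k⁻¹ * g * k) ^ 5 = 1 := by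
    have : k⁻¹ * g * k = k⁻¹ * g * k⁻¹⁻¹ := by rw [inv_inv]
    rw [this, conj_pow, hgp]
    simp
  have hcs : ∀ q ∈ s, (k⁻¹ * g * k) q = q :=
    fix_of_small_prime hconj5 s (by rw [hs]; norm_num) (hinv_of _ (hstab _ hconj))
  -- `k • s ⊆ T`
  have hks : k • s ⊆ insert x s := by
    intro r hr
    rw [mem_smul_perm_iff] at hr
    have h1 := hcs _ hr
    simp only [Equiv.Perm.mul_apply] at h1
    have h2 : g r = r := by
      have := congrArg k h1
      simpa using this
    have h3 : r ∈ g.supportᶜ := (mem_fix_iff g r).mpr h2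
    rw [hfixset] at h3
    rcases Finset.mem_insert.mp h3 with h3 | h3
    · exfalso
      apply hxs
      rw [h3, ← hkx] at hr
      simpa using hr
    · exact h3
  -- a point `r` of `k • s`
  have hne : (k • s).Nonempty := by
    rw [← Finset.card_pos, Finset.card_smul_finset, hs]; norm_num
  obtain ⟨r, hr⟩ := hne
  have hrT := hks hr
  obtain ⟨k', hk', hk'x⟩ := hT x r
  have hB : k' • insert x s = k • insert x s :=
    claimB hT hs hxs hstab htr hk hk' (by rw [hk'x]; exact hr)
  have hk'T : k' • insert x s = insert x s := by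
    rcases Finset.mem_insert.mp hrT with h | h
    · -- `k' ∈ K_x`
      have hk'x' : k' ∈ fixH K {x} := (mem_fixH_singleton K x k').mpr ⟨hk', by rw [hk'x, h]⟩
      rw [Finset.smul_finset_insert, Equiv.Perm.smul_def, hk'x, h, hstab k' hk'x']
    · exact claimA hT hs hxs hstab htr hk' (by rw [hk'x]; exact h)
  apply haT
  rw [← hk'T, hB, ← hkx]
  exact (mem_smul_finset_perm k (insert x s) x).mpr (Finset.mem_insert_self x s)

end Cfsg.Agent.S1589P
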