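import Mathlib
import Cfsg.Agent.Helper2.S2094.DefsR
import Cfsg.Agent.Helper26.S2094CONJSL
import Cfsg.Agent.Helper26.S2094CONJSS1

set_option autoImplicit false
set_option linter.unusedSectionVars false
set_option linter.unusedVariables false

/-! S2094 piece CONJSS2: a short Weyl element `wY Ys a t` conjugating the short root elements
`Ys a u`, `Ys (ng a) u` (uses CONJSL + CONJSS1). -/

namespace Cfsg.Agent.S2094P

open Matrix Cfsg.Agent.S3352P Cfsg.Agent.S3351P Cfsg.Agent.S2096P Cfsg.Agent.RGD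

variable {n : ℕ} {F : Type*} [Field F] {M : Type*} [Group M] {X : J n → J n → F → M}
  {Ys : J n → F → M}

namespace CONJSS2

/-- for `n ≥ 2` every signed index is the first index of a root -/
theorem exists_isRoot (hn : 2 ≤ n) (a : J n) : ∃ b : J n, IsRoot a b := by
  obtain ⟨i, rfl | rfl⟩ : ∃ i : Fin n, a = Sum.inl i ∨ a = Sum.inr i := by
    cases a with
    | inl i => exact ⟨i, Or.inl rfl⟩
    | inr i => exact ⟨i, Or.inr rfl⟩
  · obtain ⟨j, hj⟩ : ∃ j : Fin n, j ≠ i := by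
      by_cases h0 : i.val = 0
      · exact ⟨⟨1, by omega⟩, fun h => by have := congrArg Fin.val h; simp at this; omega⟩
      · exact ⟨⟨0, by omega⟩, fun h => by have := congrArg Fin.val h; simp at this; omega⟩
    refine ⟨Sum.inl j, ?_, ?_⟩
    · intro h; exact hj (Sum.inl_injective h).symm
    · intro h; simp at h
  · obtain ⟨j, hj⟩ : ∃ j : Fin n, j ≠ i := by
      by_cases h0 : i.val = 0
      · exact ⟨⟨1, by omega⟩, fun h => by have := congrArg Fin.val h; simp at this; omega⟩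
      · exact ⟨⟨0, by omega⟩, fun h => by have := congrArg Fin.val h; simp at this; omega⟩
    refine ⟨Sum.inl j, ?_, ?_⟩
    · intro h; simp at h
    · intro h
      rw [ng_inl] at h
      exact hj (Sum.inr_injective h).symm

/-- conjugation distributes over `cm` -/
theorem conj_cm (w x y : M) : w * cm x y * w⁻¹ = cm (w * x * w⁻¹) (w * y * w⁻¹) := by
  simp only [cm_def]
  group

/-- conjugation distributes over `x * y⁻¹` -/
theorem conj_mul_inv (w x y : M) : w * (x * y⁻¹) * w⁻¹ = (w * x * w⁻¹) * (w * y * w⁻¹)⁻¹ := by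
  group

/-- a short root element as a commutator (from `xy`) -/
theorem Ys_eq_cm (hB : BRel X Ys) {a b : J n} (hab : IsRoot a b) (u : F) :
    Ys a u = cm (X a b u) (Ys b 1) * (X a (ng b) u)⁻¹ := by
  have h := hB.xy a b hab u 1
  rw [mul_one, mul_one] at h
  rw [h, mul_inv_cancel_right]

end CONJSS2

open CONJSS2

/-- CONJSS2 -/
theorem wY_conj_Ys_self (hn : 3 ≤ n) (hB : BRel X Ys) (a : J n) {t : F} (ht : t ≠ 0) (u : F) :
    wY Ys a t * Ys a u * (wY Ys a t)⁻¹ = Ys (ng a) (t⁻¹ * t⁻¹ * u) := by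
  obtain ⟨b, hab⟩ := exists_isRoot (by omega : 2 ≤ n) a
  have hab' : IsRoot a (ng b) := isRoot_ng_right' hab
  have hnab : IsRoot (ng a) b := isRoot_ng_left' hab
  rw [Ys_eq_cm hB hab u, conj_mul_inv]
  rw [conj_cm, wY_conj_X_fst hB hab ht, wY_conj_Ys_of_ne hB hab ht, wY_conj_X_fst hB hab' ht]
  rw [hB.xy (ng a) b hnab]
  have e1 : -(t⁻¹ * t⁻¹ * u) * -1 = t⁻¹ * t⁻¹ * u := by ring
  have e2 : t⁻¹ * t⁻¹ * u * -1 = -(t⁻¹ * t⁻¹ * u) := by ring
  rw [e1, e2, mul_inv_cancel_right]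

theorem wY_conj_Ys_ng (hn : 3 ≤ n) (hB : BRel X Ys) (a : J n) {t : F} (ht : t ≠ 0) (u : F) :
    wY Ys a t * Ys (ng a) u * (wY Ys a t)⁻¹ = Ys a (t * t * u) := by
  obtain ⟨b, hab⟩ := exists_isRoot (by omega : 2 ≤ n) a
  have hab' : IsRoot a (ng b) := isRoot_ng_right' hab
  have hnab : IsRoot (ng a) b := isRoot_ng_left' hab
  rw [Ys_eq_cm hB hnab u, conj_mul_inv]
  rw [conj_cm, wY_conj_X_ng_fst hB hab ht, wY_conj_Ys_of_ne hB hab ht,
    wY_conj_X_ng_fst hB hab' ht]
  rw [hB.xy a b hab]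
  have e1 : -(t * t * u) * -1 = t * t * u := by ring
  have e2 : t * t * u * -1 = -(t * t * u) := by ring
  rw [e1, e2, mul_inv_cancel_right]

end Cfsg.Agent.S2094P
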