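import Mathlib
import Cfsg.Agent.Helper2.S2094.DefsR
import Cfsg.Agent.Helper27.S2094CONJSS2

set_option autoImplicit false
set_option linter.unusedSectionVars false
set_option linter.unusedVariables false

/-! S2094 piece WYID: rank one identities of the short roots. -/

namespace Cfsg.Agent.S2094P

open Matrix Cfsg.Agent.S3352P Cfsg.Agent.S3351P Cfsg.Agent.S2096P Cfsg.Agent.RGD

variable {n : ℕ} {F : Type*} [Field F] {M : Type*} [Group M] {X : J n → J n → F → M}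
  {Ys : J n → F → M}

theorem wY_inv' (hB : BRel X Ys) (a : J n) (t : F) : (wY Ys a t)⁻¹ = wY Ys a (-t) := by
  unfold wY
  rw [_root_.mul_inv_rev, _root_.mul_inv_rev, Ys_inv hB, Ys_inv hB, inv_neg, mul_assoc]

theorem wY_eq_tY_mul (hB : BRel X Ys) (a : J n) (t : F) :
    wY Ys a t = tY Ys a t * wY Ys a 1 := by
  unfold tY
  rw [← wY_inv' hB a 1, inv_mul_cancel_right]

theorem tY_one (hB : BRel X Ys) (a : J n) : tY Ys a (1 : F) = 1 := by
  unfold tY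
  rw [← wY_inv' hB a 1, mul_inv_cancel]

namespace WYID

/-- conjugation distributes over a triple product -/
theorem conj_mul3 (w x y z : M) :
    w * (x * y * z) * w⁻¹ = (w * x * w⁻¹) * (w * y * w⁻¹) * (w * z * w⁻¹) := by
  group

end WYID

theorem wY_swap (hn : 3 ≤ n) (hB : BRel X Ys) (a : J n) {t : F} (ht : t ≠ 0) :
    wY Ys (ng a) t = wY Ys a t⁻¹ := by
  have hs : t⁻¹ ≠ 0 := inv_ne_zero ht
  have h1 : wY Ys a t⁻¹ * wY Ys a t⁻¹ * (wY Ys a t⁻¹)⁻¹ = wY Ys a t⁻¹ := mul_inv_cancel_right _ _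
  rw [← h1]
  conv_rhs => rw [show wY Ys a t⁻¹ * wY Ys a t⁻¹ * (wY Ys a t⁻¹)⁻¹ =
      wY Ys a t⁻¹ * (Ys a t⁻¹ * Ys (ng a) t⁻¹⁻¹ * Ys a t⁻¹) * (wY Ys a t⁻¹)⁻¹ from rfl]
  rw [WYID.conj_mul3, wY_conj_Ys_self hn hB a hs, wY_conj_Ys_ng hn hB a hs]
  unfold wY
  rw [ng_ng, inv_inv]
  have e1 : t * t * t⁻¹ = t := by field_simp
  have e2 : t⁻¹ * t⁻¹ * t = t⁻¹ := by field_simp
  rw [e1, e2]

end Cfsg.Agent.S2094P
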