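import Mathlib
import Cfsg.Agent.Helper12.S3222Defs

/-!
# S3222, piece CLS: `|u^G| * |C_G(u)| = |G|`
-/

set_option autoImplicit false

namespace Cfsg.Agent.S3222P

/-- the map `G ⧸ C_G(u) → u^G`, `g C ↦ g u g⁻¹` -/
noncomputable def CLS_aux_map {G : Type*} [Group G] (u : G) :
    G ⧸ Subgroup.centralizer ({u} : Set G) → {v : G // IsConj u v} :=
  fun q => Quotient.liftOn' q (fun g => (⟨g * u * g⁻¹, isConj_iff.mpr ⟨g, rfl⟩⟩ : {v : G // IsConj u v}))
    (by
      intro g h hgh
      rw [QuotientGroup.leftRel_apply, Subgroup.mem_centralizer_singleton_iff] at hgh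
      apply Subtype.ext
      show g * u * g⁻¹ = h * u * h⁻¹
      have h1 : h = g * (g⁻¹ * h) := by group
      rw [h1]
      have h2 : g * (g⁻¹ * h) * u * (g * (g⁻¹ * h))⁻¹ = g * ((g⁻¹ * h) * u) * (g⁻¹ * h)⁻¹ * g⁻¹ := by
        group
      rw [h2, hgh]
      group)

theorem CLS_aux_bij {G : Type*} [Group G] (u : G) : Function.Bijective (CLS_aux_map u) := by
  constructor
  · intro q1 q2
    induction q1 using Quotient.inductionOn' with | _ g =>
    induction q2 using Quotient.inductionOn' with | _ h =>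
    intro hgh
    have h1 : g * u * g⁻¹ = h * u * h⁻¹ := congrArg Subtype.val hgh
    apply Quotient.sound'
    rw [QuotientGroup.leftRel_apply, Subgroup.mem_centralizer_singleton_iff]
    have h2 : g⁻¹ * h * u = g⁻¹ * (h * u * h⁻¹) * h := by group
    rw [h2, ← h1]
    group
  · rintro ⟨v, hv⟩
    obtain ⟨c, hc⟩ := isConj_iff.mp hv
    exact ⟨Quotient.mk'' c, Subtype.ext hc⟩

theorem CLS {G : Type*} [Group G] [Finite G] (u : G) :
    Nat.card {v : G // IsConj u v} * Nat.card ↥(Subgroup.centralizer ({u} : Set G)) =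
      Nat.card G := by
  rw [Subgroup.card_eq_card_quotient_mul_card_subgroup (Subgroup.centralizer ({u} : Set G)),
    Nat.card_congr (Equiv.ofBijective _ (CLS_aux_bij u))]

end Cfsg.Agent.S3222P
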