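import Mathlib
import Cfsg.Agent.Helper12.S3222Defs

/-!
# S3222, piece INVERT: an involution normalising but not centralising a group of prime order
inverts it
-/

set_option autoImplicit false

namespace Cfsg.Agent.S3222P

theorem INVERT {G : Type*} [Group G] [Finite G] {p : ℕ} [Fact p.Prime] (P : Sylow p G)
    (hP : Nat.card ↥(P : Subgroup G) = p) (u : G) (hu : u * u = 1)
    (hN : u ∈ Subgroup.normalizer ((P : Subgroup G) : Set G))
    (hC : ¬ p ∣ Nat.card ↥(Subgroup.centralizer ({u} : Set G))) :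
    ∀ x ∈ (P : Subgroup G), u * x * u⁻¹ = x⁻¹ := by
  intro x hx
  have hp : p.Prime := Fact.out
  have hcyc : IsCyclic ↥(P : Subgroup G) := isCyclic_of_prime_card hP
  have hcomm : ∀ a b : ↥(P : Subgroup G), a * b = b * a :=
    isMulCommutative_iff.mp inferInstance
  have hcomm' : ∀ a ∈ (P : Subgroup G), ∀ b ∈ (P : Subgroup G), a * b = b * a := by
    intro a ha b hb
    exact congrArg Subtype.val (hcomm ⟨a, ha⟩ ⟨b, hb⟩)
  have huinv : u⁻¹ = u := inv_eq_of_mul_eq_one_right hu
  have hux : u * x * u⁻¹ ∈ (P : Subgroup G) := (Subgroup.mem_normalizer_iff.mp hN x).mp hx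
  have hyP : x * (u * x * u⁻¹) ∈ (P : Subgroup G) := Subgroup.mul_mem _ hx hux
  have hyu : x * (u * x * u⁻¹) * u = u * (x * (u * x * u⁻¹)) := by
    have h1 : u * (x * (u * x * u⁻¹)) = (u * x * u⁻¹) * (u * u) * x * u⁻¹ := by group
    rw [h1, hu, mul_one, ← hcomm' x hx _ hux, huinv]
  by_contra hne
  have hy1 : x * (u * x * u⁻¹) ≠ 1 := by
    intro h1
    exact hne (eq_inv_of_mul_eq_one_right h1)
  have hord : orderOf (x * (u * x * u⁻¹)) = p := by
    have h1 : orderOf (⟨x * (u * x * u⁻¹), hyP⟩ : ↥(P : Subgroup G)) ∣ p := by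
      have := orderOf_dvd_natCard (⟨x * (u * x * u⁻¹), hyP⟩ : ↥(P : Subgroup G))
      rwa [hP] at this
    rw [Subgroup.orderOf_mk] at h1
    rcases (Nat.dvd_prime hp).mp h1 with h | h
    · exact absurd (orderOf_eq_one_iff.mp h) hy1
    · exact h
  apply hC
  rw [← hord]
  have hmem : x * (u * x * u⁻¹) ∈ Subgroup.centralizer ({u} : Set G) := by
    rw [Subgroup.mem_centralizer_singleton_iff]
    exact hyu
  exact Subgroup.orderOf_dvd_natCard _ hmem

end Cfsg.Agent.S3222P
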