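import Mathlib

/-!
# S4150: definitions shared by the pieces

`ptStab H S`  : pointwise stabiliser in `H` of the finset `S`, as a subgroup of `Perm α`.
`normIn G y`  : the normaliser in `G` of the cyclic group generated by `y`.
`restr H D`   : the permutations of `↥D` whose extension by the identity lies in `H`.
-/

set_option autoImplicit false

namespace Cfsg.Agent.S4150P

open Equiv Equiv.Perm MulAction

section
variable {α : Type*}

/-- Pointwise stabiliser in `H` of the finset `S`, as a subgroup of `Perm α`. -/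
def ptStab (H : Subgroup (Perm α)) (S : Finset α) : Subgroup (Perm α) where
  carrier := {g | g ∈ H ∧ ∀ a ∈ S, g a = a}
  mul_mem' := by
    rintro g h ⟨hg, hg'⟩ ⟨hh, hh'⟩
    refine ⟨H.mul_mem hg hh, fun a ha => ?_⟩
    rw [Perm.mul_apply, hh' a ha, hg' a ha]
  one_mem' := ⟨H.one_mem, fun _ _ => rfl⟩
  inv_mem' := by
    rintro g ⟨hg, hg'⟩
    refine ⟨H.inv_mem hg, fun a ha => ?_⟩
    rw [Perm.inv_eq_iff_eq, hg' a ha]

theorem mem_ptStab {H : Subgroup (Perm α)} {S : Finset α} {g : Perm α} :
    g ∈ ptStab H S ↔ g ∈ H ∧ ∀ a ∈ S, g a = a := Iff.rfl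

theorem ptStab_le (H : Subgroup (Perm α)) (S : Finset α) : ptStab H S ≤ H := fun _ h => h.1

/-- The normaliser in `G` of the cyclic subgroup generated by `y`. -/
def normIn (G : Subgroup (Perm α)) (y : Perm α) : Subgroup (Perm α) :=
  G ⊓ Subgroup.normalizer ((Subgroup.zpowers y : Subgroup (Perm α)) : Set (Perm α))

theorem normIn_le (G : Subgroup (Perm α)) (y : Perm α) : normIn G y ≤ G := inf_le_left

end

section
variable {α : Type*} [DecidableEq α]

/-- The permutations of `↥D` whose extension by the identity lies in `H`. -/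
def restr (H : Subgroup (Perm α)) (D : Finset α) : Subgroup (Perm ↥D) :=
  H.comap (Equiv.Perm.ofSubtype : Perm ↥D →* Perm α)

theorem mem_restr {H : Subgroup (Perm α)} {D : Finset α} {g : Perm ↥D} :
    g ∈ restr H D ↔ Equiv.Perm.ofSubtype g ∈ H := Iff.rfl

end

end Cfsg.Agent.S4150P
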