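import Mathlib
import Cfsg.Agent.Helper13.S0679Defs

set_option autoImplicit false
set_option linter.unusedSectionVars false
set_option linter.unusedVariables false

/-! # S0679, generic tools (a) (helper27): elements of prime order, cycle type, support, fixed points, parity.

All names `CTT.*` in `Cfsg.Agent.S0679P`. -/

namespace Cfsg.Agent.S0679P

open Equiv Equiv.Perm MulAction

variable {α : Type*} [Fintype α] [DecidableEq α]

/-- a permutation of prime order `p` is a product of `j ≥ 1` disjoint `p`-cycles -/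
theorem CTT.ct {g : Perm α} {p : ℕ} (hp : p.Prime) (hg : orderOf g = p) :
    ∃ j : ℕ, 1 ≤ j ∧ g.cycleType = Multiset.replicate j p ∧ g.support.card = j * p ∧
      (j = 1 → g.IsCycle) ∧ Equiv.Perm.sign g = (-1) ^ (j * (p - 1)) := by
  have hp' : (orderOf g).Prime := by rw [hg]; exact hp
  obtain ⟨n, hn⟩ := Equiv.Perm.cycleType_prime_order hp'
  rw [hg] at hn
  have hsum : g.support.card = (n + 1) * p := by
    rw [← Equiv.Perm.sum_cycleType, hn, Multiset.sum_replicate, smul_eq_mul]
  refine ⟨n + 1, by omega, hn, hsum, ?_, ?_⟩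
  · intro h1
    rw [← Equiv.Perm.card_cycleType_eq_one, hn, Multiset.card_replicate, h1]
  · rw [Equiv.Perm.sign_of_cycleType, hn, Multiset.sum_replicate, Multiset.card_replicate, smul_eq_mul]
    have hp1 : 1 ≤ p := hp.one_lt.le
    have : (n + 1) * p + (n + 1) = (n + 1) * (p - 1) + 2 * (n + 1) := by
      have : p = (p - 1) + 1 := by omega
      nlinarith [this]
    rw [this, pow_add, pow_mul (-1 : ℤˣ) 2 (n + 1)]
    simp

/-- support and fixed points of an element of prime order on `N` points -/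
theorem CTT.fix {N : ℕ} (hN : Fintype.card α = N) {g : Perm α} {p : ℕ} (hp : p.Prime)
    (hg : orderOf g = p) :
    ∃ j : ℕ, 1 ≤ j ∧ j * p ≤ N ∧ g.support.card = j * p ∧ (fixF g).card = N - j * p ∧
      (j = 1 → g.IsCycle) ∧ Equiv.Perm.sign g = (-1) ^ (j * (p - 1)) := by
  obtain ⟨j, hj, -, hs, hc, hsg⟩ := CTT.ct hp hg
  have h := card_fixF g
  rw [hN, hs] at h
  exact ⟨j, hj, by omega, hs, by omega, hc, hsg⟩

/-- an involution: `j` transpositions, `sign = (-1)^j` -/
theorem CTT.two {g : Perm α} (hg : orderOf g = 2) :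
    ∃ j : ℕ, 1 ≤ j ∧ g.support.card = 2 * j ∧ (j = 1 → g.IsCycle) ∧
      Equiv.Perm.sign g = (-1) ^ j := by
  obtain ⟨j, hj, -, hs, hc, hsg⟩ := CTT.ct Nat.prime_two hg
  refine ⟨j, hj, by omega, hc, ?_⟩
  rw [hsg]; simp

/-- an element of odd prime order is even -/
theorem CTT.sign_odd {g : Perm α} {p : ℕ} (hp : p.Prime) (hp2 : p ≠ 2) (hg : orderOf g = p) :
    Equiv.Perm.sign g = 1 := by
  obtain ⟨j, -, -, -, -, hsg⟩ := CTT.ct hp hg
  rw [hsg]
  have hodd : Odd p := hp.odd_of_ne_two hp2
  obtain ⟨m, hm⟩ := hodd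
  have : j * (p - 1) = 2 * (j * m) := by
    have : p - 1 = 2 * m := by omega
    rw [this]; ring
  rw [this, pow_mul]
  simp

/-- the order from the cycle type `{p, p}` -/
theorem CTT.pair {g : Perm α} {p : ℕ} (hct : g.cycleType = {p, p}) :
    orderOf g = p ∧ g.support.card = 2 * p ∧ (fixF g).card + 2 * p = Fintype.card α := by
  have h1 : orderOf g = p := by
    rw [← Equiv.Perm.lcm_cycleType, hct]
    simp
  have h2 : g.support.card = 2 * p := by
    rw [← Equiv.Perm.sum_cycleType, hct]
    simp; ring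
  refine ⟨h1, h2, ?_⟩
  have := card_fixF g
  omega

/-- an element of prime order `p` with `2 p` moved points has cycle type `{p, p}` -/
theorem CTT.pair_of {g : Perm α} {p : ℕ} (hp : p.Prime) (hg : orderOf g = p)
    (hs : g.support.card = 2 * p) : g.cycleType = {p, p} := by
  obtain ⟨j, hj, hct, hs', -, -⟩ := CTT.ct hp hg
  have hj2 : j = 2 := by
    have hp0 : 0 < p := hp.pos
    have : j * p = 2 * p := by omega
    exact Nat.eq_of_mul_eq_mul_right hp0 this
  rw [hct, hj2]
  rfl

end Cfsg.Agent.S0679P
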