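import Cfsg.Agent.Helper12.S5702Defs2
import Cfsg.Agent.Helper20.S5702TRANSO

set_option autoImplicit false
set_option linter.unusedSectionVars false
set_option linter.unusedVariables false

/-! # S5702 piece EXT2 (helper27; driver helper12; port of helper19's `Cfsg.Agent.Helper19.S5683EXT2`): two more
rational singular vectors orthogonal to a rational singular vector: move it to `e_0` by a rational element of
`S(Q)` (TRANSO) and pull back `e_1`, `e_2`. -/

namespace Cfsg.Agent.S5702P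

open Matrix Cfsg.Agent.Helper28.Sg Cfsg.Agent.Helper28.Spin Cfsg.Agent.Helper12.OrthGen
  Cfsg.Agent.S5683P

variable {F : Type*} [Field F] {m : ℕ} {a b : F}

namespace EXT2

theorem ee_apply_inl (i j : Fin m) :
    ee F i (Sum.inl (Sum.inl j)) = if j = i then 1 else 0 := by
  unfold ee
  by_cases h : j = i
  · subst h; rw [Pi.single_eq_same, if_pos rfl]
  · rw [if_neg h, Pi.single_eq_of_ne]
    intro e
    exact h (Sum.inl_injective (Sum.inl_injective e))

theorem ee_apply_inr (i j : Fin m) : ee F i (Sum.inl (Sum.inr j)) = 0 := by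
  unfold ee
  rw [Pi.single_eq_of_ne]
  intro e
  cases Sum.inl_injective e

end EXT2

/-- EXT2: two more rational singular vectors orthogonal to a rational singular vector. -/
theorem EXT2.exists_two (hm : 3 ≤ m) (F₀ : Subfield F) (ha : a ∈ F₀) (hb : b ∈ F₀)
    (hab : 4 * b - a ^ 2 ≠ 0) (s : Idx m → F)
    (hs : Rat F₀ s) (hs0 : s ≠ 0) (hQs : QfMinus m F a b s = 0) :
    ∃ t₁ t₂ : Idx m → F, Rat F₀ t₁ ∧ Rat F₀ t₂ ∧ QfMinus m F a b t₁ = 0 ∧
      QfMinus m F a b t₂ = 0 ∧ B (QfMinus m F a b) s t₁ = 0 ∧ B (QfMinus m F a b) s t₂ = 0 ∧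
      LinearIndependent F ![s, t₁, t₂] := by
  set i0 : Fin m := ⟨0, by omega⟩ with hi0
  set i1 : Fin m := ⟨1, by omega⟩ with hi1
  set i2 : Fin m := ⟨2, by omega⟩ with hi2
  have h01 : i0 ≠ i1 := by intro e; have := congrArg Fin.val e; simp [hi0, hi1] at this
  have h02 : i0 ≠ i2 := by intro e; have := congrArg Fin.val e; simp [hi0, hi2] at this
  have h12 : i1 ≠ i2 := by intro e; have := congrArg Fin.val e; simp [hi1, hi2] at this
  obtain ⟨g, c, hgS, hgR, hgR', hc, hc0, hgs⟩ :=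
    TRANSO.exists_move₁ hm F₀ ha hb hab s hs hs0 hQs i0
  set Q := QfMinus m F a b with hQ
  have hsinv : s = mt Q g⁻¹ *ᵥ (c • ee F i0) := by
    rw [← hgs, mt_inv_mulVec]
  have hQinv : ∀ x : Idx m → F, Q (mt Q g⁻¹ *ᵥ x) = Q x := Cfsg.Agent.Helper28.Spin.isom_apply Q g⁻¹
  have hB : ∀ k : Fin m, B Q s (mt Q g⁻¹ *ᵥ ee F k) = 0 := by
    intro k
    rw [hsinv, B_isom]
    show QuadraticMap.polar (⇑Q) (c • ee F i0) (ee F k) = 0
    rw [QuadraticMap.polar_smul_left]
    have : B Q (ee F i0) (ee F k) = 0 := by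
      rw [B_ee, EXT2.ee_apply_inr]
    show c • B Q (ee F i0) (ee F k) = 0
    rw [this, smul_zero]
  refine ⟨mt Q g⁻¹ *ᵥ ee F i1, mt Q g⁻¹ *ᵥ ee F i2, hgR'.mulVec (rat_ee i1),
    hgR'.mulVec (rat_ee i2), ?_, ?_, hB i1, hB i2, ?_⟩
  · rw [hQinv]; exact Q_ee i1
  · rw [hQinv]; exact Q_ee i2
  · rw [Fintype.linearIndependent_iff]
    intro a' ha'
    rw [Fin.sum_univ_three] at ha'
    simp only [Matrix.cons_val_zero, Matrix.cons_val_one, Matrix.cons_val_two, Matrix.head_cons,
      Matrix.tail_cons] at ha'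
    have hb' := congrArg (fun x => mt Q g *ᵥ x) ha'
    simp only [Matrix.mulVec_add, Matrix.mulVec_smul, mt_mulVec_inv, hgs, Matrix.mulVec_zero] at hb'
    have e0 := congrFun hb' (Sum.inl (Sum.inl i0))
    have e1 := congrFun hb' (Sum.inl (Sum.inl i1))
    have e2 := congrFun hb' (Sum.inl (Sum.inl i2))
    simp only [Pi.add_apply, Pi.smul_apply, smul_eq_mul, Pi.zero_apply, EXT2.ee_apply_inl,
      if_true, if_neg h01, if_neg h02, if_neg h12, if_neg h01.symm, if_neg h02.symm,
      if_neg h12.symm, mul_zero, mul_one, add_zero, zero_add] at e0 e1 e2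
    have a0 : a' 0 = 0 := by
      rcases mul_eq_zero.1 e0 with h | h
      · exact h
      · exact absurd h hc0
    intro k
    fin_cases k
    · exact a0
    · exact e1
    · exact e2

end Cfsg.Agent.S5702P
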