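import Mathlib
import Cfsg.Agent.Helper27.BG15J
import Cfsg.Agent.S1408

/-!
# B&G Corollary 15.3(c) / statement S1357: `F(M)` is a TI-subgroup when `M_F ≠ M_σ`
-/

set_option autoImplicit false
set_option linter.unusedSectionVars false
set_option linter.unusedVariables false

namespace Cfsg.Agent.Helper27.BG15

open Subgroup Cfsg Cfsg.Agent.Lead Cfsg.Agent.Helper14
open scoped commutatorElement
open Cfsg.Agent.H9.BG12 (sigmaCore_le le_normalizer_sigmaCore mem_sigma_of_dvd_card_sigmaCore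
  mem_of_map_cj_eq)

universe u

section main

variable {G : Type u} [Group G] [Finite G]

/-- if `M_F ≠ M_σ` then `F(M) ≤ M_σ` -/
theorem fittingOf_le_sigmaCore_of_ne (hG : Cfsg.IsMinSimpleOddOrder G) (h1350 : St1350 G)
    {M : Subgroup G} (hM : IsCoatom M) {K U : Subgroup G}
    (hKU : Cfsg.IsSigmaDecomposition M K U) (hU : U = ⊥) (hKp : (Nat.card K).Prime)
    (hder : Cfsg.sigmaCore M = ⁅M, M⁆)
    (hnn : ¬ Group.IsNilpotent (Cfsg.sigmaCore M)) :
    Cfsg.fittingOf M ≤ Cfsg.sigmaCore M := by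
  set F := Cfsg.fittingOf M with hF
  set S := Cfsg.sigmaCore M with hS
  have hFM : F ≤ M := fittingOf_le M
  have hSM : S ≤ M := sigmaCore_le M
  have hMeq : M = K ⊔ S := eq_sup_of_U_eq_bot hKU hU
  have hKM : K ≤ M := by rw [hMeq]; exact le_sup_left
  have hMS : M ≤ normalizer (S : Set G) := le_normalizer_sigmaCore M
  -- `|M| = |K| |S|`
  have hcardM : Nat.card M = Nat.card S * Nat.card K := by
    have h1 := Cfsg.Agent.Helper17.card_sup_mul_card_inf S K (hKM.trans hMS)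
    have h2 : S ⊓ K = ⊥ := by
      apply Disjoint.eq_bot
      apply Subgroup.disjoint_of_coprime_natCard
      exact (card_K_coprime_card_sigmaCore hKU).symm
    rw [h2, Subgroup.card_bot, mul_one, sup_comm, ← hMeq] at h1
    exact h1
  set L := S ⊔ F with hL
  have hLM : L ≤ M := sup_le hSM hFM
  have hSL : S ≤ L := le_sup_left
  obtain ⟨d, hd⟩ : Nat.card S ∣ Nat.card L := card_dvd_of_le hSL
  have hdp : d ∣ Nat.card K := by
    have h1 : Nat.card L ∣ Nat.card M := card_dvd_of_le hLM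
    rw [hd, hcardM] at h1
    exact Nat.dvd_of_mul_dvd_mul_left Nat.card_pos h1
  rcases (Nat.dvd_prime hKp).mp hdp with h | h
  · have h1 : S = L := Subgroup.eq_of_le_of_card_ge hSL (by rw [hd, h, mul_one])
    rw [h1]; exact le_sup_right
  · exfalso
    have h1 : L = M := Subgroup.eq_of_le_of_card_ge hLM (by rw [hd, h, hcardM])
    have h2 : M ≤ ⁅M, M⁆ ⊔ Cfsg.fittingOf M := by
      rw [← hder, ← hF, ← hL, h1]
    have h3 : Group.IsNilpotent M :=
      isNilpotent_of_le_commutator_sup_fittingOf M (isSolvable_of_coatom hG hM) h2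
    exact hnn (isNilpotent_of_le' hSM h3)

/-- **B&G Corollary 15.3(c)**: if `M_F ≠ M_σ` then `F(M)` is a TI-subgroup of `G`. -/
theorem fittingOf_TI_of_ne (hG : Cfsg.IsMinSimpleOddOrder G) (h1350 : St1350 G) (h1351 : St1351 G)
    (h1352 : St1352 G) (h1374 : St1374 G) (h1375 : St1375 G) (h1437 : St1437 G)
    {M : Subgroup G} (hM : IsCoatom M) {K U : Subgroup G}
    (hKU : Cfsg.IsSigmaDecomposition M K U)
    (hne : Cfsg.fittingHallOf M ≠ Cfsg.sigmaCore M) :
    Cfsg.IsTISubset (Cfsg.fittingOf M : Set G) := by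
  obtain ⟨hU, hder, hKp, hqp, -, hqβ, Q, hQF, hMQ, hQq, hQidx, -⟩ := h1437 M hM K U hKU hne
  obtain ⟨q, hq⟩ : ∃ q, Nat.card ↥(Cfsg.sigmaCore M ⊓ centralizer (K : Set G)) = q := ⟨_, rfl⟩
  rw [hq] at hqp hqβ hQq hQidx
  have : Fact q.Prime := ⟨hqp⟩
  have hw := st1355w hG
  have hnn : ¬ Group.IsNilpotent (Cfsg.sigmaCore M) :=
    fun h => hne (fittingHallOf_eq_sigmaCore_of_nilpotent' h1350 hw hM h)
  set F := Cfsg.fittingOf M with hF
  have hFM : F ≤ M := fittingOf_le M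
  have hMF : M ≤ normalizer (F : Set G) := le_normalizer_fittingOf M
  have hFnil : Group.IsNilpotent F := fittingOf_isNilpotent M
  have hFσ : F ≤ Cfsg.sigmaCore M :=
    fittingOf_le_sigmaCore_of_ne hG h1350 hM hKU hU hKp hder hnn
  have hSM : Cfsg.sigmaCore M ≤ M := sigmaCore_le M
  have hQS : Q ≤ Cfsg.sigmaCore M := hQF.trans (hw M hM).1
  have hQM : Q ≤ M := hQS.trans hSM
  -- `Q ≠ 1`
  have hQ1 : Q ≠ ⊥ := by
    intro h
    apply hQidx
    rw [h, Subgroup.relIndex_bot_left, ← hq]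
    exact card_dvd_of_le inf_le_left
  have hQFit : Q ≤ F := le_fittingOf hQM hMQ hQq.isNilpotent
  have hF1 : F ≠ ⊥ := fun h => hQ1 (by rw [eq_bot_iff, ← h]; exact hQFit)
  have hNF : normalizer (F : Set G) = M := normalizer_eq_of_coatom hG hM hF1 hFM hMF
  -- `Q` contains every `q`-subgroup of `M`
  have hqσ : q ∈ Cfsg.sigma M := by
    apply mem_sigma_of_dvd_card_sigmaCore hqp
    rw [← hq]; exact card_dvd_of_le inf_le_left
  have hQidxM : ¬ q ∣ Q.relIndex M := by
    obtain ⟨⟨-, -, hidx⟩, -, -⟩ := h1350 M hM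
    rw [← Subgroup.relIndex_mul_relIndex Q (Cfsg.sigmaCore M) M hQS hSM]
    intro h
    rcases (Nat.Prime.dvd_mul hqp).mp h with h | h
    · exact hQidx h
    · exact hidx q hqp hqσ h
  -- an elementary abelian subgroup of order `≥ q ^ 3` inside `Q`
  have hqα : q ∈ Cfsg.alpha M := hqβ.1
  obtain ⟨B, hBM, hBel, hBcard⟩ :=
    Cfsg.Agent.Lead.TT.exists_elementary_of_not_pRankLE' (p := q) 2 M hqα.2
  have hBq : IsPGroup q B := Cfsg.Agent.Helper14.isPGroup_of_isElementaryAbelian hBel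
  have hBQ : B ≤ Q := by
    apply le_of_coprime_relIndex hBM hQM hMQ
    obtain ⟨n, hn⟩ := IsPGroup.iff_card.mp hBq
    rw [hn]
    apply Nat.Coprime.pow_left
    exact (Nat.Prime.coprime_iff_not_dvd hqp).mpr hQidxM
  have hBuniq : Cfsg.InUniqueMaximal B :=
    Cfsg.Agent.Lead.BG9.uniq_of_elementary_cube hG (Cfsg.Agent.Lead.BG95.scn3Uniq hG) hBel hBcard
  -- the TI property
  intro g hg x hx hgx
  by_contra hx1
  rw [hNF] at hg
  have hg' : g⁻¹ ∉ M := fun h => hg (by simpa using M.inv_mem h)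
  have hxF : x ∈ F := hx
  have hgxF : g * x * g⁻¹ ∈ F := hgx
  -- pass to an element of prime order
  have hord : orderOf x ≠ 1 := fun h => hx1 (orderOf_eq_one_iff.mp h)
  obtain ⟨t, ht, htd⟩ := Nat.exists_prime_and_dvd hord
  have : Fact t.Prime := ⟨ht⟩
  set x' := x ^ (orderOf x / t) with hx'
  have hx'ord : orderOf x' = t := orderOf_pow_orderOf_div (orderOf_pos x).ne' htd
  have hx'1 : x' ≠ 1 := by
    intro h
    rw [h, orderOf_one] at hx'ord
    exact ht.one_lt.ne hx'ord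
  have hx'F : x' ∈ F := F.pow_mem hxF _
  have hx'σ : x' ∈ Cfsg.sigmaCore M := hFσ hx'F
  have hx'g : x' ∈ M.map (cj g⁻¹) := by
    rw [mem_map_cj]
    have h1 : g⁻¹⁻¹ * x' * g⁻¹ = (g * x * g⁻¹) ^ (orderOf x / t) := by
      rw [inv_inv, hx', conj_pow]
    rw [h1]
    exact M.pow_mem (hFM hgxF) _
  have hc : ¬ centralizer ({x'} : Set G) ≤ M :=
    centralizer_not_le_of_mem_conj hG h1374 hM hg' hx'σ hx'1 hx'g
  obtain ⟨N, hN, hxN, -, -, -, -, hτ⟩ :=
    exists_N_tau2 hG h1350 h1351 h1352 h1375 hM hx'σ hx'1 hc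
  have ht2 : t ∈ Cfsg.tau2 N := hτ t ht (by rw [hx'ord])
  have hnot : ¬ Cfsg.IsIdealPrime t G :=
    (Cfsg.Agent.S1408.result hG N hN t ht2.2.1 ht2.2.2.1 ht2.2.2.2).1
  have htq : t ≠ q := by
    intro h
    apply hnot
    rw [h]
    exact hqβ.2
  -- `Q` centralizes `x'`
  have hQC : Q ≤ centralizer ({x'} : Set G) := by
    intro z hz
    rw [mem_centralizer_singleton_iff]
    have := hFnil
    have hzq : IsPGroup q (Subgroup.zpowers (⟨z, hQFit hz⟩ : F)) := by
      have h1 : IsPGroup q (Subgroup.zpowers z) := hQq.to_le (Subgroup.zpowers_le.mpr hz)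
      intro w
      obtain ⟨k, hk⟩ := h1 ⟨(w : F), by
        obtain ⟨n, hn⟩ := Subgroup.mem_zpowers_iff.mp w.2
        rw [← hn]
        exact Subgroup.mem_zpowers_iff.mpr ⟨n, by simp⟩⟩
      refine ⟨k, ?_⟩
      apply Subtype.ext
      apply Subtype.ext
      have := congrArg Subtype.val hk
      simpa using this
    have hcop : (orderOf (⟨x', hx'F⟩ : F)).Coprime q := by
      rw [Subgroup.orderOf_mk, hx'ord]
      exact (Nat.coprime_primes ht hqp).mpr htq
    have h2 := Cfsg.Agent.Helper23.commute_of_isNilpotent_of_coprime (p := q)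
      (⟨z, hQFit hz⟩ : F) ⟨x', hx'F⟩ hzq hcop
    exact congrArg Subtype.val h2.eq
  have hBN : B ≤ N := hBQ.trans (hQC.trans hxN)
  have hMN : M = N := hBuniq.unique ⟨hM, hBM⟩ ⟨hN, hBN⟩
  exact hc (hMN ▸ hxN)

/-- **Statement S1357**, conditional on the frozen statements it uses. -/
theorem thm_1357 (hG : Cfsg.IsMinSimpleOddOrder G) (h1350 : St1350 G) (h1351 : St1351 G)
    (h1352 : St1352 G) (h1374 : St1374 G) (h1375 : St1375 G) (h1437 : St1437 G) : St1357 G := by
  intro M hM K U hKU hne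
  obtain ⟨hU, -, hKp, -⟩ := h1437 M hM K U hKU hne
  exact ⟨hU, fittingOf_TI_of_ne hG h1350 h1351 h1352 h1374 h1375 h1437 hM hKU hne, hKp⟩

end main

end Cfsg.Agent.Helper27.BG15
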