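import Mathlib
import Cfsg.Agent.Helper27.BG15L

/-!
# B&G Corollary 15.5(b) (statement S1356), conditional on frozen statements

`M'' ≤ F(M)`, `F(M) = C_M(M_F) M_F`, and `F(M) ≤ M'` when `κ(M) ≠ ∅`.
-/

set_option autoImplicit false
set_option linter.unusedSectionVars false
set_option linter.unusedVariables false

namespace Cfsg.Agent.Helper27.BG15

open Subgroup Cfsg Cfsg.Agent.Lead Cfsg.Agent.Helper14
open scoped commutatorElement
open Cfsg.Agent.H9.BG12 (sigmaCore_le le_normalizer_sigmaCore mem_sigma_of_dvd_card_sigmaCore)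

universe u

section general

variable {G : Type u} [Group G] [Finite G]

/-- the (normal) Sylow `r`-subgroup of a nilpotent subgroup `N` normalized by `M` -/
theorem exists_normal_sylow_of_isNilpotent {M N : Subgroup G} (hMN : M ≤ normalizer (N : Set G))
    (hN : Group.IsNilpotent N) (r : ℕ) [Fact r.Prime] :
    ∃ R : Subgroup G, R ≤ N ∧ IsPGroup r R ∧ M ≤ normalizer (R : Set G) ∧
      ∀ P : Subgroup G, P ≤ N → IsPGroup r P → P ≤ R := by
  have := hN
  obtain ⟨P⟩ : Nonempty (Sylow r ↥N) := inferInstance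
  have hPn : (P : Subgroup ↥N).Normal := inferInstance
  have hPc : (P : Subgroup ↥N).Characteristic := Sylow.characteristic_of_normal P hPn
  refine ⟨(P : Subgroup ↥N).map N.subtype, Subgroup.map_subtype_le _, P.isPGroup'.map _, ?_, ?_⟩
  · exact hMN.trans (normalizer_le_normalizer_map_of_characteristic N (P : Subgroup ↥N))
  · intro P₁ hP₁N hP₁
    obtain ⟨P', hP'⟩ := (hP₁.comap_subtype (K := N)).exists_le_sylow
    have huniq : P' = P := by
      have := Sylow.unique_of_normal P hPn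
      exact Subsingleton.elim _ _
    rw [huniq] at hP'
    have h1 : (P₁.subgroupOf N).map N.subtype ≤ (P : Subgroup ↥N).map N.subtype :=
      Subgroup.map_mono hP'
    rwa [Subgroup.map_subgroupOf_eq_of_le hP₁N] at h1

/-- a nilpotent group is generated by a normal Hall subgroup `H` and the centralizer of `H` -/
theorem le_sup_centralizer_of_hall {F H : Subgroup G} (hFnil : Group.IsNilpotent F)
    (hHF : H ≤ F) (hFH : F ≤ normalizer (H : Set G))
    (hcop : (Nat.card H).Coprime (H.relIndex F)) : F ≤ H ⊔ (F ⊓ centralizer (H : Set G)) := by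
  have hsolvF : Group.IsSolvable F := by
    have := hFnil
    infer_instance
  set π : Set ℕ := {p | p ∣ Nat.card H} with hπ
  obtain ⟨V, hVF, hVπ, hVidx⟩ := exists_isPiHallOf πᶜ hsolvF
  have hcopV : (Nat.card V).Coprime (V.relIndex F) := by
    apply Nat.coprime_of_dvd
    intro k hk hk1 hk2
    exact hVidx k hk (hVπ k hk hk1) hk2
  have hVn : (V.subgroupOf F).Normal := by
    have := hFnil
    apply normal_of_hall_of_isNilpotent
    rw [Nat.card_congr (Subgroup.subgroupOfEquivOfLe hVF).toEquiv]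
    exact hcopV
  have hFV : F ≤ normalizer (V : Set G) := (normal_subgroupOf_iff_le_normalizer hVF).mp hVn
  have hsup : H ⊔ V = F := by
    apply sup_eq_of_hall_pair (π := π) hHF hVF
    · exact fun p hp hd => hd
    · intro p hp hd hpπ
      exact hp.one_lt.ne' (Nat.eq_one_of_dvd_coprimes hcop hpπ hd)
    · exact fun p hp hd => hVπ p hp hd
    · intro p hp hd
      by_contra hpπ
      exact hVidx p hp hpπ hd
    · exact hHF.trans hFV
  have hdis : H ⊓ V = ⊥ := by
    apply Disjoint.eq_bot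
    apply Subgroup.disjoint_of_coprime_natCard
    apply Nat.coprime_of_dvd
    intro k hk hk1 hk2
    exact hVπ k hk hk2 hk1
  have hVc : V ≤ centralizer (H : Set G) := by
    intro v hv
    rw [mem_centralizer_iff]
    intro h hh
    exact commute_of_normalizing' (hHF.trans hFV) (hVF.trans hFH) hdis h hh v hv
  have h1 : H ⊔ V ≤ H ⊔ (F ⊓ centralizer (H : Set G)) := sup_le_sup le_rfl (le_inf hVF hVc)
  exact (le_of_eq hsup.symm).trans h1

/-- `N = Q D` with `Q ≤ L`, `[D, D] ≤ L` and `L` normalized by `N`: then `N' ≤ L` -/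
theorem commutator_le_of_isComplIn {N Q D L : Subgroup G} (h : Cfsg.IsComplIn Q D N)
    (hNL : N ≤ normalizer (L : Set G)) (hQL : Q ≤ L) (hDL : ⁅D, D⁆ ≤ L) : ⁅N, N⁆ ≤ L := by
  obtain ⟨hQN, hDN, -, hmul⟩ := h
  rw [Subgroup.commutator_le]
  intro a ha b hb
  obtain ⟨x, hx, d, hd, rfl⟩ := hmul a ha
  obtain ⟨y, hy, e, he, rfl⟩ := hmul b hb
  have hxN := hNL (hQN hx)
  have hyN := hNL (hQN hy)
  have hdN := hNL (hDN hd)
  have heN := hNL (hDN he)
  have hx1 : relMk L ⟨x, hxN⟩ = 1 := (relMk_eq_one_iff L x hxN).mpr (hQL hx)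
  have hy1 : relMk L ⟨y, hyN⟩ = 1 := (relMk_eq_one_iff L y hyN).mpr (hQL hy)
  have hde : relMk L ⟨d, hdN⟩ * relMk L ⟨e, heN⟩ = relMk L ⟨e, heN⟩ * relMk L ⟨d, hdN⟩ := by
    rw [relMk_commute_iff]
    have := hDL (commutator_mem_commutator hd he)
    rwa [commutatorElement_def] at this
  have hxd : relMk L ⟨x * d, mul_mem hxN hdN⟩ = relMk L ⟨d, hdN⟩ := by
    have e1 : (⟨x * d, mul_mem hxN hdN⟩ : ↥(normalizer (L : Set G))) = ⟨x, hxN⟩ * ⟨d, hdN⟩ := rfl
    rw [e1, map_mul, hx1, one_mul]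
  have hye : relMk L ⟨y * e, mul_mem hyN heN⟩ = relMk L ⟨e, heN⟩ := by
    have e1 : (⟨y * e, mul_mem hyN heN⟩ : ↥(normalizer (L : Set G))) = ⟨y, hyN⟩ * ⟨e, heN⟩ := rfl
    rw [e1, map_mul, hy1, one_mul]
  rw [commutatorElement_def, ← relMk_commute_iff L (x * d) (y * e) (mul_mem hxN hdN)
    (mul_mem hyN heN), hxd, hye]
  exact hde

/-- if `N = Q D` with `Q` normal and `D` nilpotent then `C_N(Q)` is nilpotent -/
theorem isNilpotent_inf_centralizer_of_isComplIn {N Q D : Subgroup G} (h : Cfsg.IsComplIn Q D N)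
    (hNQ : N ≤ normalizer (Q : Set G)) (hD : Group.IsNilpotent D) :
    Group.IsNilpotent ↥(N ⊓ centralizer (Q : Set G)) := by
  obtain ⟨hQN, hDN, -, hmul⟩ := h
  set C : Subgroup G := N ⊓ centralizer (Q : Set G) with hC
  have hCN : C ≤ N := inf_le_left
  have hCQ : C ≤ normalizer (Q : Set G) := hCN.trans hNQ
  let g : ↥D →* RelQ Q := (relMk Q).comp (Subgroup.inclusion (hDN.trans hNQ))
  have hRnil : Group.IsNilpotent ↥g.range := by
    have := hD
    exact Group.nilpotent_of_surjective g.rangeRestrict g.rangeRestrict_surjective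
  let f₀ : ↥C →* RelQ Q := (relMk Q).comp (Subgroup.inclusion hCQ)
  have hmem : ∀ c : ↥C, f₀ c ∈ g.range := by
    intro c
    obtain ⟨x, hx, d, hd, hcd⟩ := hmul c.1 (hCN c.2)
    have hxN := hNQ (hQN hx)
    have hdN := hNQ (hDN hd)
    refine ⟨⟨d, hd⟩, ?_⟩
    change relMk Q ⟨d, hdN⟩ = relMk Q ⟨(c : G), hCQ c.2⟩
    have e1 : (⟨(c : G), hCQ c.2⟩ : ↥(normalizer (Q : Set G))) = ⟨x, hxN⟩ * ⟨d, hdN⟩ :=
      Subtype.ext hcd
    rw [e1, map_mul, (relMk_eq_one_iff Q x hxN).mpr hx, one_mul]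
  let f : ↥C →* ↥g.range := f₀.codRestrict g.range hmem
  have hker : f.ker ≤ center ↥C := by
    intro c hc
    rw [MonoidHom.mem_ker] at hc
    have hc' : f₀ c = 1 := congrArg Subtype.val hc
    have hcQ : (c : G) ∈ Q := (relMk_eq_one_iff Q (c : G) (hCQ c.2)).mp hc'
    rw [Subgroup.mem_center_iff]
    intro z
    apply Subtype.ext
    have := (mem_centralizer_iff.mp (Subgroup.mem_inf.mp z.2).2) (c : G) hcQ
    simpa using this.symm
  have := hRnil
  exact Subgroup.isNilpotent_of_ker_le_center f hker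

end general

section main

variable {G : Type u} [Group G] [Finite G]

open Cfsg.Agent.Helper18.BG16B (K_le U_le)
open Cfsg.Agent.Helper10.BG16 (sd_card sd_card_U_sup_sigma)

theorem fittingHallOf_le_fittingOf' (M : Subgroup G) :
    Cfsg.fittingHallOf M ≤ Cfsg.fittingOf M := by
  unfold Cfsg.fittingHallOf Cfsg.fittingOf
  apply Subgroup.map_mono
  apply sSup_le
  intro N hN
  exact le_sSup ⟨hN.1, hN.2.1⟩

theorem le_normalizer_fittingHallOf (M : Subgroup G) :
    M ≤ normalizer (Cfsg.fittingHallOf M : Set G) :=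
  Cfsg.Agent.Helper23.le_normalizer_map_subtype M (Cfsg.fittingHall ↥M)

/-- **S1356, third conjunct**: if `κ(M) ≠ ∅` then `F(M) ≤ M'`. -/
theorem fittingOf_le_commutator_of_kappa (hG : Cfsg.IsMinSimpleOddOrder G) (h1350 : St1350 G)
    (h1351 : St1351 G) (h1352 : St1352 G) (h1365 : St1365 G) (h1430 : St1430 G)
    {M : Subgroup G} (hM : IsCoatom M) (hκ : (Cfsg.kappa M).Nonempty) :
    Cfsg.fittingOf M ≤ ⁅M, M⁆ := by
  obtain ⟨p, hp⟩ := hκ
  obtain ⟨⟨K, hK⟩, hKcyc⟩ := h1351 M hM
  obtain ⟨⟨U, hKU⟩, hUn⟩ := h1352 M hM K (hKcyc K hK) hK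
  have hK1 : K ≠ ⊥ := by
    intro h
    apply hKU.hall.2.2 p hp.1 hp
    rw [h, Subgroup.relIndex_bot_left]
    exact hp.2.1
  have hder : ⁅M, M⁆ = U ⊔ Cfsg.sigmaCore M := (h1365 M hM K U hKU hK1).1
  set F := Cfsg.fittingOf M with hF
  have hFM : F ≤ M := fittingOf_le M
  have hMF : M ≤ normalizer (F : Set G) := le_normalizer_fittingOf M
  have hFnil : Group.IsNilpotent F := fittingOf_isNilpotent M
  have hsolvM : Group.IsSolvable M := isSolvable_of_coatom hG hM
  have hSM : Cfsg.sigmaCore M ≤ M := sigmaCore_le M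
  have hM'M : U ⊔ Cfsg.sigmaCore M ≤ M := sup_le (U_le hKU) hSM
  have hMM' : M ≤ normalizer ((U ⊔ Cfsg.sigmaCore M : Subgroup G) : Set G) := hUn U hKU
  rw [hder]
  apply le_of_coprime_relIndex hFM hM'M hMM'
  -- the index of `M'` is `|K|`
  have hrel : (U ⊔ Cfsg.sigmaCore M : Subgroup G).relIndex M = Nat.card K := by
    have h1 := relIndex_mul_card' hM'M
    rw [sd_card_U_sup_sigma hKU, sd_card h1350 hM hKU] at h1
    apply Nat.eq_of_mul_eq_mul_right
      (Nat.mul_pos (Nat.card_pos (α := U)) (Nat.card_pos (α := Cfsg.sigmaCore M)))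
    rw [h1]; ring
  rw [hrel]
  apply Nat.coprime_of_dvd
  intro r hr hrF hrK
  have : Fact r.Prime := ⟨hr⟩
  have hrκ : r ∈ Cfsg.kappa M := hKU.hall.2.1 r hr hrK
  obtain ⟨R, hRF, hRr, hMR, hRmax⟩ := exists_normal_sylow_of_isNilpotent hMF hFnil r
  obtain ⟨x, hx⟩ := exists_prime_orderOf_dvd_card' (G := F) r hrF
  set X : Subgroup G := Subgroup.zpowers (x : G) with hX
  have hXcard : Nat.card X = r := by
    rw [hX, Nat.card_zpowers, Subgroup.orderOf_coe, hx]
  have hXF : X ≤ F := Subgroup.zpowers_le.mpr x.2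
  have hXM : X ≤ M := hXF.trans hFM
  have hXr : IsPGroup r X := IsPGroup.of_card (n := 1) (by rw [hXcard, pow_one])
  have hXR : X ≤ R := hRmax X hXF hXr
  have hX1 : X ≠ ⊥ := by
    intro h
    rw [h, Subgroup.card_bot] at hXcard
    exact hr.one_lt.ne hXcard
  -- `R` is cyclic
  have hRM : R ≤ M := hRF.trans hFM
  have hRcyc : IsCyclic R := by
    obtain ⟨P', hP'⟩ := (hRr.comap_subtype (K := M)).exists_le_sylow
    have hP'cyc : IsCyclic (P' : Subgroup ↥M) := (hrκ.2.2.2 P').1
    have h1 : IsCyclic (R.subgroupOf M) := Subgroup.isCyclic_of_le hP'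
    exact isCyclic_of_surjective (Subgroup.subgroupOfEquivOfLe hRM).toMonoidHom
      (Subgroup.subgroupOfEquivOfLe hRM).surjective
  have hMX : M ≤ normalizer (X : Set G) :=
    hMR.trans (Cfsg.Agent.H9.BG12.normalizer_le_normalizer_of_isCyclic hRcyc hXR)
  have hNX : normalizer (X : Set G) = M := normalizer_eq_of_coatom hG hM hX1 hXM hMX
  -- a Hall `κ(M)`-subgroup containing `X`
  have hXκ : IsPiNum (Cfsg.kappa M) (Nat.card X) := by
    intro s hs hsd
    rw [hXcard] at hsd
    rw [(Nat.prime_dvd_prime_iff_eq hs hr).mp hsd]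
    exact hrκ
  obtain ⟨H, hH, hXH⟩ := exists_isPiHallOf_ge hsolvM hXM hXκ
  have hH1 : H ≠ ⊥ := fun h => hX1 (by rw [eq_bot_iff, ← h]; exact hXH)
  have h3 := ((h1430 M hM H hH hH1).2.2 X hXH (by rw [hXcard]; exact hr)).2.2 M hM hNX.le
  have hrσ : r ∈ Cfsg.sigma M := by
    apply mem_sigma_of_dvd_card_sigmaCore hr
    rw [← hXcard]
    exact card_dvd_of_le h3
  exact hrκ.2.2.1 hrσ

end main

section cases

variable {G : Type u} [Group G] [Finite G]

open Cfsg.Agent.Helper18.BG16B (K_le U_le)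

/-- a subgroup normalizing `H₁` and `H₂` normalizes `H₁ ⊔ H₂` -/
theorem le_normalizer_sup_of_le {A H₁ H₂ : Subgroup G} (h1 : A ≤ normalizer (H₁ : Set G))
    (h2 : A ≤ normalizer (H₂ : Set G)) : A ≤ normalizer ((H₁ ⊔ H₂ : Subgroup G) : Set G) := by
  intro a ha
  rw [mem_normalizer_iff_map_cj, Subgroup.map_sup, mem_normalizer_iff_map_cj.mp (h1 ha),
    mem_normalizer_iff_map_cj.mp (h2 ha)]

/-- the case `M_σ` nilpotent of S1356 -/
theorem s1356_nil (hG : Cfsg.IsMinSimpleOddOrder G) (h1350 : St1350 G) (h1420 : St1420 G)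
    (h1438 : St1438 G) {M : Subgroup G} (hM : IsCoatom M)
    (hnil : Group.IsNilpotent (Cfsg.sigmaCore M)) :
    ⁅⁅M, M⁆, ⁅M, M⁆⁆ ≤ Cfsg.fittingOf M ∧
      M ⊓ centralizer (Cfsg.fittingHallOf M : Set G) ≤ Cfsg.fittingOf M := by
  have hw := st1355w hG
  have heq := fittingHallOf_eq_sigmaCore_of_nilpotent' h1350 hw hM hnil
  have hSM : Cfsg.sigmaCore M ≤ M := sigmaCore_le M
  have hMS : M ≤ normalizer (Cfsg.sigmaCore M : Set G) := le_normalizer_sigmaCore M
  have hSF : Cfsg.sigmaCore M ≤ Cfsg.fittingOf M := le_fittingOf hSM hMS hnil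
  constructor
  · obtain ⟨E, hE⟩ := Cfsg.Agent.H9.BG12.exists_complIn_sigmaCore h1350 hM
    have hEab := (h1420 M hM E hE).2.1
    exact (commutator_commutator_le_sigmaCore hE hEab).trans hSF
  · rw [heq]
    have hS1 : Cfsg.sigmaCore M ≠ ⊥ :=
      Cfsg.Agent.Helper10.BG16.sigmaCore_ne_bot hG h1350 (Cfsg.Agent.Helper18.BG16B.uniq96 hG) hM
    have hHall : (Nat.card (Cfsg.sigmaCore M)).Coprime
        ((Cfsg.sigmaCore M).relIndex (Cfsg.sigmaCore M)) := by
      rw [Subgroup.relIndex_self]; exact Nat.coprime_one_right _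
    obtain ⟨⟨X, hXcyc, -, hXeq⟩, -⟩ := h1438 M hM (Cfsg.sigmaCore M) le_rfl hS1 hHall
    set C : Subgroup G := M ⊓ centralizer (Cfsg.sigmaCore M : Set G) with hC
    set Z : Subgroup G := Cfsg.sigmaCore M ⊓ centralizer (Cfsg.sigmaCore M : Set G) with hZ
    have hXC : X ≤ C := by rw [hXeq]; exact le_sup_right
    have hCcent : C ≤ centralizer (Cfsg.sigmaCore M : Set G) := inf_le_right
    have hZC : Z ≤ centralizer (C : Set G) := by
      rw [Subgroup.le_centralizer_iff]
      exact hCcent.trans (Subgroup.centralizer_le (show (Z : Set G) ⊆ Cfsg.sigmaCore M from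
        inf_le_left))
    have hXX : X ≤ centralizer (X : Set G) := by
      intro a ha
      rw [mem_centralizer_iff]
      intro b hb
      have := hXcyc
      have h1 : (⟨b, hb⟩ : X) * ⟨a, ha⟩ = ⟨a, ha⟩ * ⟨b, hb⟩ := by
        let _ := IsCyclic.commGroup (α := X)
        exact mul_comm _ _
      exact congrArg Subtype.val h1
    have hXCc : X ≤ centralizer (C : Set G) := by
      rw [Subgroup.le_centralizer_iff, hXeq]
      apply sup_le _ hXX
      rw [Subgroup.le_centralizer_iff]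
      exact hXC.trans (hCcent.trans (Subgroup.centralizer_le (show (Z : Set G) ⊆
        Cfsg.sigmaCore M from inf_le_left)))
    have hCC : C ≤ centralizer (C : Set G) := by
      conv_lhs => rw [hXeq]
      exact sup_le hZC hXCc
    have hCcomm : IsMulCommutative C := by
      refine ⟨⟨fun a b => ?_⟩⟩
      apply Subtype.ext
      exact ((mem_centralizer_iff.mp (hCC b.2)) a a.2)
    have hCnil : Group.IsNilpotent C := Cfsg.Agent.Helper7.isNilpotent_of_isMulCommutative _
    have hMC : M ≤ normalizer (C : Set G) :=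
      le_normalizer_inf_of_le le_normalizer (le_normalizer_centralizer hMS)
    exact le_fittingOf inf_le_left hMC hCnil

/-- the case `M_σ` not nilpotent of S1356 -/
theorem s1356_nonnil (hG : Cfsg.IsMinSimpleOddOrder G) (h1350 : St1350 G) (h1430 : St1430 G)
    (h1437 : St1437 G) {M : Subgroup G} (hM : IsCoatom M) {K U : Subgroup G}
    (hKU : Cfsg.IsSigmaDecomposition M K U)
    (hne : Cfsg.fittingHallOf M ≠ Cfsg.sigmaCore M) :
    ⁅⁅M, M⁆, ⁅M, M⁆⁆ ≤ Cfsg.fittingOf M ∧
      M ⊓ centralizer (Cfsg.fittingHallOf M : Set G) ≤ Cfsg.fittingOf M := by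
  obtain ⟨hU, hder, hKp, hqp, -, hqβ, Q, hQF, hMQ, hQq, hQidx, -⟩ := h1437 M hM K U hKU hne
  obtain ⟨q, hq⟩ : ∃ q, Nat.card ↥(Cfsg.sigmaCore M ⊓ centralizer (K : Set G)) = q := ⟨_, rfl⟩
  rw [hq] at hqp hqβ hQq hQidx
  have : Fact q.Prime := ⟨hqp⟩
  have hw := st1355w hG
  have hnn : ¬ Group.IsNilpotent (Cfsg.sigmaCore M) :=
    fun h => hne (fittingHallOf_eq_sigmaCore_of_nilpotent' h1350 hw hM h)
  have hK1 : K ≠ ⊥ := by
    intro h
    rw [h, Subgroup.card_bot] at hKp
    exact Nat.not_prime_one hKp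
  set S := Cfsg.sigmaCore M with hS
  set F := Cfsg.fittingOf M with hF
  have hSM : S ≤ M := sigmaCore_le M
  have hMS : M ≤ normalizer (S : Set G) := le_normalizer_sigmaCore M
  have hQS : Q ≤ S := hQF.trans (hw M hM).1
  have hQM : Q ≤ M := hQS.trans hSM
  have hKM : K ≤ M := K_le hKU
  have hMeq : M = K ⊔ S := eq_sup_of_U_eq_bot hKU hU
  have hqσ : q ∈ Cfsg.sigma M := by
    apply mem_sigma_of_dvd_card_sigmaCore hqp
    rw [← hq]; exact card_dvd_of_le inf_le_left
  have hQidxM : ¬ q ∣ Q.relIndex M := by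
    obtain ⟨⟨-, -, hidx⟩, -, -⟩ := h1350 M hM
    rw [← Subgroup.relIndex_mul_relIndex Q S M hQS hSM]
    intro h
    rcases (Nat.Prime.dvd_mul hqp).mp h with h | h
    · exact hQidx h
    · exact hidx q hqp hqσ h
  have hQmax : ∀ P : Subgroup G, P ≤ M → IsPGroup q P → P ≤ Q := by
    intro P hPM hPq
    apply le_of_coprime_relIndex hPM hQM hMQ
    obtain ⟨n, hn⟩ := IsPGroup.iff_card.mp hPq
    rw [hn]
    apply Nat.Coprime.pow_left
    exact (Nat.Prime.coprime_iff_not_dvd hqp).mpr hQidxM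
  obtain ⟨D, hD⟩ := exists_isComplIn_of_normal_sylow hQS (hSM.trans hMQ) hQq hQidx
  obtain ⟨hDnil, -, -, hcardQ, -, -, -, hDD⟩ :=
    compl_structure hG h1430 hM hKU hK1 hU hnn q hq Q hMQ hQq hQidx hQmax D hD
  -- the normal nilpotent subgroups `Q` and `C = C_{M_σ}(Q)`
  set C : Subgroup G := S ⊓ centralizer (Q : Set G) with hC
  have hCnil : Group.IsNilpotent C :=
    isNilpotent_inf_centralizer_of_isComplIn hD (hSM.trans hMQ) hDnil
  have hMC : M ≤ normalizer (C : Set G) :=
    le_normalizer_inf_of_le hMS (le_normalizer_centralizer hMQ)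
  have hCF : C ≤ F := le_fittingOf (inf_le_left.trans hSM) hMC hCnil
  have hQFit : Q ≤ F := le_fittingOf hQM hMQ hQq.isNilpotent
  constructor
  · -- `M'' = (M_σ)' ≤ Q C`
    rw [← hder]
    have hDC : ⁅D, D⁆ ≤ C := le_inf ((Subgroup.commutator_le_self D).trans hD.2.1) hDD
    have h1 : ⁅S, S⁆ ≤ Q ⊔ C :=
      commutator_le_of_isComplIn hD (hSM.trans (le_normalizer_sup_of_le hMQ hMC)) le_sup_left
        (hDC.trans le_sup_right)
    exact h1.trans (sup_le hQFit hCF)
  · -- `C_M(M_F) ≤ M_σ`, hence `≤ C`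
    set C₂ : Subgroup G := M ⊓ centralizer (Cfsg.fittingHallOf M : Set G) with hC₂
    have hC₂M : C₂ ≤ M := inf_le_left
    have hMC₂ : M ≤ normalizer (C₂ : Set G) :=
      le_normalizer_inf_of_le le_normalizer (le_normalizer_centralizer (le_normalizer_fittingHallOf M))
    have hcopKS : (Nat.card K).Coprime (Nat.card S) := card_K_coprime_card_sigmaCore hKU
    have hcardM : Nat.card M = Nat.card S * Nat.card K := by
      have h1 := Cfsg.Agent.Helper17.card_sup_mul_card_inf S K (hKM.trans hMS)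
      have h2 : S ⊓ K = ⊥ := by
        apply Disjoint.eq_bot
        apply Subgroup.disjoint_of_coprime_natCard
        exact hcopKS.symm
      rw [h2, Subgroup.card_bot, mul_one, sup_comm, ← hMeq] at h1
      exact h1
    have hrelS : S.relIndex M = Nat.card K := by
      have h1 := relIndex_mul_card' hSM
      rw [hcardM, mul_comm] at h1
      exact Nat.eq_of_mul_eq_mul_left (Nat.card_pos (α := S)) h1
    have hC₂S : C₂ ≤ S := by
      apply le_of_coprime_relIndex hC₂M hSM hMS
      rw [hrelS, Nat.coprime_comm, Nat.Prime.coprime_iff_not_dvd hKp]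
      intro hpC
      -- then `K ≤ C₂`
      have h1 := Cfsg.Agent.Helper17.card_sup_mul_card_inf C₂ K (hKM.trans hMC₂)
      have hKC : K ≤ C₂ := by
        by_contra hnle
        have hinf : C₂ ⊓ K = ⊥ := by
          by_contra hne'
          have hd : Nat.card ↥(C₂ ⊓ K) ∣ Nat.card K := card_dvd_of_le inf_le_right
          rcases (Nat.dvd_prime hKp).mp hd with h | h
          · exact hne' (Subgroup.card_eq_one.mp h)
          · have : C₂ ⊓ K = K := Subgroup.eq_of_le_of_card_ge inf_le_right (by rw [h])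
            exact hnle (this ▸ inf_le_left)
        rw [hinf, Subgroup.card_bot, mul_one] at h1
        have h2 : Nat.card ↥(C₂ ⊔ K) ∣ Nat.card M := card_dvd_of_le (sup_le hC₂M hKM)
        rw [h1, hcardM] at h2
        have h3 : Nat.card C₂ ∣ Nat.card S := Nat.dvd_of_mul_dvd_mul_right hKp.pos h2
        have h4 : Nat.card K ∣ Nat.card S := hpC.trans h3
        exact hKp.one_lt.ne' (Nat.Coprime.eq_one_of_dvd hcopKS h4)
      -- so `K` centralizes `Q`, impossible
      have hQK : Q ≤ S ⊓ centralizer (K : Set G) := by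
        apply le_inf hQS
        rw [Subgroup.le_centralizer_iff]
        exact hKC.trans (inf_le_right.trans (Subgroup.centralizer_le
          (show (Q : Set G) ⊆ Cfsg.fittingHallOf M from hQF)))
      have h5 : Nat.card Q ∣ q := by
        rw [← hq]; exact card_dvd_of_le hQK
      rw [hcardQ] at h5
      have h6 : q ^ 2 ∣ q := by
        refine (Dvd.dvd.trans ?_ (Dvd.intro_left _ rfl)).trans h5
        exact pow_dvd_pow q hKp.two_le
      have h7 : q ^ 2 ≤ q := Nat.le_of_dvd hqp.pos h6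
      have h8 : q < q ^ 2 := by
        have := hqp.one_lt
        nlinarith
      omega
    have hC₂C : C₂ ≤ C := by
      apply le_inf hC₂S
      exact inf_le_right.trans (Subgroup.centralizer_le
        (show (Q : Set G) ⊆ Cfsg.fittingHallOf M from hQF))
    exact hC₂C.trans hCF

end cases

section final

variable {G : Type u} [Group G] [Finite G]

/-- **Statement S1356** (B&G Corollary 15.5(b)), conditional on the frozen statements it uses. -/
theorem thm_1356 (hG : Cfsg.IsMinSimpleOddOrder G) (h1350 : St1350 G) (h1351 : St1351 G)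
    (h1352 : St1352 G) (h1365 : St1365 G) (h1420 : St1420 G) (h1430 : St1430 G)
    (h1437 : St1437 G) (h1438 : St1438 G) : St1356 G := by
  intro M hM
  obtain ⟨⟨K, hK⟩, hKcyc⟩ := h1351 M hM
  obtain ⟨⟨U, hKU⟩, -⟩ := h1352 M hM K (hKcyc K hK) hK
  have hinj := Subgroup.subtype_injective M
  set F := Cfsg.fittingOf M with hF
  have hFM : F ≤ M := fittingOf_le M
  have hFnil : Group.IsNilpotent F := fittingOf_isNilpotent M
  have hMFF : Cfsg.fittingHallOf M ≤ F := fittingHallOf_le_fittingOf' M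
  have hmain : ⁅⁅M, M⁆, ⁅M, M⁆⁆ ≤ F ∧ M ⊓ centralizer (Cfsg.fittingHallOf M : Set G) ≤ F := by
    by_cases hnil : Group.IsNilpotent (Cfsg.sigmaCore M)
    · exact s1356_nil hG h1350 h1420 h1438 hM hnil
    · have hne : Cfsg.fittingHallOf M ≠ Cfsg.sigmaCore M := by
        intro h
        apply hnil
        rw [← h]
        have := fittingHall_isNilpotent' ↥M
        exact Group.nilpotent_of_mulEquiv
          ((Cfsg.fittingHall ↥M).equivMapOfInjective M.subtype hinj)
      exact s1356_nonnil hG h1350 h1430 h1437 hM hKU hne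
  refine ⟨hmain.1, ?_, fittingOf_le_commutator_of_kappa hG h1350 h1351 h1352 h1365 h1430 hM⟩
  apply le_antisymm
  · have hcop : (Nat.card (Cfsg.fittingHallOf M)).Coprime ((Cfsg.fittingHallOf M).relIndex F) := by
      have h1 := Cfsg.Agent.Helper23.fittingHall_coprime ↥M
      have h2 : Nat.card (Cfsg.fittingHallOf M) = Nat.card (Cfsg.fittingHall ↥M) :=
        Subgroup.card_map_of_injective hinj
      have h3 : (Cfsg.fittingHallOf M).relIndex M = (Cfsg.fittingHall ↥M).index := by
        unfold Subgroup.relIndex Subgroup.subgroupOf Cfsg.fittingHallOf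
        rw [Subgroup.comap_map_eq_self_of_injective hinj]
      have h4 : (Cfsg.fittingHallOf M).relIndex F ∣ (Cfsg.fittingHallOf M).relIndex M :=
        Dvd.intro _ (Subgroup.relIndex_mul_relIndex _ F M hMFF hFM)
      rw [h2]
      rw [h3] at h4
      exact Nat.Coprime.coprime_dvd_right h4 h1
    have h := le_sup_centralizer_of_hall hFnil hMFF
      (hFM.trans (le_normalizer_fittingHallOf M)) hcop
    exact h.trans (sup_le le_sup_right ((inf_le_inf_right _ hFM).trans le_sup_left))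
  · exact sup_le hmain.2 hMFF

end final

end Cfsg.Agent.Helper27.BG15
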