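import Mathlib
import Cfsg.Agent.Helper27.BG15M
import Cfsg.Agent.Helper23.BG13SOd
import Cfsg.Agent.Helper29.BG14SP
import Cfsg.Agent.Helper21.BG13c
import Cfsg.Agent.Helper21.BG12h
import Cfsg.Agent.Helper20.BG15L
import Cfsg.Agent.Helper1.BG16C3
import Cfsg.Agent.Helper9.BG12g

/-!
# B&G Theorem 15.8 (statement S1435), part 1: `r ∈ σ(H)`

`M` of type `𝒫` with partner `M*`, `R` a nontrivial `K`-invariant `r`-subgroup of `U` and `H` a
maximal subgroup containing `N_G(R)`, not conjugate to `M*` and with `κ(H) = ∅`.  Then `r ∈ σ(H)`.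
-/

set_option autoImplicit false
set_option linter.unusedSectionVars false
set_option linter.unusedVariables false

namespace Cfsg.Agent.Helper27.BG15

open Subgroup Cfsg Cfsg.Agent.Lead Cfsg.Agent.Helper14
open scoped commutatorElement
open Cfsg.Agent.H9.BG12 (sigmaCore_le le_normalizer_sigmaCore mem_sigma_of_dvd_card_sigmaCore)

universe u

variable {G : Type u} [Group G] [Finite G]

/-- the data of a maximal subgroup of type `𝒫` with its partner -/
structure PartnerData (M K U Mstar : Subgroup G) : Prop where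
  hM : IsCoatom M
  hKU : Cfsg.IsSigmaDecomposition M K U
  hK1 : K ≠ ⊥
  hMs : IsCoatom Mstar
  hKst : K = Cfsg.sigmaCore Mstar ⊓ Subgroup.centralizer
    ((Cfsg.sigmaCore M ⊓ Subgroup.centralizer (K : Set G) : Subgroup G) : Set G)
  hKstH : Cfsg.IsPiHallOf (Cfsg.kappa Mstar)
    (Cfsg.sigmaCore M ⊓ Subgroup.centralizer (K : Set G)) Mstar

namespace PartnerData

variable {M K U Mstar : Subgroup G} (P : PartnerData M K U Mstar)

include P in
theorem K_le_sigmaCore_partner : K ≤ Cfsg.sigmaCore Mstar := by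
  have h := P.hKst
  intro x hx
  rw [h] at hx
  exact hx.1

include P in
theorem K_le_partner : K ≤ Mstar := P.K_le_sigmaCore_partner.trans (sigmaCore_le Mstar)

include P in
theorem mem_sigma_partner {p : ℕ} (hp : p.Prime) (hd : p ∣ Nat.card K) :
    p ∈ Cfsg.sigma Mstar :=
  mem_sigma_of_dvd_card_sigmaCore hp (hd.trans (card_dvd_of_le P.K_le_sigmaCore_partner))

include P in
/-- centralizers of elements of prime order of `K` lie in `M*` only -/
theorem centralizer_le_partner (h1367 : St1367 G) {k : G} (hk : k ∈ K) (hko : (orderOf k).Prime) :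
    centralizer ({k} : Set G) ≤ Mstar ∧
      ∀ L : Subgroup G, IsCoatom L → centralizer ({k} : Set G) ≤ L → L = Mstar := by
  have hX : zpowers k ≤ K := zpowers_le.mpr hk
  have hXc : (Nat.card (zpowers k)).Prime := by rw [Nat.card_zpowers]; exact hko
  obtain ⟨h1, h2⟩ := (h1367 M P.hM K U P.hKU P.hK1 Mstar P.hMs P.hKst P.hKstH).2 (zpowers k) hX hXc
  have hle : centralizer ({k} : Set G) ≤ centralizer ((zpowers k : Subgroup G) : Set G) := by
    intro c hc
    rw [mem_centralizer_iff]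
    rintro y ⟨n, rfl⟩
    have hc' : Commute c k := mem_centralizer_singleton_iff.mp hc
    exact (hc'.symm.zpow_left n).eq
  have hge : centralizer ((zpowers k : Subgroup G) : Set G) ≤ centralizer ({k} : Set G) :=
    centralizer_le (by
      intro y hy
      rw [Set.mem_singleton_iff] at hy
      rw [hy]; exact mem_zpowers k)
  exact ⟨hle.trans h1, fun L hL hCL => h2 L hL (hge.trans hCL)⟩

include P in
/-- elements of `K#` act without fixed points on `L_σ` when `L` is a maximal subgroup containing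
`K`, not conjugate to `M*`, with `κ(L) = ∅`. -/
theorem fpf_of_kappa_empty (hG : Cfsg.IsMinSimpleOddOrder G) (h1367 : St1367 G)
    (h1432 : St1432 G) {L : Subgroup G} (hL : IsCoatom L)
    (hnc : ∀ g : G, L ≠ Mstar.map (cj g)) (hκ : Cfsg.kappa L = ∅) (hKL : K ≤ L) :
    ∀ k ∈ K, k ≠ 1 → Cfsg.sigmaCore L ⊓ centralizer ({k} : Set G) = ⊥ := by
  intro k hk hk1
  by_contra hne
  obtain ⟨x, hx1⟩ := (Subgroup.ne_bot_iff_exists_ne_one.mp hne)
  have hxσ : (x : G) ∈ Cfsg.sigmaCore L := x.2.1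
  have hxk : Commute k (x : G) := (mem_centralizer_singleton_iff.mp x.2.2).symm
  have hx1' : (x : G) ≠ 1 := fun h => hx1 (Subtype.ext h)
  have hko : orderOf k ≠ 1 := fun h => hk1 (orderOf_eq_one_iff.mp h)
  have hko0 : orderOf k ≠ 0 := (orderOf_pos k).ne'
  set p := (orderOf k).minFac with hp
  have hpp : p.Prime := Nat.minFac_prime hko
  have hpd : p ∣ orderOf k := Nat.minFac_dvd _
  set k' := k ^ (orderOf k / p) with hk'
  have hk'o : orderOf k' = p := orderOf_pow_orderOf_div hko0 hpd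
  have hk'K : k' ∈ K := pow_mem hk _
  have hk'1 : k' ≠ 1 := by
    intro h
    rw [h, orderOf_one] at hk'o
    exact hpp.one_lt.ne hk'o
  have hk'x : Commute k' (x : G) := hxk.pow_left _
  have hpK : p ∣ Nat.card K := hpd.trans (K.orderOf_dvd_natCard hk)
  have hpσ : p ∈ Cfsg.sigma Mstar := P.mem_sigma_partner hpp hpK
  have hpL : p ∉ Cfsg.sigma L :=
    Cfsg.Agent.Helper23.BG13SO.sigma_partition hG P.hMs hL hnc hpσ
  have hmem : k' ∈ L ⊓ centralizer ({(x : G)} : Set G) :=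
    ⟨hKL hk'K, mem_centralizer_singleton_iff.mpr hk'x⟩
  have hσ : ∀ q : ℕ, q.Prime → q ∣ orderOf k' → q ∉ Cfsg.sigma L := by
    intro q hq hqd
    rw [hk'o] at hqd
    rw [(Nat.prime_dvd_prime_iff_eq hq hpp).mp hqd]
    exact hpL
  rcases h1432 L hL x hxσ hx1' k' hmem hk'1 hσ with ⟨h1, -⟩ | ⟨-, -, hC, huniq⟩
  · have : p ∈ Cfsg.kappa L := h1 p hpp (hk'o ▸ dvd_rfl)
    rw [hκ] at this
    exact this
  · have hCM := (P.centralizer_le_partner h1367 hk'K (hk'o ▸ hpp)).1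
    have := huniq Mstar P.hMs hCM
    apply hnc 1
    rw [map_cj_one]
    exact this.symm

end PartnerData

/-- the centre of a nontrivial nilpotent subgroup is nontrivial -/
theorem center_inf_ne_bot_of_isNilpotent {Q : Subgroup G} (hQ : Group.IsNilpotent Q)
    (hQ1 : Q ≠ ⊥) : Q ⊓ centralizer (Q : Set G) ≠ ⊥ := by
  have : Nontrivial Q := (Subgroup.nontrivial_iff_ne_bot Q).mpr hQ1
  have hcen : Subgroup.center Q ≠ ⊥ := Group.IsNilpotent.center_ne_bot Q
  obtain ⟨c, hc1⟩ := Subgroup.ne_bot_iff_exists_ne_one.mp hcen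
  intro hbot
  have hmem : ((c : Q) : G) ∈ Q ⊓ centralizer (Q : Set G) := by
    refine Subgroup.mem_inf.mpr ⟨(c : Q).2, ?_⟩
    rw [Subgroup.mem_centralizer_iff]
    intro y hy
    have := Subgroup.mem_center_iff.mp c.2 ⟨y, hy⟩
    exact congrArg Subtype.val this
  rw [hbot, Subgroup.mem_bot] at hmem
  exact hc1 (Subtype.ext (Subtype.ext hmem))

namespace PartnerData

variable {M K U Mstar : Subgroup G} (P : PartnerData M K U Mstar)

include P in
/-- a maximal subgroup containing `K` and a nontrivial subgroup of `U` is not conjugate to `M*` -/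
theorem not_conj_partner_of_le (hG : Cfsg.IsMinSimpleOddOrder G) (h1367 : St1367 G)
    (h1368 : St1368 G) {L R : Subgroup G} (hL : IsCoatom L) (hKL : K ≤ L) (hRL : R ≤ L)
    (hRU : R ≤ U) (hR1 : R ≠ ⊥) : ∀ g : G, L ≠ Mstar.map (cj g) := by
  intro g hLg
  have hcard : Nat.card K ≠ 1 := fun h => P.hK1 (Subgroup.card_eq_one.mp h)
  obtain ⟨p, hp, hpK⟩ := Nat.exists_prime_and_dvd hcard
  have : Fact p.Prime := ⟨hp⟩
  obtain ⟨k, hk⟩ := exists_prime_orderOf_dvd_card' (G := K) p hpK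
  have hkK : (k : G) ∈ K := k.2
  have hko : orderOf (k : G) = p := by rw [Subgroup.orderOf_coe]; exact hk
  have hpσ : p ∈ Cfsg.sigma Mstar := P.mem_sigma_partner hp hpK
  set X : Subgroup G := zpowers (k : G) with hX
  have hXK : X ≤ K := zpowers_le.mpr hkK
  have hXc : Nat.card X = p := by rw [hX, Nat.card_zpowers, hko]
  have hXp : IsPGroup p X := IsPGroup.of_card (n := 1) (by rw [hXc, pow_one])
  have hX1 : X ≠ ⊥ := by
    intro h
    rw [h, Subgroup.card_bot] at hXc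
    exact hp.one_lt.ne hXc
  have hXMs : X ≤ Mstar := hXK.trans P.K_le_partner
  have hXg : X ≤ Mstar.map (cj g) := hLg ▸ (hXK.trans hKL)
  obtain ⟨c, hc, hcM⟩ := Cfsg.Agent.H9.BG12.conj_mem_of_le_map_cj (Cfsg.Agent.Helper21.BG12.ctl hG)
    P.hMs hpσ hXp hX1 hXMs g hXg
  have hCX := ((h1367 M P.hM K U P.hKU P.hK1 Mstar P.hMs P.hKst P.hKstH).2 X hXK
    (hXc ▸ hp)).1
  have hcMs : c ∈ Mstar := hCX hc
  have hle : L ≤ Mstar := by
    intro t ht
    have h1 : c * t * c⁻¹ ∈ Mstar := hcM t (hLg ▸ ht)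
    have h2 : t = c⁻¹ * (c * t * c⁻¹) * c := by group
    rw [h2]
    exact mul_mem (mul_mem (inv_mem hcMs) h1) hcMs
  have hLeq : L = Mstar := by
    rcases eq_or_lt_of_le hle with h | h
    · exact h
    · exact absurd (hL.2 _ h) P.hMs.1
  have hRZ : R ≤ M ⊓ Mstar :=
    le_inf (hRU.trans (Cfsg.Agent.Helper18.BG16B.U_le P.hKU)) (hLeq ▸ hRL)
  rw [(h1368 M P.hM K U P.hKU P.hK1 Mstar P.hMs P.hKst P.hKstH).1] at hRZ
  have hle2 : K ⊔ (Cfsg.sigmaCore M ⊓ centralizer (K : Set G)) ≤ K ⊔ Cfsg.sigmaCore M :=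
    sup_le_sup_left inf_le_left K
  have h3 : R ≤ U ⊓ (K ⊔ Cfsg.sigmaCore M) := le_inf hRU (hRZ.trans hle2)
  rw [P.hKU.compl.2.2.1] at h3
  exact hR1 (le_bot_iff.mp h3)

include P in
/-- **B&G 15.8, first step**: `r ∈ σ(H)`. -/
theorem mem_sigma_of_normalizer_le (hG : Cfsg.IsMinSimpleOddOrder G) (h1367 : St1367 G)
    (h1368 : St1368 G) (h1369 : St1369 G) (h1432 : St1432 G)
    {r : ℕ} [Fact r.Prime] {R H : Subgroup G} (hRr : IsPGroup r R) (hR1 : R ≠ ⊥) (hRU : R ≤ U)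
    (hKR : K ≤ normalizer (R : Set G)) (hH : IsCoatom H) (hNR : normalizer (R : Set G) ≤ H)
    (hHMs : ∀ g : G, H ≠ Mstar.map (cj g)) (hκH : Cfsg.kappa H = ∅) : r ∈ Cfsg.sigma H := by
  by_contra hrH
  have h1350 := Cfsg.Agent.Helper21.BG12.st1350 hG
  have hM := P.hM
  have hKU := P.hKU
  have hUM : U ≤ M := Cfsg.Agent.Helper18.BG16B.U_le hKU
  have hKM : K ≤ M := Cfsg.Agent.Helper18.BG16B.K_le hKU
  have hrp : r.Prime := Fact.out
  have hrR : r ∣ Nat.card R := Cfsg.Agent.Helper16.BG11.dvd_card_of_isPGroup_ne_bot hRr hR1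
  have hrU : r ∣ Nat.card U := hrR.trans (card_dvd_of_le hRU)
  have hrM : r ∉ Cfsg.sigma M :=
    Cfsg.Agent.Helper18.BG16B.not_mem_sigma_of_dvd_card_U hKU (fun M hM => h1350 M hM) hM hrp hrU
  have hrG : r ∣ Nat.card G := hrR.trans (card_subgroup_dvd_card R)
  have hRH : R ≤ H := le_normalizer.trans hNR
  have hKH : K ≤ H := hKR.trans hNR
  have hsolvH : Group.IsSolvable H := hG.2.2.2 H hH.1
  -- a maximal subgroup `L₀` with `r ∈ σ(L₀)`, conjugated to contain `R`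
  obtain ⟨L₀, hL₀, hrL₀⟩ := Cfsg.Agent.Helper29.BG14.exists_mem_sigma hG hrp hrG
  obtain ⟨T, hT⟩ := Cfsg.Agent.Helper4.BG12SD.exists_isSylowIn_of_mem_sigma hrL₀
  have hTtop := Cfsg.Agent.Helper4.BG10.sigma_isSylowIn_top hrL₀ hT
  obtain ⟨m₀, -, hm₀⟩ :=
    Cfsg.Agent.Helper16.BG11.exists_conj_le_of_isSylowIn hTtop (le_top : R ≤ ⊤) hRr
  -- the key consequence of 12.15(e)
  have key : ∀ L : Subgroup G, IsCoatom L → r ∈ Cfsg.sigma L → R ≤ L →
      Cfsg.IsComplIn (L ⊓ H) (Cfsg.sigmaCore H) H := by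
    intro L hL hrL hRL
    have hne : H ≠ L := fun h => hrH (h ▸ hrL)
    obtain ⟨S, hS, hRS⟩ := exists_isSylowIn_ge (le_inf hRL hRH) hRr
    exact (Cfsg.Agent.Helper21.BG12.lem_12_15_e13 hG (Cfsg.Agent.Helper21.BG13.st1417 hG)
      (Cfsg.Agent.Helper21.BG13.st1418 hG) (Cfsg.Agent.Helper21.BG12.nc1210 hG) hL hH hne hrL hRr
      hR1 hRL hNR hS hRS hrH).2.1
  have hL : IsCoatom (L₀.map (cj m₀⁻¹)) := Cfsg.Agent.Lead.BG9.isCoatom_map_cj hL₀ _
  have hrL : r ∈ Cfsg.sigma (L₀.map (cj m₀⁻¹)) := Cfsg.Agent.Helper16.BG11.mem_sigma_map_cj _ hrL₀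
  have hRL : R ≤ L₀.map (cj m₀⁻¹) := (map_cj_le_iff _ _ _).mp (hm₀.trans hT.1)
  have hE₁ := key _ hL hrL hRL
  have hHall := Cfsg.Agent.H9.BG12.isPiHallOf_compl h1350 hH hE₁
  -- `R K` is a `σ(H)'`-subgroup of `H`
  have hF₀H : R ⊔ K ≤ H := sup_le hRH hKH
  have hF₀ : IsPiNum (Cfsg.sigma H)ᶜ (Nat.card ↥(R ⊔ K)) := by
    intro p hp hd
    have h1 := Cfsg.Agent.Helper26.card_sup_mul_card_inf (H := K) (N := R) hKR
    have h2 : Nat.card ↥(R ⊔ K) ∣ Nat.card K * Nat.card R := by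
      rw [sup_comm]; exact Dvd.intro _ h1
    rcases (Nat.Prime.dvd_mul hp).mp (hd.trans h2) with h | h
    · exact Cfsg.Agent.Helper23.BG13SO.sigma_partition hG P.hMs hH hHMs (P.mem_sigma_partner hp h)
    · obtain ⟨n, hn⟩ := IsPGroup.iff_card.mp hRr
      rw [hn] at h
      have := (Nat.prime_dvd_prime_iff_eq hp hrp).mp (hp.dvd_of_dvd_pow h)
      rw [this]; exact hrH
  obtain ⟨m, hmH, hm⟩ := Cfsg.Agent.H9.BG12.exists_conj_le_of_hall hsolvH hHall hF₀H hF₀
  -- the conjugate `L'` containing `R` and `K`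
  set L' : Subgroup G := (L₀.map (cj m₀⁻¹)).map (cj m⁻¹) with hL'def
  have hL' : IsCoatom L' := Cfsg.Agent.Lead.BG9.isCoatom_map_cj hL _
  have hrL' : r ∈ Cfsg.sigma L' := Cfsg.Agent.Helper16.BG11.mem_sigma_map_cj _ hrL
  have hF₀L' : R ⊔ K ≤ L' := (map_cj_le_iff _ _ _).mp (hm.trans inf_le_left)
  have hRL' : R ≤ L' := le_sup_left.trans hF₀L'
  have hKL' : K ≤ L' := le_sup_right.trans hF₀L'
  have hE' := key L' hL' hrL' hRL'
  -- `L'` is not conjugate to `M` or `M*`, so `κ(L') = ∅`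
  have hncM : ∀ g : G, L' ≠ M.map (cj g) := by
    intro g h
    have h1 : r ∈ Cfsg.sigma (M.map (cj g)) := h ▸ hrL'
    have h2 := Cfsg.Agent.Helper16.BG11.mem_sigma_map_cj g⁻¹ h1
    rw [map_cj_map_cj_inv] at h2
    exact hrM h2
  have hncMs : ∀ g : G, L' ≠ Mstar.map (cj g) :=
    P.not_conj_partner_of_le hG h1367 h1368 hL' hKL' hRL' hRU hR1
  have hκL' : Cfsg.kappa L' = ∅ := by
    by_contra hne
    obtain ⟨g, hg | hg⟩ := (h1369 M hM K U hKU P.hK1 Mstar P.hMs P.hKst P.hKstH).2 L' hL'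
      (Set.nonempty_iff_ne_empty.mpr hne)
    · exact hncM g hg
    · exact hncMs g hg
  have hfL' := P.fpf_of_kappa_empty hG h1367 h1432 hL' hncMs hκL' hKL'
  have hfH := P.fpf_of_kappa_empty hG h1367 h1432 hH hHMs hκH hKH
  -- `L'_σ` is nilpotent
  have hcard : Nat.card K ≠ 1 := fun h => P.hK1 (Subgroup.card_eq_one.mp h)
  obtain ⟨p, hp, hpK⟩ := Nat.exists_prime_and_dvd hcard
  have : Fact p.Prime := ⟨hp⟩
  obtain ⟨k, hk⟩ := exists_prime_orderOf_dvd_card' (G := K) p hpK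
  have hkK : (k : G) ∈ K := k.2
  have hko : orderOf (k : G) = p := by rw [Subgroup.orderOf_coe]; exact hk
  have hk1 : (k : G) ≠ 1 := by
    intro h
    rw [h, orderOf_one] at hko
    exact hp.one_lt.ne hko
  have hkp : (k : G) ^ p = 1 := by rw [← hko]; exact pow_orderOf_eq_one _
  have hnil : Group.IsNilpotent (Cfsg.sigmaCore L') :=
    Cfsg.Agent.Helper1.RankOneQ.nilpotent_of_fpf_conj (Cfsg.sigmaCore L') hp
      (le_normalizer_sigmaCore L' (hKL' hkK)) hkp (hfL' k hkK hk1)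
  have hRσ : R ≤ Cfsg.sigmaCore L' :=
    Cfsg.Agent.H9.BG12.le_sigmaCore_of_isPGroup h1350 hL' hrL' hRL' hRr
  have hσ1 : Cfsg.sigmaCore L' ≠ ⊥ := fun h => hR1 (le_bot_iff.mp (h ▸ hRσ))
  -- the centre `V` of `L'_σ`
  set V : Subgroup G := Cfsg.sigmaCore L' ⊓ centralizer (Cfsg.sigmaCore L' : Set G) with hV
  have hV1 : V ≠ ⊥ := center_inf_ne_bot_of_isNilpotent hnil hσ1
  have hVσ : V ≤ Cfsg.sigmaCore L' := inf_le_left
  have hVL' : V ≤ L' := hVσ.trans (sigmaCore_le L')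
  have hL'V : L' ≤ normalizer (V : Set G) := le_normalizer_center_inf (le_normalizer_sigmaCore L')
  have hVH : V ≤ H :=
    (inf_le_right.trans (centralizer_le hRσ)).trans ((centralizer_le_normalizer _).trans hNR)
  -- coprimality
  have hnotconj : ∀ g : G, H ≠ L'.map (cj g) := by
    intro g h
    exact hrH (h ▸ Cfsg.Agent.Helper16.BG11.mem_sigma_map_cj g hrL')
  have hcopNV : (Nat.card (Cfsg.sigmaCore H)).Coprime (Nat.card V) := by
    apply Nat.coprime_of_dvd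
    intro q hq hq1 hq2
    have h1 : q ∈ Cfsg.sigma H := mem_sigma_of_dvd_card_sigmaCore hq hq1
    have h2 : q ∈ Cfsg.sigma L' := mem_sigma_of_dvd_card_sigmaCore hq (hq2.trans (card_dvd_of_le hVσ))
    exact Cfsg.Agent.Helper23.BG13SO.sigma_partition hG hL' hH hnotconj h2 h1
  have hcopNK : (Nat.card (Cfsg.sigmaCore H)).Coprime (Nat.card K) := by
    apply Nat.coprime_of_dvd
    intro q hq hq1 hq2
    have h1 : q ∈ Cfsg.sigma H := mem_sigma_of_dvd_card_sigmaCore hq hq1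
    exact Cfsg.Agent.Helper23.BG13SO.sigma_partition hG P.hMs hH hHMs (P.mem_sigma_partner hq hq2) h1
  have hcopVK : (Nat.card V).Coprime (Nat.card K) := by
    apply Nat.coprime_of_dvd
    intro q hq hq1 hq2
    have h2 : q ∈ Cfsg.sigma L' := mem_sigma_of_dvd_card_sigmaCore hq (hq1.trans (card_dvd_of_le hVσ))
    exact Cfsg.Agent.Helper23.BG13SO.sigma_partition hG P.hMs hL' hncMs (P.mem_sigma_partner hq hq2) h2
  have hodd : Odd (Nat.card H) := Odd.of_dvd_nat hG.1 (Subgroup.card_subgroup_dvd_card H)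
  have hcomm := Cfsg.Agent.Helper20.BG15L.frob_centralizes_in H (Cfsg.sigmaCore H) V K
    (sigmaCore_le H) hVH hKH hsolvH hodd (hVH.trans (le_normalizer_sigmaCore H))
    (hKH.trans (le_normalizer_sigmaCore H)) (hKL'.trans hL'V) hcopNV hcopNK hcopVK P.hK1
    (by
      intro k hk hk1 n hn hkn
      have : n ∈ Cfsg.sigmaCore H ⊓ centralizer ({k} : Set G) :=
        ⟨hn, mem_centralizer_singleton_iff.mpr hkn.symm⟩
      rw [hfH k hk hk1, mem_bot] at this
      exact this)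
    (by
      intro k hk hk1 d hd hkd
      have : d ∈ Cfsg.sigmaCore L' ⊓ centralizer ({k} : Set G) :=
        ⟨hVσ hd, mem_centralizer_singleton_iff.mpr hkd.symm⟩
      rw [hfL' k hk hk1, mem_bot] at this
      exact this)
  -- hence `H_σ ≤ N_G(V) = L'`
  have hσHV : Cfsg.sigmaCore H ≤ centralizer (V : Set G) := by
    intro n hn
    rw [mem_centralizer_iff]
    intro d hd
    exact (hcomm n hn d hd).symm
  have hNV : normalizer (V : Set G) ≤ L' :=
    (normalizer_eq_of_coatom hG hL' hV1 hVL' hL'V).le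
  have hσHL' : Cfsg.sigmaCore H ≤ L' := hσHV.trans ((centralizer_le_normalizer _).trans hNV)
  have hbot : Cfsg.sigmaCore H ≤ (L' ⊓ H) ⊓ Cfsg.sigmaCore H :=
    le_inf (le_inf hσHL' (sigmaCore_le H)) le_rfl
  rw [hE'.2.2.1] at hbot
  exact Cfsg.Agent.Helper10.BG16.sigmaCore_ne_bot hG (fun M hM => h1350 M hM)
    (Cfsg.Agent.Helper21.BG12.uniq96 hG) hH (le_bot_iff.mp hbot)

end PartnerData

end Cfsg.Agent.Helper27.BG15
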