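import Mathlib
import Cfsg.Agent.Helper27.BG15N
import Cfsg.Agent.Lead.TT8
import Cfsg.Agent.Helper18.BG16Bb
import Cfsg.Agent.S1415
import Cfsg.Agent.S1420

/-!
# B&G Theorem 15.8 (statement S1435), part 2: `H ∩ M*` is a complement of `H_σ` in `H`
-/

set_option autoImplicit false
set_option linter.unusedSectionVars false
set_option linter.unusedVariables false

namespace Cfsg.Agent.Helper27.BG15

open Subgroup Cfsg Cfsg.Agent.Lead Cfsg.Agent.Helper14
open scoped commutatorElement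
open Cfsg.Agent.H9.BG12 (sigmaCore_le le_normalizer_sigmaCore mem_sigma_of_dvd_card_sigmaCore)

universe u

variable {G : Type u} [Group G] [Finite G]

theorem centralizer_zpowers_eq (a : G) :
    centralizer ((zpowers a : Subgroup G) : Set G) = centralizer ({a} : Set G) := by
  apply le_antisymm
  · exact centralizer_le (by
      intro y hy
      rw [Set.mem_singleton_iff] at hy
      rw [hy]; exact mem_zpowers a)
  · intro c hc
    rw [mem_centralizer_iff]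
    rintro y ⟨n, rfl⟩
    have hc' : Commute c a := mem_centralizer_singleton_iff.mp hc
    exact (hc'.symm.zpow_left n).eq

namespace PartnerData

variable {M K U Mstar : Subgroup G} (P : PartnerData M K U Mstar)

include P in
/-- `H_σ ∩ M* = 1` when `K ≤ H` acts without fixed points on `H_σ` and `H` is not conjugate to
`M*`. -/
theorem sigmaCore_inf_partner (hG : Cfsg.IsMinSimpleOddOrder G) {H : Subgroup G} (hH : IsCoatom H)
    (hHMs : ∀ g : G, H ≠ Mstar.map (cj g)) (hKH : K ≤ H)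
    (hfH : ∀ k ∈ K, k ≠ 1 → Cfsg.sigmaCore H ⊓ centralizer ({k} : Set G) = ⊥) :
    Cfsg.sigmaCore H ⊓ Mstar = ⊥ := by
  rw [eq_bot_iff]
  intro w hw
  obtain ⟨k, hk, hk1⟩ : ∃ k ∈ K, k ≠ 1 := by
    obtain ⟨a, ha⟩ := Subgroup.ne_bot_iff_exists_ne_one.mp P.hK1
    exact ⟨(a : G), a.2, fun h => ha (Subtype.ext h)⟩
  have hwσ : w ∈ Cfsg.sigmaCore H := hw.1
  have hwMs : w ∈ Mstar := hw.2
  have hdisj : Cfsg.sigmaCore Mstar ⊓ Cfsg.sigmaCore H = ⊥ := by
    rw [← disjoint_iff]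
    apply Subgroup.disjoint_of_coprime_natCard
    apply Nat.coprime_of_dvd
    intro q hq hq1 hq2
    exact Cfsg.Agent.Helper23.BG13SO.sigma_partition hG P.hMs hH hHMs
      (mem_sigma_of_dvd_card_sigmaCore hq hq1) (mem_sigma_of_dvd_card_sigmaCore hq hq2)
  have hcomm : ∀ k ∈ K, w * k * w⁻¹ * k⁻¹ = 1 := by
    intro k hk
    have h1 : w * k * w⁻¹ ∈ Cfsg.sigmaCore Mstar :=
      (mem_normalizer_iff.mp (le_normalizer_sigmaCore Mstar hwMs) k).mp (P.K_le_sigmaCore_partner hk)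
    have h2 : w * k * w⁻¹ * k⁻¹ ∈ Cfsg.sigmaCore Mstar :=
      mul_mem h1 (inv_mem (P.K_le_sigmaCore_partner hk))
    have h3 : k * w⁻¹ * k⁻¹ ∈ Cfsg.sigmaCore H :=
      (mem_normalizer_iff.mp (le_normalizer_sigmaCore H (hKH hk)) w⁻¹).mp (inv_mem hwσ)
    have h4 : w * k * w⁻¹ * k⁻¹ ∈ Cfsg.sigmaCore H := by
      have e : w * k * w⁻¹ * k⁻¹ = w * (k * w⁻¹ * k⁻¹) := by group
      rw [e]; exact mul_mem hwσ h3
    have h5 : w * k * w⁻¹ * k⁻¹ ∈ Cfsg.sigmaCore Mstar ⊓ Cfsg.sigmaCore H := ⟨h2, h4⟩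
    rw [hdisj, mem_bot] at h5
    exact h5
  have hwk : w ∈ Cfsg.sigmaCore H ⊓ centralizer ({k} : Set G) := by
    refine ⟨hwσ, mem_centralizer_singleton_iff.mpr ?_⟩
    have := hcomm k hk
    calc w * k = (w * k * w⁻¹ * k⁻¹) * (k * w) := by group
      _ = k * w := by rw [this, one_mul]
  rw [hfH k hk hk1] at hwk
  exact hwk

/-- a complement of `H_σ` in `H` lying in `M*` is `H ∩ M*` -/
theorem inf_partner_eq_of_le {H E : Subgroup G} (hE : Cfsg.IsComplIn E (Cfsg.sigmaCore H) H)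
    (hEMs : E ≤ Mstar) (hdisj : Cfsg.sigmaCore H ⊓ Mstar = ⊥) : H ⊓ Mstar = E := by
  apply le_antisymm
  · intro h hh
    obtain ⟨a, ha, b, hb, rfl⟩ := hE.2.2.2 h hh.1
    have hbMs : b ∈ Mstar := by
      have : b = a⁻¹ * (a * b) := by group
      rw [this]; exact mul_mem (inv_mem (hEMs ha)) hh.2
    have : b ∈ Cfsg.sigmaCore H ⊓ Mstar := ⟨hb, hbMs⟩
    rw [hdisj, mem_bot] at this
    rw [this, mul_one]; exact ha
  · exact le_inf hE.1 hEMs

include P in
/-- clause (6) of S1435 when `q = |K| ∈ τ₂(H)` -/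
theorem isComplIn_of_tau2 (hG : Cfsg.IsMinSimpleOddOrder G) (h1375 : St1375 G)
    {H : Subgroup G} (hH : IsCoatom H) (hHMs : ∀ g : G, H ≠ Mstar.map (cj g)) (hKH : K ≤ H)
    {q : ℕ} [Fact q.Prime] (hKq : Nat.card K = q) (hNK : normalizer (K : Set G) ≤ Mstar)
    (hq2 : q ∈ Cfsg.tau2 H) : Cfsg.IsComplIn (H ⊓ Mstar) (Cfsg.sigmaCore H) H := by
  have h1350 := Cfsg.Agent.Helper21.BG12.st1350 hG
  have hqp : q.Prime := Fact.out
  have hqH : q ∉ Cfsg.sigma H := hq2.2.1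
  have hKp : IsPGroup q K := IsPGroup.of_card (n := 1) (by rw [hKq, pow_one])
  obtain ⟨S, hS, hKS⟩ := exists_isSylowIn_ge hKH hKp
  obtain ⟨A, hAS, hAe, hAc⟩ :=
    Cfsg.Agent.Helper21.BG12.exists_elementary_sq_le_sylow hq2.2.2.1 hq2.2.2.2 hS
  have hSσ : S ⊓ Cfsg.sigmaCore H = ⊥ := by
    rw [← disjoint_iff]
    apply Subgroup.disjoint_of_coprime_natCard
    exact Cfsg.Agent.Helper16.BG11.coprime_card_sigmaCore hqH hS.2.1
  obtain ⟨E, hE, hSE⟩ := Cfsg.Agent.Helper21.BG12.exists_complIn_sigmaCore_ge hG hH hS.1 hSσ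
  have hAH : A ≤ H := hAS.trans hS.1
  have hAE : A ≤ E := hAS.trans hSE
  -- `K ≤ A`
  have h17 := (Cfsg.Agent.Helper21.BG13.st1417 hG H hH q hq2 A ⟨hAH, hAe, hAc⟩).2.1 hS.toSylow
  have hΩ := (h17.2 (by rw [hS.toSylow_map]; exact hAS)).1
  have hKA : K ≤ A := by
    intro k hk
    have hkS : k ∈ ((hS.toSylow : Sylow q ↥H) : Subgroup ↥H).map H.subtype := by
      rw [hS.toSylow_map]; exact hKS hk
    refine (hΩ k hkS).mp ?_
    have : (⟨k, hk⟩ : K) ^ Nat.card K = 1 := pow_card_eq_one'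
    rw [hKq] at this
    exact congrArg Subtype.val this
  -- an element of `A#` with fixed points on `H_σ`
  have hσ1 : Cfsg.sigmaCore H ≠ ⊥ :=
    Cfsg.Agent.Helper10.BG16.sigmaCore_ne_bot hG (fun M hM => h1350 M hM)
      (Cfsg.Agent.Helper21.BG12.uniq96 hG) hH
  have hcop : (Nat.card (Cfsg.sigmaCore H)).Coprime q :=
    (Nat.Prime.coprime_iff_not_dvd hqp).mpr
      (Cfsg.Agent.Helper16.BG11.not_dvd_card_sigmaCore hqH) |>.symm
  obtain ⟨a, haA, ha1, haC⟩ := Cfsg.Agent.Lead.TT.exists_centralizer_inf_ne_bot A hAe hAc.ge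
    (Cfsg.sigmaCore H) hcop (hAH.trans (le_normalizer_sigmaCore H)) hσ1
  have haq : a ^ q = 1 := hAe.2 a haA
  have hao : orderOf a = q := orderOf_eq_prime haq ha1
  have hXA : zpowers a ≤ A := zpowers_le.mpr haA
  have hXc : Nat.card (zpowers a) = q := by rw [Nat.card_zpowers, hao]
  have hXfix : Cfsg.sigmaCore H ⊓ centralizer ((zpowers a : Subgroup G) : Set G) ≠ ⊥ := by
    rw [centralizer_zpowers_eq, inf_comm]; exact haC
  obtain ⟨hCH, huniq⟩ := (Cfsg.Agent.Helper21.BG13.st1418 hG H hH E hE q hq2 A ⟨hAE, hAe, hAc⟩).2.2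
    (zpowers a) hXA hXc hXfix
  rw [centralizer_zpowers_eq] at hCH huniq
  -- `a ∈ M*_σ`
  have haK : a ∈ centralizer (K : Set G) := by
    rw [mem_centralizer_iff]
    intro k hk
    have := hAe.1.is_comm.comm (⟨k, hKA hk⟩ : A) ⟨a, haA⟩
    exact congrArg Subtype.val this
  have haMs : a ∈ Mstar := hNK (centralizer_le_normalizer _ haK)
  have hXp : IsPGroup q (zpowers a) := IsPGroup.of_card (n := 1) (by rw [hXc, pow_one])
  have hqσ : q ∈ Cfsg.sigma Mstar := P.mem_sigma_partner hqp (hKq ▸ dvd_rfl)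
  have haσ : a ∈ Cfsg.sigmaCore Mstar :=
    Cfsg.Agent.H9.BG12.le_sigmaCore_of_isPGroup h1350 P.hMs hqσ (zpowers_le.mpr haMs) hXp
      (mem_zpowers a)
  have hnle : ¬ centralizer ({a} : Set G) ≤ Mstar := by
    intro hle
    apply hHMs 1
    rw [map_cj_one]
    exact (huniq Mstar P.hMs hle).symm
  obtain ⟨N, ⟨hN, hCN⟩, -, -, -, -, hcompl, -⟩ := h1375 Mstar P.hMs a haσ ha1 hnle
  have hNH : N = H := huniq N hN hCN
  rw [hNH, inf_comm] at hcompl
  exact hcompl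

end PartnerData

end Cfsg.Agent.Helper27.BG15
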