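import Mathlib
import Cfsg.Agent.Helper27.BG15O
import Cfsg.Agent.Helper9.BG12o
import Cfsg.Agent.Helper16.BG11f
import Cfsg.Agent.Helper4.BG10f
import Cfsg.Agent.Helper13.BG15A

/-!
# B&G Theorem 15.8 (statement S1435), part 3: clause (6) when `H` has `q`-rank one (`q = |K|`)
-/

set_option autoImplicit false
set_option linter.unusedSectionVars false
set_option linter.unusedVariables false

namespace Cfsg.Agent.Helper27.BG15

open Subgroup Cfsg Cfsg.Agent.Lead Cfsg.Agent.Helper14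
open scoped commutatorElement
open Cfsg.Agent.H9.BG12 (sigmaCore_le le_normalizer_sigmaCore mem_sigma_of_dvd_card_sigmaCore)

universe u

variable {G : Type u} [Group G] [Finite G]

/-- a non-identity element of a subgroup of prime order generates it -/
theorem zpowers_eq_of_card_prime {K : Subgroup G} {q : ℕ} (hq : q.Prime) (hKq : Nat.card K = q)
    {k : G} (hk : k ∈ K) (hk1 : k ≠ 1) : orderOf k = q ∧ zpowers k = K := by
  have hd : orderOf k ∣ q := hKq ▸ K.orderOf_dvd_natCard hk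
  have ho : orderOf k = q := by
    rcases (Nat.dvd_prime hq).mp hd with h | h
    · exact absurd (orderOf_eq_one_iff.mp h) hk1
    · exact h
  refine ⟨ho, ?_⟩
  apply Subgroup.eq_of_le_of_card_ge (zpowers_le.mpr hk)
  rw [Nat.card_zpowers, ho, hKq]

theorem fpf_of_generator {K V : Subgroup G} {q : ℕ} (hq : q.Prime) (hKq : Nat.card K = q)
    {k₀ : G} (hk₀ : k₀ ∈ K) (h : ∀ v ∈ V, k₀ * v = v * k₀ → v = 1) :
    ∀ k ∈ K, k ≠ 1 → ∀ v ∈ V, k * v = v * k → v = 1 := by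
  intro k hk hk1 v hv hkv
  have hz := (zpowers_eq_of_card_prime hq hKq hk hk1).2
  have hmem : k₀ ∈ zpowers k := hz ▸ hk₀
  obtain ⟨i, rfl⟩ := mem_zpowers_iff.mp hmem
  apply h v hv
  have hc : Commute k v := hkv
  exact (hc.zpow_left i).eq

/-- if `k` (of order dividing `q`) commutes with the commutator `e = d k d⁻¹ k⁻¹` and the order of
`e` is prime to `q`, then `e = 1` -/
theorem commutator_eq_one_of_commute {k d : G} {q : ℕ} (hkq : k ^ q = 1)
    (hcop : (orderOf (d * k * d⁻¹ * k⁻¹)).Coprime q) (hc : Commute k (d * k * d⁻¹ * k⁻¹)) :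
    d * k * d⁻¹ * k⁻¹ = 1 := by
  have h1 : k * d * k⁻¹ = (d * k * d⁻¹ * k⁻¹)⁻¹ * d := by group
  generalize d * k * d⁻¹ * k⁻¹ = e at h1 hcop hc
  have key : ∀ i : ℕ, k ^ i * d * (k ^ i)⁻¹ = (e ^ i)⁻¹ * d := by
    intro i
    induction i with
    | zero => simp
    | succ i ih =>
      have hce : Commute k ((e ^ i)⁻¹) := (hc.pow_right i).inv_right
      calc k ^ (i + 1) * d * (k ^ (i + 1))⁻¹ = k * (k ^ i * d * (k ^ i)⁻¹) * k⁻¹ := by
            rw [pow_succ']; group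
        _ = k * ((e ^ i)⁻¹ * d) * k⁻¹ := by rw [ih]
        _ = (k * (e ^ i)⁻¹) * d * k⁻¹ := by group
        _ = ((e ^ i)⁻¹ * k) * d * k⁻¹ := by rw [hce.eq]
        _ = (e ^ i)⁻¹ * (k * d * k⁻¹) := by group
        _ = (e ^ i)⁻¹ * (e⁻¹ * d) := by rw [h1]
        _ = (e ^ (i + 1))⁻¹ * d := by rw [pow_succ']; group
  have h2 := key q
  rw [hkq] at h2
  have h3 : e ^ q = 1 := by
    have h4 : (e ^ q)⁻¹ = 1 := by
      have h5 : (e ^ q)⁻¹ * d = 1 * d := by rw [← h2]; group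
      exact mul_right_cancel h5
    exact inv_eq_one.mp h4
  have h5 : orderOf e ∣ q := orderOf_dvd_of_pow_eq_one h3
  exact orderOf_eq_one_iff.mp (hcop.eq_one_of_dvd h5)

/-- for an abelian subgroup `D` normalized by `k`, the commutators `d k d⁻¹ k⁻¹` (`d ∈ D`) form a
subgroup of `D` normalized by `k` -/
theorem exists_commutator_image {D : Subgroup G} (hD : ∀ a ∈ D, ∀ b ∈ D, a * b = b * a) {k : G}
    (hk : k ∈ normalizer (D : Set G)) :
    ∃ W : Subgroup G, W ≤ D ∧ (∀ w, w ∈ W ↔ ∃ d ∈ D, d * k * d⁻¹ * k⁻¹ = w) ∧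
      k ∈ normalizer (W : Set G) := by
  have hconj : ∀ d ∈ D, k * d * k⁻¹ ∈ D := fun d hd => (mem_normalizer_iff.mp hk d).mp hd
  have hconj' : ∀ d ∈ D, k⁻¹ * d * k ∈ D := fun d hd => by
    apply (mem_normalizer_iff.mp hk (k⁻¹ * d * k)).mpr
    have : k * (k⁻¹ * d * k) * k⁻¹ = d := by group
    rw [this]; exact hd
  have hmem : ∀ d ∈ D, d * k * d⁻¹ * k⁻¹ ∈ D := by
    intro d hd
    have : d * k * d⁻¹ * k⁻¹ = d * (k * d⁻¹ * k⁻¹) := by group
    rw [this]; exact mul_mem hd (hconj _ (inv_mem hd))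
  let φ : ↥D →* G := MonoidHom.mk' (fun d => (d : G) * k * (d : G)⁻¹ * k⁻¹) (by
    intro a b
    show ((a * b : D) : G) * k * ((a * b : D) : G)⁻¹ * k⁻¹ = _
    rw [Subgroup.coe_mul]
    have hu : (b : G) * (k * (b : G)⁻¹ * k⁻¹) ∈ D := mul_mem b.2 (hconj _ (inv_mem b.2))
    have hv : k * (a : G)⁻¹ * k⁻¹ ∈ D := hconj _ (inv_mem a.2)
    calc (a : G) * b * k * ((a : G) * b)⁻¹ * k⁻¹
        = (a : G) * (((b : G) * (k * (b : G)⁻¹ * k⁻¹)) * (k * (a : G)⁻¹ * k⁻¹)) := by group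
      _ = (a : G) * ((k * (a : G)⁻¹ * k⁻¹) * ((b : G) * (k * (b : G)⁻¹ * k⁻¹))) := by
          rw [hD _ hu _ hv]
      _ = (a : G) * k * (a : G)⁻¹ * k⁻¹ * ((b : G) * k * (b : G)⁻¹ * k⁻¹) := by group)
  have hφ : ∀ w, w ∈ φ.range ↔ ∃ d ∈ D, d * k * d⁻¹ * k⁻¹ = w := by
    intro w
    rw [MonoidHom.mem_range]
    constructor
    · rintro ⟨d, rfl⟩
      exact ⟨d, d.2, rfl⟩
    · rintro ⟨d, hd, rfl⟩
      exact ⟨⟨d, hd⟩, rfl⟩
  refine ⟨φ.range, ?_, hφ, ?_⟩
  · intro w hw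
    obtain ⟨d, hd, rfl⟩ := (hφ w).mp hw
    exact hmem d hd
  · rw [mem_normalizer_iff]
    intro w
    constructor
    · intro hw
      obtain ⟨d, hd, rfl⟩ := (hφ w).mp hw
      refine (hφ _).mpr ⟨k * d * k⁻¹, hconj d hd, ?_⟩
      group
    · intro hw
      obtain ⟨d, hd, hdw⟩ := (hφ _).mp hw
      refine (hφ _).mpr ⟨k⁻¹ * d * k, hconj' d hd, ?_⟩
      have : w = k⁻¹ * (k * w * k⁻¹) * k := by group
      rw [this, ← hdw]
      group

/-- `E` normalizes its derived subgroup -/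
theorem conj_mem_commutator_self {E : Subgroup G} {e : G} (he : e ∈ E) {d : G}
    (hd : d ∈ ⁅E, E⁆) : e * d * e⁻¹ ∈ ⁅E, E⁆ := by
  have h1 : (⁅E, E⁆).map (cj e) = ⁅E, E⁆ := by
    rw [Subgroup.map_commutator, map_cj_eq_self_of_mem he]
  rw [← h1]
  exact ⟨d, hd, cj_apply e d⟩

namespace PartnerData

variable {M K U Mstar : Subgroup G} (P : PartnerData M K U Mstar)

include P in
/-- a maximal subgroup containing `K` and conjugate to `M*` is `M*` -/
theorem eq_partner_of_conj (hG : Cfsg.IsMinSimpleOddOrder G) (h1367 : St1367 G)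
    {L : Subgroup G} (hL : IsCoatom L) (hKL : K ≤ L) {g : G} (hLg : L = Mstar.map (cj g)) :
    L = Mstar := by
  have hcard : Nat.card K ≠ 1 := fun h => P.hK1 (Subgroup.card_eq_one.mp h)
  obtain ⟨p, hp, hpK⟩ := Nat.exists_prime_and_dvd hcard
  have : Fact p.Prime := ⟨hp⟩
  obtain ⟨k, hk⟩ := exists_prime_orderOf_dvd_card' (G := K) p hpK
  have hkK : (k : G) ∈ K := k.2
  have hko : orderOf (k : G) = p := by rw [Subgroup.orderOf_coe]; exact hk
  have hpσ : p ∈ Cfsg.sigma Mstar := P.mem_sigma_partner hp hpK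
  set X : Subgroup G := zpowers (k : G) with hX
  have hXK : X ≤ K := zpowers_le.mpr hkK
  have hXc : Nat.card X = p := by rw [hX, Nat.card_zpowers, hko]
  have hXp : IsPGroup p X := IsPGroup.of_card (n := 1) (by rw [hXc, pow_one])
  have hX1 : X ≠ ⊥ := by
    intro h
    rw [h, Subgroup.card_bot] at hXc
    exact hp.one_lt.ne hXc
  have hXMs : X ≤ Mstar := hXK.trans P.K_le_partner
  have hXg : X ≤ Mstar.map (cj g) := hLg ▸ (hXK.trans hKL)
  obtain ⟨c, hc, hcM⟩ := Cfsg.Agent.H9.BG12.conj_mem_of_le_map_cj (Cfsg.Agent.Helper21.BG12.ctl hG)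
    P.hMs hpσ hXp hX1 hXMs g hXg
  have hCX := ((h1367 M P.hM K U P.hKU P.hK1 Mstar P.hMs P.hKst P.hKstH).2 X hXK
    (hXc ▸ hp)).1
  have hcMs : c ∈ Mstar := hCX hc
  have hle : L ≤ Mstar := by
    intro t ht
    have h1 : c * t * c⁻¹ ∈ Mstar := hcM t (hLg ▸ ht)
    have h2 : t = c⁻¹ * (c * t * c⁻¹) * c := by group
    rw [h2]
    exact mul_mem (mul_mem (inv_mem hcMs) h1) hcMs
  rcases eq_or_lt_of_le hle with h | h
  · exact h
  · exact absurd (hL.2 _ h) P.hMs.1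

include P in
/-- a `K`-invariant subgroup `V` of a complement `E` of `H_σ`, of order prime to `q = |K|`, on which
`K` acts without fixed points centralizes `H_σ` (when `K` acts without fixed points on `H_σ`) -/
theorem le_centralizer_sigmaCore_of_fpf (hG : Cfsg.IsMinSimpleOddOrder G) {H E V : Subgroup G}
    (hH : IsCoatom H) (hE : Cfsg.IsComplIn E (Cfsg.sigmaCore H) H) (hKH : K ≤ H) (hVE : V ≤ E)
    {q : ℕ} [Fact q.Prime] (hKq : Nat.card K = q) (hqH : q ∉ Cfsg.sigma H)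
    (hKV : K ≤ normalizer (V : Set G)) (hVq : (Nat.card V).Coprime q)
    (hfH : ∀ k ∈ K, k ≠ 1 → Cfsg.sigmaCore H ⊓ centralizer ({k} : Set G) = ⊥)
    (hfV : ∀ k ∈ K, k ≠ 1 → ∀ v ∈ V, k * v = v * k → v = 1) :
    V ≤ centralizer (Cfsg.sigmaCore H : Set G) := by
  have h1350 := Cfsg.Agent.Helper21.BG12.st1350 hG
  have hqp : q.Prime := Fact.out
  have hsolvH : Group.IsSolvable H := hG.2.2.2 H hH.1
  have hodd : Odd (Nat.card H) := Odd.of_dvd_nat hG.1 (Subgroup.card_subgroup_dvd_card H)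
  have hVH : V ≤ H := hVE.trans hE.1
  have hHall := Cfsg.Agent.H9.BG12.isPiHallOf_compl h1350 hH hE
  have hcopNV : (Nat.card (Cfsg.sigmaCore H)).Coprime (Nat.card V) := by
    apply Nat.coprime_of_dvd
    intro p hp h1 h2
    have h3 : p ∈ Cfsg.sigma H := mem_sigma_of_dvd_card_sigmaCore hp h1
    exact hHall.2.1 p hp (h2.trans (card_dvd_of_le hVE)) h3
  have hcopNK : (Nat.card (Cfsg.sigmaCore H)).Coprime (Nat.card K) := by
    rw [hKq]
    exact ((Nat.Prime.coprime_iff_not_dvd hqp).mpr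
      (Cfsg.Agent.Helper16.BG11.not_dvd_card_sigmaCore hqH)).symm
  have hcomm := Cfsg.Agent.Helper20.BG15L.frob_centralizes_in H (Cfsg.sigmaCore H) V K
    (sigmaCore_le H) hVH hKH hsolvH hodd (hVH.trans (le_normalizer_sigmaCore H))
    (hKH.trans (le_normalizer_sigmaCore H)) hKV hcopNV hcopNK (hKq ▸ hVq) P.hK1
    (by
      intro k hk hk1 n hn hkn
      have : n ∈ Cfsg.sigmaCore H ⊓ centralizer ({k} : Set G) :=
        ⟨hn, mem_centralizer_singleton_iff.mpr hkn.symm⟩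
      rw [hfH k hk hk1, mem_bot] at this
      exact this)
    hfV
  intro v hv
  rw [mem_centralizer_iff]
  intro n hn
  exact hcomm n hn v hv

include P in
/-- clause (6) of S1435 when `H` has `q`-rank one, `q = |K|`.  `hKL` is helper13's Lemma KL. -/
theorem isComplIn_of_rank_one (hG : Cfsg.IsMinSimpleOddOrder G) (h1367 : St1367 G)
    (h1369 : St1369 G) (h1375 : St1375 G) (h1432 : St1432 G)
    {H : Subgroup G} (hH : IsCoatom H) (hHMs : ∀ g : G, H ≠ Mstar.map (cj g))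
    (hκH : Cfsg.kappa H = ∅) (hKH : K ≤ H)
    {q : ℕ} [Fact q.Prime] (hKq : Nat.card K = q) (hNK : normalizer (K : Set G) ≤ Mstar)
    (hq1 : Cfsg.PRankLE q 1 H)
    (hKL : ∀ (g x x₂ : G), K ≤ M.map (cj g) → x ∈ Cfsg.sigmaCore (M.map (cj g)) →
      (orderOf x).Prime → centralizer ({x} : Set G) ≤ H → x₂ ∈ Cfsg.sigmaCore (M.map (cj g)) →
      x₂ ∈ centralizer (K : Set G) → orderOf x₂ = orderOf x → False) :
    Cfsg.IsComplIn (H ⊓ Mstar) (Cfsg.sigmaCore H) H := by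
  have h1350 := Cfsg.Agent.Helper21.BG12.st1350 hG
  have hqp : q.Prime := Fact.out
  have hfH := P.fpf_of_kappa_empty hG h1367 h1432 hH hHMs hκH hKH
  have hqσ : q ∈ Cfsg.sigma Mstar := P.mem_sigma_partner hqp (hKq ▸ dvd_rfl)
  have hqH : q ∉ Cfsg.sigma H := Cfsg.Agent.Helper23.BG13SO.sigma_partition hG P.hMs hH hHMs hqσ
  have hKp : IsPGroup q K := IsPGroup.of_card (n := 1) (by rw [hKq, pow_one])
  have hKσ : K ⊓ Cfsg.sigmaCore H = ⊥ := by
    rw [← disjoint_iff]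
    apply Subgroup.disjoint_of_coprime_natCard
    exact Cfsg.Agent.Helper16.BG11.coprime_card_sigmaCore hqH hKp
  obtain ⟨E, hE, hKE⟩ := Cfsg.Agent.Helper21.BG12.exists_complIn_sigmaCore_ge hG hH hKH hKσ
  have hdisj := P.sigmaCore_inf_partner hG hH hHMs hKH hfH
  suffices hEMs : E ≤ Mstar by
    rw [PartnerData.inf_partner_eq_of_le hE hEMs hdisj]
    exact hE
  obtain ⟨k, hkK, hk1⟩ : ∃ k ∈ K, k ≠ 1 := by
    obtain ⟨a, ha⟩ := Subgroup.ne_bot_iff_exists_ne_one.mp P.hK1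
    exact ⟨(a : G), a.2, fun h => ha (Subtype.ext h)⟩
  obtain ⟨hko, hzk⟩ := zpowers_eq_of_card_prime hqp hKq hkK hk1
  have hkq : k ^ q = 1 := by rw [← hko]; exact pow_orderOf_eq_one k
  have hKc : ∀ a ∈ K, ∀ b ∈ K, a * b = b * a := by
    intro a ha b hb
    rw [← hzk] at ha hb
    obtain ⟨i, rfl⟩ := mem_zpowers_iff.mp ha
    obtain ⟨j, rfl⟩ := mem_zpowers_iff.mp hb
    exact (Commute.zpow_zpow_self k i j).eq
  have hEH : E ≤ H := hE.1
  have hkE : k ∈ E := hKE hkK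
  have hsolvH : Group.IsSolvable H := hG.2.2.2 H hH.1
  have hHallE := Cfsg.Agent.H9.BG12.isPiHallOf_compl h1350 hH hE
  have hσ1 : Cfsg.sigmaCore H ≠ ⊥ :=
    Cfsg.Agent.Helper10.BG16.sigmaCore_ne_bot hG (fun M hM => h1350 M hM)
      (Cfsg.Agent.Helper21.BG12.uniq96 hG) hH
  have hDE : ⁅E, E⁆ ≤ E := Subgroup.commutator_le.mpr (fun a ha b hb =>
    E.mul_mem (E.mul_mem (E.mul_mem ha hb) (E.inv_mem ha)) (E.inv_mem hb))
  have hDab : IsMulCommutative ↥⁅E, E⁆ := (Cfsg.Agent.S1420.result hG H hH E hE).2.1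
  have hDc : ∀ a ∈ ⁅E, E⁆, ∀ b ∈ ⁅E, E⁆, a * b = b * a := fun a ha b hb =>
    congrArg Subtype.val (hDab.is_comm.comm ⟨a, ha⟩ ⟨b, hb⟩)
  have hEND : E ≤ normalizer ((⁅E, E⁆ : Subgroup G) : Set G) :=
    Cfsg.Agent.Helper13.BG15.le_nzr_of_conj_mem
      (fun a ha u hu => conj_mem_commutator_self ha hu)
  have hkND : k ∈ normalizer ((⁅E, E⁆ : Subgroup G) : Set G) := hEND hkE
  -- the dichotomy `τ₃` / `τ₁`
  have hdich : K ≤ centralizer ((⁅E, E⁆ : Subgroup G) : Set G) ∨ ¬ q ∣ Nat.card ↥⁅E, E⁆ := by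
    by_cases hq3 : q ∣ Nat.card ↥⁅H, H⁆
    · left
      have hq3' : q ∈ Cfsg.tau3 H := ⟨hqp, hqH, hq3, hq1⟩
      have hsolvE : Group.IsSolvable E :=
        Group.isSolvable_of_isSolvable_injective (Subgroup.inclusion_injective hEH)
      have hKnum : IsPiNum (Cfsg.tau3 H) (Nat.card K) := by
        intro p hp hd
        rw [hKq] at hd
        rw [(Nat.prime_dvd_prime_iff_eq hp hqp).mp hd]
        exact hq3'
      obtain ⟨E₃, hE₃, hKE₃⟩ := Cfsg.Agent.Lead.exists_isPiHallOf_ge hsolvE hKE hKnum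
      have hE₃D : E₃ ≤ ⁅E, E⁆ := ((Cfsg.Agent.S1415.result hG H hH E hE).2.2 E₃ hE₃).2.1
      intro k' hk'
      rw [mem_centralizer_iff]
      intro d hd
      exact hDc d hd k' (hE₃D (hKE₃ hk'))
    · right
      intro hd
      exact hq3 (hd.trans (card_dvd_of_le (Subgroup.commutator_mono hEH hEH)))
  by_cases hcen : K ≤ centralizer ((⁅E, E⁆ : Subgroup G) : Set G)
  · -- `E ≤ N_G(K) ≤ M*`
    have hEK : E ≤ normalizer (K : Set G) := by
      apply Cfsg.Agent.Helper13.BG15.le_nzr_of_conj_mem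
      intro e he k' hk'
      have hk'E : k' ∈ E := hKE hk'
      have hcD : e * k' * e⁻¹ * k'⁻¹ ∈ ⁅E, E⁆ := Subgroup.commutator_mem_commutator he hk'E
      have hxK : ∀ κ ∈ K, κ * (e * k' * e⁻¹) = (e * k' * e⁻¹) * κ := by
        intro κ hκ
        have h1 : (e * k' * e⁻¹ * k'⁻¹) * κ = κ * (e * k' * e⁻¹ * k'⁻¹) :=
          mem_centralizer_iff.mp (hcen hκ) _ hcD
        have h2 : κ * k' = k' * κ := hKc κ hκ k' hk'
        calc κ * (e * k' * e⁻¹) = (κ * (e * k' * e⁻¹ * k'⁻¹)) * k' := by group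
          _ = ((e * k' * e⁻¹ * k'⁻¹) * κ) * k' := by rw [h1]
          _ = (e * k' * e⁻¹ * k'⁻¹) * (κ * k') := by group
          _ = (e * k' * e⁻¹ * k'⁻¹) * (k' * κ) := by rw [h2]
          _ = (e * k' * e⁻¹) * κ := by group
      have hk'q : k' ^ q = 1 := by
        have : (⟨k', hk'⟩ : K) ^ Nat.card K = 1 := pow_card_eq_one'
        rw [hKq] at this
        exact congrArg Subtype.val this
      have hxq : (e * k' * e⁻¹) ^ q = 1 := Cfsg.Agent.Helper16.BG11.conj_pow_eq_one hk'q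
      have hB : Cfsg.IsElementaryAbelian q (K ⊔ zpowers (e * k' * e⁻¹)) :=
        Cfsg.Agent.H9.BG12.isElementaryAbelian_sup_zpowers hKq hxq hxK
      have hBH : K ⊔ zpowers (e * k' * e⁻¹) ≤ H :=
        sup_le hKH (zpowers_le.mpr (hEH (E.mul_mem (E.mul_mem he hk'E) (E.inv_mem he))))
      have hle := Cfsg.Agent.Helper16.BG11.card_le_of_pRankLE hBH hB hq1
      rw [pow_one] at hle
      have heq : K = K ⊔ zpowers (e * k' * e⁻¹) :=
        Subgroup.eq_of_le_of_card_ge le_sup_left (by rw [hKq]; exact hle)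
      rw [heq]
      exact le_sup_right (a := K) (mem_zpowers _)
    exact hEK.trans hNK
  · -- the bad case: `K` does not centralize `E'`
    have hqD : ¬ q ∣ Nat.card ↥⁅E, E⁆ := hdich.resolve_left hcen
    obtain ⟨W, hWD, hWmem, hkW⟩ := exists_commutator_image hDc hkND
    have hcopD : (Nat.card ↥⁅E, E⁆).Coprime q :=
      ((Nat.Prime.coprime_iff_not_dvd hqp).mpr hqD).symm
    have hcopW : (Nat.card W).Coprime q :=
      Nat.Coprime.coprime_dvd_left (card_dvd_of_le hWD) hcopD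
    have hKW : K ≤ normalizer (W : Set G) := by rw [← hzk]; exact zpowers_le.mpr hkW
    have hW1 : W ≠ ⊥ := by
      intro hW
      apply hcen
      rw [← hzk, zpowers_le, mem_centralizer_iff]
      intro d hd
      have hmem : d * k * d⁻¹ * k⁻¹ ∈ W := (hWmem _).mpr ⟨d, hd, rfl⟩
      rw [hW, mem_bot] at hmem
      calc d * k = (d * k * d⁻¹ * k⁻¹) * (k * d) := by group
        _ = k * d := by rw [hmem, one_mul]
    have hfW0 : ∀ w ∈ W, k * w = w * k → w = 1 := by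
      intro w hw hkw
      obtain ⟨d, hd, rfl⟩ := (hWmem w).mp hw
      exact commutator_eq_one_of_commute hkq
        (Nat.Coprime.coprime_dvd_left (W.orderOf_dvd_natCard hw) hcopW) hkw
    have hfW := fpf_of_generator (V := W) hqp hKq hkK hfW0
    have hWE : W ≤ E := hWD.trans hDE
    have hWcen := P.le_centralizer_sigmaCore_of_fpf hG hH hE hKH hWE hKq hqH hKW hcopW hfH hfW
    -- an element `x` of prime order `s` of `W`
    have hWcard : Nat.card W ≠ 1 := fun h => hW1 (Subgroup.card_eq_one.mp h)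
    obtain ⟨s, hs, hsW⟩ := Nat.exists_prime_and_dvd hWcard
    have : Fact s.Prime := ⟨hs⟩
    obtain ⟨x', hx'⟩ := exists_prime_orderOf_dvd_card' (G := W) s hsW
    obtain ⟨x, hxW, hxo⟩ : ∃ x ∈ W, orderOf x = s :=
      ⟨(x' : G), x'.2, by rw [Subgroup.orderOf_coe]; exact hx'⟩
    have hx1 : x ≠ 1 := by
      intro h
      rw [h, orderOf_one] at hxo
      exact hs.one_lt.ne hxo
    have hxE : x ∈ E := hWE hxW
    have hxH : x ∈ H := hEH hxE
    have hsq : s ≠ q := by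
      intro h
      have h1 : q ∣ Nat.card W := h ▸ hsW
      have := Nat.Coprime.eq_one_of_dvd hcopW.symm h1
      exact hqp.one_lt.ne' this
    have hsH : s ∉ Cfsg.sigma H :=
      hHallE.2.1 s hs (hsW.trans (card_dvd_of_le hWE))
    obtain ⟨y₀, hy₀1⟩ := Subgroup.ne_bot_iff_exists_ne_one.mp hσ1
    have hy₀σ : (y₀ : G) ∈ Cfsg.sigmaCore H := y₀.2
    have hy₀1' : (y₀ : G) ≠ 1 := fun h => hy₀1 (Subtype.ext h)
    have hxy₀ : x ∈ H ⊓ centralizer ({(y₀ : G)} : Set G) := by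
      refine ⟨hxH, mem_centralizer_singleton_iff.mpr ?_⟩
      exact (mem_centralizer_iff.mp (hWcen hxW) _ hy₀σ).symm
    have hσx : ∀ p : ℕ, p.Prime → p ∣ orderOf x → p ∉ Cfsg.sigma H := by
      intro p hp hpd
      rw [hxo] at hpd
      rw [(Nat.prime_dvd_prime_iff_eq hp hs).mp hpd]
      exact hsH
    rcases h1432 H hH y₀ hy₀σ hy₀1' x hxy₀ hx1 hσx with ⟨h1, -⟩ | ⟨hτ2, ⟨L₀, hL₀, hsL₀'⟩, hCxH, hxuniq⟩
    · have : s ∈ Cfsg.kappa H := h1 s hs (hxo ▸ dvd_rfl)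
      rw [hκH] at this
      exact absurd this (Set.notMem_empty s)
    have hs2 : s ∈ Cfsg.tau2 H := hτ2 s hs (hxo ▸ dvd_rfl)
    have hsL₀ : s ∈ Cfsg.sigma L₀ := hsL₀' s hs (hxo ▸ dvd_rfl)
    -- conjugate `L₀` to contain `x`
    have hXs : IsPGroup s (zpowers x) :=
      IsPGroup.of_card (n := 1) (by rw [Nat.card_zpowers, hxo, pow_one])
    obtain ⟨T, hT⟩ := Cfsg.Agent.Helper4.BG12SD.exists_isSylowIn_of_mem_sigma hsL₀
    have hTtop := Cfsg.Agent.Helper4.BG10.sigma_isSylowIn_top hsL₀ hT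
    obtain ⟨m₀, -, hm₀⟩ :=
      Cfsg.Agent.Helper16.BG11.exists_conj_le_of_isSylowIn hTtop (le_top : zpowers x ≤ ⊤) hXs
    have hL₁ : IsCoatom (L₀.map (cj m₀⁻¹)) := Cfsg.Agent.Lead.BG9.isCoatom_map_cj hL₀ _
    have hsL₁ : s ∈ Cfsg.sigma (L₀.map (cj m₀⁻¹)) :=
      Cfsg.Agent.Helper16.BG11.mem_sigma_map_cj _ hsL₀
    have hXL₁ : zpowers x ≤ L₀.map (cj m₀⁻¹) := (map_cj_le_iff _ _ _).mp (hm₀.trans hT.1)
    have hxσ₁ : x ∈ Cfsg.sigmaCore (L₀.map (cj m₀⁻¹)) :=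
      Cfsg.Agent.H9.BG12.le_sigmaCore_of_isPGroup h1350 hL₁ hsL₁ hXL₁ hXs (mem_zpowers x)
    have hnle₁ : ¬ centralizer ({x} : Set G) ≤ L₀.map (cj m₀⁻¹) := by
      intro hle
      have := hxuniq _ hL₁ hle
      exact hsH (this ▸ hsL₁)
    obtain ⟨N, ⟨hN, hCN⟩, -, -, -, -, hcompl, -⟩ := h1375 _ hL₁ x hxσ₁ hx1 hnle₁
    have hNH : N = H := hxuniq N hN hCN
    rw [hNH] at hcompl
    -- conjugate so that `E ≤ L_s`
    have hHall₁ := Cfsg.Agent.H9.BG12.isPiHallOf_compl h1350 hH hcompl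
    obtain ⟨m, hmH, hm⟩ := Cfsg.Agent.H9.BG12.exists_conj_le_of_hall hsolvH hHall₁ hEH hHallE.2.1
    set Ls : Subgroup G := (L₀.map (cj m₀⁻¹)).map (cj m⁻¹) with hLsdef
    have hLs : IsCoatom Ls := Cfsg.Agent.Lead.BG9.isCoatom_map_cj hL₁ _
    have hsLs : s ∈ Cfsg.sigma Ls := Cfsg.Agent.Helper16.BG11.mem_sigma_map_cj _ hsL₁
    have hELs : E ≤ Ls := (map_cj_le_iff _ _ _).mp (hm.trans inf_le_left)
    have hKLs : K ≤ Ls := hKE.trans hELs
    -- an elementary abelian subgroup `A ≤ E` of order `s ^ 2`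
    obtain ⟨A₀, hA₀H, hA₀e, hA₀c⟩ := Cfsg.Agent.Helper4.BG10.exists_elementary_sq hs2.2.2.1 hs2.2.2.2
    have hA₀num : IsPiNum (Cfsg.sigma H)ᶜ (Nat.card A₀) := by
      intro p hp hd
      rw [hA₀c] at hd
      rw [(Nat.prime_dvd_prime_iff_eq hp hs).mp (hp.dvd_of_dvd_pow hd)]
      exact hsH
    obtain ⟨m', hm'H, hm'⟩ := Cfsg.Agent.H9.BG12.exists_conj_le_of_hall hsolvH hHallE hA₀H hA₀num
    set A : Subgroup G := A₀.map (cj m') with hAdef
    have hAE : A ≤ E := hm'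
    have hAe : Cfsg.IsElementaryAbelian s A := Cfsg.Agent.Helper26.isElementaryAbelian_map _ hA₀e
    have hAc : Nat.card A = s ^ 2 := by rw [hAdef, Cfsg.Agent.Helper16.BG11.card_map_cj]; exact hA₀c
    have hAH : A ≤ H := hAE.trans hEH
    have h18 := (Cfsg.Agent.Helper21.BG13.st1418 hG H hH E hE s hs2 A ⟨hAE, hAe, hAc⟩).1
    have h17 := (Cfsg.Agent.Helper21.BG13.st1417 hG H hH s hs2 A ⟨hAH, hAe, hAc⟩).2.2.2.1
    have hKA : K ≤ normalizer (A : Set G) := hKE.trans h18.1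
    have hAq : (Nat.card A).Coprime q := by
      rw [hAc]
      exact Nat.Coprime.pow_left 2 ((Nat.coprime_primes hs hqp).mpr hsq)
    -- a non-identity element of `A` centralized by `K`
    obtain ⟨y, hyA, hy1, hyK⟩ : ∃ y ∈ A, y ≠ 1 ∧ y ∈ centralizer (K : Set G) := by
      by_contra hno
      push Not at hno
      have hfA0 : ∀ a ∈ A, k * a = a * k → a = 1 := by
        intro a ha hka
        by_contra ha1
        apply hno a ha ha1
        rw [← hzk, mem_centralizer_iff]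
        rintro _ ⟨i, rfl⟩
        have hc : Commute k a := hka
        exact (hc.zpow_left i).eq
      have hfA := fpf_of_generator (V := A) hqp hKq hkK hfA0
      have hAcen := P.le_centralizer_sigmaCore_of_fpf hG hH hE hKH hAE hKq hqH hKA hAq hfH hfA
      have hle : Cfsg.sigmaCore H ≤ Cfsg.sigmaCore H ⊓ centralizer (A : Set G) := by
        refine le_inf le_rfl ?_
        intro n hn
        rw [mem_centralizer_iff]
        intro a ha
        exact (mem_centralizer_iff.mp (hAcen ha) n hn).symm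
      rw [h17] at hle
      exact hσ1 (le_bot_iff.mp hle)
    have hyo : orderOf y = s := orderOf_eq_prime (hAe.2 y hyA) hy1
    have hYs : IsPGroup s (zpowers y) :=
      IsPGroup.of_card (n := 1) (by rw [Nat.card_zpowers, hyo, pow_one])
    have hyLs : y ∈ Ls := hELs (hAE hyA)
    have hyσ : y ∈ Cfsg.sigmaCore Ls :=
      Cfsg.Agent.H9.BG12.le_sigmaCore_of_isPGroup h1350 hLs hsLs (zpowers_le.mpr hyLs) hYs
        (mem_zpowers y)
    have hxσ : x ∈ Cfsg.sigmaCore Ls :=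
      Cfsg.Agent.H9.BG12.le_sigmaCore_of_isPGroup h1350 hLs hsLs (zpowers_le.mpr (hELs hxE)) hXs
        (mem_zpowers x)
    by_cases hconj : ∃ g : G, Ls = Mstar.map (cj g)
    · obtain ⟨g, hg⟩ := hconj
      have := P.eq_partner_of_conj hG h1367 hLs hKLs hg
      exact this ▸ hELs
    · push Not at hconj
      exfalso
      have hqLs : q ∉ Cfsg.sigma Ls :=
        Cfsg.Agent.Helper23.BG13SO.sigma_partition hG P.hMs hLs hconj hqσ
      have hky : k ∈ Ls ⊓ centralizer ({y} : Set G) := by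
        refine ⟨hKLs hkK, mem_centralizer_singleton_iff.mpr ?_⟩
        exact mem_centralizer_iff.mp hyK k hkK
      have hσk : ∀ p : ℕ, p.Prime → p ∣ orderOf k → p ∉ Cfsg.sigma Ls := by
        intro p hp hpd
        rw [hko] at hpd
        rw [(Nat.prime_dvd_prime_iff_eq hp hqp).mp hpd]
        exact hqLs
      rcases h1432 Ls hLs y hyσ hy1 k hky hk1 hσk with ⟨h1, -⟩ | ⟨-, -, hC, huniq⟩
      · have hqκ : q ∈ Cfsg.kappa Ls := h1 q hqp (hko ▸ dvd_rfl)
        obtain ⟨g, hg | hg⟩ := (h1369 M P.hM K U P.hKU P.hK1 Mstar P.hMs P.hKst P.hKstH).2 Ls hLs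
          ⟨q, hqκ⟩
        · refine hKL g x y (hg ▸ hKLs) (hg ▸ hxσ) (hxo ▸ hs) hCxH (hg ▸ hyσ) hyK ?_
          rw [hyo, hxo]
        · exact hconj g hg
      · have hCM := (P.centralizer_le_partner h1367 hkK (hko ▸ hqp)).1
        have := huniq Mstar P.hMs hCM
        apply hconj 1
        rw [map_cj_one]
        exact this.symm

include P in
/-- **Clause (6) of S1435** (B&G 15.8): `H ∩ M*` is a complement of `H_σ` in `H`, for a maximal
subgroup `H ≥ K` not conjugate to `M*` with `κ(H) = ∅`, when `|K| = q` is prime and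
`N_G(K) ≤ M*`.  `hKL` is helper13's Lemma KL. -/
theorem isComplIn_inf_partner (hG : Cfsg.IsMinSimpleOddOrder G) (h1367 : St1367 G)
    (h1369 : St1369 G) (h1375 : St1375 G) (h1432 : St1432 G)
    {H : Subgroup G} (hH : IsCoatom H) (hHMs : ∀ g : G, H ≠ Mstar.map (cj g))
    (hκH : Cfsg.kappa H = ∅) (hKH : K ≤ H)
    {q : ℕ} [Fact q.Prime] (hKq : Nat.card K = q) (hNK : normalizer (K : Set G) ≤ Mstar)
    (hKL : ∀ (g x x₂ : G), K ≤ M.map (cj g) → x ∈ Cfsg.sigmaCore (M.map (cj g)) →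
      (orderOf x).Prime → centralizer ({x} : Set G) ≤ H → x₂ ∈ Cfsg.sigmaCore (M.map (cj g)) →
      x₂ ∈ centralizer (K : Set G) → orderOf x₂ = orderOf x → False) :
    Cfsg.IsComplIn (H ⊓ Mstar) (Cfsg.sigmaCore H) H := by
  have hqp : q.Prime := Fact.out
  by_cases hq1 : Cfsg.PRankLE q 1 H
  · exact P.isComplIn_of_rank_one hG h1367 h1369 h1375 h1432 hH hHMs hκH hKH hKq hNK hq1 hKL
  · have hqσ : q ∈ Cfsg.sigma Mstar := P.mem_sigma_partner hqp (hKq ▸ dvd_rfl)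
    have hqH : q ∉ Cfsg.sigma H :=
      Cfsg.Agent.Helper23.BG13SO.sigma_partition hG P.hMs hH hHMs hqσ
    have hq2 : q ∈ Cfsg.tau2 H :=
      ⟨hqp, hqH, Cfsg.Agent.Helper4.BG10.sigma'_pRankLE_two hG (Cfsg.Agent.Helper21.BG12.uniq hG)
        hH hqH, hq1⟩
    exact P.isComplIn_of_tau2 hG h1375 hH hHMs hKH hKq hNK hq2

end PartnerData

end Cfsg.Agent.Helper27.BG15
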