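import Cfsg.Prelude.Def_ChevB2

/-!
Base change for the root elements of a Chevalley group, and matrices over the field with two elements indexed by a sum
of two initial segments, given by rows of bit masks.
-/

set_option autoImplicit false

namespace Cfsg.Agent.Helper27

open Cfsg Cfsg.Lie

/-- root elements commute with ring homomorphisms -/
theorem xMat_map {F F' : Type*} [Field F] [Field F'] (f : F →+* F') (D : ChevalleyDatum) (r : Fin D.nroots)
    (t : F) : (D.xMat F r t).map f = D.xMat F' r (f t) := by
  ext row col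
  rcases col with i | s <;> rcases row with i' | u <;>
    simp only [Matrix.map_apply, ChevalleyDatum.xMat, Matrix.of_apply]
  · split_ifs <;> simp
  · split_ifs <;> simp
  · split_ifs <;> simp
  · split_ifs <;> simp [map_list_sum, List.map_map, Function.comp_def]

/-! ### Bits -/

/-- a bit of a natural number, as an element of the field with two elements -/
def bitF2 (m k : ℕ) : ZMod 2 := if m.testBit k then 1 else 0

theorem bitF2_xor (m m' k : ℕ) : bitF2 (m ^^^ m') k = bitF2 m k + bitF2 m' k := by
  unfold bitF2
  rw [Nat.testBit_xor]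
  cases m.testBit k <;> cases m'.testBit k <;> decide

theorem bitF2_zero (k : ℕ) : bitF2 0 k = 0 := by
  unfold bitF2
  rw [Nat.zero_testBit]
  rfl

/-- the combination of the first `n` rows of `S` selected by the bits of `r` -/
def comb : ℕ → ℕ → List ℕ → ℕ
  | 0, _, _ => 0
  | n + 1, r, S => if r.testBit n then comb n r S ^^^ S.getD n 0 else comb n r S

theorem bitF2_comb (n r : ℕ) (S : List ℕ) (j : ℕ) :
    bitF2 (comb n r S) j = ∑ k ∈ Finset.range n, bitF2 r k * bitF2 (S.getD k 0) j := by
  induction n with
  | zero => rw [comb, bitF2_zero, Finset.range_zero, Finset.sum_empty]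
  | succ n ih =>
    rw [Finset.sum_range_succ, ← ih, comb]
    by_cases h : r.testBit n
    · rw [if_pos h, bitF2_xor]
      have : bitF2 r n = 1 := by unfold bitF2; rw [if_pos h]
      rw [this, one_mul]
    · rw [if_neg h]
      have : bitF2 r n = 0 := by unfold bitF2; rw [if_neg h]
      rw [this, zero_mul, add_zero]

/-! ### Matrices and vectors from masks -/

section
variable {a b : ℕ}

/-- the position of an index -/
def idxS : Fin a ⊕ Fin b → ℕ := Sum.elim (fun i => i.val) (fun u => a + u.val)

theorem sum_idxS (g : ℕ → ZMod 2) : ∑ c : Fin a ⊕ Fin b, g (idxS c) = ∑ k ∈ Finset.range (a + b), g k := by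
  rw [Fintype.sum_sum_type, Finset.sum_range_add, ← Fin.sum_univ_eq_sum_range, ← Fin.sum_univ_eq_sum_range]
  rfl

/-- the matrix with given rows of bit masks -/
def toMatS (R : List ℕ) : Matrix (Fin a ⊕ Fin b) (Fin a ⊕ Fin b) (ZMod 2) :=
  Matrix.of fun i j => bitF2 (R.getD (idxS i) 0) (idxS j)

/-- the vector with a given bit mask -/
def toVecS (m : ℕ) : Fin a ⊕ Fin b → ZMod 2 := fun j => bitF2 m (idxS j)

/-- the product of two matrices given by rows of bit masks -/
def mulRowsS (n : ℕ) (R S : List ℕ) : List ℕ := R.map fun r => comb n r S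

theorem idxS_lt (i : Fin a ⊕ Fin b) : idxS i < a + b := by
  rcases i with i | u
  · exact lt_of_lt_of_le i.2 (Nat.le_add_right _ _)
  · exact Nat.add_lt_add_left u.2 a

theorem toMatS_mul (R S : List ℕ) (hR : R.length = a + b) :
    (toMatS (mulRowsS (a + b) R S) : Matrix (Fin a ⊕ Fin b) (Fin a ⊕ Fin b) (ZMod 2)) = toMatS R * toMatS S := by
  ext i j
  rw [Matrix.mul_apply]
  simp only [toMatS, Matrix.of_apply]
  have hi : idxS i < R.length := by rw [hR]; exact idxS_lt i
  have h1 : (mulRowsS (a + b) R S).getD (idxS i) 0 = comb (a + b) (R.getD (idxS i) 0) S := by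
    unfold mulRowsS
    rw [List.getD_eq_getElem _ _ (by rw [List.length_map]; exact hi), List.getElem_map,
      List.getD_eq_getElem _ _ hi]
  rw [h1, bitF2_comb]
  exact (sum_idxS (fun k => bitF2 (R.getD (idxS i) 0) k * bitF2 (S.getD k 0) (idxS j))).symm

theorem toVecS_vecMul (m : ℕ) (S : List ℕ) :
    Matrix.vecMul (toVecS m : Fin a ⊕ Fin b → ZMod 2) (toMatS S) = toVecS (comb (a + b) m S) := by
  funext j
  simp only [Matrix.vecMul, dotProduct, toVecS, toMatS, Matrix.of_apply]
  rw [bitF2_comb]
  exact sum_idxS (fun k => bitF2 m k * bitF2 (S.getD k 0) (idxS j))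

end

end Cfsg.Agent.Helper27
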