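import Mathlib
import Cfsg.Prelude.Def_GeometricClasses
import Cfsg.Prelude.Def_Classical
import Cfsg.Agent.Helper6.S5992Defs

/-! Inv2 sub-board (driver helper27), chapter (5) of S5974 / S5988 / S5990 (driver helper16):
involutions of `Ω^±_{2d}(q)`, `q` EVEN, and the nondegenerate `m`-spaces of a given type they fix.

Setting: `(2 : F) = 0`, `Q : QuadraticForm F V`, `t : Module.End F V` an isometry with `t * t = 1`,
`N = t - 1` (so `N * N = 0`, `B (N u) v = B u (N v)`, `Q (N v) = B v (N v)`, `B (N u) (N v) = 0`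
for `B = PB Q`).  Predicates on subspaces are helper6's / helper2's (`Nondeg (PB Q) W`, `Orth`, `Plus`,
`IsTy`).

* `IsInv2 Q t` : `t` is an isometry of `Q` with `t * t = 1`;
* `InvOn t M` : `M` is `t`-invariant (`∀ v ∈ M, t v ∈ M`);
* `rk t M` : the rank of `t - 1` on `M`;
* `Inv2Cond ε θ d m` : the condition under which EVERY involution of `Ω^ε_{2d}(q)` fixes a
  nondegenerate `m`-space of type `θ`;
* `revS k F`, `siegelX k F`, `siegelXM k F` : the model involutions.
-/

set_option autoImplicit false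

namespace Cfsg.Agent.Inv2P

open Cfsg.Agent.Helper2.SympInvol Cfsg.Agent.Helper2.SympUnits Cfsg.Agent.S5961P Cfsg.Agent.S5992P

/-- every involution of `Ω^ε_{2d}(q)`, `q` even, fixes a nondegenerate `m`-space of type `θ`
(`m` even, `2 ≤ m ≤ 2d - 2`) iff this holds -/
def Inv2Cond (ε θ : Bool) (d m : ℕ) : Prop :=
  if θ = true then (m % 4 = 0 ∨ (ε = true ↔ Odd d)) else (ε = false ∧ (Even d ∨ m % 4 = 2))

section defs

variable {F V : Type*} [Field F] [AddCommGroup V] [Module F V]

/-- an isometry of `Q` with `t * t = 1` -/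
structure IsInv2 (Q : QuadraticForm F V) (t : Module.End F V) : Prop where
  isom : ∀ v, Q (t v) = Q v
  sq : t * t = 1

/-- `M` is `t`-invariant -/
def InvOn (t : Module.End F V) (M : Submodule F V) : Prop := ∀ v ∈ M, t v ∈ M

/-- the rank of `t - 1` on `M` -/
noncomputable def rk (t : Module.End F V) (M : Submodule F V) : ℕ :=
  Module.finrank F (M.map (t - 1))

theorem invOn_iff_map (t : Module.End F V) (M : Submodule F V) : InvOn t M ↔ M.map t ≤ M := by
  constructor
  · rintro h _ ⟨v, hv, rfl⟩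
    exact h v hv
  · intro h v hv
    exact h ⟨v, hv, rfl⟩

theorem invOn_iff_N (t : Module.End F V) (M : Submodule F V) :
    InvOn t M ↔ ∀ v ∈ M, (t - 1) v ∈ M := by
  constructor
  · intro h v hv
    rw [LinearMap.sub_apply, Module.End.one_apply]
    exact M.sub_mem (h v hv) hv
  · intro h v hv
    have := M.add_mem (h v hv) hv
    rwa [LinearMap.sub_apply, Module.End.one_apply, sub_add_cancel] at this

theorem invOn_top (t : Module.End F V) : InvOn t ⊤ := fun _ _ => trivial

theorem invOn_bot (t : Module.End F V) : InvOn t ⊥ := by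
  intro v hv
  rw [(Submodule.mem_bot F).mp hv, map_zero]
  exact Submodule.zero_mem _

theorem invOn_sup (t : Module.End F V) (M M' : Submodule F V) (h : InvOn t M) (h' : InvOn t M') :
    InvOn t (M ⊔ M') := by
  intro v hv
  obtain ⟨a, ha, b, hb, rfl⟩ := Submodule.mem_sup.mp hv
  rw [map_add]
  exact Submodule.add_mem_sup (h a ha) (h' b hb)

theorem map_N_le (t : Module.End F V) (M : Submodule F V) (h : InvOn t M) : M.map (t - 1) ≤ M := by
  rintro _ ⟨v, hv, rfl⟩
  exact (invOn_iff_N t M).mp h v hv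

theorem rk_bot (t : Module.End F V) : rk t (⊥ : Submodule F V) = 0 := by
  unfold rk
  rw [Submodule.map_bot]
  exact finrank_bot F V

theorem rk_mono [FiniteDimensional F V] (t : Module.End F V) {M M' : Submodule F V} (h : M ≤ M') :
    rk t M ≤ rk t M' :=
  Submodule.finrank_mono (Submodule.map_mono h)

/-- `rk t M = 0` iff `t` is the identity on `M` -/
theorem rk_eq_zero_iff [FiniteDimensional F V] (t : Module.End F V) (M : Submodule F V) :
    rk t M = 0 ↔ ∀ v ∈ M, t v = v := by
  unfold rk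
  rw [Submodule.finrank_eq_zero, Submodule.eq_bot_iff]
  constructor
  · intro h v hv
    have := h _ ⟨v, hv, rfl⟩
    rwa [LinearMap.sub_apply, Module.End.one_apply, sub_eq_zero] at this
  · rintro h _ ⟨v, hv, rfl⟩
    rw [LinearMap.sub_apply, Module.End.one_apply, h v hv, sub_self]

/-- if `t` is the identity on `M` then every subspace of `M` is invariant of rank `0` -/
theorem invOn_of_rk_zero [FiniteDimensional F V] (t : Module.End F V) (M A : Submodule F V)
    (hM : rk t M = 0) (hA : A ≤ M) : InvOn t A ∧ rk t A = 0 := by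
  have h := (rk_eq_zero_iff t M).mp hM
  refine ⟨fun v hv => by rw [h v (hA hv)]; exact hv, (rk_eq_zero_iff t A).mpr fun v hv => h v (hA hv)⟩

end defs

section basic

variable {F V : Type*} [Field F] [AddCommGroup V] [Module F V]

theorem N_apply (t : Module.End F V) (v : V) : (t - 1) v = t v - v := by
  rw [LinearMap.sub_apply, Module.End.one_apply]

theorem t_apply (t : Module.End F V) (v : V) : t v = v + (t - 1) v := by
  rw [N_apply]; abel

theorem neg_eq_self_of_two (h2 : (2 : F) = 0) (v : V) : -v = v := by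
  have : (2 : F) • v = 0 := by rw [h2, zero_smul]
  rw [two_smul] at this
  exact neg_eq_of_add_eq_zero_left this

theorem sub_eq_add_of_two (h2 : (2 : F) = 0) (u v : V) : u - v = u + v := by
  rw [sub_eq_add_neg, neg_eq_self_of_two h2]

theorem t_t_apply {Q : QuadraticForm F V} {t : Module.End F V} (ht : IsInv2 Q t) (v : V) :
    t (t v) = v := by
  have := LinearMap.congr_fun ht.sq v
  rwa [Module.End.mul_apply, Module.End.one_apply] at this

/-- `N * N = 0` -/
theorem N_N_apply (h2 : (2 : F) = 0) {Q : QuadraticForm F V} {t : Module.End F V}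
    (ht : IsInv2 Q t) (v : V) : (t - 1) ((t - 1) v) = 0 := by
  rw [N_apply, N_apply, map_sub, t_t_apply ht]
  have : v - t v - (t v - v) = (2 : F) • v - (2 : F) • t v := by
    rw [two_smul, two_smul]; abel
  rw [this, h2, zero_smul, zero_smul, sub_zero]

/-- `t` fixes `N v` -/
theorem t_N_apply (h2 : (2 : F) = 0) {Q : QuadraticForm F V} {t : Module.End F V}
    (ht : IsInv2 Q t) (v : V) : t ((t - 1) v) = (t - 1) v := by
  have := N_N_apply h2 ht v
  rw [N_apply t ((t - 1) v), sub_eq_zero] at this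
  exact this

theorem PB_t_t {Q : QuadraticForm F V} {t : Module.End F V} (ht : IsInv2 Q t) (u v : V) :
    PB Q (t u) (t v) = PB Q u v := PB_isom Q ht.isom u v

theorem PB_t_left {Q : QuadraticForm F V} {t : Module.End F V} (ht : IsInv2 Q t) (u v : V) :
    PB Q (t u) v = PB Q u (t v) := by
  rw [← PB_t_t ht u (t v), t_t_apply ht]

/-- `B (N u) v = B u (N v)` -/
theorem PB_N_left {Q : QuadraticForm F V} {t : Module.End F V} (ht : IsInv2 Q t) (u v : V) :
    PB Q ((t - 1) u) v = PB Q u ((t - 1) v) := by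
  rw [N_apply, N_apply, map_sub, LinearMap.sub_apply, map_sub, PB_t_left ht]

theorem PB_self_zero (h2 : (2 : F) = 0) (Q : QuadraticForm F V) (v : V) : PB Q v v = 0 := by
  rw [PB_self, h2, zero_mul]

/-- `B (N u) (N v) = 0` -/
theorem PB_N_N (h2 : (2 : F) = 0) {Q : QuadraticForm F V} {t : Module.End F V} (ht : IsInv2 Q t)
    (u v : V) : PB Q ((t - 1) u) ((t - 1) v) = 0 := by
  rw [PB_N_left ht, N_N_apply h2 ht, map_zero]

/-- `Q (N v) = B v (N v)` -/
theorem Q_N (h2 : (2 : F) = 0) {Q : QuadraticForm F V} {t : Module.End F V} (ht : IsInv2 Q t)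
    (v : V) : Q ((t - 1) v) = PB Q v ((t - 1) v) := by
  have h1 : Q (t v) = Q (v + (t - 1) v) := by rw [← t_apply]
  have h3 : Q (v + (t - 1) v) = Q v + Q ((t - 1) v) + PB Q v ((t - 1) v) := by
    rw [PB_apply, QuadraticMap.polar]; ring
  rw [ht.isom, h3] at h1
  have h4 : Q ((t - 1) v) + PB Q v ((t - 1) v) = 0 := by
    have := h1
    rw [add_assoc] at this
    exact (left_eq_add.mp this)
  have h5 := eq_neg_of_add_eq_zero_left h4
  rw [h5, neg_eq_self_of_two h2]

/-- `Q (N (u + v)) = Q (N u) + Q (N v)` -/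
theorem Q_N_add (h2 : (2 : F) = 0) {Q : QuadraticForm F V} {t : Module.End F V} (ht : IsInv2 Q t)
    (u v : V) : Q ((t - 1) (u + v)) = Q ((t - 1) u) + Q ((t - 1) v) := by
  rw [map_add]
  have : Q ((t - 1) u + (t - 1) v) =
      Q ((t - 1) u) + Q ((t - 1) v) + PB Q ((t - 1) u) ((t - 1) v) := by
    rw [PB_apply, QuadraticMap.polar]; ring
  rw [this, PB_N_N h2 ht, add_zero]

theorem Q_N_smul {Q : QuadraticForm F V} (t : Module.End F V) (c : F) (v : V) :
    Q ((t - 1) (c • v)) = c * c * Q ((t - 1) v) := by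
  rw [map_smul, QuadraticMap.map_smul, smul_eq_mul]

/-- the range of `N` on an invariant subspace is totally isotropic -/
theorem orth_map_N (h2 : (2 : F) = 0) {Q : QuadraticForm F V} {t : Module.End F V}
    (ht : IsInv2 Q t) (M M' : Submodule F V) : Orth (PB Q) (M.map (t - 1)) (M'.map (t - 1)) := by
  rintro _ ⟨u, -, rfl⟩ _ ⟨v, -, rfl⟩
  exact PB_N_N h2 ht u v

end basic

section models

variable (k : ℕ) (F : Type*) [Field F]

/-- the symmetric zero-diagonal `0/1` matrix of the pairing `i ↔ Fin.rev i` (rank `2 ⌊k/2⌋`) -/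
def revS : Matrix (Fin k) (Fin k) F :=
  Matrix.of fun i j => if j = Fin.rev i ∧ i ≠ Fin.rev i then 1 else 0

/-- the Siegel involution `[[1, S], [0, 1]]` of `Σ xᵢ yᵢ` (`q` even), `S = revS` -/
def siegelX : Matrix (Fin k ⊕ Fin k) (Fin k ⊕ Fin k) F :=
  Matrix.fromBlocks 1 (revS k F) 0 1

/-- the same on `(Fin k ⊕ Fin k) ⊕ Fin 2`, identity on the last two coordinates -/
def siegelXM : Matrix ((Fin k ⊕ Fin k) ⊕ Fin 2) ((Fin k ⊕ Fin k) ⊕ Fin 2) F :=
  Matrix.fromBlocks (siegelX k F) 0 0 1

end models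

end Cfsg.Agent.Inv2P
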