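import Mathlib
import Cfsg.Agent.Helper27.S0996Defs

set_option autoImplicit false

/-!
# S0996: splitting a sum over `Irr(G)` along `{1} ⊔ X₊ ⊔ X₋ ⊔ Y ⊔ other`
-/

namespace Cfsg.Agent.S0996P

open Cfsg Cfsg.Agent.Helper24 Cfsg.Agent.Helper1.W2p

universe u

variable {G : Type u} [Group G] [Finite G] {p : ℕ} {P : Subgroup G}

open Classical in
/-- `X₋`: the non-exceptional characters with `δ = -1`. -/
noncomputable def Xm (D : BrauerData p P) : Finset (IrrCharacter G) :=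
  (XF D).filter (fun χ => D.δ χ = -1)

open Classical in
/-- The irreducible characters outside `X ∪ Y`. -/
noncomputable def OF [Fintype (IrrCharacter G)] (D : BrauerData p P) : Finset (IrrCharacter G) :=
  Finset.univ.filter (fun χ => χ ∉ D.X ∧ χ ∉ D.Y)

theorem mem_Xm (D : BrauerData p P) (χ : IrrCharacter G) :
    χ ∈ Xm D ↔ χ ∈ D.X ∧ D.δ χ = -1 := by
  classical
  unfold Xm
  rw [Finset.mem_filter, mem_XF]

theorem mem_OF [Fintype (IrrCharacter G)] (D : BrauerData p P) (χ : IrrCharacter G) :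
    χ ∈ OF D ↔ χ ∉ D.X ∧ χ ∉ D.Y := by
  classical
  unfold OF
  simp

theorem triv_not_mem_Y (D : BrauerData p P) : trivIrr G ∉ D.Y := fun h =>
  Set.disjoint_left.mp D.disj D.triv_mem h

/-- Every irreducible character lies in exactly one of `{1}`, `X₊`, `X₋`, `Y`, `other`. -/
theorem sum_split [Fintype (IrrCharacter G)] {M : Type*} [AddCommMonoid M] (D : BrauerData p P)
    (f : IrrCharacter G → M) :
    ∑ χ : IrrCharacter G, f χ =
      f (trivIrr G) + ∑ χ ∈ Xp D, f χ + ∑ χ ∈ Xm D, f χ + ∑ χ ∈ YF D, f χ + ∑ χ ∈ OF D, f χ := by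
  classical
  have h1 : f (trivIrr G) = ∑ χ : IrrCharacter G, if χ = trivIrr G then f χ else 0 := by
    rw [Finset.sum_ite_eq' Finset.univ (trivIrr G) f]; simp
  have h2 : ∀ s : Finset (IrrCharacter G),
      ∑ χ ∈ s, f χ = ∑ χ : IrrCharacter G, if χ ∈ s then f χ else 0 := by
    intro s
    rw [← Finset.sum_filter]
    congr 1
    ext χ; simp
  rw [h1, h2 (Xp D), h2 (Xm D), h2 (YF D), h2 (OF D), ← Finset.sum_add_distrib,
    ← Finset.sum_add_distrib, ← Finset.sum_add_distrib, ← Finset.sum_add_distrib]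
  refine Finset.sum_congr rfl ?_
  intro χ _
  simp only [mem_Xp, mem_Xm, mem_YF, mem_OF]
  by_cases ht : χ = trivIrr G
  · subst ht
    have hδ := D.δ_triv
    have hX := D.triv_mem
    have hY := triv_not_mem_Y D
    simp [hδ, hX, hY]
  · by_cases hX : χ ∈ D.X
    · have hY : χ ∉ D.Y := fun h => Set.disjoint_left.mp D.disj hX h
      rcases D.δ_pm χ hX with hδ | hδ
      · simp [ht, hX, hY, hδ]
      · simp [ht, hX, hY, hδ]
    · by_cases hY : χ ∈ D.Y
      · simp [ht, hX, hY]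
      · simp [ht, hX, hY]

/-- The five parts are pairwise disjoint and exhaust `Irr(G)`: membership criteria. -/
theorem mem_cases [Fintype (IrrCharacter G)] (D : BrauerData p P) (χ : IrrCharacter G) :
    χ = trivIrr G ∨ χ ∈ Xp D ∨ χ ∈ Xm D ∨ χ ∈ YF D ∨ χ ∈ OF D := by
  classical
  simp only [mem_Xp, mem_Xm, mem_YF, mem_OF]
  by_cases ht : χ = trivIrr G
  · exact Or.inl ht
  · by_cases hX : χ ∈ D.X
    · rcases D.δ_pm χ hX with hδ | hδ
      · exact Or.inr (Or.inl ⟨hX, hδ, ht⟩)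
      · exact Or.inr (Or.inr (Or.inl ⟨hX, hδ⟩))
    · by_cases hY : χ ∈ D.Y
      · exact Or.inr (Or.inr (Or.inr (Or.inl hY)))
      · exact Or.inr (Or.inr (Or.inr (Or.inr ⟨hX, hY⟩)))

/-- The sum over `X` splits as `1_G`, `X₊`, `X₋`. -/
theorem sum_XF_split {M : Type*} [AddCommMonoid M] (D : BrauerData p P)
    (f : IrrCharacter G → M) :
    ∑ χ ∈ XF D, f χ = f (trivIrr G) + ∑ χ ∈ Xp D, f χ + ∑ χ ∈ Xm D, f χ := by
  classical
  have h2 : ∀ s : Finset (IrrCharacter G), s ⊆ XF D →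
      ∑ χ ∈ s, f χ = ∑ χ ∈ XF D, if χ ∈ s then f χ else 0 := by
    intro s hs
    rw [← Finset.sum_filter]
    congr 1
    ext χ
    simp only [Finset.mem_filter]
    exact ⟨fun h => ⟨hs h, h⟩, fun h => h.2⟩
  have h1 : f (trivIrr G) = ∑ χ ∈ XF D, if χ = trivIrr G then f χ else 0 := by
    rw [Finset.sum_ite_eq' (XF D) (trivIrr G) f, if_pos ((mem_XF D _).mpr D.triv_mem)]
  have hXp : Xp D ⊆ XF D := fun χ h => (mem_XF D χ).mpr ((mem_Xp D χ).mp h).1
  have hXm : Xm D ⊆ XF D := fun χ h => (mem_XF D χ).mpr ((mem_Xm D χ).mp h).1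
  rw [h1, h2 _ hXp, h2 _ hXm, ← Finset.sum_add_distrib, ← Finset.sum_add_distrib]
  refine Finset.sum_congr rfl ?_
  intro χ hχ
  have hX : χ ∈ D.X := (mem_XF D χ).mp hχ
  simp only [mem_Xp, mem_Xm]
  by_cases ht : χ = trivIrr G
  · subst ht
    have hδ := D.δ_triv
    simp [hδ, hX]
  · rcases D.δ_pm χ hX with hδ | hδ
    · simp [ht, hX, hδ]
    · simp [ht, hX, hδ]

end Cfsg.Agent.S0996P
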