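import Mathlib
import Cfsg.Prelude.Def_Characters
import Cfsg.Prelude.Def_Blocks
import Cfsg.Agent.Helper24.Abelian
import Cfsg.Agent.Helper24.Linear
import Cfsg.Agent.Helper1.W2pDefs
import Cfsg.Agent.Lead.S4705Defs

set_option autoImplicit false
set_option maxHeartbeats 800000

/-! S4705 piece BD2: unpack `BrauerData` for an irreducible character of degree `p - 2`, `e = 2`. -/

namespace Cfsg.Agent.S4705P

open Cfsg Cfsg.Agent.Helper24 Cfsg.Agent.Helper1.W2p
open scoped ComplexConjugate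

universe u

theorem brauer_two {H : Type u} [Group H] [Finite H] (p : ℕ) [Fact p.Prime] (hp5 : 5 < p)
    (Q : Sylow p H) (hQ : Nat.card Q = p)
    (he : eN (Q : Subgroup H) = 2) (D : BrauerData p (Q : Subgroup H))
    (ψ : IrrCharacter H) (hdeg : irrDeg ψ = p - 2) :
    ψ ∈ D.Y ∧ ∃ χ₁ : IrrCharacter H, χ₁ ∈ D.X ∧ χ₁ ≠ trivIrr H ∧ irrDeg χ₁ = p - 1 ∧
      D.δ χ₁ = -1 ∧ D.ε = -1 ∧ (∀ χ' ∈ D.X, χ' = trivIrr H ∨ χ' = χ₁) ∧
      (∀ g : H, ¬ p ∣ orderOf g → (ψ : H → ℂ) g = (χ₁ : H → ℂ) g - 1) := by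
  classical
  have _hQ := hQ
  -- ψ ∈ Y
  have hψY : ψ ∈ D.Y := by
    by_contra hY
    by_cases hX : ψ ∈ D.X
    · have h := D.deg_X ψ hX
      rw [hdeg] at h
      have hcast : ((p - 2 : ℕ) : ℤ) = (p : ℤ) - 2 := by
        rw [Nat.cast_sub (by omega)]; norm_num
      rw [hcast] at h
      rcases D.δ_pm ψ hX with hδ | hδ
      · rw [hδ] at h
        have h2 := h.dvd
        -- p ∣ 1 - (p - 2) = 3 - p
        have h3 : (p : ℤ) ∣ 3 := by
          have : (3 : ℤ) = (1 - ((p : ℤ) - 2)) + p := by ring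
          rw [this]; exact dvd_add h2 (dvd_refl _)
        have h4 : p ∣ 3 := by exact_mod_cast h3
        have := Nat.le_of_dvd (by norm_num) h4
        omega
      · rw [hδ] at h
        have h2 := h.dvd
        have h3 : (p : ℤ) ∣ 1 := by
          have : (1 : ℤ) = (-1 - ((p : ℤ) - 2)) + p := by ring
          rw [this]; exact dvd_add h2 (dvd_refl _)
        have h4 : p ∣ 1 := by exact_mod_cast h3
        have := Nat.le_of_dvd (by norm_num) h4
        omega
    · have h := D.deg_other ψ hX hY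
      rw [hdeg] at h
      have h2 : p ∣ 2 := by
        have h3 : p ∣ (p - 2) + 2 := by
          rw [Nat.sub_add_cancel (by omega)]
        exact (Nat.dvd_add_right h).mp h3
      have := Nat.le_of_dvd (by norm_num) h2
      omega
  refine ⟨hψY, ?_⟩
  -- X = {triv, χ}
  have hX2 : (D.X).ncard = 2 := by
    rw [← _root_.Nat.card_coe_set_eq, D.card_X, he]
  obtain ⟨x1, x2, hx12, hXeq⟩ := Set.ncard_eq_two.mp hX2
  obtain ⟨χ, hχX, hχ1, hXeq'⟩ : ∃ χ : IrrCharacter H, χ ∈ D.X ∧ χ ≠ trivIrr H ∧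
      D.X = {trivIrr H, χ} := by
    have ht := D.triv_mem
    rw [hXeq] at ht
    rcases ht with h | h
    · refine ⟨x2, ?_, ?_, ?_⟩
      · rw [hXeq]; exact Set.mem_insert_of_mem _ rfl
      · rw [h]; exact fun h' => hx12 h'.symm
      · rw [hXeq, h]
    · have h' : trivIrr H = x2 := h
      refine ⟨x1, ?_, ?_, ?_⟩
      · rw [hXeq]; exact Set.mem_insert _ _
      · rw [h']; exact hx12
      · rw [hXeq, h', Set.pair_comm]
  -- relation on p-regular elements
  have hrel : ∀ g : H, ¬ p ∣ orderOf g →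
      1 + (D.δ χ : ℂ) * (χ : H → ℂ) g = (D.ε : ℂ) * (ψ : H → ℂ) g := by
    intro g hg
    have h := D.rel ψ hψY g hg
    rw [hXeq', finsum_mem_pair hχ1.symm, D.δ_triv, trivIrr_apply] at h
    rw [← h]; push_cast; ring
  have hdegχ := irrDeg_spec χ
  have hdegψ := irrDeg_spec ψ
  have hp1 : ¬ p ∣ orderOf (1 : H) := by
    rw [orderOf_one]
    intro h
    have := Nat.le_of_dvd (by norm_num) h
    omega
  have hrel1 := hrel 1 hp1
  rw [hdegχ, hdegψ] at hrel1
  have hχpos := irrDeg_pos χ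
  -- ε = -1
  have hε : D.ε = -1 := by
    rcases D.ε_pm with h | h
    · exfalso
      have hd := D.deg_Y ψ hψY
      rw [h, he, hdeg] at hd
      have hcast : ((p - 2 : ℕ) : ℤ) = (p : ℤ) - 2 := by
        rw [Nat.cast_sub (by omega)]; norm_num
      rw [hcast] at hd
      -- p - 4 = a * p
      have h1 : ((D.a ψ : ℤ) - 1) * p = -4 := by push_cast at hd; linear_combination -hd
      have h2 : (p : ℤ) ∣ 4 := by
        have : (4 : ℤ) = -(((D.a ψ : ℤ) - 1) * p) := by rw [h1]; norm_num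
        rw [this]; exact (dvd_mul_left _ _).neg_right
      have h3 : p ∣ 4 := by exact_mod_cast h2
      have := Nat.le_of_dvd (by norm_num) h3
      omega
    · exact h
  have hcast : ((p - 2 : ℕ) : ℤ) = (p : ℤ) - 2 := by
    rw [Nat.cast_sub (by omega)]; norm_num
  -- δ χ = -1 and degree
  have hδdeg : D.δ χ = -1 ∧ irrDeg χ = p - 1 := by
    rw [hε, hdeg] at hrel1
    rcases D.δ_pm χ hχX with hδ | hδ
    · exfalso
      rw [hδ] at hrel1
      have h0 : (((1 : ℤ) + (irrDeg χ : ℤ) : ℤ) : ℂ) = ((-((p - 2 : ℕ) : ℤ) : ℤ) : ℂ) := by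
        push_cast at hrel1 ⊢; linear_combination hrel1
      have h1 : (1 : ℤ) + irrDeg χ = -((p - 2 : ℕ) : ℤ) := by exact_mod_cast h0
      rw [hcast] at h1
      omega
    · refine ⟨hδ, ?_⟩
      rw [hδ] at hrel1
      have h0 : (((1 : ℤ) - (irrDeg χ : ℤ) : ℤ) : ℂ) = ((-((p - 2 : ℕ) : ℤ) : ℤ) : ℂ) := by
        push_cast at hrel1 ⊢; linear_combination hrel1
      have h1 : (1 : ℤ) - irrDeg χ = -((p - 2 : ℕ) : ℤ) := by exact_mod_cast h0
      rw [hcast] at h1
      omega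
  refine ⟨χ, hχX, hχ1, hδdeg.2, hδdeg.1, hε, ?_, ?_⟩
  · intro χ' hχ'
    rw [hXeq'] at hχ'
    rcases hχ' with h | h
    · exact Or.inl h
    · exact Or.inr h
  · intro g hg
    have := hrel g hg
    rw [hδdeg.1, hε] at this
    push_cast at this
    linear_combination this

end Cfsg.Agent.S4705P
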