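import Mathlib
import Cfsg.Prelude.Def_Characters
import Cfsg.Prelude.Def_Blocks
import Cfsg.Agent.Helper24.Abelian
import Cfsg.Agent.Helper24.Linear
import Cfsg.Agent.Helper1.W2pDefs
import Cfsg.Agent.Lead.S4705Defs
import Cfsg.Agent.S1230
import Cfsg.Agent.Lead.AISLPSL

set_option autoImplicit false
set_option maxHeartbeats 800000

/-! S4705 piece ENDC: from elementary abelian involution centralizers of order `p - 1 = 2 ^ a`
to `H ≃* SL(2, 2 ^ a)` (via S1230). -/

namespace Cfsg.Agent.S4705P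

open Cfsg Cfsg.Agent.Helper24 Cfsg.Agent.Helper1.W2p
open scoped ComplexConjugate

universe u

theorem iso_of_involution_centralizers {H : Type u} [Group H] [Finite H] (p : ℕ) [Fact p.Prime]
    (hp5 : 5 < p) (Q : Sylow p H) (hQ : Nat.card Q = p)
    (hcard : Nat.card H = p * (p - 1) * (p - 2)) (a : ℕ) (hpa : p - 1 = 2 ^ a)
    (hex : ∀ s : H, orderOf s = 2 → Nat.card (Subgroup.centralizer ({s} : Set H)) = p - 1 ∧
      ∀ c ∈ Subgroup.centralizer ({s} : Set H), c ^ 2 = 1)
    (t : H) (ht : orderOf t = 2) (hinv : ∀ y ∈ (Q : Subgroup H), t * y * t⁻¹ = y⁻¹) :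
    ∃ (F : Type) (_ : Field F) (_ : Fintype F), Fintype.card F = 2 ^ a ∧
      Nonempty (H ≃* Matrix.SpecialLinearGroup (Fin 2) F) := by
  classical
  have hpp : p.Prime := Fact.out
  -- `a ≥ 3`
  have ha3 : 3 ≤ a := by
    by_contra hlt
    have h1 : a ≤ 2 := by omega
    have h2 : 2 ^ a ≤ 2 ^ 2 := Nat.pow_le_pow_right (by norm_num) h1
    omega
  -- `p` odd, `p - 2` odd
  have hpodd : ¬ 2 ∣ p := by
    intro h2
    have := (Nat.prime_dvd_prime_iff_eq Nat.prime_two hpp).mp h2
    omega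
  have hp2odd : ¬ 2 ∣ p - 2 := by
    intro h2
    apply hpodd
    have : p = (p - 2) + 2 := by omega
    rw [this]
    exact dvd_add h2 (dvd_refl 2)
  -- the centralizer of `t` is a Sylow 2-subgroup
  set C := Subgroup.centralizer ({t} : Set H) with hCdef
  have hCcard : Nat.card C = 2 ^ a := by rw [(hex t ht).1, hpa]
  have hCexp : ∀ c ∈ C, c ^ 2 = 1 := (hex t ht).2
  have hCp : IsPGroup 2 C := IsPGroup.of_card hCcard
  obtain ⟨T, hCT⟩ := hCp.exists_le_sylow
  have hTcard : Nat.card (T : Subgroup H) = 2 ^ a := by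
    rw [Sylow.card_eq_multiplicity, hcard]
    congr 1
    have hne1 : p * (p - 2) ≠ 0 := by
      apply Nat.mul_ne_zero <;> omega
    have hne2 : (2 : ℕ) ^ a ≠ 0 := by positivity
    have hrw : p * (p - 1) * (p - 2) = 2 ^ a * (p * (p - 2)) := by rw [hpa]; ring
    rw [hrw, Nat.factorization_mul hne2 hne1, Nat.Prime.factorization_pow Nat.prime_two]
    have hnd : ¬ 2 ∣ p * (p - 2) := by
      intro h
      rcases (Nat.Prime.dvd_mul Nat.prime_two).mp h with h | h
      · exact hpodd h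
      · exact hp2odd h
    rw [Finsupp.add_apply, Finsupp.single_eq_same, Nat.factorization_eq_zero_of_not_dvd hnd,
      Nat.add_zero]
  have hCeqT : C = (T : Subgroup H) :=
    Subgroup.eq_of_le_of_card_ge hCT (by rw [hTcard, hCcard])
  have hTexp : ∀ c ∈ (T : Subgroup H), c ^ 2 = 1 := by
    intro c hc
    rw [← hCeqT] at hc
    exact hCexp c hc
  have htT : t ∈ (T : Subgroup H) := by
    rw [← hCeqT, hCdef, Subgroup.mem_centralizer_singleton_iff]
  -- `T` is not cyclic
  have hnc : ¬ IsCyclic (T : Subgroup H) := by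
    intro hcyc
    obtain ⟨g, hg⟩ := isCyclic_iff_exists_orderOf_eq_natCard.mp hcyc
    rw [hTcard] at hg
    have h2 : g ^ 2 = 1 := by
      apply Subtype.ext
      rw [Subgroup.coe_pow, Subgroup.coe_one]
      exact hTexp g g.2
    have h3 := orderOf_dvd_of_pow_eq_one h2
    rw [hg] at h3
    have h4 := Nat.le_of_dvd (by norm_num) h3
    have h5 : 2 ^ 3 ≤ 2 ^ a := Nat.pow_le_pow_right (by norm_num) ha3
    omega
  -- `T` is not normal
  have hnn : ¬ (T : Subgroup H).Normal := by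
    intro hnormal
    have hQtriv : ∀ y ∈ (Q : Subgroup H), y = 1 := by
      intro y hy
      have h1 : y * t⁻¹ * y⁻¹ ∈ (T : Subgroup H) :=
        hnormal.conj_mem t⁻¹ ((T : Subgroup H).inv_mem htT) y
      have h2 : t * (y * t⁻¹ * y⁻¹) ∈ (T : Subgroup H) := (T : Subgroup H).mul_mem htT h1
      have h3 : t * (y * t⁻¹ * y⁻¹) = y⁻¹ * y⁻¹ := by
        have := hinv y hy
        calc t * (y * t⁻¹ * y⁻¹) = (t * y * t⁻¹) * y⁻¹ := by group
          _ = y⁻¹ * y⁻¹ := by rw [this]
      rw [h3] at h2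
      have h4 := hTexp _ h2
      have h5 : y ^ 4 = 1 := by
        have h6 : (y⁻¹ * y⁻¹) ^ 2 = (y ^ 4)⁻¹ := by group
        rw [h6] at h4
        exact inv_eq_one.mp h4
      have h7 : orderOf y ∣ 4 := orderOf_dvd_of_pow_eq_one h5
      have h8 : orderOf y ∣ p := by
        have := orderOf_dvd_natCard (⟨y, hy⟩ : (Q : Subgroup H))
        rw [Subgroup.orderOf_mk, hQ] at this
        exact this
      have hcop : Nat.Coprime 4 p := by
        have : Nat.Coprime 2 p := (Nat.coprime_primes Nat.prime_two hpp).mpr (by omega)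
        exact Nat.Coprime.pow_left 2 this
      have h9 : orderOf y ∣ Nat.gcd 4 p := Nat.dvd_gcd h7 h8
      rw [hcop] at h9
      exact orderOf_eq_one_iff.mp (Nat.dvd_one.mp h9)
    have hQbot : (Q : Subgroup H) = ⊥ := by
      rw [Subgroup.eq_bot_iff_forall]
      exact hQtriv
    rw [hQbot, Subgroup.card_bot] at hQ
    omega
  -- centralizers of involutions are elementary abelian
  have hC : ∀ s : H, orderOf s = 2 →
      IsMulCommutative (Subgroup.centralizer ({s} : Set H)) ∧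
        ∀ c ∈ Subgroup.centralizer ({s} : Set H), c ^ 2 = 1 := by
    intro s hs
    refine ⟨⟨⟨?_⟩⟩, (hex s hs).2⟩
    intro x y
    apply Subtype.ext
    rw [Subgroup.coe_mul, Subgroup.coe_mul]
    have hx := (hex s hs).2 x x.2
    have hy := (hex s hs).2 y y.2
    have hxy := (hex s hs).2 _ (Subgroup.mul_mem _ x.2 y.2)
    have hx' : (x : H)⁻¹ = x := by
      rw [inv_eq_iff_mul_eq_one, ← pow_two]; exact hx
    have hy' : (y : H)⁻¹ = y := by
      rw [inv_eq_iff_mul_eq_one, ← pow_two]; exact hy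
    have hxy' : ((x : H) * y)⁻¹ = x * y := by
      rw [inv_eq_iff_mul_eq_one, ← pow_two]; exact hxy
    calc (x : H) * y = ((x : H) * y)⁻¹ := hxy'.symm
      _ = (y : H)⁻¹ * (x : H)⁻¹ := mul_inv_rev _ _
      _ = y * x := by rw [hx', hy']
  obtain ⟨F, hField, hFin, hFcard, ⟨e⟩⟩ := Cfsg.Agent.S1230.result T hnc hnn hC
  rw [hTcard] at hFcard
  refine ⟨F, hField, hFin, hFcard, ?_⟩
  have : CharP F 2 := Cfsg.Agent.Lead.AI.charP_two_of_card (by omega : a ≠ 0) hFcard
  obtain ⟨e2⟩ := Cfsg.Agent.Lead.AI.nonempty_sl2_equiv_psl2 (F := F)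
  exact ⟨e.trans e2.symm⟩

end Cfsg.Agent.S4705P
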