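import Mathlib
import Cfsg.Prelude.Def_Characters
import Cfsg.Prelude.Def_Blocks
import Cfsg.Agent.Helper24.Abelian
import Cfsg.Agent.Helper24.Linear
import Cfsg.Agent.Helper1.W2pDefs
import Cfsg.Agent.Lead.S4705Defs
import Cfsg.Agent.Helper24.CharBasic
import Cfsg.Agent.Helper29.SchurPE
import Cfsg.Agent.Helper8.CliffordAb
import Cfsg.Agent.Helper23.ClassProduct

set_option autoImplicit false
set_option maxHeartbeats 800000

/-! S4705 piece PSI: twisting a faithful irreducible character by a linear character with the same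
central character gives a faithful irreducible character of `G ⧸ Z(G)`. -/

namespace Cfsg.Agent.Helper27.S4705PSI

open Cfsg Cfsg.Agent.Helper24
open scoped ComplexConjugate

universe u

variable {G : Type u} [Group G] [Finite G]

/-- an element on which a faithful irreducible character has absolute value the degree is central -/
theorem mem_center_of_norm_eq (ζ : IrrCharacter G)
    (hfaith : ∀ g : G, (ζ : G → ℂ) g = (ζ : G → ℂ) 1 → g = 1) (g : G)
    (hg : ‖(ζ : G → ℂ) g‖ = ‖(ζ : G → ℂ) 1‖) : g ∈ Subgroup.center G := by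
  obtain ⟨n, ρ, hρ, hχ⟩ := ζ.2
  have hinj : Function.Injective ρ := by
    rw [injective_iff_map_eq_one]
    intro a ha
    apply hfaith a
    rw [← hχ, Representation.char_one]
    exact (char_eq_finrank_iff ρ a).mpr ha
  have h1 : ‖ρ.character g‖ = (Module.finrank ℂ (Fin n → ℂ) : ℝ) := by
    rw [hχ, hg, ← hχ, Representation.char_one, Complex.norm_natCast]
  obtain ⟨ω, hω⟩ := (norm_char_eq_iff ρ g).mp h1
  rw [Subgroup.mem_center_iff]
  intro a
  apply hinj
  rw [map_mul, map_mul, hω]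
  ext v
  simp

end Cfsg.Agent.Helper27.S4705PSI

namespace Cfsg.Agent.S4705P

open Cfsg Cfsg.Agent.Helper24 Cfsg.Agent.Helper1.W2p
open scoped ComplexConjugate

universe u

variable {G : Type u} [Group G] [Finite G]

theorem exists_quot_char (ζ ν : IrrCharacter G) (hν : irrDeg ν = 1) (hover : SameCentral ζ ν)
    (hfaith : ∀ g : G, (ζ : G → ℂ) g = (ζ : G → ℂ) 1 → g = 1) :
    ∃ ψ : IrrCharacter (G ⧸ Subgroup.center G),
      (∀ g : G, (ψ : G ⧸ Subgroup.center G → ℂ) (QuotientGroup.mk g) =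
        (ζ : G → ℂ) g * conj ((ν : G → ℂ) g)) ∧
      (∀ h : G ⧸ Subgroup.center G, (ψ : G ⧸ Subgroup.center G → ℂ) h =
        (ψ : G ⧸ Subgroup.center G → ℂ) 1 → h = 1) := by
  classical
  letI : Fintype G := Fintype.ofFinite G
  have hν1 : (ν : G → ℂ) 1 = 1 := (irrDeg_eq_one_iff ν).mp hν
  obtain ⟨φ, hφ⟩ := Cfsg.Agent.Helper23.exists_monoidHom_of_irr_one_eq_one ν hν1
  -- the inverse linear character
  have hnorm : ∀ g : G, ‖φ g‖ = 1 := fun g => norm_monoidHom_eq_one φ g
  have hconj : ∀ g : G, conj (φ g) = (φ g)⁻¹ := by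
    intro g
    apply eq_inv_of_mul_eq_one_left
    rw [Complex.conj_mul', hnorm g]
    norm_num
  have hirr := Cfsg.Agent.Helper8.isIrrCharacter_linear_mul (φ.toHomUnits)⁻¹ ζ.2
  have hfun : (fun g => (((φ.toHomUnits)⁻¹ g : ℂˣ) : ℂ) * (ζ : G → ℂ) g) =
      fun g => (ζ : G → ℂ) g * conj ((ν : G → ℂ) g) := by
    funext g
    rw [MonoidHom.inv_apply, Units.val_inv_eq_inv_val, MonoidHom.coe_toHomUnits, hφ g, hconj g,
      mul_comm]
  rw [hfun] at hirr
  -- the centre lies in the kernel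
  have hker : ∀ z ∈ Subgroup.center G,
      (fun g => (ζ : G → ℂ) g * conj ((ν : G → ℂ) g)) z =
        (fun g => (ζ : G → ℂ) g * conj ((ν : G → ℂ) g)) 1 := by
    intro z hz
    show (ζ : G → ℂ) z * conj ((ν : G → ℂ) z) = (ζ : G → ℂ) 1 * conj ((ν : G → ℂ) 1)
    have h1 := hover z hz
    rw [hν1, mul_one] at h1
    rw [← h1, hν1, map_one, mul_one, hφ z, hconj z]
    have hne : φ z ≠ 0 := by
      intro h0
      have := hnorm z
      rw [h0, norm_zero] at this
      exact zero_ne_one this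
    field_simp
  obtain ⟨ψ, hψ⟩ := Cfsg.Agent.Helper29.SchurP.exists_irr_quot (Subgroup.center G)
    (⟨_, hirr⟩ : IrrCharacter G) hker
  have hψ' : ∀ g : G, (ψ : G ⧸ Subgroup.center G → ℂ) (QuotientGroup.mk g) =
      (ζ : G → ℂ) g * conj ((ν : G → ℂ) g) := fun g => hψ g
  refine ⟨ψ, hψ', ?_⟩
  intro h hh
  induction h using QuotientGroup.induction_on with
  | H g =>
    have h1 : (ψ : G ⧸ Subgroup.center G → ℂ) 1 = (ζ : G → ℂ) 1 := by
      have := hψ' 1
      rw [hν1, map_one, mul_one] at this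
      exact this
    rw [hψ' g, h1] at hh
    have hn : ‖(ζ : G → ℂ) g‖ = ‖(ζ : G → ℂ) 1‖ := by
      rw [← hh, norm_mul, hφ g, RCLike.norm_conj, hnorm g, mul_one]
    have hc := Cfsg.Agent.Helper27.S4705PSI.mem_center_of_norm_eq ζ hfaith g hn
    exact (QuotientGroup.eq_one_iff g).mpr hc

end Cfsg.Agent.S4705P
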