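import Mathlib
import Cfsg.Agent.Helper27.S0996Defs
import Cfsg.Prelude.Def_LieExceptional
import Cfsg.Agent.Helper23.S0996C1A
import Cfsg.Agent.Helper5.S0996C1B
import Cfsg.Agent.Helper18.S0996C2A
import Cfsg.Agent.Helper18.S0996CMP
import Cfsg.Agent.Helper8.S0996CNT
import Cfsg.Agent.Helper18.S0996COUNT
import Cfsg.Agent.Helper26.S0996CX
import Cfsg.Agent.Helper15.S0996DEG
import Cfsg.Agent.Helper18.S0996EVEN
import Cfsg.Agent.Helper5.S0996EVN2
import Cfsg.Agent.Helper21.S0996FA
import Cfsg.Agent.Helper13.S0996FB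
import Cfsg.Agent.Helper23.S0996FIX
import Cfsg.Agent.Helper8.S0996FORM
import Cfsg.Agent.Helper15.S0996FR
import Cfsg.Agent.Helper6.S0996GRP
import Cfsg.Agent.Helper11.S0996GS
import Cfsg.Agent.Helper15.S0996GS3
import Cfsg.Agent.Helper15.S0996GS4
import Cfsg.Agent.Helper21.S0996IND1
import Cfsg.Agent.Helper21.S0996IND2
import Cfsg.Agent.Helper21.S0996IND3
import Cfsg.Agent.Helper23.S0996IND4
import Cfsg.Agent.Helper23.S0996IND5
import Cfsg.Agent.Helper6.S0996K1
import Cfsg.Agent.Helper6.S0996K2
import Cfsg.Agent.Helper6.S0996K3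
import Cfsg.Agent.Helper6.S0996LN1
import Cfsg.Agent.Helper13.S0996LN2
import Cfsg.Agent.Helper13.S0996LN3
import Cfsg.Agent.Helper26.S0996NE
import Cfsg.Agent.Helper25.S0996ORTH
import Cfsg.Agent.Helper8.S0996PI
import Cfsg.Agent.Helper8.S0996REL
import Cfsg.Agent.Helper18.S0996RK
import Cfsg.Agent.Helper25.S0996VALS
import Cfsg.Agent.Helper23.S0996VL
import Cfsg.Agent.Helper26.S0996ZA
import Cfsg.Agent.Helper11.S0996ZB
import Cfsg.Agent.S4705
import Cfsg.Agent.Helper8.W2pT1
import Cfsg.Agent.S0731

set_option autoImplicit false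

/-!
# S0996 (Brauer: self-centralizing element of prime order, `n < (p+3)/2`): assembly of the pieces

See `departures/helper27_s0996_pieces.md` for the mathematical proof.
-/

namespace Cfsg.Agent.S0996P

open Cfsg Cfsg.Agent.Helper24 Cfsg.Agent.Helper1.W2p

universe u

variable {G : Type u} [Group G]


section
variable [Finite G] {p : ℕ} [Fact p.Prime] {P : Subgroup G} {n : ℕ}

theorem basic_of_hyp (H : Hyp p P n) : Basic p P n := by
  obtain ⟨h1, h2, h3, h4⟩ := card_facts H
  obtain ⟨h5, h6⟩ := two_le_eN_and_one_le_n H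
  obtain ⟨f1, f2, f3, f4⟩ := frobenius_facts H
  exact { H with
    card_NP := h1, index_NP := h2, card_G := h3, eN_dvd := h4, two_le_eN := h5, one_le_n := h6
    five_le := five_le_p H h3 h4 h5 h6
    regular := f1, conj_mem := f2, conj_mul := f3, cent_P := f4
    cyc := isCyclic_QP H }

theorem perm_of [Fintype G] [Fintype (IrrCharacter G)] [Fintype (Lin P)] (B : Basic p P n)
    (D : BrauerData p P) (T : Dict p P n D) (S : Struc p P n D) : Perm p P n := by
  have hfix := fun h hN hP => fixcount_of B D T S h hN hP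
  exact
    { fixcount := hfix
      rk := fun g hg => rk_of B hfix g hg
      compl_inf := fun E hE hc => (compl_basic B E hE hc).1
      compl_cyc := fun E hE hc => (compl_basic B E hE hc).2.1
      compl_mul := fun E hE hc => (compl_basic B E hE hc).2.2
      compl_ti := compl_ti B
      compl_conj := compl_conj B }

end

section
variable [Fintype G] [Fintype (IrrCharacter G)] {p : ℕ} [Fact p.Prime] {P : Subgroup G} {n : ℕ}
  [Fintype (Lin P)]

theorem dict_of (B : Basic p P n) (D : BrauerData p P) (LF : LinFacts P) : Dict p P n D := by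
  have T0 : Dict0 P := dict0 P
  have hsum := fun χ => sum_mult B LF T0 χ
  obtain ⟨hX, hY, hO⟩ := sum_mult_XYO B D hsum
  exact { T0 with
    val1 := fun φ => (indL_values B T0 φ).1
    valP := fun φ => (indL_values B T0 φ).2.1
    deg := fun φ => (indL_values B T0 φ).2.2
    triv_one := (mult_triv B T0).1
    triv_ne := (mult_triv B T0).2
    sumP := hsum
    sumX := hX, sumY := hY, sumO := hO
    rel := fun φ ψ hψ => mult_rel B D T0 φ ψ hψ
    val := fun χ h hh => val_off_P B LF T0 χ h hh }

theorem struc_of (B : Basic p P n) (D : BrauerData p P) (LF : LinFacts P) (T : Dict p P n D) :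
    Struc p P n D := by
  obtain ⟨hXp, hYp, hYn⟩ := deg_facts B D
  have hYn' : D.ε = -1 → ∀ ψ ∈ D.Y, Nat.card D.Y * irrDeg ψ = 1 + n * p :=
    fun h ψ hψ => (hYn h ψ hψ).1
  have hform := fun φ hφ => form_of B D T hXp hYn' φ hφ
  obtain ⟨hp0, hpn, hpo⟩ := pi_facts B D T hXp hYn' hform
  obtain ⟨c1, c2, c3, c4⟩ := count_facts B D T LF hXp hform hp0
  exact
    { degXp := hXp, posY := hYp, negY := hYn, form := hform, pi_zero := hp0, pi_norm := hpn
      other := hpo, countX := c1, countY := c2, star_pos := c3, star_neg := c4 }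

end

/-- The goal of S0996. -/
def Goal (G : Type u) [Group G] (p : ℕ) : Prop :=
  (∃ (F : Type) (_ : Field F) (_ : Fintype F), Fintype.card F = p ∧ 3 < p ∧
      Nonempty (G ≃* Matrix.ProjectiveSpecialLinearGroup (Fin 2) F)) ∨
  (∃ (m : ℕ) (F : Type) (_ : Field F) (_ : Fintype F), Fintype.card F = 2 ^ m ∧ p = 2 ^ m + 1 ∧
      3 < p ∧ Nonempty (G ≃* Matrix.ProjectiveSpecialLinearGroup (Fin 2) F))

section
variable [Finite G] {p : ℕ} [Fact p.Prime] {P : Subgroup G} {n : ℕ}

/-- the case `n = 1`, `t = 2` -/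
theorem goal_of_n_one (B : Basic p P n) (hn : n = 1) (ht : 2 * eN P = p - 1) : Goal G p := by
  subst hn
  obtain ⟨hZ, hreg⟩ := zassenhaus_of_n_one B
  exact Or.inl (psl_of_n_one B ht hZ hreg)

theorem main_of_hyp (H : Hyp p P n) : Goal G p := by
  classical
  have hp : p.Prime := Fact.out
  have B : Basic p P n := basic_of_hyp H
  let _ : Fintype G := Fintype.ofFinite G
  let _ : Fintype (IrrCharacter G) := Fintype.ofFinite _
  have : Finite (Lin P) := finite_Lin B.cyc
  let _ : Fintype (Lin P) := Fintype.ofFinite _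
  have LF : LinFacts P := linFacts B.cyc
  obtain ⟨Sy, hSy⟩ := exists_sylow_eq H
  have hp2 : p ≠ 2 := by have := B.five_le; omega
  have hD : Nonempty (BrauerData p P) := by
    have := Cfsg.Agent.Helper8.W2p.exists_brauerData p hp2 Sy (by rw [hSy]; exact H.card_P)
      (by rw [hSy]; exact H.cent)
    rwa [hSy] at this
  obtain ⟨D⟩ := hD
  have T : Dict p P n D := dict_of B D LF
  have S : Struc p P n D := struc_of B D LF T
  have Q : Perm p P n := perm_of B D T S
  have hEV := fun φ₀ h1 h2 => norm_indL_invol B Q T.toDict0 φ₀ h1 h2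
  have hcY := D.card_Y
  rcases D.ε_pm with hε | hε
  · -- ε = 1
    have hodd : Odd (eN P) := by
      rw [← Nat.not_even_iff_odd]
      intro heven
      have := (even_case B D S LF hEV heven).1
      rw [hε] at this
      norm_num at this
    obtain ⟨hn1, ht2⟩ := pos_case B D T S hε hodd (fun ψ hψ φ => psi_sq_inner B D T S hε ψ hψ φ)
    exact goal_of_n_one B hn1 (by rw [← hcY, ht2])
  · -- ε = -1
    have hNE := fun g hg => card_normalizer_EE B Q g hg
    have heven : Even (eN P) := neg_even B D T S LF hNE hε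
    obtain ⟨-, ht, hY, φ₀, hφ1, hφ2, hφY, hφO⟩ := even_case B D S LF hEV heven
    -- an element outside `N`
    have hex : ∃ g : G, g ∉ NP P := by
      by_contra hall
      push Not at hall
      have htop : NP P = ⊤ := by
        rw [eq_top_iff]; intro x _; exact hall x
      have := B.index_NP
      rw [htop, Subgroup.index_top] at this
      have h1 := B.one_le_n
      have h2 := hp.pos
      nlinarith
    obtain ⟨g, hg⟩ := hex
    have hEc : Nat.card ↥(EE P g) = eN P := Q.rk g hg
    have hEle : EE P g ≤ NP P := inf_le_left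
    have hEcyc : IsCyclic ↥(EE P g) := Q.compl_cyc _ hEle hEc
    -- the involution of `E`
    obtain ⟨x₀', hx₀'⟩ := exists_prime_orderOf_dvd_card' (G := ↥(EE P g)) 2
      (by rw [hEc]; exact even_iff_two_dvd.mp heven)
    set x₀ : G := (x₀' : G) with hx₀
    have ho : orderOf x₀ = 2 := by rw [hx₀, Subgroup.orderOf_coe]; exact hx₀'
    have hxE : x₀ ∈ EE P g := x₀'.2
    have hxN : x₀ ∈ NP P := hEle hxE
    have hC : Nat.card ↥(Subgroup.centralizer ({x₀} : Set G)) = eN P * (n + 1) :=
      card_centralizer_invol B Q x₀ hxN ho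
    obtain ⟨c, s₀, hc, hc1, hcX, hcm, hs₀, hcY', hcO⟩ :=
      vals_invol B D T S hε ht φ₀ hφY x₀ hxN ho
    obtain ⟨hsq, hsum⟩ := orth_invol B D T S hε ht hY x₀ ho hC c s₀ hc hc1 hcX hcm hs₀ hcY' hcO
    have hcount := invol_pairs_count B D T S hε ht hY x₀ ho hC c s₀ hc hc1 hcm hs₀ hcY' hcO hsq hsum
    have hstep := invol_group_step x₀ ho (EE P g) hEcyc hxE (eN P) (n + 1) hEc hC
      (by rw [hcount]; simp)
    have hn1 := B.one_le_n
    rcases hstep with hle | he2
    · -- n = 1
      have hn : n = 1 := by omega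
      refine goal_of_n_one B hn ?_
      rw [← hcY, ht, hn]
    · -- e = 2
      by_cases hp5 : p = 5
      · -- then t = 2 and n = 1
        have : Nat.card D.Y = 2 := by
          have h' : Nat.card D.Y * 2 = p - 1 := by rw [← he2]; exact hcY
          omega
        have hn : n = 1 := by omega
        refine goal_of_n_one B hn ?_
        rw [← hcY, this]
      · have h5 : 5 < p := by have := B.five_le; omega
        obtain ⟨ψ, hψ⟩ : ∃ ψ, ψ ∈ D.Y := by
          have : Nat.card D.Y ≠ 0 := by rw [ht]; omega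
          have hne : Nonempty D.Y := (Nat.card_pos_iff.mp (Nat.pos_of_ne_zero this)).1
          obtain ⟨⟨ψ, hψ⟩⟩ := hne
          exact ⟨ψ, hψ⟩
        have hfaith := faithful_of_eN_two B D T S hε he2 ht hY φ₀ hφ1 hφY ψ hψ
        have hdeg : Cfsg.charDegree (ψ : G → ℂ) = p - 2 := by
          unfold Cfsg.charDegree
          rw [irrDeg_spec]
          have := (hY ψ hψ).2
          simp only [Complex.natCast_re, Nat.floor_natCast]
          omega
        have hnn : ¬ (Sy : Subgroup G).Normal := by
          rw [hSy]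
          intro hnorm
          have htop : NP P = ⊤ := Subgroup.normalizer_eq_top_iff.mpr hnorm
          have := B.index_NP
          rw [htop, Subgroup.index_top] at this
          have h2 := hp.pos
          nlinarith
        have h4705 := Cfsg.Agent.S4705.result p h5 Sy (by rw [hSy]; exact H.card_P) hnn (ψ : G → ℂ) ψ.2
          hfaith hdeg
        exact Or.inr (psl_of_sl_prod B h4705)

end

end Cfsg.Agent.S0996P
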