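import Mathlib

set_option autoImplicit false

/-!
Sylow counting inside a subgroup `A` of a finite group `G`, phrased with subgroups of `G`.
-/

namespace Cfsg.Agent.Helper27.RelSylow

open Subgroup

variable {G : Type*} [Group G]

theorem card_subgroupOf_eq (X A : Subgroup G) :
    Nat.card ↥(X.subgroupOf A) = Nat.card ↥(X ⊓ A) := by
  rw [← inf_subgroupOf_right]
  exact Nat.card_congr (subgroupOfEquivOfLe (inf_le_right : X ⊓ A ≤ A)).toEquiv

theorem subgroupOf_le_iff {X Q A : Subgroup G} (hX : X ≤ A) :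
    X.subgroupOf A ≤ Q.subgroupOf A ↔ X ≤ Q := by
  constructor
  · intro h x hx
    have : (⟨x, hX hx⟩ : A) ∈ X.subgroupOf A := by
      rw [mem_subgroupOf]; exact hx
    have := h this
    rwa [mem_subgroupOf] at this
  · intro h x hx
    rw [mem_subgroupOf] at hx ⊢
    exact h hx

/-- Sylow counting in `A` relative to a `p`-subgroup `Q ≤ A` of `p'`-index in `A`. -/
theorem rel_sylow [Finite G] {p : ℕ} [Fact p.Prime] (A Q : Subgroup G) (hQA : Q ≤ A)
    (hQ : IsPGroup p Q) (hidx : ¬ p ∣ (Q.subgroupOf A).index) :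
    Nat.card (Sylow p ↥A) * Nat.card ↥(normalizer (Q : Set G) ⊓ A) = Nat.card ↥A ∧
    Nat.card (Sylow p ↥A) ≡ 1 [MOD p] ∧
    (Nat.card (Sylow p ↥A) = 1 → ∀ X : Subgroup G, X ≤ A → IsPGroup p X → X ≤ Q) := by
  have hQ' : IsPGroup p ↥(Q.subgroupOf A) :=
    hQ.of_equiv (subgroupOfEquivOfLe hQA).symm
  set S : Sylow p ↥A := hQ'.toSylow hidx with hS
  have hScoe : (S : Subgroup ↥A) = Q.subgroupOf A := IsPGroup.toSylow_coe hQ' hidx
  refine ⟨?_, card_sylow_modEq_one p ↥A, ?_⟩
  · have hnorm : normalizer ((S : Subgroup ↥A) : Set ↥A) =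
        (normalizer (Q : Set G)).subgroupOf A := by
      rw [hScoe]; exact (subgroupOf_normalizer_eq hQA).symm
    rw [S.card_eq_index_normalizer]
    change (normalizer ((S : Subgroup ↥A) : Set ↥A)).index * _ = _
    rw [hnorm, ← card_subgroupOf_eq]
    exact Subgroup.index_mul_card _
  · intro h1 X hXA hX
    have hsub : Subsingleton (Sylow p ↥A) := (Nat.card_eq_one_iff_unique.mp h1).1
    have hX' : IsPGroup p ↥(X.subgroupOf A) :=
      hX.of_equiv (subgroupOfEquivOfLe hXA).symm
    obtain ⟨S', hS'⟩ := hX'.exists_le_sylow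
    have : S' = S := Subsingleton.elim _ _
    rw [this, hScoe] at hS'
    exact (subgroupOf_le_iff hXA).mp hS'

end Cfsg.Agent.Helper27.RelSylow
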