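import Mathlib
import Cfsg.Agent.Helper27.RelSylow

set_option autoImplicit false

/-!
Small conjugation tools: orbit counting by a direct injection, normalizer membership in finite
groups, trivial center of nonabelian simple groups.
-/

namespace Cfsg.Agent.Helper27.ConjTools

open Subgroup Cfsg.Agent.Helper27.RelSylow

variable {G : Type*} [Group G]

/-- If all `H`-conjugates of `t` lie in a set of at most `m` elements, then
`|H| ≤ m * |H ⊓ C(t)|`. -/
theorem card_le_mul_card_inf_centralizer [Finite G] (H : Subgroup G) (t : G) (T : Set G) (m : ℕ)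
    (hT : T.ncard ≤ m) (hconj : ∀ h ∈ H, h * t * h⁻¹ ∈ T) :
    Nat.card ↥H ≤ m * Nat.card ↥(H ⊓ centralizer {t}) := by
  set S : Subgroup ↥H := (centralizer ({t} : Set G)).subgroupOf H with hS
  have h1 := Subgroup.index_mul_card S
  have h2 : Nat.card ↥S = Nat.card ↥(H ⊓ centralizer {t}) := by
    rw [hS, card_subgroupOf_eq, inf_comm]
  have hmem : ∀ a : ↥H, a ∈ S ↔ (a : G) * t = t * (a : G) := by
    intro a
    rw [hS, mem_subgroupOf, mem_centralizer_iff]
    constructor
    · intro h; exact (h t rfl).symm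
    · intro h x hx; rw [Set.mem_singleton_iff] at hx; subst hx; exact h.symm
  let f : ↥H ⧸ S → ↥T := fun q => Quotient.liftOn' q
    (fun h => (⟨(h : G) * t * (h : G)⁻¹, hconj h h.2⟩ : ↥T)) (by
      intro a b hab
      rw [QuotientGroup.leftRel_apply, hmem] at hab
      apply Subtype.ext
      simp only [Subgroup.coe_mul, Subgroup.coe_inv] at hab ⊢
      have : (b : G) * t = (a : G) * t * ((a : G)⁻¹ * (b : G)) := by
        rw [mul_assoc (a : G), ← hab]; group
      rw [this]; group)
  have hf : Function.Injective f := by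
    intro q1 q2
    refine Quotient.inductionOn₂' q1 q2 ?_
    intro a b hab
    have hab' : (a : G) * t * (a : G)⁻¹ = (b : G) * t * (b : G)⁻¹ := congrArg Subtype.val hab
    apply Quotient.sound'
    rw [QuotientGroup.leftRel_apply, hmem]
    simp only [Subgroup.coe_mul, Subgroup.coe_inv]
    have : t = (a : G)⁻¹ * ((b : G) * t * (b : G)⁻¹) * (a : G) := by
      rw [← hab']; group
    calc (a : G)⁻¹ * (b : G) * t = ((a : G)⁻¹ * ((b : G) * t * (b : G)⁻¹) * (a : G)) * ((a : G)⁻¹ * (b : G)) := by group
      _ = t * ((a : G)⁻¹ * (b : G)) := by rw [← this]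
  have h3 : S.index ≤ T.ncard := by
    rw [Subgroup.index, ← Nat.card_coe_set_eq]
    exact Nat.card_le_card_of_injective f hf
  calc Nat.card ↥H = S.index * Nat.card ↥S := h1.symm
    _ ≤ m * Nat.card ↥S := Nat.mul_le_mul_right _ (h3.trans hT)
    _ = m * Nat.card ↥(H ⊓ centralizer {t}) := by rw [h2]

/-- In a finite group, `g D g⁻¹ ⊆ D` implies `g ∈ N(D)`. -/
theorem mem_normalizer_of_conj_mem [Finite G] (D : Subgroup G) (g : G)
    (h : ∀ x ∈ D, g * x * g⁻¹ ∈ D) : g ∈ normalizer (D : Set G) := by
  rw [mem_normalizer_iff]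
  intro x
  refine ⟨h x, fun hx => ?_⟩
  let φ : ↥D → ↥D := fun y => ⟨g * y * g⁻¹, h y y.2⟩
  have hinj : Function.Injective φ := by
    intro a b hab
    have : g * (a : G) * g⁻¹ = g * (b : G) * g⁻¹ := congrArg Subtype.val hab
    apply Subtype.ext
    simpa using this
  obtain ⟨y, hy⟩ := (Finite.injective_iff_surjective.mp hinj) ⟨g * x * g⁻¹, hx⟩
  have : g * (y : G) * g⁻¹ = g * x * g⁻¹ := congrArg Subtype.val hy
  have hxy : (y : G) = x := by simpa using this
  rw [← hxy]; exact y.2

/-- A nonabelian simple group has trivial center. -/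
theorem center_eq_bot [IsSimpleGroup G] (hG : ¬ IsMulCommutative G) : center G = ⊥ := by
  rcases (inferInstance : (center G).Normal).eq_bot_or_eq_top with h | h
  · exact h
  · exfalso
    apply hG
    refine ⟨⟨fun a b => ?_⟩⟩
    have hb : b ∈ center G := by rw [h]; trivial
    exact Subgroup.mem_center_iff.mp hb a

/-- In a nonabelian simple group, the centralizer of a nontrivial element is proper. -/
theorem centralizer_singleton_ne_top [IsSimpleGroup G] (hG : ¬ IsMulCommutative G) (t : G)
    (ht : t ≠ 1) : centralizer ({t} : Set G) ≠ ⊤ := by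
  intro h
  rw [centralizer_eq_top_iff_subset, center_eq_bot hG] at h
  have := h (Set.mem_singleton t)
  rw [SetLike.mem_coe, mem_bot] at this
  exact ht this

end Cfsg.Agent.Helper27.ConjTools
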