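import Mathlib
import Cfsg.Agent.Helper11.NoSimple
import Cfsg.Agent.Helper11.SelfCent
import Cfsg.Agent.Helper11.SimpleTools
import Cfsg.Agent.Helper11.SylowCount
import Cfsg.Agent.Helper11.SylowInter2
import Cfsg.Agent.Helper11.Transfer
import Cfsg.Agent.S0144

set_option autoImplicit false

/-!
Generic arithmetic filters for orders of non-abelian finite simple groups (for S0496).
-/

namespace Cfsg.Agent.Helper27.Ord

open Cfsg.Agent.Helper11

variable {G : Type*} [Group G] [Finite G] [IsSimpleGroup G]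

/-- Burnside: a non-abelian simple group does not have order `p^a q^b`. -/
theorem kill_paqb (hG : ¬ IsMulCommutative G) (p q a b : ℕ) (hp : p.Prime) (hq : q.Prime)
    (hcard : Nat.card G = p ^ a * q ^ b) : False := by
  have hs : Group.IsSolvable G := Cfsg.Agent.S0144.result (G := G) p q a b hp hq hcard
  exact hG ⟨⟨IsSimpleGroup.comm_iff_isSolvable.mpr hs⟩⟩

/-- Admissibility of `d` as the number of Sylow `p`-subgroups when `|G| = m * p`, `p ∤ m`. -/
def AdmPrime (p m d : ℕ) : Prop :=
  d ≠ 1 ∧ 2 * (m * p) ∣ d.factorial ∧ (∃ e ∈ Nat.divisors (p - 1), e ≠ 1 ∧ d * e * p ∣ m * p) ∧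
    (d = p + 1 → 2 * (m * p / d) ∣ p * (p - 1))

instance (p m d : ℕ) : Decidable (AdmPrime p m d) := by
  unfold AdmPrime; infer_instance

theorem admPrime_card_sylow (hG : ¬ IsMulCommutative G) (p m : ℕ) [Fact p.Prime] (hp2 : p ≠ 2)
    (hcard : Nat.card G = m * p) (hm : ¬ p ∣ m) :
    Nat.card (Sylow p G) ∈ (Nat.divisors m).filter (fun d => d % p = 1) ∧
      AdmPrime p m (Nat.card (Sylow p G)) := by
  have hp : p.Prime := Fact.out
  have hcard' : Nat.card G = m * p ^ 1 := by rw [pow_one]; exact hcard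
  have hdvd : p ∣ Nat.card G := by rw [hcard]; exact dvd_mul_left p m
  obtain ⟨P⟩ : Nonempty (Sylow p G) := inferInstance
  have hP : Nat.card ↥(P : Subgroup G) = p := (sylow_card_of_card_eq m hcard hm P).1
  have hN := card_sylow_mul_card_normalizer P
  refine ⟨card_sylow_mem_filter m 1 hcard' hm, simple_card_sylow_ne_one hG p hdvd, ?_, ?_, ?_⟩
  · rw [← hcard]; exact simple_two_mul_card_dvd_factorial_card_sylow hG p hdvd
  · obtain ⟨r, hr1, hrp, hrN⟩ := simple_automizer_prime hG p P hP
    have hp1 : p - 1 ≠ 0 := by have := hp.two_le; omega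
    refine ⟨r, Nat.mem_divisors.mpr ⟨hrp, hp1⟩, hr1, ?_⟩
    rw [← hcard, ← hN, mul_assoc]
    exact Nat.mul_dvd_mul_left _ hrN
  · intro hd
    have hidx : (Subgroup.normalizer ((P : Subgroup G) : Set G)).index = p + 1 := by
      rw [← hd]; exact P.card_eq_index_normalizer.symm
    have h2 := simple_normalizer_dvd_of_index hG p hp2 _ (Or.inr hidx) P hP
    have hdpos : 0 < Nat.card (Sylow p G) := Nat.card_pos
    have : m * p / Nat.card (Sylow p G) =
        Nat.card ↥(Subgroup.normalizer ((P : Subgroup G) : Set G)) := by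
      rw [← hcard, ← hN]; exact Nat.mul_div_cancel_left _ hdpos
    rw [this]; exact h2

/-- Kill via a prime `p` dividing `|G|` exactly once. -/
theorem kill_prime (hG : ¬ IsMulCommutative G) (p m : ℕ) [Fact p.Prime] (hp2 : p ≠ 2)
    (hcard : Nat.card G = m * p) (hm : ¬ p ∣ m)
    (hf : ∀ d ∈ (Nat.divisors m).filter (fun d => d % p = 1), ¬ AdmPrime p m d) : False := by
  obtain ⟨h1, h2⟩ := admPrime_card_sylow hG p m hp2 hcard hm
  exact hf _ h1 h2

/-- Admissibility of `d` as the number of Sylow `p`-subgroups when `|G| = m * p^a`, `p ∤ m`,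
`a ≥ 2`. -/
def AdmPow (p m a d : ℕ) : Prop :=
  d ≠ 1 ∧ 2 * (m * p ^ a) ∣ d.factorial ∧
    (d % p ^ 2 ≠ 1 → ∃ k ∈ Nat.divisors m, k ≠ 1 ∧ k * (p + 1) ≤ m ∧
      2 * (m * p ^ a) ∣ k.factorial)

instance (p m a d : ℕ) : Decidable (AdmPow p m a d) := by
  unfold AdmPow; infer_instance

theorem admPow_card_sylow (hG : ¬ IsMulCommutative G) (p m a : ℕ) [Fact p.Prime] (ha : 2 ≤ a)
    (hcard : Nat.card G = m * p ^ a) (hm : ¬ p ∣ m) :
    Nat.card (Sylow p G) ∈ (Nat.divisors m).filter (fun d => d % p = 1) ∧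
      AdmPow p m a (Nat.card (Sylow p G)) := by
  have hp : p.Prime := Fact.out
  have hdvd : p ∣ Nat.card G := by
    rw [hcard]; exact dvd_mul_of_dvd_right (dvd_pow_self p (by omega)) m
  refine ⟨card_sylow_mem_filter m a hcard hm, simple_card_sylow_ne_one hG p hdvd, ?_, ?_⟩
  · rw [← hcard]; exact simple_two_mul_card_dvd_factorial_card_sylow hG p hdvd
  · intro hmod
    have hnm : ¬ Nat.card (Sylow p G) ≡ 1 [MOD p ^ 2] := by
      intro h
      apply hmod
      unfold Nat.ModEq at h
      rw [h]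
      apply Nat.mod_eq_of_lt
      calc 1 < 2 ^ 2 := by norm_num
        _ ≤ p ^ 2 := Nat.pow_le_pow_left hp.two_le 2
    obtain ⟨P, R, hPR, hD⟩ := exists_sylow_inter_index_p p hnm
    obtain ⟨hPle, -, hge⟩ := normalizer_sylow_inter p P R hPR hD
    set D : Subgroup G := (P : Subgroup G) ⊓ (R : Subgroup G) with hDdef
    set M : Subgroup G := Subgroup.normalizer (D : Set G) with hMdef
    have hPc : Nat.card ↥(P : Subgroup G) = p ^ a := (sylow_card_of_card_eq_pow m a hcard hm P).1
    -- M is proper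
    have hMtop : M ≠ ⊤ := by
      intro hM
      have hDn : D.Normal := Subgroup.normalizer_eq_top_iff.mp hM
      rcases hDn.eq_bot_or_eq_top with h | h
      · rw [h, Subgroup.card_bot, one_mul] at hD
        rw [hPc] at hD
        have : p ^ 1 < p ^ a := Nat.pow_lt_pow_right hp.one_lt (by omega)
        rw [pow_one] at this
        omega
      · have hPtop : (P : Subgroup G) = ⊤ := top_le_iff.mp (h ▸ inf_le_left)
        apply simple_not_pgroup hG p
        have := P.2
        rw [hPtop] at this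
        exact IsPGroup.of_equiv this Subgroup.topEquiv
    have hidx : M.index * Nat.card ↥M = Nat.card G := M.index_mul_card
    have hMc : p ^ a ∣ Nat.card ↥M := by
      rw [← hPc]; exact Subgroup.card_dvd_of_le hPle
    obtain ⟨c, hc⟩ := hMc
    have hpa : 0 < p ^ a := pow_pos hp.pos a
    have hkm : M.index * c = m := by
      rw [hc, hcard] at hidx
      have : (M.index * c) * p ^ a = m * p ^ a := by rw [← hidx]; ring
      exact Nat.eq_of_mul_eq_mul_right hpa this
    have hm0 : m ≠ 0 := by rintro rfl; exact hm (dvd_zero p)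
    refine ⟨M.index, Nat.mem_divisors.mpr ⟨⟨c, hkm.symm⟩, hm0⟩, ?_, ?_, ?_⟩
    · intro h1
      exact hMtop (Subgroup.index_eq_one.mp h1)
    · rw [hPc, hc] at hge
      have hc' : p + 1 ≤ c := by
        have : (p + 1) * p ^ a ≤ c * p ^ a := by rw [mul_comm c]; exact hge
        exact Nat.le_of_mul_le_mul_right this hpa
      calc M.index * (p + 1) ≤ M.index * c := Nat.mul_le_mul_left _ hc'
        _ = m := hkm
    · rw [← hcard]; exact simple_two_mul_card_dvd_factorial hG M hMtop

/-- Kill via a prime `p` with `p^a ∥ |G|`, `a ≥ 2`. -/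
theorem kill_pow (hG : ¬ IsMulCommutative G) (p m a : ℕ) [Fact p.Prime] (ha : 2 ≤ a)
    (hcard : Nat.card G = m * p ^ a) (hm : ¬ p ∣ m)
    (hf : ∀ d ∈ (Nat.divisors m).filter (fun d => d % p = 1), ¬ AdmPow p m a d) : False := by
  obtain ⟨h1, h2⟩ := admPow_card_sylow hG p m a ha hcard hm
  exact hf _ h1 h2

end Cfsg.Agent.Helper27.Ord
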