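import Mathlib
import Cfsg.Agent.Helper27.OrdTools
import Cfsg.Agent.Helper27.RelSylow
import Cfsg.Agent.Helper11.O504A
import Cfsg.Agent.Helper11.P2QR
import Cfsg.Agent.Helper11.SylowPrimeTools

set_option autoImplicit false
set_option linter.unusedSectionVars false

/-!
Simple groups of order `720` (towards non-existence): basic data, `n_3 ∈ {10, 16, 40}`,
and exclusion of `n_3 = 16`.
-/

namespace Cfsg.Agent.Helper27.O720

open Subgroup Cfsg.Agent.Helper11 Cfsg.Agent.Helper27.Ord

variable {G : Type*} [Group G] [Finite G] [IsSimpleGroup G]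

instance fact2 : Fact (Nat.Prime 2) := ⟨by norm_num⟩
instance fact3 : Fact (Nat.Prime 3) := ⟨by norm_num⟩
instance fact5 : Fact (Nat.Prime 5) := ⟨by norm_num⟩

theorem noncomm (hcard : Nat.card G = 720) : ¬ IsMulCommutative G :=
  simple_noncomm_of_card (by rw [hcard]; norm_num)

theorem perfect (hcard : Nat.card G = 720) : commutator G = ⊤ :=
  Cfsg.Agent.Helper11.O504.commutator_eq_top (noncomm hcard)

/-- proper subgroups have order at most `90` -/
theorem card_le_of_ne_top (hcard : Nat.card G = 720) (M : Subgroup G) (hM : M ≠ ⊤) :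
    Nat.card ↥M ≤ 90 := by
  have h1 := simple_two_mul_card_dvd_factorial (noncomm hcard) M hM
  have h2 := M.index_mul_card
  rw [hcard] at h1 h2
  by_contra hcon
  push Not at hcon
  have hidx : M.index ≤ 7 := by
    by_contra h7
    push Not at h7
    nlinarith
  generalize M.index = k at h1 h2 hidx
  interval_cases k <;> simp [Nat.factorial] at h1

/-- Sylow `5`-subgroups have order `5` and centralizers of order `5` or `10`. -/
theorem five_data (hcard : Nat.card G = 720) (Q : Sylow 5 G) :
    Nat.card ↥(Q : Subgroup G) = 5 ∧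
      (Nat.card ↥(centralizer ((Q : Subgroup G) : Set G)) = 5 ∨
        Nat.card ↥(centralizer ((Q : Subgroup G) : Set G)) = 10) := by
  have hG := noncomm hcard
  have hc : Nat.card G = 144 * 5 := by rw [hcard]
  have hQ : Nat.card ↥(Q : Subgroup G) = 5 := (sylow_card_of_card_eq 144 hc (by norm_num) Q).1
  obtain ⟨h1, h2, h3, h4⟩ := simple_automizer_data hG 5 Q hQ
  obtain ⟨hmem, hadm⟩ := admPrime_card_sylow hG 5 144 (by norm_num) hc (by norm_num)
  have hf : ∀ d ∈ (Nat.divisors 144).filter (fun d => d % 5 = 1), AdmPrime 5 144 d → d = 36 := by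
    decide +kernel
  have hn : Nat.card (Sylow 5 G) = 36 := hf _ hmem hadm
  have hN := card_sylow_mul_card_normalizer Q
  rw [hn, hcard] at hN
  have hN20 : Nat.card ↥(normalizer ((Q : Subgroup G) : Set G)) = 20 := by omega
  rw [hN20] at h3
  refine ⟨hQ, ?_⟩
  generalize (centralizer ((Q : Subgroup G) : Set G)).relIndex
    (normalizer ((Q : Subgroup G) : Set G)) = e at h1 h2 h3
  generalize Nat.card ↥(centralizer ((Q : Subgroup G) : Set G)) = c at h3 h4
  have hle : e ≤ 4 := Nat.le_of_dvd (by norm_num) h2
  obtain ⟨c', rfl⟩ := h4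
  interval_cases e <;> omega

/-- no element of order `3` commutes with an element of order `5` -/
theorem no_three_five (hcard : Nat.card G = 720) (x y : G) (hx : orderOf x = 3)
    (hy : orderOf y = 5) (hc : Commute x y) : False := by
  have hcd : Nat.card G = 144 * 5 := by rw [hcard]
  have hZ : Nat.card ↥(zpowers y) = 5 := by rw [Nat.card_zpowers, hy]
  set Q : Sylow 5 G := sylowOfCardPrime 144 hcd (by norm_num) (zpowers y) hZ with hQdef
  have hQ : (Q : Subgroup G) = zpowers y := coe_sylowOfCardPrime 144 hcd (by norm_num) _ hZ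
  obtain ⟨-, hC⟩ := five_data hcard Q
  have hxC : zpowers x ≤ centralizer ((Q : Subgroup G) : Set G) := by
    rw [zpowers_le, hQ, mem_centralizer_iff]
    intro z hz
    rw [SetLike.mem_coe, mem_zpowers_iff] at hz
    obtain ⟨k, rfl⟩ := hz
    exact (hc.zpow_right k).symm.eq
  have h3 := card_dvd_of_le hxC
  rw [Nat.card_zpowers, hx] at h3
  rcases hC with h | h <;> rw [h] at h3 <;> omega

/-- the number of Sylow `3`-subgroups is `10`, `16` or `40`; Sylow `3`-subgroups have order `9` -/
theorem three_data (hcard : Nat.card G = 720) :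
    (Nat.card (Sylow 3 G) = 10 ∨ Nat.card (Sylow 3 G) = 16 ∨ Nat.card (Sylow 3 G) = 40) ∧
      ∀ P : Sylow 3 G, Nat.card ↥(P : Subgroup G) = 9 := by
  have hG := noncomm hcard
  have hc : Nat.card G = 80 * 3 ^ 2 := by rw [hcard]; norm_num
  obtain ⟨hmem, hadm⟩ := admPow_card_sylow hG 3 80 2 (le_refl 2) hc (by norm_num)
  have hf : ∀ d ∈ (Nat.divisors 80).filter (fun d => d % 3 = 1), AdmPow 3 80 2 d →
      d = 10 ∨ d = 16 ∨ d = 40 := by
    decide +kernel
  refine ⟨hf _ hmem hadm, fun P => ?_⟩
  have := (sylow_card_of_card_eq_pow 80 2 hc (by norm_num) P).1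
  rw [this]; norm_num

/-- Sylow `3`-subgroups are abelian -/
theorem three_comm (hcard : Nat.card G = 720) (P : Sylow 3 G) :
    ∀ a ∈ (P : Subgroup G), ∀ b ∈ (P : Subgroup G), a * b = b * a := by
  have h9 : Nat.card ↥(P : Subgroup G) = 3 ^ 2 := by rw [(three_data hcard).2 P]; norm_num
  have hcm : IsMulCommutative ↥(P : Subgroup G) := IsPGroup.isMulCommutative_of_card_eq_prime_sq h9
  intro a ha b hb
  have := hcm.is_comm.comm (⟨a, ha⟩ : ↥(P : Subgroup G)) ⟨b, hb⟩
  exact congrArg Subtype.val this

theorem three_le_centralizer (hcard : Nat.card G = 720) (P : Sylow 3 G) :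
    (P : Subgroup G) ≤ centralizer ((P : Subgroup G) : Set G) := by
  intro a ha
  rw [mem_centralizer_iff]
  intro b hb
  exact three_comm hcard P b hb a ha

/-- `n_3 ≠ 16` -/
theorem not_sixteen (hcard : Nat.card G = 720) : Nat.card (Sylow 3 G) ≠ 16 := by
  intro h16
  have hG := noncomm hcard
  obtain ⟨P⟩ : Nonempty (Sylow 3 G) := inferInstance
  have hP := (three_data hcard).2 P
  have hN := card_sylow_mul_card_normalizer P
  rw [h16, hcard] at hN
  have hN45 : Nat.card ↥(normalizer ((P : Subgroup G) : Set G)) = 45 := by omega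
  have hle := three_le_centralizer hcard P
  have hCN : centralizer ((P : Subgroup G) : Set G) ≤ normalizer ((P : Subgroup G) : Set G) :=
    centralizer_le_normalizer _
  have hrel := relIndex_mul_card hCN
  rw [hN45] at hrel
  have h9 : 9 ∣ Nat.card ↥(centralizer ((P : Subgroup G) : Set G)) := by
    rw [← hP]; exact card_dvd_of_le hle
  have haut := relIndex_centralizer_normalizer_dvd_card_mulAut (P : Subgroup G)
  -- the relative index is 1 or 5
  have he : (centralizer ((P : Subgroup G) : Set G)).relIndex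
      (normalizer ((P : Subgroup G) : Set G)) = 1 ∨
      (centralizer ((P : Subgroup G) : Set G)).relIndex
      (normalizer ((P : Subgroup G) : Set G)) = 5 := by
    generalize (centralizer ((P : Subgroup G) : Set G)).relIndex
      (normalizer ((P : Subgroup G) : Set G)) = e at hrel
    obtain ⟨c, hc⟩ := h9
    rw [hc] at hrel
    have : e * c = 5 := by nlinarith
    have he5 : e ∣ 5 := ⟨c, this.symm⟩
    rcases (Nat.dvd_prime (by norm_num : Nat.Prime 5)).mp he5 with h | h
    · exact Or.inl h
    · exact Or.inr h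
  rcases he with he | he
  · exact simple_not_normalizer_le_centralizer hG 3 P (by rw [hcard]; norm_num)
      (relIndex_eq_one.mp he)
  · rw [he] at haut
    have h9' : Nat.card ↥(P : Subgroup G) = 3 ^ 2 := by rw [hP]; norm_num
    rcases prime_dvd_card_mulAut_sq (p := 3) (ℓ := 5) h9' haut with h | h <;> norm_num at h

end Cfsg.Agent.Helper27.O720
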