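import Mathlib
import Cfsg.Agent.Helper27.O720A
import Cfsg.Agent.Helper27.ConjTools
import Cfsg.Agent.Helper11.SylowInter2

set_option autoImplicit false
set_option linter.unusedSectionVars false

/-!
Simple groups of order `720` (towards non-existence): `n_3 = 40` is impossible.
Part 1: local data at a Sylow `3`-subgroup and at the intersection `D` of two of them.
-/

namespace Cfsg.Agent.Helper27.O720

open Subgroup Cfsg.Agent.Helper11 Cfsg.Agent.Helper27.Ord Cfsg.Agent.Helper27.RelSylow
  Cfsg.Agent.Helper27.ConjTools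

variable {G : Type*} [Group G] [Finite G] [IsSimpleGroup G]

/-- `n_3 = 40`: `|N(P)| = 18`. -/
theorem forty_normalizer (hcard : Nat.card G = 720) (h40 : Nat.card (Sylow 3 G) = 40)
    (P : Sylow 3 G) : Nat.card ↥(normalizer ((P : Subgroup G) : Set G)) = 18 := by
  have hN := card_sylow_mul_card_normalizer P
  rw [h40, hcard] at hN
  omega

/-- `n_3 = 40`: `C(P) = P`. -/
theorem forty_centralizer (hcard : Nat.card G = 720) (h40 : Nat.card (Sylow 3 G) = 40)
    (P : Sylow 3 G) : centralizer ((P : Subgroup G) : Set G) = (P : Subgroup G) := by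
  have hG := noncomm hcard
  have hP := (three_data hcard).2 P
  have hN18 := forty_normalizer hcard h40 P
  have hle := three_le_centralizer hcard P
  have hCN : centralizer ((P : Subgroup G) : Set G) ≤ normalizer ((P : Subgroup G) : Set G) :=
    centralizer_le_normalizer _
  have hrel := relIndex_mul_card hCN
  rw [hN18] at hrel
  have h9 : 9 ∣ Nat.card ↥(centralizer ((P : Subgroup G) : Set G)) := by
    rw [← hP]; exact card_dvd_of_le hle
  have hne : (centralizer ((P : Subgroup G) : Set G)).relIndex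
      (normalizer ((P : Subgroup G) : Set G)) ≠ 1 := by
    intro he
    exact simple_not_normalizer_le_centralizer hG 3 P (by rw [hcard]; norm_num)
      (relIndex_eq_one.mp he)
  have hc9 : Nat.card ↥(centralizer ((P : Subgroup G) : Set G)) = 9 := by
    generalize (centralizer ((P : Subgroup G) : Set G)).relIndex
      (normalizer ((P : Subgroup G) : Set G)) = e at hrel hne
    obtain ⟨c, hc⟩ := h9
    rw [hc] at hrel ⊢
    have : e * c = 2 := by nlinarith
    have he2 : e ∣ 2 := ⟨c, this.symm⟩
    rcases (Nat.dvd_prime (by norm_num : Nat.Prime 2)).mp he2 with h | h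
    · exact absurd h hne
    · subst h; omega
  exact (Subgroup.eq_of_le_of_card_ge hle (by rw [hc9, hP])).symm

/-- `n_3 = 40`: `P` has index `2` in `N(P)`. -/
theorem forty_index_two (hcard : Nat.card G = 720) (h40 : Nat.card (Sylow 3 G) = 40)
    (P : Sylow 3 G) :
    ((P : Subgroup G).subgroupOf (normalizer ((P : Subgroup G) : Set G))).index = 2 := by
  have hP := (three_data hcard).2 P
  have hN18 := forty_normalizer hcard h40 P
  have h := relIndex_mul_card (le_normalizer : (P : Subgroup G) ≤ normalizer ((P : Subgroup G) : Set G))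
  rw [hN18, hP] at h
  change (P : Subgroup G).relIndex (normalizer ((P : Subgroup G) : Set G)) = 2
  omega

/-- `n_3 = 40`: every element of `N(P) ∖ P` inverts `P`. -/
theorem forty_inverts (hcard : Nat.card G = 720) (h40 : Nat.card (Sylow 3 G) = 40)
    (P : Sylow 3 G) (n : G) (hn : n ∈ normalizer ((P : Subgroup G) : Set G))
    (hnP : n ∉ (P : Subgroup G)) (x : G) (hx : x ∈ (P : Subgroup G)) :
    n * x * n⁻¹ = x⁻¹ := by
  have hperf := perfect hcard
  have hcomm := three_comm hcard P
  have h2 := forty_index_two hcard h40 P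
  -- products of two elements of `N(P) ∖ P` lie in `P`
  have hmul : ∀ a b : G, a ∈ normalizer ((P : Subgroup G) : Set G) →
      b ∈ normalizer ((P : Subgroup G) : Set G) →
      (a * b ∈ (P : Subgroup G) ↔ (a ∈ (P : Subgroup G) ↔ b ∈ (P : Subgroup G))) := by
    intro a b ha hb
    have := Subgroup.mul_mem_iff_of_index_two h2
      (a := (⟨a, ha⟩ : ↥(normalizer ((P : Subgroup G) : Set G)))) (b := ⟨b, hb⟩)
    simpa [mem_subgroupOf] using this
  have hnx : n * x * n⁻¹ ∈ (P : Subgroup G) := (mem_normalizer_iff.mp hn x).mp hx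
  have hnn : n * n ∈ (P : Subgroup G) := (hmul n n hn hn).mpr Iff.rfl
  set y : G := x * (n * x * n⁻¹) with hy
  have hyP : y ∈ (P : Subgroup G) := mul_mem hx hnx
  -- `n` commutes with `y`
  have hny : n * y = y * n := by
    have e1 : n * y * n⁻¹ = (n * x * n⁻¹) * ((n * n) * x * (n * n)⁻¹) := by
      rw [hy]; group
    have e2 : (n * n) * x * (n * n)⁻¹ = x := by
      rw [hcomm _ hnn _ hx]; group
    have e3 : n * y * n⁻¹ = y := by
      rw [e1, e2, hy]; exact hcomm _ hnx _ hx
    calc n * y = (n * y * n⁻¹) * n := by group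
      _ = y * n := by rw [e3]
  have hy1 : y = 1 := by
    refine Cfsg.Agent.Helper11.O504.eq_one_of_central_normalizer hperf P hcomm y hyP ?_
    intro m hm
    by_cases hmP : m ∈ (P : Subgroup G)
    · exact hcomm _ hmP _ hyP
    · -- `m = n * (n⁻¹ * m)` with `n⁻¹ * m ∈ P`
      have hninv : n⁻¹ ∈ normalizer ((P : Subgroup G) : Set G) := inv_mem hn
      have hq : n⁻¹ * m ∈ (P : Subgroup G) := by
        rw [hmul _ _ hninv hm]
        constructor
        · intro h; exact absurd (by simpa using inv_mem h) hnP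
        · intro h; exact absurd h hmP
      have hqy : (n⁻¹ * m) * y = y * (n⁻¹ * m) := hcomm _ hq _ hyP
      calc m * y = n * ((n⁻¹ * m) * y) := by group
        _ = n * (y * (n⁻¹ * m)) := by rw [hqy]
        _ = (n * y) * (n⁻¹ * m) := by group
        _ = (y * n) * (n⁻¹ * m) := by rw [hny]
        _ = y * m := by group
  have : x * (n * x * n⁻¹) = 1 := hy1
  exact eq_inv_of_mul_eq_one_right this

/-- a subgroup of order `3` contains an element of order `3` -/
theorem exists_order_three (D : Subgroup G) (hD3 : Nat.card ↥D = 3) :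
    ∃ d ∈ D, d ≠ 1 ∧ orderOf d = 3 := by
  have hne : D ≠ ⊥ := by
    intro h; rw [h, Subgroup.card_bot] at hD3; omega
  obtain ⟨d, hd⟩ := (Subgroup.ne_bot_iff_exists_ne_one.mp hne)
  refine ⟨(d : G), d.2, fun h => hd (Subtype.ext h), ?_⟩
  have h1 : orderOf d ∣ 3 := by rw [← hD3]; exact orderOf_dvd_natCard d
  have h2 : orderOf d ≠ 1 := by rw [Ne, orderOf_eq_one_iff]; exact hd
  rw [Subgroup.orderOf_coe]
  rcases (Nat.dvd_prime (by norm_num : Nat.Prime 3)).mp h1 with h | h
  · exact absurd h h2
  · exact h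

/-- subgroups of the abelian `P` are centralized by `P` -/
theorem le_centralizer_of_le (hcard : Nat.card G = 720) (P : Sylow 3 G) (D : Subgroup G)
    (hDP : D ≤ (P : Subgroup G)) : (P : Subgroup G) ≤ centralizer (D : Set G) := by
  intro a ha
  rw [mem_centralizer_iff]
  intro d hd
  exact three_comm hcard P d (hDP hd) a ha

/-- `n_3 = 40`: `N(P) ⊓ C(D) = P` for a subgroup `D ≤ P` of order `3`. -/
theorem forty_inf (hcard : Nat.card G = 720) (h40 : Nat.card (Sylow 3 G) = 40)
    (P : Sylow 3 G) (D : Subgroup G) (hDP : D ≤ (P : Subgroup G)) (hD3 : Nat.card ↥D = 3) :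
    normalizer ((P : Subgroup G) : Set G) ⊓ centralizer (D : Set G) = (P : Subgroup G) := by
  apply le_antisymm
  · intro n hn
    obtain ⟨hn1, hn2⟩ := mem_inf.mp hn
    by_contra hnP
    obtain ⟨d, hd, hd1, hd3⟩ := exists_order_three D hD3
    have hinv := forty_inverts hcard h40 P n hn1 hnP d (hDP hd)
    have hcen : d * n = n * d := (mem_centralizer_iff.mp hn2) d hd
    have hdd : d = d⁻¹ := by
      calc d = n * d * n⁻¹ := by rw [← hcen]; group
        _ = d⁻¹ := hinv
    have hd2 : d ^ 2 = 1 := by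
      rw [pow_two]; nth_rewrite 2 [hdd]; exact mul_inv_cancel d
    have := orderOf_dvd_of_pow_eq_one hd2
    rw [hd3] at this
    omega
  · exact le_inf le_normalizer (le_centralizer_of_le hcard P D hDP)

/-- `n_3 = 40`: `|C(D)| = 36` for `D = P ⊓ R` of order `3`. -/
theorem forty_card_centralizer (hcard : Nat.card G = 720) (h40 : Nat.card (Sylow 3 G) = 40)
    (P R : Sylow 3 G) (hPR : P ≠ R) (D : Subgroup G) (hDP : D ≤ (P : Subgroup G))
    (hDR : D ≤ (R : Subgroup G)) (hD3 : Nat.card ↥D = 3) :
    Nat.card ↥(centralizer (D : Set G)) = 36 := by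
  have hG := noncomm hcard
  have hP := (three_data hcard).2 P
  obtain ⟨d, hd, hd1, hd3⟩ := exists_order_three D hD3
  have hPC := le_centralizer_of_le hcard P D hDP
  have hRC := le_centralizer_of_le hcard R D hDR
  have hCtop : centralizer (D : Set G) ≠ ⊤ := by
    intro h
    rw [centralizer_eq_top_iff_subset, center_eq_bot hG] at h
    have := h hd
    rw [SetLike.mem_coe, mem_bot] at this
    exact hd1 this
  have hC90 := card_le_of_ne_top hcard _ hCtop
  have hCdvd : Nat.card ↥(centralizer (D : Set G)) ∣ 720 := by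
    rw [← hcard]; exact card_subgroup_dvd_card _
  have hPsub : Nat.card ↥((P : Subgroup G).subgroupOf (centralizer (D : Set G))) = 9 := by
    rw [card_subgroupOf_eq, inf_eq_left.mpr hPC, hP]
  have hidxmul := Subgroup.index_mul_card ((P : Subgroup G).subgroupOf (centralizer (D : Set G)))
  rw [hPsub] at hidxmul
  have hidx : ¬ 3 ∣ ((P : Subgroup G).subgroupOf (centralizer (D : Set G))).index := by
    intro h3
    obtain ⟨k, hk⟩ := h3
    rw [hk] at hidxmul
    rw [← hidxmul] at hCdvd
    have : 27 ∣ 720 := Dvd.dvd.trans ⟨k, by ring⟩ hCdvd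
    norm_num at this
  obtain ⟨hmul, hmod, hone⟩ := rel_sylow (p := 3) (centralizer (D : Set G)) (P : Subgroup G) hPC
    P.2 hidx
  rw [forty_inf hcard h40 P D hDP hD3, hP] at hmul
  have hne1 : Nat.card (Sylow 3 ↥(centralizer (D : Set G))) ≠ 1 := by
    intro h1
    have := hone h1 (R : Subgroup G) hRC R.2
    exact hPR (sylow_eq_of_le R P this).symm
  have hmod' : Nat.card (Sylow 3 ↥(centralizer (D : Set G))) % 3 = 1 := hmod
  generalize Nat.card (Sylow 3 ↥(centralizer (D : Set G))) = n at hmul hne1 hmod'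
  have hn10 : n ≤ 10 := by omega
  have hcases : n = 4 ∨ n = 10 := by
    rw [← hmul] at hCdvd
    interval_cases n <;> omega
  rcases hcases with h | h
  · rw [← hmul, h]
  · exfalso
    have h5 : 5 ∣ Nat.card ↥(centralizer (D : Set G)) := by rw [← hmul, h]; norm_num
    obtain ⟨y, hy⟩ := exists_prime_orderOf_dvd_card' (G := ↥(centralizer (D : Set G))) 5 h5
    have hy5 : orderOf (y : G) = 5 := by rw [Subgroup.orderOf_coe]; exact hy
    have hcomm : Commute d (y : G) := (mem_centralizer_iff.mp y.2) d hd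
    exact no_three_five hcard d y hd3 hy5 hcomm

/-- `n_3 = 40`: `C(D)` has a unique subgroup `K` of order `4` (Burnside transfer in `C(D)`). -/
theorem forty_exists_K (hcard : Nat.card G = 720) (h40 : Nat.card (Sylow 3 G) = 40)
    (P R : Sylow 3 G) (hPR : P ≠ R) (D : Subgroup G) (hDP : D ≤ (P : Subgroup G))
    (hDR : D ≤ (R : Subgroup G)) (hD3 : Nat.card ↥D = 3) :
    ∃ K : Subgroup G, K ≤ centralizer (D : Set G) ∧ Nat.card ↥K = 4 ∧
      ∀ X : Subgroup G, X ≤ centralizer (D : Set G) → Nat.card ↥X = 4 → X = K := by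
  have hP := (three_data hcard).2 P
  have hC36 := forty_card_centralizer hcard h40 P R hPR D hDP hDR hD3
  have hPC := le_centralizer_of_le hcard P D hDP
  have hQ' : IsPGroup 3 ↥((P : Subgroup G).subgroupOf (centralizer (D : Set G))) :=
    P.2.of_equiv (subgroupOfEquivOfLe hPC).symm
  have hPsub : Nat.card ↥((P : Subgroup G).subgroupOf (centralizer (D : Set G))) = 9 := by
    rw [card_subgroupOf_eq, inf_eq_left.mpr hPC, hP]
  have hidxmul := Subgroup.index_mul_card ((P : Subgroup G).subgroupOf (centralizer (D : Set G)))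
  rw [hPsub, hC36] at hidxmul
  have hidx : ¬ 3 ∣ ((P : Subgroup G).subgroupOf (centralizer (D : Set G))).index := by
    omega
  set PC : Sylow 3 ↥(centralizer (D : Set G)) := hQ'.toSylow hidx with hPCdef
  have hPCcoe : (PC : Subgroup ↥(centralizer (D : Set G))) =
      (P : Subgroup G).subgroupOf (centralizer (D : Set G)) := IsPGroup.toSylow_coe hQ' hidx
  have hNC : normalizer ((PC : Subgroup ↥(centralizer (D : Set G))) : Set ↥(centralizer (D : Set G)))
      ≤ centralizer ((PC : Subgroup ↥(centralizer (D : Set G))) : Set ↥(centralizer (D : Set G))) := by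
    intro c hc
    rw [hPCcoe, ← subgroupOf_normalizer_eq hPC, mem_subgroupOf] at hc
    have hcP : (c : G) ∈ (P : Subgroup G) := by
      rw [← forty_inf hcard h40 P D hDP hD3]
      exact mem_inf.mpr ⟨hc, c.2⟩
    rw [hPCcoe, mem_centralizer_iff]
    intro x hx
    rw [SetLike.mem_coe, mem_subgroupOf] at hx
    apply Subtype.ext
    simp only [Subgroup.coe_mul]
    exact three_comm hcard P _ hx _ hcP
  have hcompl := MonoidHom.ker_transferSylow_isComplement' PC hNC
  set K0 : Subgroup ↥(centralizer (D : Set G)) := (MonoidHom.transferSylow PC hNC).ker with hK0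
  have hK0n : K0.Normal := MonoidHom.normal_ker _
  have hK0card : Nat.card ↥K0 = 4 := by
    have := hcompl.card_mul_card
    rw [hPCcoe, hPsub, hC36] at this
    omega
  have hK0p : IsPGroup 2 ↥K0 := IsPGroup.of_card (n := 2) (by rw [hK0card]; norm_num)
  have hC' : Nat.card ↥(centralizer (D : Set G)) = 9 * 2 ^ 2 := by rw [hC36]; norm_num
  refine ⟨K0.map (centralizer (D : Set G)).subtype, map_subtype_le _, ?_, ?_⟩
  · rw [card_map_of_injective (subtype_injective _), hK0card]
  · intro X hXC hX4
    have hX' : Nat.card ↥(X.subgroupOf (centralizer (D : Set G))) = 4 := by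
      rw [card_subgroupOf_eq, inf_eq_left.mpr hXC, hX4]
    have hXp : IsPGroup 2 ↥(X.subgroupOf (centralizer (D : Set G))) :=
      IsPGroup.of_card (n := 2) (by rw [hX']; norm_num)
    obtain ⟨S, hS⟩ := hXp.exists_le_sylow
    have hS4 : Nat.card ↥(S : Subgroup ↥(centralizer (D : Set G))) = 4 := by
      rw [(sylow_card_of_card_eq_pow 9 2 hC' (by norm_num) S).1]; norm_num
    have hK0S : K0 ≤ (S : Subgroup ↥(centralizer (D : Set G))) := normal_pgroup_le_sylow S K0 hK0p
    have e1 : X.subgroupOf (centralizer (D : Set G)) = (S : Subgroup ↥(centralizer (D : Set G))) :=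
      Subgroup.eq_of_le_of_card_ge hS (by rw [hS4, hX'])
    have e2 : K0 = (S : Subgroup ↥(centralizer (D : Set G))) :=
      Subgroup.eq_of_le_of_card_ge hK0S (by rw [hS4, hK0card])
    rw [← map_subgroupOf_eq_of_le hXC, e1, ← e2]

/-- `n_3 = 40`: there is an element of `N(P) ∖ P`. -/
theorem forty_exists_outer (hcard : Nat.card G = 720) (h40 : Nat.card (Sylow 3 G) = 40)
    (P : Sylow 3 G) : ∃ n ∈ normalizer ((P : Subgroup G) : Set G), n ∉ (P : Subgroup G) := by
  by_contra hcon
  push Not at hcon
  have hle : normalizer ((P : Subgroup G) : Set G) ≤ (P : Subgroup G) := fun n hn => hcon n hn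
  have h1 := Subgroup.card_le_of_le hle
  rw [forty_normalizer hcard h40 P, (three_data hcard).2 P] at h1
  omega

/-- `n_3 = 40`: elements of `N(P) ∖ P` normalize but do not centralize `D`. -/
theorem forty_outer_mem (hcard : Nat.card G = 720) (h40 : Nat.card (Sylow 3 G) = 40)
    (P : Sylow 3 G) (D : Subgroup G) (hDP : D ≤ (P : Subgroup G)) (hD3 : Nat.card ↥D = 3)
    (n : G) (hn : n ∈ normalizer ((P : Subgroup G) : Set G)) (hnP : n ∉ (P : Subgroup G)) :
    n ∈ normalizer (D : Set G) ∧ n ∉ centralizer (D : Set G) := by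
  constructor
  · apply mem_normalizer_of_conj_mem
    intro x hx
    rw [forty_inverts hcard h40 P n hn hnP x (hDP hx)]
    exact inv_mem hx
  · intro hc
    apply hnP
    rw [← forty_inf hcard h40 P D hDP hD3]
    exact mem_inf.mpr ⟨hn, hc⟩

/-- `n_3 = 40`: `|N(D)| = 72`. -/
theorem forty_card_normalizer (hcard : Nat.card G = 720) (h40 : Nat.card (Sylow 3 G) = 40)
    (P R : Sylow 3 G) (hPR : P ≠ R) (D : Subgroup G) (hDP : D ≤ (P : Subgroup G))
    (hDR : D ≤ (R : Subgroup G)) (hD3 : Nat.card ↥D = 3) :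
    Nat.card ↥(normalizer (D : Set G)) = 72 := by
  have hC36 := forty_card_centralizer hcard h40 P R hPR D hDP hDR hD3
  have hCH : centralizer (D : Set G) ≤ normalizer (D : Set G) := centralizer_le_normalizer _
  have hrel := relIndex_mul_card hCH
  rw [hC36] at hrel
  have haut : (centralizer (D : Set G)).relIndex (normalizer (D : Set G)) ∣ 2 := by
    have h1 := relIndex_centralizer_normalizer_dvd_card_mulAut D
    have h2 := card_mulAut_dvd_factorial ↥D
    rw [hD3] at h2
    exact h1.trans (by simpa [Nat.factorial] using h2)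
  obtain ⟨n, hn, hnP⟩ := forty_exists_outer hcard h40 P
  obtain ⟨hnN, hnC⟩ := forty_outer_mem hcard h40 P D hDP hD3 n hn hnP
  have hne : (centralizer (D : Set G)).relIndex (normalizer (D : Set G)) ≠ 1 := by
    intro he
    exact hnC (relIndex_eq_one.mp he hnN)
  rcases (Nat.dvd_prime (by norm_num : Nat.Prime 2)).mp haut with h | h
  · exact absurd h hne
  · rw [h] at hrel; omega

/-- `n_3 = 40`: two distinct Sylow `3`-subgroups meeting in a subgroup of order `3`. -/
theorem forty_exists_pair (hcard : Nat.card G = 720) (h40 : Nat.card (Sylow 3 G) = 40) :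
    ∃ P R : Sylow 3 G, P ≠ R ∧ Nat.card ↥((P : Subgroup G) ⊓ (R : Subgroup G)) = 3 := by
  have hmod : ¬ Nat.card (Sylow 3 G) ≡ 1 [MOD 3 ^ 2] := by
    rw [h40]; decide
  obtain ⟨P, R, hPR, h⟩ := exists_sylow_inter_index_p 3 hmod
  refine ⟨P, R, hPR, ?_⟩
  rw [(three_data hcard).2 P] at h
  omega

end Cfsg.Agent.Helper27.O720
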