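import Mathlib
import Cfsg.Agent.Helper27.O720B

set_option autoImplicit false
set_option linter.unusedSectionVars false

/-!
Simple groups of order `720` (towards non-existence): `n_3 = 40` is impossible.
Part 2: the subgroup `K` of order `4` of `C(D)`, centralizers of its elements, and the
contradiction.
-/

namespace Cfsg.Agent.Helper27.O720

open Subgroup Cfsg.Agent.Helper11 Cfsg.Agent.Helper27.Ord Cfsg.Agent.Helper27.RelSylow
  Cfsg.Agent.Helper27.ConjTools

variable {G : Type*} [Group G] [Finite G] [IsSimpleGroup G]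

/-- a subgroup of `C(D)` which is the unique one of its order is normalized by `N(D)` -/
theorem conj_mem_of_unique (D K : Subgroup G) (hKC : K ≤ centralizer (D : Set G))
    (huniq : ∀ X : Subgroup G, X ≤ centralizer (D : Set G) → Nat.card ↥X = Nat.card ↥K → X = K)
    (h : G) (hh : h ∈ normalizer (D : Set G)) (k : G) (hk : k ∈ K) : h * k * h⁻¹ ∈ K := by
  set X : Subgroup G := K.map (MulAut.conj h).toMonoidHom with hX
  have hXcard : Nat.card ↥X = Nat.card ↥K :=
    card_map_of_injective (MulAut.conj h).injective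
  have hXC : X ≤ centralizer (D : Set G) := by
    rintro x ⟨k', hk', rfl⟩
    rw [mem_centralizer_iff]
    intro d hd
    have hd' : h⁻¹ * d * h ∈ D := (mem_normalizer_iff''.mp hh d).mp hd
    have hc : (h⁻¹ * d * h) * k' = k' * (h⁻¹ * d * h) :=
      (mem_centralizer_iff.mp (hKC hk')) _ hd'
    change d * (h * k' * h⁻¹) = (h * k' * h⁻¹) * d
    calc d * (h * k' * h⁻¹) = h * ((h⁻¹ * d * h) * k') * h⁻¹ := by group
      _ = h * (k' * (h⁻¹ * d * h)) * h⁻¹ := by rw [hc]
      _ = (h * k' * h⁻¹) * d := by group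
  have hXK := huniq X hXC hXcard
  rw [← hXK]
  exact ⟨k, hk, rfl⟩

/-- Data for the case `n_3 = 40`. -/
structure FortyData (G : Type*) [Group G] where
  P : Sylow 3 G
  R : Sylow 3 G
  hPR : P ≠ R
  D : Subgroup G
  hDP : D ≤ (P : Subgroup G)
  hDR : D ≤ (R : Subgroup G)
  hD3 : Nat.card ↥D = 3
  K : Subgroup G
  hKC : K ≤ centralizer (D : Set G)
  hK4 : Nat.card ↥K = 4
  huniq : ∀ X : Subgroup G, X ≤ centralizer (D : Set G) → Nat.card ↥X = 4 → X = K

theorem exists_fortyData (hcard : Nat.card G = 720) (h40 : Nat.card (Sylow 3 G) = 40) :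
    Nonempty (FortyData G) := by
  obtain ⟨P, R, hPR, hD3⟩ := forty_exists_pair hcard h40
  obtain ⟨K, hKC, hK4, huniq⟩ :=
    forty_exists_K hcard h40 P R hPR _ inf_le_left inf_le_right hD3
  exact ⟨⟨P, R, hPR, _, inf_le_left, inf_le_right, hD3, K, hKC, hK4, huniq⟩⟩

namespace FortyData

variable (F : FortyData G)

theorem card_normalizer (hcard : Nat.card G = 720) (h40 : Nat.card (Sylow 3 G) = 40) :
    Nat.card ↥(normalizer (F.D : Set G)) = 72 :=
  forty_card_normalizer hcard h40 F.P F.R F.hPR F.D F.hDP F.hDR F.hD3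

theorem K_le_normalizer : F.K ≤ normalizer (F.D : Set G) :=
  F.hKC.trans (centralizer_le_normalizer _)

theorem conj_mem (h : G) (hh : h ∈ normalizer (F.D : Set G)) (k : G) (hk : k ∈ F.K) :
    h * k * h⁻¹ ∈ F.K :=
  conj_mem_of_unique F.D F.K F.hKC (fun X hX hc => F.huniq X hX (by rw [hc, F.hK4])) h hh k hk

/-- `|C_H(t)| ≥ 24` for `1 ≠ t ∈ K`, `H = N(D)`. -/
theorem card_inf_centralizer_ge (hcard : Nat.card G = 720) (h40 : Nat.card (Sylow 3 G) = 40)
    (t : G) (ht : t ∈ F.K) (ht1 : t ≠ 1) :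
    24 ≤ Nat.card ↥(normalizer (F.D : Set G) ⊓ centralizer {t}) := by
  have hKn : (F.K : Set G).ncard = 4 := by
    rw [← Nat.card_coe_set_eq]; exact F.hK4
  have hT : ((F.K : Set G) \ {1}).ncard ≤ 3 := by
    rw [Set.ncard_sdiff_singleton_of_mem (one_mem F.K), hKn]
  have hconj : ∀ h ∈ normalizer (F.D : Set G), h * t * h⁻¹ ∈ (F.K : Set G) \ {1} := by
    intro h hh
    refine ⟨F.conj_mem h hh t ht, ?_⟩
    rw [Set.mem_singleton_iff]
    intro h1
    apply ht1
    have : t = h⁻¹ * (h * t * h⁻¹) * h := by group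
    rw [this, h1]; group
  have := card_le_mul_card_inf_centralizer (normalizer (F.D : Set G)) t _ 3 hT hconj
  rw [F.card_normalizer hcard h40] at this
  omega

/-- `D` contains every `3`-subgroup of `C(t)` for `1 ≠ t ∈ K`. -/
theorem three_sub_centralizer (hcard : Nat.card G = 720) (h40 : Nat.card (Sylow 3 G) = 40)
    (t : G) (ht : t ∈ F.K) (ht1 : t ≠ 1) (X : Subgroup G) (hXA : X ≤ centralizer {t})
    (hX : IsPGroup 3 ↥X) : X ≤ F.D := by
  have hG := noncomm hcard
  have hAtop := centralizer_singleton_ne_top hG t ht1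
  have hA90 := card_le_of_ne_top hcard _ hAtop
  have hDA : F.D ≤ centralizer {t} := by
    intro d hd
    rw [mem_centralizer_iff]
    intro y hy
    rw [Set.mem_singleton_iff] at hy
    subst hy
    exact ((mem_centralizer_iff.mp (F.hKC ht)) d hd).symm
  -- `9 ∤ |C(t)|`
  have h9 : ¬ 9 ∣ Nat.card ↥(centralizer ({t} : Set G)) := by
    intro h9
    obtain ⟨X0, hX0⟩ := Sylow.exists_subgroup_card_pow_prime 3 (n := 2)
      (G := ↥(centralizer ({t} : Set G))) (by simpa using h9)
    set Y : Subgroup G := X0.map (centralizer ({t} : Set G)).subtype with hY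
    have hYcard : Nat.card ↥Y = 3 ^ 2 := by
      rw [hY, card_map_of_injective (subtype_injective _), hX0]
    have hYA : Y ≤ centralizer {t} := map_subtype_le _
    have hYp : IsPGroup 3 ↥Y := IsPGroup.of_card hYcard
    have hYidx : ¬ 3 ∣ Y.index := by
      have := Y.index_mul_card
      rw [hYcard, hcard] at this
      omega
    set P'' : Sylow 3 G := hYp.toSylow hYidx with hP''
    have hP''coe : (P'' : Subgroup G) = Y := IsPGroup.toSylow_coe hYp hYidx
    have htC : t ∈ centralizer ((P'' : Subgroup G) : Set G) := by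
      rw [mem_centralizer_iff]
      intro y hy
      rw [hP''coe] at hy
      exact ((mem_centralizer_iff.mp (hYA hy)) t rfl).symm
    rw [forty_centralizer hcard h40 P'', hP''coe] at htC
    have ho1 : orderOf t ∣ 9 := by
      have := orderOf_dvd_natCard (⟨t, htC⟩ : ↥Y)
      rw [hYcard, Subgroup.orderOf_mk] at this
      simpa using this
    have ho2 : orderOf t ∣ 4 := by
      have := orderOf_dvd_natCard (⟨t, ht⟩ : ↥F.K)
      rw [F.hK4, Subgroup.orderOf_mk] at this
      exact this
    have ho : orderOf t ∣ Nat.gcd 9 4 := Nat.dvd_gcd ho1 ho2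
    have : orderOf t = 1 := by simpa using ho
    exact ht1 (orderOf_eq_one_iff.mp this)
  have hDsub : Nat.card ↥(F.D.subgroupOf (centralizer ({t} : Set G))) = 3 := by
    rw [card_subgroupOf_eq, inf_eq_left.mpr hDA, F.hD3]
  have hidxmul := Subgroup.index_mul_card (F.D.subgroupOf (centralizer ({t} : Set G)))
  rw [hDsub] at hidxmul
  have hidx : ¬ 3 ∣ (F.D.subgroupOf (centralizer ({t} : Set G))).index := by
    intro h3
    apply h9
    obtain ⟨k, hk⟩ := h3
    rw [hk] at hidxmul
    exact ⟨k, by rw [← hidxmul]; ring⟩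
  have hDp : IsPGroup 3 ↥F.D := IsPGroup.of_card (n := 1) (by rw [F.hD3]; norm_num)
  obtain ⟨hmul, hmod, hone⟩ := rel_sylow (p := 3) (centralizer ({t} : Set G)) F.D hDA hDp hidx
  have h24 := F.card_inf_centralizer_ge hcard h40 t ht ht1
  have hmod' : Nat.card (Sylow 3 ↥(centralizer ({t} : Set G))) % 3 = 1 := hmod
  have h1 : Nat.card (Sylow 3 ↥(centralizer ({t} : Set G))) = 1 := by
    generalize Nat.card (Sylow 3 ↥(centralizer ({t} : Set G))) = n at hmul hmod'
    have : n * 24 ≤ 90 := by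
      calc n * 24 ≤ n * Nat.card ↥(normalizer (F.D : Set G) ⊓ centralizer {t}) :=
            Nat.mul_le_mul_left _ h24
        _ = Nat.card ↥(centralizer ({t} : Set G)) := hmul
        _ ≤ 90 := hA90
    omega
  exact hone h1 X hXA hX

/-- `K` fixes a second coset of `H = N(D)`. -/
theorem exists_fixed_coset (hcard : Nat.card G = 720) (h40 : Nat.card (Sylow 3 G) = 40) :
    ∃ g : G, g ∉ normalizer (F.D : Set G) ∧
      ∀ k ∈ F.K, g⁻¹ * k * g ∈ normalizer (F.D : Set G) := by
  have hKp : IsPGroup 2 ↥F.K := IsPGroup.of_card (n := 2) (by rw [F.hK4]; norm_num)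
  have hidx : (normalizer (F.D : Set G)).index = 10 := by
    have := (normalizer (F.D : Set G)).index_mul_card
    rw [F.card_normalizer hcard h40, hcard] at this
    omega
  have hmod := hKp.card_modEq_card_fixedPoints (G ⧸ normalizer (F.D : Set G))
  have hcardq : Nat.card (G ⧸ normalizer (F.D : Set G)) = 10 := hidx
  rw [hcardq] at hmod
  have hsmul : ∀ (k : ↥F.K) (g : G), k • (g : G ⧸ normalizer (F.D : Set G)) =
      (((k : G) * g : G) : G ⧸ normalizer (F.D : Set G)) := fun _ _ => rfl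
  have hone : ((1 : G) : G ⧸ normalizer (F.D : Set G)) ∈
      MulAction.fixedPoints ↥F.K (G ⧸ normalizer (F.D : Set G)) := by
    intro k
    rw [hsmul, QuotientGroup.eq]
    simp only [mul_one]
    exact inv_mem (F.K_le_normalizer k.2)
  have hex : ∃ q ∈ MulAction.fixedPoints ↥F.K (G ⧸ normalizer (F.D : Set G)),
      q ≠ ((1 : G) : G ⧸ normalizer (F.D : Set G)) := by
    by_contra hcon
    push Not at hcon
    have hsub : Subsingleton ↥(MulAction.fixedPoints ↥F.K (G ⧸ normalizer (F.D : Set G))) :=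
      ⟨fun a b => Subtype.ext ((hcon a a.2).trans (hcon b b.2).symm)⟩
    have hne : Nonempty ↥(MulAction.fixedPoints ↥F.K (G ⧸ normalizer (F.D : Set G))) :=
      ⟨⟨_, hone⟩⟩
    have h1 : Nat.card ↥(MulAction.fixedPoints ↥F.K (G ⧸ normalizer (F.D : Set G))) = 1 :=
      Nat.card_eq_one_iff_unique.mpr ⟨hsub, hne⟩
    rw [h1] at hmod
    exact absurd hmod (by decide)
  obtain ⟨q, hq, hq1⟩ := hex
  obtain ⟨g, rfl⟩ := QuotientGroup.mk_surjective q
  refine ⟨g, ?_, ?_⟩
  · intro hg
    apply hq1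
    rw [QuotientGroup.eq]
    simpa using inv_mem hg
  · intro k hk
    have := hq ⟨k⁻¹, inv_mem hk⟩
    rw [hsmul, QuotientGroup.eq] at this
    simpa [mul_assoc] using this

end FortyData

/-- `n_3 = 40` is impossible. -/
theorem FortyData.false (F : FortyData G) (hcard : Nat.card G = 720)
    (h40 : Nat.card (Sylow 3 G) = 40) : False := by
  obtain ⟨g, hgH, hgK⟩ := F.exists_fixed_coset hcard h40
  obtain ⟨d, hd, hd1, hd3⟩ := exists_order_three F.D F.hD3
  set d' : G := g * d * g⁻¹ with hd'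
  -- `D = ⟨d⟩`
  have hzD : zpowers d = F.D := by
    refine Subgroup.eq_of_le_of_card_ge ((zpowers_le).mpr hd) ?_
    rw [Nat.card_zpowers, hd3, F.hD3]
  -- the `K`-conjugates of `d'` lie in `g D g⁻¹`
  have hDn : (F.D : Set G).ncard = 3 := by
    rw [← Nat.card_coe_set_eq]; exact F.hD3
  have hT : ((fun x => g * x * g⁻¹) '' (F.D : Set G)).ncard ≤ 3 := by
    rw [← hDn]; exact Set.ncard_image_le (Set.toFinite _)
  have hconj : ∀ k ∈ F.K, k * d' * k⁻¹ ∈ (fun x => g * x * g⁻¹) '' (F.D : Set G) := by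
    intro k hk
    refine ⟨(g⁻¹ * k * g) * d * (g⁻¹ * k * g)⁻¹, ?_, ?_⟩
    · exact (mem_normalizer_iff.mp (hgK k hk) d).mp hd
    · simp only [hd']; group
  have h4 := card_le_mul_card_inf_centralizer F.K d' _ 3 hT hconj
  rw [F.hK4] at h4
  have hne : F.K ⊓ centralizer {d'} ≠ ⊥ := by
    intro h
    rw [h, Subgroup.card_bot] at h4
    omega
  obtain ⟨k, hk1⟩ := Subgroup.ne_bot_iff_exists_ne_one.mp hne
  obtain ⟨hkK, hkC⟩ := mem_inf.mp k.2
  have hk1' : (k : G) ≠ 1 := fun h => hk1 (Subtype.ext h)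
  -- `⟨d'⟩` is a `3`-subgroup of `C(k)`
  have hcomm : d' * (k : G) = (k : G) * d' := (mem_centralizer_iff.mp hkC) d' rfl
  have hXA : zpowers d' ≤ centralizer {(k : G)} := by
    rw [zpowers_le, mem_centralizer_iff]
    intro y hy
    rw [Set.mem_singleton_iff] at hy
    subst hy
    exact hcomm.symm
  have hod' : orderOf d' = 3 := by
    have := (MulAut.conj g).orderOf_eq d
    rw [MulAut.conj_apply] at this
    rw [hd', this, hd3]
  have hXp : IsPGroup 3 ↥(zpowers d') :=
    IsPGroup.of_card (n := 1) (by rw [Nat.card_zpowers, hod']; norm_num)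
  have hd'D : d' ∈ F.D :=
    F.three_sub_centralizer hcard h40 (k : G) hkK hk1' (zpowers d') hXA hXp
      (mem_zpowers d')
  -- hence `g ∈ N(D)`
  apply hgH
  apply mem_normalizer_of_conj_mem
  intro x hx
  rw [← hzD, mem_zpowers_iff] at hx
  obtain ⟨i, rfl⟩ := hx
  rw [← conj_zpow]
  exact zpow_mem hd'D i

/-- In a simple group of order `720`, `n_3 ≠ 40`. -/
theorem not_forty (hcard : Nat.card G = 720) : Nat.card (Sylow 3 G) ≠ 40 := by
  intro h40
  obtain ⟨F⟩ := exists_fortyData hcard h40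
  exact F.false hcard h40

/-- In a simple group of order `720`, `n_3 = 10`. -/
theorem card_sylow3_720 (hcard : Nat.card G = 720) : Nat.card (Sylow 3 G) = 10 := by
  rcases (three_data hcard).1 with h | h | h
  · exact h
  · exact absurd h (not_sixteen hcard)
  · exact absurd h (not_forty hcard)

end Cfsg.Agent.Helper27.O720
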