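import Mathlib
import Cfsg.Agent.Helper27.O720C
import Cfsg.Agent.Helper18.NoSimple720b

set_option autoImplicit false

/-!
There is no simple group of order `720`: `n_3 = 10` (`O720A`–`O720C`), and the case `n_3 = 10`
is excluded in `Cfsg.Agent.Helper18.NoSimple720b`.
-/

namespace Cfsg.Agent.Helper27.O720

variable {G : Type*} [Group G] [Finite G] [IsSimpleGroup G]

/-- There is no simple group of order `720`. -/
theorem no_720 (hcard : Nat.card G = 720) : False :=
  Cfsg.Agent.Helper18.NoSimple720b.no_simple_720_of_ten hcard (card_sylow3_720 hcard)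

end Cfsg.Agent.Helper27.O720
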