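import Mathlib
import Cfsg.Agent.Helper15.BrP2
import Cfsg.Agent.Helper11.O504A
import Cfsg.Agent.Helper27.OrdTools

set_option autoImplicit false
set_option linter.unusedSectionVars false

/-!
Brauer's degree equation for the principal `p`-block (Sylow `p`-subgroup of order `p`),
in arithmetic form, for `e = 2` and `e = 3`; applications: no simple groups of order
`612`, `756`, `1040`.
-/

namespace Cfsg.Agent.Helper27.Ord

open Cfsg Cfsg.Agent.Helper24 Cfsg.Agent.Helper5 Subgroup Cfsg.Agent.Helper15.BrP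
open Cfsg.Agent.Helper11

variable {G : Type*} [Group G] [Finite G] [IsSimpleGroup G]

theorem perfect_of_noncomm (hG : ¬ IsMulCommutative G) : commutator G = ⊤ :=
  Cfsg.Agent.Helper11.O504.commutator_eq_top hG

/-- Sylow data for a prime dividing `|G|` exactly once: `n_p * (e * c) = |G|`. -/
theorem sylow_prime_data (hG : ¬ IsMulCommutative G) (p m : ℕ) [Fact p.Prime]
    (hcard : Nat.card G = m * p) (hm : ¬ p ∣ m) (P : Sylow p G) :
    Nat.card ↥(P : Subgroup G) = p ∧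
    (centralizer ((P : Subgroup G) : Set G)).relIndex (normalizer ((P : Subgroup G) : Set G)) ≠ 1 ∧
    (centralizer ((P : Subgroup G) : Set G)).relIndex (normalizer ((P : Subgroup G) : Set G)) ∣ p - 1 ∧
    p ∣ Nat.card ↥(centralizer ((P : Subgroup G) : Set G)) ∧
    Nat.card (Sylow p G) *
      ((centralizer ((P : Subgroup G) : Set G)).relIndex (normalizer ((P : Subgroup G) : Set G)) *
        Nat.card ↥(centralizer ((P : Subgroup G) : Set G))) = m * p := by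
  have hP : Nat.card ↥(P : Subgroup G) = p := (sylow_card_of_card_eq m hcard hm P).1
  obtain ⟨h1, h2, h3, h4⟩ := simple_automizer_data hG p P hP
  refine ⟨hP, h1, h2, h4, ?_⟩
  rw [h3, ← hcard]
  exact card_sylow_mul_card_normalizer P

/-- Brauer, `e = 2`: arithmetic shape of the principal block. -/
theorem brauer_e2 (hG : ¬ IsMulCommutative G) (p : ℕ) [Fact p.Prime] (hp2 : p ≠ 2)
    (P : Sylow p G) (hP : Nat.card ↥(P : Subgroup G) = p)
    (he : (centralizer ((P : Subgroup G) : Set G)).relIndex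
      (normalizer ((P : Subgroup G) : Set G)) = 2) (ht : 2 ≤ (p - 1) / 2) :
    ∃ c d : ℕ, ∃ s eps : ℤ, (s = 1 ∨ s = -1) ∧ (eps = 1 ∨ eps = -1) ∧ c ∣ Nat.card G ∧
      d ∣ Nat.card G ∧ c ≠ 1 ∧ (c : ℤ) ≡ s [ZMOD p] ∧ (d : ℤ) ≡ eps * 2 [ZMOD p] ∧
      eps * (d : ℤ) = 1 + s * (c : ℤ) := by
  classical
  have hperf := perfect_of_noncomm hG
  obtain ⟨D⟩ := exists_bdata hperf p hp2 P hP 2 he ht
  have hX' : (D.X.erase (trivIrr G)).card = 1 := by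
    rw [Finset.card_erase_of_mem D.htriv, D.hX]
  obtain ⟨χ, hX1⟩ := Finset.card_eq_one.mp hX'
  have hχ : χ ∈ D.X.erase (trivIrr G) := by rw [hX1]; simp
  rw [Finset.mem_erase] at hχ
  have hYne : D.Y.Nonempty := Finset.card_pos.mp (by rw [D.hY]; omega)
  obtain ⟨θ, hθ⟩ := hYne
  have hd1 : irrDeg (trivIrr G) = 1 := by rw [irrDeg_eq_one_iff]; rfl
  have heq := D.deg_eq θ hθ
  rw [← Finset.add_sum_erase _ _ D.htriv, hX1, Finset.sum_singleton, D.hsgtriv, hd1] at heq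
  refine ⟨irrDeg χ, irrDeg θ, D.sg χ, D.eps, D.hsg χ hχ.2, D.heps, irrDeg_dvd_card χ,
    irrDeg_dvd_card θ, Cfsg.Agent.Helper24.SelfCent.irrDeg_ne_one_of_perfect hperf χ hχ.1,
    D.hdegX χ hχ.2, ?_, ?_⟩
  · have := D.hdegY θ hθ
    simpa using this
  · rw [heq]; push_cast; ring

/-- Brauer, `e = 3`: arithmetic shape of the principal block. -/
theorem brauer_e3 (hG : ¬ IsMulCommutative G) (p : ℕ) [Fact p.Prime] (hp2 : p ≠ 2)
    (P : Sylow p G) (hP : Nat.card ↥(P : Subgroup G) = p)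
    (he : (centralizer ((P : Subgroup G) : Set G)).relIndex
      (normalizer ((P : Subgroup G) : Set G)) = 3) (ht : 2 ≤ (p - 1) / 3) :
    ∃ c₁ c₂ d : ℕ, ∃ s₁ s₂ eps : ℤ, (s₁ = 1 ∨ s₁ = -1) ∧ (s₂ = 1 ∨ s₂ = -1) ∧
      (eps = 1 ∨ eps = -1) ∧ c₁ ∣ Nat.card G ∧ c₂ ∣ Nat.card G ∧
      d ∣ Nat.card G ∧ c₁ ≠ 1 ∧ c₂ ≠ 1 ∧ (c₁ : ℤ) ≡ s₁ [ZMOD p] ∧ (c₂ : ℤ) ≡ s₂ [ZMOD p] ∧
      (d : ℤ) ≡ eps * 3 [ZMOD p] ∧ eps * (d : ℤ) = 1 + s₁ * (c₁ : ℤ) + s₂ * (c₂ : ℤ) := by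
  classical
  have hperf := perfect_of_noncomm hG
  obtain ⟨D⟩ := exists_bdata hperf p hp2 P hP 3 he ht
  have hX' : (D.X.erase (trivIrr G)).card = 2 := by
    rw [Finset.card_erase_of_mem D.htriv, D.hX]
  obtain ⟨χ₁, χ₂, hne, hX2⟩ := Finset.card_eq_two.mp hX'
  have hχ₁ : χ₁ ∈ D.X.erase (trivIrr G) := by rw [hX2]; simp
  have hχ₂ : χ₂ ∈ D.X.erase (trivIrr G) := by rw [hX2]; simp
  rw [Finset.mem_erase] at hχ₁ hχ₂
  have hYne : D.Y.Nonempty := Finset.card_pos.mp (by rw [D.hY]; omega)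
  obtain ⟨θ, hθ⟩ := hYne
  have heq := D.deg_eq θ hθ
  have hd1 : irrDeg (trivIrr G) = 1 := by rw [irrDeg_eq_one_iff]; rfl
  rw [← Finset.add_sum_erase _ _ D.htriv, hX2, Finset.sum_pair hne, D.hsgtriv, hd1] at heq
  refine ⟨irrDeg χ₁, irrDeg χ₂, irrDeg θ, D.sg χ₁, D.sg χ₂, D.eps, D.hsg χ₁ hχ₁.2,
    D.hsg χ₂ hχ₂.2, D.heps, irrDeg_dvd_card χ₁, irrDeg_dvd_card χ₂, irrDeg_dvd_card θ,
    Cfsg.Agent.Helper24.SelfCent.irrDeg_ne_one_of_perfect hperf χ₁ hχ₁.1,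
    Cfsg.Agent.Helper24.SelfCent.irrDeg_ne_one_of_perfect hperf χ₂ hχ₂.1,
    D.hdegX χ₁ hχ₁.2, D.hdegX χ₂ hχ₂.2, ?_, ?_⟩
  · have := D.hdegY θ hθ
    simpa using this
  · rw [heq]; push_cast; ring

end Cfsg.Agent.Helper27.Ord
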