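import Mathlib
import Cfsg.Agent.Helper27.OrdBrauer

set_option autoImplicit false
set_option linter.unusedSectionVars false

/-!
No simple groups of order `612`, `756`, `1040` (Brauer's principal block degree equation).
-/

namespace Cfsg.Agent.Helper27.Ord

open Cfsg Subgroup Cfsg.Agent.Helper11

variable {G : Type*} [Group G] [Finite G] [IsSimpleGroup G]

theorem arith_612 : ∀ c ∈ Nat.divisors 612, ∀ d ∈ Nat.divisors 612,
    ∀ s ∈ ({1, -1} : Finset ℤ), ∀ eps ∈ ({1, -1} : Finset ℤ), c ≠ 1 →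
    (c : ℤ) ≡ s [ZMOD (17 : ℕ)] → (d : ℤ) ≡ eps * 2 [ZMOD (17 : ℕ)] →
    eps * (d : ℤ) = 1 + s * (c : ℤ) → False := by
  decide +kernel

theorem no_612 (hG : ¬ IsMulCommutative G) (h : Nat.card G = 612) : False := by
  have : Fact (Nat.Prime 17) := ⟨by norm_num⟩
  obtain ⟨P⟩ : Nonempty (Sylow 17 G) := inferInstance
  have hcard : Nat.card G = 36 * 17 := by rw [h]
  obtain ⟨hP, he1, hed, hpc, hprod⟩ := sylow_prime_data hG 17 36 hcard (by norm_num) P
  have hmem := card_sylow_mem_filter (G := G) (p := 17) 36 1 (by rw [h]; norm_num) (by norm_num)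
  have hf : (Nat.divisors 36).filter (fun d => d % 17 = 1) = {1, 18} := by decide +kernel
  rw [hf] at hmem
  simp only [Finset.mem_insert, Finset.mem_singleton] at hmem
  have hn1 := simple_card_sylow_ne_one hG 17 (by rw [h]; norm_num)
  have hn : Nat.card (Sylow 17 G) = 18 := by
    rcases hmem with h1 | h1
    · exact absurd h1 hn1
    · exact h1
  rw [hn] at hprod
  have he : (centralizer ((P : Subgroup G) : Set G)).relIndex
      (normalizer ((P : Subgroup G) : Set G)) = 2 := by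
    generalize (centralizer ((P : Subgroup G) : Set G)).relIndex
      (normalizer ((P : Subgroup G) : Set G)) = e at he1 hed hprod
    obtain ⟨c, hc⟩ := hpc
    rw [hc] at hprod
    have hle : e ≤ 16 := Nat.le_of_dvd (by norm_num) hed
    have : e * c = 2 := by nlinarith
    interval_cases e <;> omega
  obtain ⟨c, d, s, eps, hs, heps, hc, hd, hc1, hcs, hds, heq⟩ :=
    brauer_e2 hG 17 (by norm_num) P hP he (by norm_num)
  rw [h] at hc hd
  exact arith_612 c (Nat.mem_divisors.mpr ⟨hc, by norm_num⟩) d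
    (Nat.mem_divisors.mpr ⟨hd, by norm_num⟩) s (by rcases hs with rfl | rfl <;> simp)
    eps (by rcases heps with rfl | rfl <;> simp) hc1 hcs hds heq

theorem arith_1040 : ∀ c ∈ Nat.divisors 1040, ∀ d ∈ Nat.divisors 1040,
    ∀ s ∈ ({1, -1} : Finset ℤ), ∀ eps ∈ ({1, -1} : Finset ℤ), c ≠ 1 →
    (c : ℤ) ≡ s [ZMOD (13 : ℕ)] → (d : ℤ) ≡ eps * 2 [ZMOD (13 : ℕ)] →
    eps * (d : ℤ) = 1 + s * (c : ℤ) → False := by
  decide +kernel

theorem no_1040 (hG : ¬ IsMulCommutative G) (h : Nat.card G = 1040) : False := by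
  have : Fact (Nat.Prime 13) := ⟨by norm_num⟩
  obtain ⟨P⟩ : Nonempty (Sylow 13 G) := inferInstance
  have hcard : Nat.card G = 80 * 13 := by rw [h]
  obtain ⟨hP, he1, hed, hpc, hprod⟩ := sylow_prime_data hG 13 80 hcard (by norm_num) P
  have hmem := card_sylow_mem_filter (G := G) (p := 13) 80 1 (by rw [h]; norm_num) (by norm_num)
  have hf : (Nat.divisors 80).filter (fun d => d % 13 = 1) = {1, 40} := by decide +kernel
  rw [hf] at hmem
  simp only [Finset.mem_insert, Finset.mem_singleton] at hmem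
  have hn1 := simple_card_sylow_ne_one hG 13 (by rw [h]; norm_num)
  have hn : Nat.card (Sylow 13 G) = 40 := by
    rcases hmem with h1 | h1
    · exact absurd h1 hn1
    · exact h1
  rw [hn] at hprod
  have he : (centralizer ((P : Subgroup G) : Set G)).relIndex
      (normalizer ((P : Subgroup G) : Set G)) = 2 := by
    generalize (centralizer ((P : Subgroup G) : Set G)).relIndex
      (normalizer ((P : Subgroup G) : Set G)) = e at he1 hed hprod
    obtain ⟨c, hc⟩ := hpc
    rw [hc] at hprod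
    have hle : e ≤ 12 := Nat.le_of_dvd (by norm_num) hed
    have : e * c = 2 := by nlinarith
    interval_cases e <;> omega
  obtain ⟨c, d, s, eps, hs, heps, hc, hd, hc1, hcs, hds, heq⟩ :=
    brauer_e2 hG 13 (by norm_num) P hP he (by norm_num)
  rw [h] at hc hd
  exact arith_1040 c (Nat.mem_divisors.mpr ⟨hc, by norm_num⟩) d
    (Nat.mem_divisors.mpr ⟨hd, by norm_num⟩) s (by rcases hs with rfl | rfl <;> simp)
    eps (by rcases heps with rfl | rfl <;> simp) hc1 hcs hds heq

theorem arith_756 : ∀ c₁ ∈ Nat.divisors 756, ∀ c₂ ∈ Nat.divisors 756, ∀ d ∈ Nat.divisors 756,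
    ∀ s₁ ∈ ({1, -1} : Finset ℤ), ∀ s₂ ∈ ({1, -1} : Finset ℤ), ∀ eps ∈ ({1, -1} : Finset ℤ),
    c₁ ≠ 1 → c₂ ≠ 1 → (c₁ : ℤ) ≡ s₁ [ZMOD (7 : ℕ)] → (c₂ : ℤ) ≡ s₂ [ZMOD (7 : ℕ)] →
    (d : ℤ) ≡ eps * 3 [ZMOD (7 : ℕ)] →
    eps * (d : ℤ) = 1 + s₁ * (c₁ : ℤ) + s₂ * (c₂ : ℤ) → False := by
  decide +kernel

theorem no_756 (hG : ¬ IsMulCommutative G) (h : Nat.card G = 756) : False := by
  have : Fact (Nat.Prime 7) := ⟨by norm_num⟩
  obtain ⟨P⟩ : Nonempty (Sylow 7 G) := inferInstance
  have hcard : Nat.card G = 108 * 7 := by rw [h]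
  obtain ⟨hP, he1, hed, hpc, hprod⟩ := sylow_prime_data hG 7 108 hcard (by norm_num) P
  have hmem := card_sylow_mem_filter (G := G) (p := 7) 108 1 (by rw [h]; norm_num) (by norm_num)
  have hf : (Nat.divisors 108).filter (fun d => d % 7 = 1) = {1, 36} := by decide +kernel
  rw [hf] at hmem
  simp only [Finset.mem_insert, Finset.mem_singleton] at hmem
  have hn1 := simple_card_sylow_ne_one hG 7 (by rw [h]; norm_num)
  have hn : Nat.card (Sylow 7 G) = 36 := by
    rcases hmem with h1 | h1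
    · exact absurd h1 hn1
    · exact h1
  rw [hn] at hprod
  have he : (centralizer ((P : Subgroup G) : Set G)).relIndex
      (normalizer ((P : Subgroup G) : Set G)) = 3 := by
    generalize (centralizer ((P : Subgroup G) : Set G)).relIndex
      (normalizer ((P : Subgroup G) : Set G)) = e at he1 hed hprod
    obtain ⟨c, hc⟩ := hpc
    rw [hc] at hprod
    have hle : e ≤ 6 := Nat.le_of_dvd (by norm_num) hed
    have : e * c = 3 := by nlinarith
    interval_cases e <;> omega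
  obtain ⟨c₁, c₂, d, s₁, s₂, eps, hs₁, hs₂, heps, hc₁, hc₂, hd, hc₁1, hc₂1, hcs₁, hcs₂, hds, heq⟩ :=
    brauer_e3 hG 7 (by norm_num) P hP he (by norm_num)
  rw [h] at hc₁ hc₂ hd
  exact arith_756 c₁ (Nat.mem_divisors.mpr ⟨hc₁, by norm_num⟩) c₂
    (Nat.mem_divisors.mpr ⟨hc₂, by norm_num⟩) d (Nat.mem_divisors.mpr ⟨hd, by norm_num⟩)
    s₁ (by rcases hs₁ with rfl | rfl <;> simp) s₂ (by rcases hs₂ with rfl | rfl <;> simp)
    eps (by rcases heps with rfl | rfl <;> simp) hc₁1 hc₂1 hcs₁ hcs₂ hds heq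

end Cfsg.Agent.Helper27.Ord
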