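import Mathlib
import Cfsg.Agent.Helper27.OrdBrauer
import Cfsg.Agent.Helper15.O4032b

set_option autoImplicit false
set_option linter.unusedSectionVars false

/-!
No simple groups of order `420`, `840`: for `p = 7`, `e = 2` the principal block forces a
character of degree `6` with sign `-1`, which is impossible when `C(P) ≠ P`
(`Helper15.O4032.kill_minus`).
-/

namespace Cfsg.Agent.Helper27.Ord

open Cfsg Cfsg.Agent.Helper24 Cfsg.Agent.Helper5 Subgroup Cfsg.Agent.Helper15.BrP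
open Cfsg.Agent.Helper11

variable {G : Type*} [Group G] [Finite G] [IsSimpleGroup G]

/-- Brauer, `e = 2`, exposing the block data. -/
theorem brauer_e2_data (hG : ¬ IsMulCommutative G) (p : ℕ) [Fact p.Prime] (hp2 : p ≠ 2)
    (P : Sylow p G) (hP : Nat.card ↥(P : Subgroup G) = p)
    (he : (centralizer ((P : Subgroup G) : Set G)).relIndex
      (normalizer ((P : Subgroup G) : Set G)) = 2) (ht : 2 ≤ (p - 1) / 2) :
    ∃ (D : BData p P 2) (χ θ : IrrCharacter G), χ ∈ D.X ∧ θ ∈ D.Y ∧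
      (D.sg χ = 1 ∨ D.sg χ = -1) ∧ (D.eps = 1 ∨ D.eps = -1) ∧ irrDeg χ ∣ Nat.card G ∧
      irrDeg θ ∣ Nat.card G ∧ irrDeg χ ≠ 1 ∧ (irrDeg χ : ℤ) ≡ D.sg χ [ZMOD p] ∧
      (irrDeg θ : ℤ) ≡ D.eps * 2 [ZMOD p] ∧
      D.eps * (irrDeg θ : ℤ) = 1 + D.sg χ * (irrDeg χ : ℤ) := by
  classical
  have hperf := perfect_of_noncomm hG
  obtain ⟨D⟩ := exists_bdata hperf p hp2 P hP 2 he ht
  have hX' : (D.X.erase (trivIrr G)).card = 1 := by
    rw [Finset.card_erase_of_mem D.htriv, D.hX]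
  obtain ⟨χ, hX1⟩ := Finset.card_eq_one.mp hX'
  have hχ : χ ∈ D.X.erase (trivIrr G) := by rw [hX1]; simp
  rw [Finset.mem_erase] at hχ
  have hYne : D.Y.Nonempty := Finset.card_pos.mp (by rw [D.hY]; omega)
  obtain ⟨θ, hθ⟩ := hYne
  have hd1 : irrDeg (trivIrr G) = 1 := by rw [irrDeg_eq_one_iff]; rfl
  have heq := D.deg_eq θ hθ
  rw [← Finset.add_sum_erase _ _ D.htriv, hX1, Finset.sum_singleton, D.hsgtriv, hd1] at heq
  refine ⟨D, χ, θ, hχ.2, hθ, D.hsg χ hχ.2, D.heps, irrDeg_dvd_card χ,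
    irrDeg_dvd_card θ, Cfsg.Agent.Helper24.SelfCent.irrDeg_ne_one_of_perfect hperf χ hχ.1,
    D.hdegX χ hχ.2, ?_, ?_⟩
  · have := D.hdegY θ hθ
    simpa using this
  · rw [heq]; push_cast; ring

theorem arith_840 : ∀ c ∈ Nat.divisors 840, ∀ d ∈ Nat.divisors 840,
    ∀ s ∈ ({1, -1} : Finset ℤ), ∀ eps ∈ ({1, -1} : Finset ℤ), c ≠ 1 →
    (c : ℤ) ≡ s [ZMOD (7 : ℕ)] → (d : ℤ) ≡ eps * 2 [ZMOD (7 : ℕ)] →
    eps * (d : ℤ) = 1 + s * (c : ℤ) → c = 6 ∧ s = -1 := by
  decide +kernel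

/-- common end of the argument for `420` and `840` -/
theorem kill_seven (hG : ¬ IsMulCommutative G) (n : ℕ) (hn : n ∣ 840) (h : Nat.card G = n)
    (P : Sylow 7 G) (hP : Nat.card ↥(P : Subgroup G) = 7)
    (he : (centralizer ((P : Subgroup G) : Set G)).relIndex
      (normalizer ((P : Subgroup G) : Set G)) = 2)
    (hC : 2 ∣ Nat.card ↥(centralizer ((P : Subgroup G) : Set G))) : False := by
  have : Fact (Nat.Prime 2) := ⟨by norm_num⟩
  obtain ⟨D, χ, θ, hχ, hθ, hs, heps, hc, hd, hc1, hcs, hds, heq⟩ :=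
    brauer_e2_data hG 7 (by norm_num) P hP he (by norm_num)
  rw [h] at hc hd
  obtain ⟨h6, hsg⟩ := arith_840 (irrDeg χ) (Nat.mem_divisors.mpr ⟨hc.trans hn, by norm_num⟩)
    (irrDeg θ) (Nat.mem_divisors.mpr ⟨hd.trans hn, by norm_num⟩) (D.sg χ)
    (by rcases hs with h1 | h1 <;> rw [h1] <;> simp)
    D.eps (by rcases heps with h1 | h1 <;> rw [h1] <;> simp) hc1 hcs hds heq
  obtain ⟨y, hyC, hy⟩ := Cfsg.Agent.Helper15.O4032.exists_centralizer_orderOf P 2 hC
  exact Cfsg.Agent.Helper15.O4032.kill_minus P hP D χ hχ h6 hsg y hyC 2 (by norm_num)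
    (by norm_num) hy

theorem no_420 (hG : ¬ IsMulCommutative G) (h : Nat.card G = 420) : False := by
  have : Fact (Nat.Prime 7) := ⟨by norm_num⟩
  obtain ⟨P⟩ : Nonempty (Sylow 7 G) := inferInstance
  have hcard : Nat.card G = 60 * 7 := by rw [h]
  obtain ⟨hP, he1, hed, hpc, hprod⟩ := sylow_prime_data hG 7 60 hcard (by norm_num) P
  obtain ⟨hmem, hadm⟩ := admPrime_card_sylow hG 7 60 (by norm_num) hcard (by norm_num)
  have hf : ∀ d ∈ (Nat.divisors 60).filter (fun d => d % 7 = 1), AdmPrime 7 60 d → d = 15 := by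
    decide +kernel
  have hn : Nat.card (Sylow 7 G) = 15 := hf _ hmem hadm
  rw [hn] at hprod
  obtain ⟨c, hc⟩ := hpc
  have hec : (centralizer ((P : Subgroup G) : Set G)).relIndex
      (normalizer ((P : Subgroup G) : Set G)) = 2 ∧ c = 2 := by
    generalize (centralizer ((P : Subgroup G) : Set G)).relIndex
      (normalizer ((P : Subgroup G) : Set G)) = e at he1 hed hprod
    rw [hc] at hprod
    have hle : e ≤ 6 := Nat.le_of_dvd (by norm_num) hed
    have h4 : e * c = 4 := by nlinarith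
    interval_cases e <;> omega
  exact kill_seven hG 420 (by norm_num) h P hP hec.1 (by rw [hc, hec.2]; norm_num)

theorem no_840 (hG : ¬ IsMulCommutative G) (h : Nat.card G = 840) : False := by
  have : Fact (Nat.Prime 7) := ⟨by norm_num⟩
  obtain ⟨P⟩ : Nonempty (Sylow 7 G) := inferInstance
  have hcard : Nat.card G = 120 * 7 := by rw [h]
  obtain ⟨hP, he1, hed, hpc, hprod⟩ := sylow_prime_data hG 7 120 hcard (by norm_num) P
  obtain ⟨hmem, hadm⟩ := admPrime_card_sylow hG 7 120 (by norm_num) hcard (by norm_num)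
  have hf : ∀ d ∈ (Nat.divisors 120).filter (fun d => d % 7 = 1), AdmPrime 7 120 d → d = 15 := by
    decide +kernel
  have hn : Nat.card (Sylow 7 G) = 15 := hf _ hmem hadm
  rw [hn] at hprod
  obtain ⟨c, hc⟩ := hpc
  have hec : (centralizer ((P : Subgroup G) : Set G)).relIndex
      (normalizer ((P : Subgroup G) : Set G)) = 2 ∧ c = 4 := by
    generalize (centralizer ((P : Subgroup G) : Set G)).relIndex
      (normalizer ((P : Subgroup G) : Set G)) = e at he1 hed hprod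
    rw [hc] at hprod
    have hle : e ≤ 6 := Nat.le_of_dvd (by norm_num) hed
    have h8 : e * c = 8 := by nlinarith
    have hedvd : e ∣ 8 := ⟨c, h8.symm⟩
    interval_cases e <;> omega
  exact kill_seven hG 840 (by norm_num) h P hP hec.1 (by rw [hc, hec.2]; norm_num)

end Cfsg.Agent.Helper27.Ord
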