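import Mathlib
import Cfsg.Agent.Helper27.OrdTools

set_option autoImplicit false

/-!
Orders `n ≤ 1092` that are easily excluded as orders of non-abelian simple groups
(machine generated from `/tmp/h27/ord/gen.py`).
-/

namespace Cfsg.Agent.Helper27.Ord

variable {G : Type*} [Group G] [Finite G] [IsSimpleGroup G]

theorem no_12 (hG : ¬ IsMulCommutative G) (h : Nat.card G = 12) : False :=
  kill_paqb hG 2 3 2 1 (by norm_num) (by norm_num) (by rw [h]; norm_num)

theorem no_16 (hG : ¬ IsMulCommutative G) (h : Nat.card G = 16) : False :=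
  kill_paqb hG 2 3 4 0 (by norm_num) (by norm_num) (by rw [h]; norm_num)

theorem no_24 (hG : ¬ IsMulCommutative G) (h : Nat.card G = 24) : False :=
  kill_paqb hG 2 3 3 1 (by norm_num) (by norm_num) (by rw [h]; norm_num)

theorem no_27 (hG : ¬ IsMulCommutative G) (h : Nat.card G = 27) : False :=
  kill_paqb hG 3 2 3 0 (by norm_num) (by norm_num) (by rw [h]; norm_num)

theorem no_32 (hG : ¬ IsMulCommutative G) (h : Nat.card G = 32) : False :=
  kill_paqb hG 2 3 5 0 (by norm_num) (by norm_num) (by rw [h]; norm_num)

theorem no_36 (hG : ¬ IsMulCommutative G) (h : Nat.card G = 36) : False :=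
  kill_paqb hG 2 3 2 2 (by norm_num) (by norm_num) (by rw [h]; norm_num)

theorem no_48 (hG : ¬ IsMulCommutative G) (h : Nat.card G = 48) : False :=
  kill_paqb hG 2 3 4 1 (by norm_num) (by norm_num) (by rw [h]; norm_num)

theorem no_56 (hG : ¬ IsMulCommutative G) (h : Nat.card G = 56) : False :=
  kill_paqb hG 2 7 3 1 (by norm_num) (by norm_num) (by rw [h]; norm_num)

theorem no_64 (hG : ¬ IsMulCommutative G) (h : Nat.card G = 64) : False :=
  kill_paqb hG 2 3 6 0 (by norm_num) (by norm_num) (by rw [h]; norm_num)

theorem no_72 (hG : ¬ IsMulCommutative G) (h : Nat.card G = 72) : False :=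
  kill_paqb hG 2 3 3 2 (by norm_num) (by norm_num) (by rw [h]; norm_num)

theorem no_80 (hG : ¬ IsMulCommutative G) (h : Nat.card G = 80) : False :=
  kill_paqb hG 2 5 4 1 (by norm_num) (by norm_num) (by rw [h]; norm_num)

theorem no_81 (hG : ¬ IsMulCommutative G) (h : Nat.card G = 81) : False :=
  kill_paqb hG 3 2 4 0 (by norm_num) (by norm_num) (by rw [h]; norm_num)

theorem no_84 (hG : ¬ IsMulCommutative G) (h : Nat.card G = 84) : False := by
  have : Fact (Nat.Prime 7) := ⟨by norm_num⟩
  exact kill_prime hG 7 12 (by norm_num) (by rw [h]) (by norm_num) (by decide +kernel)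

theorem no_96 (hG : ¬ IsMulCommutative G) (h : Nat.card G = 96) : False :=
  kill_paqb hG 2 3 5 1 (by norm_num) (by norm_num) (by rw [h]; norm_num)

theorem no_108 (hG : ¬ IsMulCommutative G) (h : Nat.card G = 108) : False :=
  kill_paqb hG 2 3 2 3 (by norm_num) (by norm_num) (by rw [h]; norm_num)

theorem no_112 (hG : ¬ IsMulCommutative G) (h : Nat.card G = 112) : False :=
  kill_paqb hG 2 7 4 1 (by norm_num) (by norm_num) (by rw [h]; norm_num)

theorem no_120 (hG : ¬ IsMulCommutative G) (h : Nat.card G = 120) : False := by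
  have : Fact (Nat.Prime 5) := ⟨by norm_num⟩
  exact kill_prime hG 5 24 (by norm_num) (by rw [h]) (by norm_num) (by decide +kernel)

theorem no_125 (hG : ¬ IsMulCommutative G) (h : Nat.card G = 125) : False :=
  kill_paqb hG 5 2 3 0 (by norm_num) (by norm_num) (by rw [h]; norm_num)

theorem no_128 (hG : ¬ IsMulCommutative G) (h : Nat.card G = 128) : False :=
  kill_paqb hG 2 3 7 0 (by norm_num) (by norm_num) (by rw [h]; norm_num)

theorem no_132 (hG : ¬ IsMulCommutative G) (h : Nat.card G = 132) : False := by
  have : Fact (Nat.Prime 11) := ⟨by norm_num⟩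
  exact kill_prime hG 11 12 (by norm_num) (by rw [h]) (by norm_num) (by decide +kernel)

theorem no_135 (hG : ¬ IsMulCommutative G) (h : Nat.card G = 135) : False :=
  kill_paqb hG 3 5 3 1 (by norm_num) (by norm_num) (by rw [h]; norm_num)

theorem no_144 (hG : ¬ IsMulCommutative G) (h : Nat.card G = 144) : False :=
  kill_paqb hG 2 3 4 2 (by norm_num) (by norm_num) (by rw [h]; norm_num)

theorem no_156 (hG : ¬ IsMulCommutative G) (h : Nat.card G = 156) : False := by
  have : Fact (Nat.Prime 13) := ⟨by norm_num⟩
  exact kill_prime hG 13 12 (by norm_num) (by rw [h]) (by norm_num) (by decide +kernel)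

theorem no_160 (hG : ¬ IsMulCommutative G) (h : Nat.card G = 160) : False :=
  kill_paqb hG 2 5 5 1 (by norm_num) (by norm_num) (by rw [h]; norm_num)

theorem no_176 (hG : ¬ IsMulCommutative G) (h : Nat.card G = 176) : False :=
  kill_paqb hG 2 11 4 1 (by norm_num) (by norm_num) (by rw [h]; norm_num)

theorem no_180 (hG : ¬ IsMulCommutative G) (h : Nat.card G = 180) : False := by
  have : Fact (Nat.Prime 5) := ⟨by norm_num⟩
  exact kill_prime hG 5 36 (by norm_num) (by rw [h]) (by norm_num) (by decide +kernel)

theorem no_189 (hG : ¬ IsMulCommutative G) (h : Nat.card G = 189) : False :=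
  kill_paqb hG 3 7 3 1 (by norm_num) (by norm_num) (by rw [h]; norm_num)

theorem no_192 (hG : ¬ IsMulCommutative G) (h : Nat.card G = 192) : False :=
  kill_paqb hG 2 3 6 1 (by norm_num) (by norm_num) (by rw [h]; norm_num)

theorem no_204 (hG : ¬ IsMulCommutative G) (h : Nat.card G = 204) : False := by
  have : Fact (Nat.Prime 17) := ⟨by norm_num⟩
  exact kill_prime hG 17 12 (by norm_num) (by rw [h]) (by norm_num) (by decide +kernel)

theorem no_208 (hG : ¬ IsMulCommutative G) (h : Nat.card G = 208) : False :=
  kill_paqb hG 2 13 4 1 (by norm_num) (by norm_num) (by rw [h]; norm_num)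

theorem no_216 (hG : ¬ IsMulCommutative G) (h : Nat.card G = 216) : False :=
  kill_paqb hG 2 3 3 3 (by norm_num) (by norm_num) (by rw [h]; norm_num)

theorem no_224 (hG : ¬ IsMulCommutative G) (h : Nat.card G = 224) : False :=
  kill_paqb hG 2 7 5 1 (by norm_num) (by norm_num) (by rw [h]; norm_num)

theorem no_228 (hG : ¬ IsMulCommutative G) (h : Nat.card G = 228) : False := by
  have : Fact (Nat.Prime 19) := ⟨by norm_num⟩
  exact kill_prime hG 19 12 (by norm_num) (by rw [h]) (by norm_num) (by decide +kernel)

theorem no_240 (hG : ¬ IsMulCommutative G) (h : Nat.card G = 240) : False := by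
  have : Fact (Nat.Prime 5) := ⟨by norm_num⟩
  exact kill_prime hG 5 48 (by norm_num) (by rw [h]) (by norm_num) (by decide +kernel)

theorem no_243 (hG : ¬ IsMulCommutative G) (h : Nat.card G = 243) : False :=
  kill_paqb hG 3 2 5 0 (by norm_num) (by norm_num) (by rw [h]; norm_num)

theorem no_252 (hG : ¬ IsMulCommutative G) (h : Nat.card G = 252) : False := by
  have : Fact (Nat.Prime 7) := ⟨by norm_num⟩
  exact kill_prime hG 7 36 (by norm_num) (by rw [h]) (by norm_num) (by decide +kernel)

theorem no_256 (hG : ¬ IsMulCommutative G) (h : Nat.card G = 256) : False :=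
  kill_paqb hG 2 3 8 0 (by norm_num) (by norm_num) (by rw [h]; norm_num)

theorem no_264 (hG : ¬ IsMulCommutative G) (h : Nat.card G = 264) : False := by
  have : Fact (Nat.Prime 11) := ⟨by norm_num⟩
  exact kill_prime hG 11 24 (by norm_num) (by rw [h]) (by norm_num) (by decide +kernel)

theorem no_272 (hG : ¬ IsMulCommutative G) (h : Nat.card G = 272) : False :=
  kill_paqb hG 2 17 4 1 (by norm_num) (by norm_num) (by rw [h]; norm_num)

theorem no_276 (hG : ¬ IsMulCommutative G) (h : Nat.card G = 276) : False := by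
  have : Fact (Nat.Prime 23) := ⟨by norm_num⟩
  exact kill_prime hG 23 12 (by norm_num) (by rw [h]) (by norm_num) (by decide +kernel)

theorem no_280 (hG : ¬ IsMulCommutative G) (h : Nat.card G = 280) : False := by
  have : Fact (Nat.Prime 7) := ⟨by norm_num⟩
  exact kill_prime hG 7 40 (by norm_num) (by rw [h]) (by norm_num) (by decide +kernel)

theorem no_288 (hG : ¬ IsMulCommutative G) (h : Nat.card G = 288) : False :=
  kill_paqb hG 2 3 5 2 (by norm_num) (by norm_num) (by rw [h]; norm_num)

theorem no_297 (hG : ¬ IsMulCommutative G) (h : Nat.card G = 297) : False :=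
  kill_paqb hG 3 11 3 1 (by norm_num) (by norm_num) (by rw [h]; norm_num)

theorem no_300 (hG : ¬ IsMulCommutative G) (h : Nat.card G = 300) : False := by
  have : Fact (Nat.Prime 5) := ⟨by norm_num⟩
  exact kill_pow hG 5 12 2 (by norm_num) (by rw [h]; norm_num) (by norm_num) (by decide +kernel)

theorem no_304 (hG : ¬ IsMulCommutative G) (h : Nat.card G = 304) : False :=
  kill_paqb hG 2 19 4 1 (by norm_num) (by norm_num) (by rw [h]; norm_num)

theorem no_312 (hG : ¬ IsMulCommutative G) (h : Nat.card G = 312) : False := by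
  have : Fact (Nat.Prime 13) := ⟨by norm_num⟩
  exact kill_prime hG 13 24 (by norm_num) (by rw [h]) (by norm_num) (by decide +kernel)

theorem no_320 (hG : ¬ IsMulCommutative G) (h : Nat.card G = 320) : False :=
  kill_paqb hG 2 5 6 1 (by norm_num) (by norm_num) (by rw [h]; norm_num)

theorem no_324 (hG : ¬ IsMulCommutative G) (h : Nat.card G = 324) : False :=
  kill_paqb hG 2 3 2 4 (by norm_num) (by norm_num) (by rw [h]; norm_num)

theorem no_336 (hG : ¬ IsMulCommutative G) (h : Nat.card G = 336) : False := by
  have : Fact (Nat.Prime 7) := ⟨by norm_num⟩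
  exact kill_prime hG 7 48 (by norm_num) (by rw [h]) (by norm_num) (by decide +kernel)

theorem no_343 (hG : ¬ IsMulCommutative G) (h : Nat.card G = 343) : False :=
  kill_paqb hG 7 2 3 0 (by norm_num) (by norm_num) (by rw [h]; norm_num)

theorem no_348 (hG : ¬ IsMulCommutative G) (h : Nat.card G = 348) : False := by
  have : Fact (Nat.Prime 29) := ⟨by norm_num⟩
  exact kill_prime hG 29 12 (by norm_num) (by rw [h]) (by norm_num) (by decide +kernel)

theorem no_351 (hG : ¬ IsMulCommutative G) (h : Nat.card G = 351) : False :=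
  kill_paqb hG 3 13 3 1 (by norm_num) (by norm_num) (by rw [h]; norm_num)

theorem no_352 (hG : ¬ IsMulCommutative G) (h : Nat.card G = 352) : False :=
  kill_paqb hG 2 11 5 1 (by norm_num) (by norm_num) (by rw [h]; norm_num)

theorem no_368 (hG : ¬ IsMulCommutative G) (h : Nat.card G = 368) : False :=
  kill_paqb hG 2 23 4 1 (by norm_num) (by norm_num) (by rw [h]; norm_num)

theorem no_372 (hG : ¬ IsMulCommutative G) (h : Nat.card G = 372) : False := by
  have : Fact (Nat.Prime 31) := ⟨by norm_num⟩
  exact kill_prime hG 31 12 (by norm_num) (by rw [h]) (by norm_num) (by decide +kernel)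

theorem no_375 (hG : ¬ IsMulCommutative G) (h : Nat.card G = 375) : False :=
  kill_paqb hG 3 5 1 3 (by norm_num) (by norm_num) (by rw [h]; norm_num)

theorem no_384 (hG : ¬ IsMulCommutative G) (h : Nat.card G = 384) : False :=
  kill_paqb hG 2 3 7 1 (by norm_num) (by norm_num) (by rw [h]; norm_num)

theorem no_392 (hG : ¬ IsMulCommutative G) (h : Nat.card G = 392) : False :=
  kill_paqb hG 2 7 3 2 (by norm_num) (by norm_num) (by rw [h]; norm_num)

theorem no_396 (hG : ¬ IsMulCommutative G) (h : Nat.card G = 396) : False := by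
  have : Fact (Nat.Prime 11) := ⟨by norm_num⟩
  exact kill_prime hG 11 36 (by norm_num) (by rw [h]) (by norm_num) (by decide +kernel)

theorem no_400 (hG : ¬ IsMulCommutative G) (h : Nat.card G = 400) : False :=
  kill_paqb hG 2 5 4 2 (by norm_num) (by norm_num) (by rw [h]; norm_num)

theorem no_405 (hG : ¬ IsMulCommutative G) (h : Nat.card G = 405) : False :=
  kill_paqb hG 3 5 4 1 (by norm_num) (by norm_num) (by rw [h]; norm_num)

theorem no_408 (hG : ¬ IsMulCommutative G) (h : Nat.card G = 408) : False := by
  have : Fact (Nat.Prime 17) := ⟨by norm_num⟩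
  exact kill_prime hG 17 24 (by norm_num) (by rw [h]) (by norm_num) (by decide +kernel)

theorem no_416 (hG : ¬ IsMulCommutative G) (h : Nat.card G = 416) : False :=
  kill_paqb hG 2 13 5 1 (by norm_num) (by norm_num) (by rw [h]; norm_num)

theorem no_432 (hG : ¬ IsMulCommutative G) (h : Nat.card G = 432) : False :=
  kill_paqb hG 2 3 4 3 (by norm_num) (by norm_num) (by rw [h]; norm_num)

theorem no_444 (hG : ¬ IsMulCommutative G) (h : Nat.card G = 444) : False := by
  have : Fact (Nat.Prime 37) := ⟨by norm_num⟩
  exact kill_prime hG 37 12 (by norm_num) (by rw [h]) (by norm_num) (by decide +kernel)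

theorem no_448 (hG : ¬ IsMulCommutative G) (h : Nat.card G = 448) : False :=
  kill_paqb hG 2 7 6 1 (by norm_num) (by norm_num) (by rw [h]; norm_num)

theorem no_456 (hG : ¬ IsMulCommutative G) (h : Nat.card G = 456) : False := by
  have : Fact (Nat.Prime 19) := ⟨by norm_num⟩
  exact kill_prime hG 19 24 (by norm_num) (by rw [h]) (by norm_num) (by decide +kernel)

theorem no_459 (hG : ¬ IsMulCommutative G) (h : Nat.card G = 459) : False :=
  kill_paqb hG 3 17 3 1 (by norm_num) (by norm_num) (by rw [h]; norm_num)

theorem no_464 (hG : ¬ IsMulCommutative G) (h : Nat.card G = 464) : False :=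
  kill_paqb hG 2 29 4 1 (by norm_num) (by norm_num) (by rw [h]; norm_num)

theorem no_468 (hG : ¬ IsMulCommutative G) (h : Nat.card G = 468) : False := by
  have : Fact (Nat.Prime 13) := ⟨by norm_num⟩
  exact kill_prime hG 13 36 (by norm_num) (by rw [h]) (by norm_num) (by decide +kernel)

theorem no_480 (hG : ¬ IsMulCommutative G) (h : Nat.card G = 480) : False := by
  have : Fact (Nat.Prime 2) := ⟨by norm_num⟩
  exact kill_pow hG 2 15 5 (by norm_num) (by rw [h]; norm_num) (by norm_num) (by decide +kernel)

theorem no_492 (hG : ¬ IsMulCommutative G) (h : Nat.card G = 492) : False := by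
  have : Fact (Nat.Prime 41) := ⟨by norm_num⟩
  exact kill_prime hG 41 12 (by norm_num) (by rw [h]) (by norm_num) (by decide +kernel)

theorem no_496 (hG : ¬ IsMulCommutative G) (h : Nat.card G = 496) : False :=
  kill_paqb hG 2 31 4 1 (by norm_num) (by norm_num) (by rw [h]; norm_num)

theorem no_512 (hG : ¬ IsMulCommutative G) (h : Nat.card G = 512) : False :=
  kill_paqb hG 2 3 9 0 (by norm_num) (by norm_num) (by rw [h]; norm_num)

theorem no_513 (hG : ¬ IsMulCommutative G) (h : Nat.card G = 513) : False :=
  kill_paqb hG 3 19 3 1 (by norm_num) (by norm_num) (by rw [h]; norm_num)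

theorem no_516 (hG : ¬ IsMulCommutative G) (h : Nat.card G = 516) : False := by
  have : Fact (Nat.Prime 43) := ⟨by norm_num⟩
  exact kill_prime hG 43 12 (by norm_num) (by rw [h]) (by norm_num) (by decide +kernel)

theorem no_528 (hG : ¬ IsMulCommutative G) (h : Nat.card G = 528) : False := by
  have : Fact (Nat.Prime 11) := ⟨by norm_num⟩
  exact kill_prime hG 11 48 (by norm_num) (by rw [h]) (by norm_num) (by decide +kernel)

theorem no_540 (hG : ¬ IsMulCommutative G) (h : Nat.card G = 540) : False := by
  have : Fact (Nat.Prime 5) := ⟨by norm_num⟩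
  exact kill_prime hG 5 108 (by norm_num) (by rw [h]) (by norm_num) (by decide +kernel)

theorem no_544 (hG : ¬ IsMulCommutative G) (h : Nat.card G = 544) : False :=
  kill_paqb hG 2 17 5 1 (by norm_num) (by norm_num) (by rw [h]; norm_num)

theorem no_552 (hG : ¬ IsMulCommutative G) (h : Nat.card G = 552) : False := by
  have : Fact (Nat.Prime 23) := ⟨by norm_num⟩
  exact kill_prime hG 23 24 (by norm_num) (by rw [h]) (by norm_num) (by decide +kernel)

theorem no_560 (hG : ¬ IsMulCommutative G) (h : Nat.card G = 560) : False := by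
  have : Fact (Nat.Prime 7) := ⟨by norm_num⟩
  exact kill_prime hG 7 80 (by norm_num) (by rw [h]) (by norm_num) (by decide +kernel)

theorem no_564 (hG : ¬ IsMulCommutative G) (h : Nat.card G = 564) : False := by
  have : Fact (Nat.Prime 47) := ⟨by norm_num⟩
  exact kill_prime hG 47 12 (by norm_num) (by rw [h]) (by norm_num) (by decide +kernel)

theorem no_567 (hG : ¬ IsMulCommutative G) (h : Nat.card G = 567) : False :=
  kill_paqb hG 3 7 4 1 (by norm_num) (by norm_num) (by rw [h]; norm_num)

theorem no_576 (hG : ¬ IsMulCommutative G) (h : Nat.card G = 576) : False :=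
  kill_paqb hG 2 3 6 2 (by norm_num) (by norm_num) (by rw [h]; norm_num)

theorem no_588 (hG : ¬ IsMulCommutative G) (h : Nat.card G = 588) : False := by
  have : Fact (Nat.Prime 7) := ⟨by norm_num⟩
  exact kill_pow hG 7 12 2 (by norm_num) (by rw [h]; norm_num) (by norm_num) (by decide +kernel)

theorem no_592 (hG : ¬ IsMulCommutative G) (h : Nat.card G = 592) : False :=
  kill_paqb hG 2 37 4 1 (by norm_num) (by norm_num) (by rw [h]; norm_num)

theorem no_600 (hG : ¬ IsMulCommutative G) (h : Nat.card G = 600) : False := by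
  have : Fact (Nat.Prime 5) := ⟨by norm_num⟩
  exact kill_pow hG 5 24 2 (by norm_num) (by rw [h]; norm_num) (by norm_num) (by decide +kernel)

theorem no_608 (hG : ¬ IsMulCommutative G) (h : Nat.card G = 608) : False :=
  kill_paqb hG 2 19 5 1 (by norm_num) (by norm_num) (by rw [h]; norm_num)

theorem no_616 (hG : ¬ IsMulCommutative G) (h : Nat.card G = 616) : False := by
  have : Fact (Nat.Prime 11) := ⟨by norm_num⟩
  exact kill_prime hG 11 56 (by norm_num) (by rw [h]) (by norm_num) (by decide +kernel)

theorem no_621 (hG : ¬ IsMulCommutative G) (h : Nat.card G = 621) : False :=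
  kill_paqb hG 3 23 3 1 (by norm_num) (by norm_num) (by rw [h]; norm_num)

theorem no_624 (hG : ¬ IsMulCommutative G) (h : Nat.card G = 624) : False := by
  have : Fact (Nat.Prime 13) := ⟨by norm_num⟩
  exact kill_prime hG 13 48 (by norm_num) (by rw [h]) (by norm_num) (by decide +kernel)

theorem no_625 (hG : ¬ IsMulCommutative G) (h : Nat.card G = 625) : False :=
  kill_paqb hG 5 2 4 0 (by norm_num) (by norm_num) (by rw [h]; norm_num)

theorem no_636 (hG : ¬ IsMulCommutative G) (h : Nat.card G = 636) : False := by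
  have : Fact (Nat.Prime 53) := ⟨by norm_num⟩
  exact kill_prime hG 53 12 (by norm_num) (by rw [h]) (by norm_num) (by decide +kernel)

theorem no_640 (hG : ¬ IsMulCommutative G) (h : Nat.card G = 640) : False :=
  kill_paqb hG 2 5 7 1 (by norm_num) (by norm_num) (by rw [h]; norm_num)

theorem no_648 (hG : ¬ IsMulCommutative G) (h : Nat.card G = 648) : False :=
  kill_paqb hG 2 3 3 4 (by norm_num) (by norm_num) (by rw [h]; norm_num)

theorem no_656 (hG : ¬ IsMulCommutative G) (h : Nat.card G = 656) : False :=
  kill_paqb hG 2 41 4 1 (by norm_num) (by norm_num) (by rw [h]; norm_num)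

theorem no_672 (hG : ¬ IsMulCommutative G) (h : Nat.card G = 672) : False := by
  have : Fact (Nat.Prime 7) := ⟨by norm_num⟩
  exact kill_prime hG 7 96 (by norm_num) (by rw [h]) (by norm_num) (by decide +kernel)

theorem no_675 (hG : ¬ IsMulCommutative G) (h : Nat.card G = 675) : False :=
  kill_paqb hG 3 5 3 2 (by norm_num) (by norm_num) (by rw [h]; norm_num)

theorem no_684 (hG : ¬ IsMulCommutative G) (h : Nat.card G = 684) : False := by
  have : Fact (Nat.Prime 19) := ⟨by norm_num⟩
  exact kill_prime hG 19 36 (by norm_num) (by rw [h]) (by norm_num) (by decide +kernel)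

theorem no_688 (hG : ¬ IsMulCommutative G) (h : Nat.card G = 688) : False :=
  kill_paqb hG 2 43 4 1 (by norm_num) (by norm_num) (by rw [h]; norm_num)

theorem no_696 (hG : ¬ IsMulCommutative G) (h : Nat.card G = 696) : False := by
  have : Fact (Nat.Prime 29) := ⟨by norm_num⟩
  exact kill_prime hG 29 24 (by norm_num) (by rw [h]) (by norm_num) (by decide +kernel)

theorem no_704 (hG : ¬ IsMulCommutative G) (h : Nat.card G = 704) : False :=
  kill_paqb hG 2 11 6 1 (by norm_num) (by norm_num) (by rw [h]; norm_num)

theorem no_708 (hG : ¬ IsMulCommutative G) (h : Nat.card G = 708) : False := by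
  have : Fact (Nat.Prime 59) := ⟨by norm_num⟩
  exact kill_prime hG 59 12 (by norm_num) (by rw [h]) (by norm_num) (by decide +kernel)

theorem no_728 (hG : ¬ IsMulCommutative G) (h : Nat.card G = 728) : False := by
  have : Fact (Nat.Prime 13) := ⟨by norm_num⟩
  exact kill_prime hG 13 56 (by norm_num) (by rw [h]) (by norm_num) (by decide +kernel)

theorem no_729 (hG : ¬ IsMulCommutative G) (h : Nat.card G = 729) : False :=
  kill_paqb hG 3 2 6 0 (by norm_num) (by norm_num) (by rw [h]; norm_num)

theorem no_732 (hG : ¬ IsMulCommutative G) (h : Nat.card G = 732) : False := by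
  have : Fact (Nat.Prime 61) := ⟨by norm_num⟩
  exact kill_prime hG 61 12 (by norm_num) (by rw [h]) (by norm_num) (by decide +kernel)

theorem no_736 (hG : ¬ IsMulCommutative G) (h : Nat.card G = 736) : False :=
  kill_paqb hG 2 23 5 1 (by norm_num) (by norm_num) (by rw [h]; norm_num)

theorem no_744 (hG : ¬ IsMulCommutative G) (h : Nat.card G = 744) : False := by
  have : Fact (Nat.Prime 31) := ⟨by norm_num⟩
  exact kill_prime hG 31 24 (by norm_num) (by rw [h]) (by norm_num) (by decide +kernel)

theorem no_752 (hG : ¬ IsMulCommutative G) (h : Nat.card G = 752) : False :=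
  kill_paqb hG 2 47 4 1 (by norm_num) (by norm_num) (by rw [h]; norm_num)

theorem no_768 (hG : ¬ IsMulCommutative G) (h : Nat.card G = 768) : False :=
  kill_paqb hG 2 3 8 1 (by norm_num) (by norm_num) (by rw [h]; norm_num)

theorem no_780 (hG : ¬ IsMulCommutative G) (h : Nat.card G = 780) : False := by
  have : Fact (Nat.Prime 13) := ⟨by norm_num⟩
  exact kill_prime hG 13 60 (by norm_num) (by rw [h]) (by norm_num) (by decide +kernel)

theorem no_783 (hG : ¬ IsMulCommutative G) (h : Nat.card G = 783) : False :=
  kill_paqb hG 3 29 3 1 (by norm_num) (by norm_num) (by rw [h]; norm_num)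

theorem no_784 (hG : ¬ IsMulCommutative G) (h : Nat.card G = 784) : False :=
  kill_paqb hG 2 7 4 2 (by norm_num) (by norm_num) (by rw [h]; norm_num)

theorem no_792 (hG : ¬ IsMulCommutative G) (h : Nat.card G = 792) : False := by
  have : Fact (Nat.Prime 11) := ⟨by norm_num⟩
  exact kill_prime hG 11 72 (by norm_num) (by rw [h]) (by norm_num) (by decide +kernel)

theorem no_800 (hG : ¬ IsMulCommutative G) (h : Nat.card G = 800) : False :=
  kill_paqb hG 2 5 5 2 (by norm_num) (by norm_num) (by rw [h]; norm_num)

theorem no_804 (hG : ¬ IsMulCommutative G) (h : Nat.card G = 804) : False := by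
  have : Fact (Nat.Prime 67) := ⟨by norm_num⟩
  exact kill_prime hG 67 12 (by norm_num) (by rw [h]) (by norm_num) (by decide +kernel)

theorem no_816 (hG : ¬ IsMulCommutative G) (h : Nat.card G = 816) : False := by
  have : Fact (Nat.Prime 17) := ⟨by norm_num⟩
  exact kill_prime hG 17 48 (by norm_num) (by rw [h]) (by norm_num) (by decide +kernel)

theorem no_828 (hG : ¬ IsMulCommutative G) (h : Nat.card G = 828) : False := by
  have : Fact (Nat.Prime 23) := ⟨by norm_num⟩
  exact kill_prime hG 23 36 (by norm_num) (by rw [h]) (by norm_num) (by decide +kernel)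

theorem no_832 (hG : ¬ IsMulCommutative G) (h : Nat.card G = 832) : False :=
  kill_paqb hG 2 13 6 1 (by norm_num) (by norm_num) (by rw [h]; norm_num)

theorem no_837 (hG : ¬ IsMulCommutative G) (h : Nat.card G = 837) : False :=
  kill_paqb hG 3 31 3 1 (by norm_num) (by norm_num) (by rw [h]; norm_num)

theorem no_848 (hG : ¬ IsMulCommutative G) (h : Nat.card G = 848) : False :=
  kill_paqb hG 2 53 4 1 (by norm_num) (by norm_num) (by rw [h]; norm_num)

theorem no_852 (hG : ¬ IsMulCommutative G) (h : Nat.card G = 852) : False := by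
  have : Fact (Nat.Prime 71) := ⟨by norm_num⟩
  exact kill_prime hG 71 12 (by norm_num) (by rw [h]) (by norm_num) (by decide +kernel)

theorem no_864 (hG : ¬ IsMulCommutative G) (h : Nat.card G = 864) : False :=
  kill_paqb hG 2 3 5 3 (by norm_num) (by norm_num) (by rw [h]; norm_num)

theorem no_875 (hG : ¬ IsMulCommutative G) (h : Nat.card G = 875) : False :=
  kill_paqb hG 5 7 3 1 (by norm_num) (by norm_num) (by rw [h]; norm_num)

theorem no_876 (hG : ¬ IsMulCommutative G) (h : Nat.card G = 876) : False := by
  have : Fact (Nat.Prime 73) := ⟨by norm_num⟩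
  exact kill_prime hG 73 12 (by norm_num) (by rw [h]) (by norm_num) (by decide +kernel)

theorem no_880 (hG : ¬ IsMulCommutative G) (h : Nat.card G = 880) : False := by
  have : Fact (Nat.Prime 11) := ⟨by norm_num⟩
  exact kill_prime hG 11 80 (by norm_num) (by rw [h]) (by norm_num) (by decide +kernel)

theorem no_888 (hG : ¬ IsMulCommutative G) (h : Nat.card G = 888) : False := by
  have : Fact (Nat.Prime 37) := ⟨by norm_num⟩
  exact kill_prime hG 37 24 (by norm_num) (by rw [h]) (by norm_num) (by decide +kernel)

theorem no_891 (hG : ¬ IsMulCommutative G) (h : Nat.card G = 891) : False :=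
  kill_paqb hG 3 11 4 1 (by norm_num) (by norm_num) (by rw [h]; norm_num)

theorem no_896 (hG : ¬ IsMulCommutative G) (h : Nat.card G = 896) : False :=
  kill_paqb hG 2 7 7 1 (by norm_num) (by norm_num) (by rw [h]; norm_num)

theorem no_900 (hG : ¬ IsMulCommutative G) (h : Nat.card G = 900) : False := by
  have : Fact (Nat.Prime 5) := ⟨by norm_num⟩
  exact kill_pow hG 5 36 2 (by norm_num) (by rw [h]; norm_num) (by norm_num) (by decide +kernel)

theorem no_912 (hG : ¬ IsMulCommutative G) (h : Nat.card G = 912) : False := by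
  have : Fact (Nat.Prime 19) := ⟨by norm_num⟩
  exact kill_prime hG 19 48 (by norm_num) (by rw [h]) (by norm_num) (by decide +kernel)

theorem no_924 (hG : ¬ IsMulCommutative G) (h : Nat.card G = 924) : False := by
  have : Fact (Nat.Prime 11) := ⟨by norm_num⟩
  exact kill_prime hG 11 84 (by norm_num) (by rw [h]) (by norm_num) (by decide +kernel)

theorem no_928 (hG : ¬ IsMulCommutative G) (h : Nat.card G = 928) : False :=
  kill_paqb hG 2 29 5 1 (by norm_num) (by norm_num) (by rw [h]; norm_num)

theorem no_936 (hG : ¬ IsMulCommutative G) (h : Nat.card G = 936) : False := by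
  have : Fact (Nat.Prime 13) := ⟨by norm_num⟩
  exact kill_prime hG 13 72 (by norm_num) (by rw [h]) (by norm_num) (by decide +kernel)

theorem no_944 (hG : ¬ IsMulCommutative G) (h : Nat.card G = 944) : False :=
  kill_paqb hG 2 59 4 1 (by norm_num) (by norm_num) (by rw [h]; norm_num)

theorem no_945 (hG : ¬ IsMulCommutative G) (h : Nat.card G = 945) : False := by
  have : Fact (Nat.Prime 5) := ⟨by norm_num⟩
  exact kill_prime hG 5 189 (by norm_num) (by rw [h]) (by norm_num) (by decide +kernel)

theorem no_948 (hG : ¬ IsMulCommutative G) (h : Nat.card G = 948) : False := by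
  have : Fact (Nat.Prime 79) := ⟨by norm_num⟩
  exact kill_prime hG 79 12 (by norm_num) (by rw [h]) (by norm_num) (by decide +kernel)

theorem no_952 (hG : ¬ IsMulCommutative G) (h : Nat.card G = 952) : False := by
  have : Fact (Nat.Prime 17) := ⟨by norm_num⟩
  exact kill_prime hG 17 56 (by norm_num) (by rw [h]) (by norm_num) (by decide +kernel)

theorem no_960 (hG : ¬ IsMulCommutative G) (h : Nat.card G = 960) : False := by
  have : Fact (Nat.Prime 2) := ⟨by norm_num⟩
  exact kill_pow hG 2 15 6 (by norm_num) (by rw [h]; norm_num) (by norm_num) (by decide +kernel)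

theorem no_972 (hG : ¬ IsMulCommutative G) (h : Nat.card G = 972) : False :=
  kill_paqb hG 2 3 2 5 (by norm_num) (by norm_num) (by rw [h]; norm_num)

theorem no_976 (hG : ¬ IsMulCommutative G) (h : Nat.card G = 976) : False :=
  kill_paqb hG 2 61 4 1 (by norm_num) (by norm_num) (by rw [h]; norm_num)

theorem no_984 (hG : ¬ IsMulCommutative G) (h : Nat.card G = 984) : False := by
  have : Fact (Nat.Prime 41) := ⟨by norm_num⟩
  exact kill_prime hG 41 24 (by norm_num) (by rw [h]) (by norm_num) (by decide +kernel)

theorem no_992 (hG : ¬ IsMulCommutative G) (h : Nat.card G = 992) : False :=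
  kill_paqb hG 2 31 5 1 (by norm_num) (by norm_num) (by rw [h]; norm_num)

theorem no_996 (hG : ¬ IsMulCommutative G) (h : Nat.card G = 996) : False := by
  have : Fact (Nat.Prime 83) := ⟨by norm_num⟩
  exact kill_prime hG 83 12 (by norm_num) (by rw [h]) (by norm_num) (by decide +kernel)

theorem no_999 (hG : ¬ IsMulCommutative G) (h : Nat.card G = 999) : False :=
  kill_paqb hG 3 37 3 1 (by norm_num) (by norm_num) (by rw [h]; norm_num)

theorem no_1020 (hG : ¬ IsMulCommutative G) (h : Nat.card G = 1020) : False := by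
  have : Fact (Nat.Prime 17) := ⟨by norm_num⟩
  exact kill_prime hG 17 60 (by norm_num) (by rw [h]) (by norm_num) (by decide +kernel)

theorem no_1024 (hG : ¬ IsMulCommutative G) (h : Nat.card G = 1024) : False :=
  kill_paqb hG 2 3 10 0 (by norm_num) (by norm_num) (by rw [h]; norm_num)

theorem no_1029 (hG : ¬ IsMulCommutative G) (h : Nat.card G = 1029) : False :=
  kill_paqb hG 3 7 1 3 (by norm_num) (by norm_num) (by rw [h]; norm_num)

theorem no_1032 (hG : ¬ IsMulCommutative G) (h : Nat.card G = 1032) : False := by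
  have : Fact (Nat.Prime 43) := ⟨by norm_num⟩
  exact kill_prime hG 43 24 (by norm_num) (by rw [h]) (by norm_num) (by decide +kernel)

theorem no_1044 (hG : ¬ IsMulCommutative G) (h : Nat.card G = 1044) : False := by
  have : Fact (Nat.Prime 29) := ⟨by norm_num⟩
  exact kill_prime hG 29 36 (by norm_num) (by rw [h]) (by norm_num) (by decide +kernel)

theorem no_1053 (hG : ¬ IsMulCommutative G) (h : Nat.card G = 1053) : False :=
  kill_paqb hG 3 13 4 1 (by norm_num) (by norm_num) (by rw [h]; norm_num)

theorem no_1056 (hG : ¬ IsMulCommutative G) (h : Nat.card G = 1056) : False := by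
  have : Fact (Nat.Prime 11) := ⟨by norm_num⟩
  exact kill_prime hG 11 96 (by norm_num) (by rw [h]) (by norm_num) (by decide +kernel)

theorem no_1064 (hG : ¬ IsMulCommutative G) (h : Nat.card G = 1064) : False := by
  have : Fact (Nat.Prime 19) := ⟨by norm_num⟩
  exact kill_prime hG 19 56 (by norm_num) (by rw [h]) (by norm_num) (by decide +kernel)

theorem no_1068 (hG : ¬ IsMulCommutative G) (h : Nat.card G = 1068) : False := by
  have : Fact (Nat.Prime 89) := ⟨by norm_num⟩
  exact kill_prime hG 89 12 (by norm_num) (by rw [h]) (by norm_num) (by decide +kernel)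

theorem no_1072 (hG : ¬ IsMulCommutative G) (h : Nat.card G = 1072) : False :=
  kill_paqb hG 2 67 4 1 (by norm_num) (by norm_num) (by rw [h]; norm_num)

theorem no_1088 (hG : ¬ IsMulCommutative G) (h : Nat.card G = 1088) : False :=
  kill_paqb hG 2 17 6 1 (by norm_num) (by norm_num) (by rw [h]; norm_num)

end Cfsg.Agent.Helper27.Ord
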