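import Mathlib
import Cfsg.Prelude.Def_GeometricClasses
import Cfsg.Prelude.Def_Classical
import Cfsg.Agent.Helper6.S5992Defs

/-! S5989 + S5991 (driver helper27): shared definitions for "Ω^±_{2d}(q), q odd, acting on
nondegenerate subspaces of odd dimension m < d isometric to a fixed one".  Built on helper6's
`Cfsg.Agent.S5992P` (PB, Plus, IsYO, DiscSq, ...) and helper2's `Nondeg` / `Orth`. -/

set_option autoImplicit false

namespace Cfsg.Agent.S5989P

open Cfsg.Agent.Helper2.SympInvol Cfsg.Agent.Helper2.SympUnits Cfsg.Agent.S5961P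
  Cfsg.Agent.S5992P

section abstract

variable {F V : Type*} [Field F] [AddCommGroup V] [Module F V]

/-- the subspaces `W`, `W'` of the quadratic space `(V, Q)` are isometric -/
def IsoW (Q : QuadraticForm F V) (W W' : Submodule F V) : Prop :=
  ∃ e : W ≃ₗ[F] W', ∀ w : W, Q ((e w : W') : V) = Q (w : V)

/-- `W` is a nondegenerate `m`-space isometric to `W₀` -/
def OmSet (Q : QuadraticForm F V) (m : ℕ) (W₀ W : Submodule F V) : Prop :=
  Module.finrank F W = m ∧ Nondeg (PB Q) W ∧ IsoW Q W W₀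

theorem isoW_refl (Q : QuadraticForm F V) (W : Submodule F V) : IsoW Q W W :=
  ⟨LinearEquiv.refl F W, fun _ => rfl⟩

theorem IsoW.symm {Q : QuadraticForm F V} {W W' : Submodule F V} (h : IsoW Q W W') :
    IsoW Q W' W := by
  obtain ⟨e, he⟩ := h
  exact ⟨e.symm, fun w => by rw [← he (e.symm w), LinearEquiv.apply_symm_apply]⟩

theorem IsoW.trans {Q : QuadraticForm F V} {W W' W'' : Submodule F V} (h : IsoW Q W W')
    (h' : IsoW Q W' W'') : IsoW Q W W'' := by
  obtain ⟨e, he⟩ := h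
  obtain ⟨e', he'⟩ := h'
  exact ⟨e.trans e', fun w => by rw [LinearEquiv.trans_apply, he', he]⟩

end abstract

section geo

variable {F : Type*} [Field F] {ι : Type}

theorem isoW_iff_geo (Q : QuadraticForm F (ι → F)) (W W' : Submodule F (ι → F)) :
    IsoW Q W W' ↔ Cfsg.Geo.AreIsometricFor ⇑Q W W' := Iff.rfl

theorem omSet_iff_geo (Q : QuadraticForm F (ι → F)) (m : ℕ) (W₀ W : Submodule F (ι → F)) :
    OmSet Q m W₀ W ↔ (Module.finrank F W = m ∧
      Cfsg.Geo.IsNondegenerateOn (QuadraticMap.polar ⇑Q) W ∧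
      Cfsg.Geo.AreIsometricFor ⇑Q W W₀) := by
  unfold OmSet
  rw [nondeg_iff_geo, isoW_iff_geo]

/-- the stabilizer of a subspace in the isometry group -/
def stabW [Fintype ι] [DecidableEq ι] (Q : QuadraticForm F (ι → F))
    (W : Submodule F (ι → F)) : Subgroup ↥(Cfsg.isometryGroup F ⇑Q) where
  carrier := {g | W.map (Matrix.toLin' ((g : GL ι F) : Matrix ι ι F)) = W}
  one_mem' := by
    show W.map (Matrix.toLin' (((1 : ↥(Cfsg.isometryGroup F ⇑Q)) : GL ι F) : Matrix ι ι F)) = W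
    simp
  mul_mem' := by
    intro g h hg hh
    show W.map (Matrix.toLin' (((g * h : ↥(Cfsg.isometryGroup F ⇑Q)) : GL ι F) : Matrix ι ι F)) = W
    have hg' : W.map (Matrix.toLin' ((g : GL ι F) : Matrix ι ι F)) = W := hg
    have hh' : W.map (Matrix.toLin' ((h : GL ι F) : Matrix ι ι F)) = W := hh
    rw [Subgroup.coe_mul, Units.val_mul, Matrix.toLin'_mul, Submodule.map_comp, hh', hg']
  inv_mem' := by
    intro g hg
    show W.map (Matrix.toLin' (((g⁻¹ : ↥(Cfsg.isometryGroup F ⇑Q)) : GL ι F) : Matrix ι ι F)) = W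
    have hg' : W.map (Matrix.toLin' ((g : GL ι F) : Matrix ι ι F)) = W := hg
    conv_lhs => rw [← hg']
    rw [← Submodule.map_comp, ← Matrix.toLin'_mul, ← Units.val_mul, ← Subgroup.coe_mul,
      inv_mul_cancel]
    simp

theorem mem_stabW [Fintype ι] [DecidableEq ι] (Q : QuadraticForm F (ι → F))
    (W : Submodule F (ι → F)) (g : ↥(Cfsg.isometryGroup F ⇑Q)) :
    g ∈ stabW Q W ↔ W.map (Matrix.toLin' ((g : GL ι F) : Matrix ι ι F)) = W := Iff.rfl

end geo

/-! ## arithmetic -/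

/-- the type condition for a fixed-point-free isometry of odd prime order `r` with `b` blocks on a
space of type `ε` (`i` the order of `q` mod `r`): for `i` even the blocks are elliptic, for `i` odd
hyperbolic -/
def typeOK (ε : Bool) (i b : ℕ) : Prop := if Even i then (Even b ↔ ε = true) else ε = true

/-- `b` blocks of dimension `c` are realised by an element of order `r` of `Ω^ε_{2d}(q)` -/
def Realiz (ε : Bool) (i c d b : ℕ) : Prop :=
  1 ≤ b ∧ c * b ≤ 2 * d ∧ (c * b = 2 * d → typeOK ε i b)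

/-- the frozen closed form of S5989 (`ε = true`) / S5991 (`ε = false`) for odd `r ≠ p` -/
def ClosedOdd (ε : Bool) (i c d m : ℕ) : Prop :=
  if ε = true then
    (Odd i ∧ c ≤ m ∧ 0 < m % c ∧ m % c < (2 * d) % c) ∨
    (Even i ∧ (((2 * d) % c = 0 ∧ Odd ((2 * d) / i)) ∨
      (i ≤ m ∧ 0 < m % c ∧ m % c < (2 * d) % c)))
  else
    (Odd i ∧ ((2 * d) % c = 0 ∨ (c ≤ m ∧ 0 < m % c ∧ m % c < (2 * d) % c))) ∨
    (Even i ∧ (((2 * d) % c = 0 ∧ Even ((2 * d) / i)) ∨
      (0 < (2 * d) % c ∧ i ≤ m ∧ 0 < m % c ∧ m % c < (2 * d) % c)))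

/-- the frozen condition for `r = 2` -/
def R2cond (ε : Bool) (d q : ℕ) : Prop :=
  if ε = true then (Odd d ∧ q % 8 ≠ 1) else (Even d ∨ q % 8 ≠ 7)

/-- `q^d - 1` (`ε = true`) resp. `q^d + 1` -/
def epsFac (ε : Bool) (q d : ℕ) : ℕ := if ε = true then q ^ d - 1 else q ^ d + 1

/-- the weak consequence of `r ∣ #Ω` that the arithmetic needs -/
def wk (ε : Bool) (q d m : ℕ) : ℕ :=
  epsFac ε q d * ∏ j ∈ Finset.Ico (d - (m - 1) / 2) d, (q ^ (2 * j) - 1)

/-- the order of `O^ε_{2d}(q)` -/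
def ordO (ε : Bool) (q d : ℕ) : ℕ :=
  2 * q ^ (d * (d - 1)) * epsFac ε q d * ∏ j ∈ Finset.range (d - 1), (q ^ (2 * (j + 1)) - 1)

end Cfsg.Agent.S5989P
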