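import Mathlib
import Cfsg.Agent.Helper7.K2M.Defs2
import Cfsg.Agent.Helper4.K2MQB
import Cfsg.Agent.Helper3.K2MRACT
import Cfsg.Agent.Helper27.K2MSTAB

set_option autoImplicit false
set_option linter.unusedSectionVars false
set_option linter.unusedVariables false

/-! # S5694, `k = 2` minus blocks (designer helper7), chapter INV (driver helper27), piece INV-BASE:
products of two reflections, STAR, the one-directional `StabD` criterion. -/

namespace Cfsg.Agent.K2M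

open Matrix Cfsg.Agent.OC2P Cfsg.Agent.Helper28.Sg Cfsg.Agent.Helper28.Spin
  Cfsg.Agent.Helper12.OrthGen

variable {F : Type*} [Field F] [Fintype F] {t : ℕ} {Q : QuadraticForm F (Fin t × Fin 2 → F)}
  {q : QuadraticForm F (Fin 2 → F)}

/-- the product of two reflections, explicitly -/
theorem RR.mulVec (e e' : Fin t × Fin 2 → F) (he : Q e ≠ 0) (he' : Q e' ≠ 0) (z : Fin t × Fin 2 → F) :
    mt Q (reflO Q e he * reflO Q e' he') *ᵥ z
      = z - ((Q e')⁻¹ * B Q e' z) • e' - ((Q e)⁻¹ * (B Q e z - (Q e')⁻¹ * B Q e' z * B Q e e')) • e := by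
  rw [mt_mul_mulVec, RACT.mulVec e' he' z, RACT.mulVec e he]
  simp only [B, QuadraticMap.polar_sub_right, QuadraticMap.polar_smul_right, smul_eq_mul]

theorem RR.fix (e e' : Fin t × Fin 2 → F) (he : Q e ≠ 0) (he' : Q e' ≠ 0) {z : Fin t × Fin 2 → F}
    (h1 : B Q e z = 0) (h2 : B Q e' z = 0) : mt Q (reflO Q e he * reflO Q e' he') *ᵥ z = z := by
  rw [RR.mulVec, h1, h2]
  simp

theorem RR.sub_mem (e e' : Fin t × Fin 2 → F) (he : Q e ≠ 0) (he' : Q e' ≠ 0) (z : Fin t × Fin 2 → F) :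
    ∃ a b : F, mt Q (reflO Q e he * reflO Q e' he') *ᵥ z - z = a • e + b • e' := by
  refine ⟨-((Q e)⁻¹ * (B Q e z - (Q e')⁻¹ * B Q e' z * B Q e e')), -((Q e')⁻¹ * B Q e' z), ?_⟩
  rw [RR.mulVec]
  module

/-- conjugating a product of two reflections: `x⁻¹ (r_b r_b') x = r_{x⁻¹ b} r_{x⁻¹ b'}` -/
theorem RR.conj (x : OG Q) (b b' : Fin t × Fin 2 → F) (hb : Q b ≠ 0) (hb' : Q b' ≠ 0)
    (he : Q (mt Q x⁻¹ *ᵥ b) ≠ 0) (he' : Q (mt Q x⁻¹ *ᵥ b') ≠ 0) :
    reflO Q (mt Q x⁻¹ *ᵥ b) he * reflO Q (mt Q x⁻¹ *ᵥ b') he'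
      = x⁻¹ * (reflO Q b hb * reflO Q b' hb') * x := by
  rw [reflO_conj Q x⁻¹ b hb he, reflO_conj Q x⁻¹ b' hb' he', inv_inv]
  group

/-- STAR: under (P), `x⁻¹ h x` permutes the blocks when `h ∈ H` fixes `x v`, `v` a nonsingular block vector -/
theorem STAR.main {H : Subgroup (OG Q)} (hP : PropP H) {x h : OG Q} (hx : x ∈ H) (hh : h ∈ H)
    {v : Fin t × Fin 2 → F} (hv : IsBlk v) (hQv : Q v ≠ 0)
    (hfix : mt Q h *ᵥ (mt Q x *ᵥ v) = mt Q x *ᵥ v) : StabD Q (x⁻¹ * h * x) := by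
  refine hP _ (H.mul_mem (H.mul_mem (H.inv_mem hx) hh) hx) ⟨v, hv, hQv, ?_⟩
  rw [mt_mul_mulVec, mt_mul_mulVec, hfix, mt_inv_mulVec]

/-- a nonzero block vector is nonsingular -/
theorem STAR.Q_ne (bm : BM Q q) {v : Fin t × Fin 2 → F} (hv : IsBlk v) (hv0 : v ≠ 0) : Q v ≠ 0 := by
  obtain ⟨l, hl⟩ := hv
  rw [QB.mem_Dblk_iff'] at hl
  intro h0
  rw [hl, QB.Q_binj bm] at h0
  have h1 := bm.aniso _ h0
  apply hv0
  rw [hl, h1, QB.binj_zero]

/-- one-directional criterion -/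
theorem STAB.of_forall' (bm : BM Q q) (g : OG Q)
    (h : ∀ i : Fin t, ∃ j : Fin t, ∀ y : Fin 2 → F, mt Q g *ᵥ binj i y ∈ Dblk F t 2 j) : StabD Q g := by
  choose f hf using h
  -- `g D_i = D_{f i}` by dimension
  have heq : ∀ i, (Dblk F t 2 i).map (Matrix.toLin' (mt Q g)) = Dblk F t 2 (f i) := by
    intro i
    have hle : (Dblk F t 2 i).map (Matrix.toLin' (mt Q g)) ≤ Dblk F t 2 (f i) := by
      rintro _ ⟨x, hx, rfl⟩
      rw [Matrix.toLin'_apply, ← BLKDEC.binj_bproj hx]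
      exact hf i _
    apply Submodule.eq_of_le_of_finrank_eq hle
    rw [BLKDEC.finrank_Dblk, ← (Submodule.equivMapOfInjective _ (STAB.aux_inj g) _).finrank_eq,
      BLKDEC.finrank_Dblk]
  have hinj : Function.Injective f := by
    intro i i' hii
    have h1 : (Dblk F t 2 i).map (Matrix.toLin' (mt Q g)) = (Dblk F t 2 i').map (Matrix.toLin' (mt Q g)) := by
      rw [heq, heq, hii]
    have h2 := Submodule.map_injective_of_injective (STAB.aux_inj g) h1
    by_contra hne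
    set y0 : Fin 2 → F := fun _ => 1 with hy0
    have h3 : binj i y0 ∈ Dblk F t 2 i' := by
      rw [← h2]
      exact binj_mem i y0
    have h4 := h3 i 0 hne
    simp [binj, hy0] at h4
  have hbij : Function.Bijective f := Finite.injective_iff_bijective.mp hinj
  exact STAB.aux_of_perm g (Equiv.ofBijective f hbij) (fun i y => hf i y)

end Cfsg.Agent.K2M
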