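import Mathlib
import Cfsg.Agent.Helper7.K2M.Defs2
import Cfsg.Agent.Helper4.K2MQB
import Cfsg.Agent.Helper3.K2MRACT
import Cfsg.Agent.Helper27.K2MIND2

set_option autoImplicit false
set_option linter.unusedSectionVars false
set_option linter.unusedVariables false

/-! # S5694, `k = 2` minus blocks, chapter INV (driver helper27), piece INV-ROT2. -/

namespace Cfsg.Agent.K2M

open Matrix Cfsg.Agent.OC2P Cfsg.Agent.Helper28.Sg Cfsg.Agent.Helper28.Spin
  Cfsg.Agent.Helper12.OrthGen

variable {F : Type*} [Field F] [Fintype F] {t : ℕ} {Q : QuadraticForm F (Fin t × Fin 2 → F)}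
  {q : QuadraticForm F (Fin 2 → F)}

/-- the binary reflection is an involution -/
theorem ROT2.aux_invol {y : Fin 2 → F} (hy : q y ≠ 0) (z : Fin 2 → F) : r2 q y (r2 q y z) = z := by
  unfold r2
  rw [QuadraticMap.polar_sub_right, QuadraticMap.polar_smul_right, QuadraticMap.polar_self]
  simp only [smul_eq_mul, nsmul_eq_mul, Nat.cast_ofNat]
  have h1 : (q y)⁻¹ * (QuadraticMap.polar ⇑q y z - (q y)⁻¹ * QuadraticMap.polar ⇑q y z * (2 * q y))
      = - ((q y)⁻¹ * QuadraticMap.polar ⇑q y z) := by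
    field_simp
    ring
  rw [h1]
  module

theorem ROT2.aux_left_ne {y y' : Fin 2 → F} (hi : Indep2 (F := F) y y') : y ≠ 0 := by
  intro h0
  have h3 : (1 : F) • y + (0 : F) • y' = 0 := by rw [h0]; simp
  exact one_ne_zero (hi _ _ h3).1

theorem ROT2.aux_right_ne {y y' : Fin 2 → F} (hi : Indep2 (F := F) y y') : y' ≠ 0 := by
  intro h0
  have h3 : (0 : F) • y + (1 : F) • y' = 0 := by rw [h0]; simp
  exact one_ne_zero (hi _ _ h3).2

theorem ROT2.main (bm : BM Q q) {y y' : Fin 2 → F} (hp : QuadraticMap.polar ⇑q y y' ≠ 0)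
    (hi : Indep2 (F := F) y y') {a : Fin 2 → F}
    (h : r2 q y (r2 q y' (r2 q y (r2 q y' a))) = a) : a = 0 := by
  have hy : q y ≠ 0 := fun h0 => ROT2.aux_left_ne hi (bm.aniso _ h0)
  have hy' : q y' ≠ 0 := fun h0 => ROT2.aux_right_ne hi (bm.aniso _ h0)
  -- `s (s' a) = s' (s a)`
  have h1 : r2 q y' (r2 q y (r2 q y' a)) = r2 q y a := by
    have := congrArg (r2 q y) h
    rwa [ROT2.aux_invol hy] at this
  have heq : r2 q y (r2 q y' a) = r2 q y' (r2 q y a) := by
    have := congrArg (r2 q y') h1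
    rwa [ROT2.aux_invol hy'] at this
  set P := QuadraticMap.polar ⇑q y y' with hP
  have hPc : QuadraticMap.polar ⇑q y' y = P := QuadraticMap.polar_comm _ _ _
  set β := (q y)⁻¹ * QuadraticMap.polar ⇑q y a with hβ
  set β' := (q y')⁻¹ * QuadraticMap.polar ⇑q y' a with hβ'
  have key : ((q y)⁻¹ * β' * P) • y + (-((q y')⁻¹ * β * P)) • y'
      = r2 q y (r2 q y' a) - r2 q y' (r2 q y a) := by
    simp only [r2, QuadraticMap.polar_sub_right, QuadraticMap.polar_smul_right, smul_eq_mul, hPc,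
      ← hP, ← hβ, ← hβ']
    have e1 : (q y)⁻¹ * (QuadraticMap.polar ⇑q y a - β' * P) = β - (q y)⁻¹ * β' * P := by
      rw [hβ]; ring
    have e2 : (q y')⁻¹ * (QuadraticMap.polar ⇑q y' a - β * P) = β' - (q y')⁻¹ * β * P := by
      rw [hβ']; ring
    rw [e1, e2]
    module
  rw [heq, sub_self] at key
  obtain ⟨k1, k2⟩ := hi _ _ key
  have hβ'0 : β' = 0 := by
    rcases mul_eq_zero.mp k1 with h' | h'
    · rcases mul_eq_zero.mp h' with h'' | h''
      · exact absurd (inv_eq_zero.mp h'') hy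
      · exact h''
    · exact absurd h' hp
  have hβ0 : β = 0 := by
    rw [neg_eq_zero] at k2
    rcases mul_eq_zero.mp k2 with h' | h'
    · rcases mul_eq_zero.mp h' with h'' | h''
      · exact absurd (inv_eq_zero.mp h'') hy'
      · exact h''
    · exact absurd h' hp
  have hya : QuadraticMap.polar ⇑q y a = 0 := by
    rw [hβ] at hβ0
    rcases mul_eq_zero.mp hβ0 with h' | h'
    · exact absurd (inv_eq_zero.mp h') hy
    · exact h'
  have hy'a : QuadraticMap.polar ⇑q y' a = 0 := by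
    rw [hβ'] at hβ'0
    rcases mul_eq_zero.mp hβ'0 with h' | h'
    · exact absurd (inv_eq_zero.mp h') hy'
    · exact h'
  by_contra ha
  obtain ⟨z, hz⟩ := QB.exists_polar_ne bm ha
  obtain ⟨α, γ, hzz⟩ := IND2.span hi z
  rw [QuadraticMap.polar_comm, hzz, QuadraticMap.polar_add_left, QuadraticMap.polar_smul_left,
    QuadraticMap.polar_smul_left, hya, hy'a] at hz
  simp at hz

end Cfsg.Agent.K2M
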