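import Mathlib
import Cfsg.Agent.Helper7.K2M.Defs2
import Cfsg.Agent.Helper4.K2MQB
import Cfsg.Agent.Helper3.K2MRACT
import Cfsg.Agent.Helper27.K2MSTAB
import Cfsg.Agent.Helper27.K2MINVBase

set_option autoImplicit false
set_option linter.unusedSectionVars false
set_option linter.unusedVariables false

/-! # S5694, `k = 2` minus blocks, chapter INV (driver helper27), piece INV-ROTFIXB. -/

namespace Cfsg.Agent.K2M

open Matrix Cfsg.Agent.OC2P Cfsg.Agent.Helper28.Sg Cfsg.Agent.Helper28.Spin
  Cfsg.Agent.Helper12.OrthGen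

variable {F : Type*} [Field F] [Fintype F] {t : ℕ} {Q : QuadraticForm F (Fin t × Fin 2 → F)}
  {q : QuadraticForm F (Fin 2 → F)}

/-- an isometry fixing all block vectors is the identity on vectors -/
theorem ROTFIXB.aux_id (g : OG Q) (h : ∀ (l : Fin t) (y : Fin 2 → F), mt Q g *ᵥ binj l y = binj l y)
    (z : Fin t × Fin 2 → F) : mt Q g *ᵥ z = z := by
  conv_lhs => rw [QB.eq_sum z, Matrix.mulVec_sum]
  simp only [h]
  exact (QB.eq_sum z).symm

theorem ROTFIXB.main (bm : BM Q q) {e e' : Fin t × Fin 2 → F} (he : Q e ≠ 0) (he' : Q e' ≠ 0)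
    (hσ : ∀ (i : Fin t) (y : Fin 2 → F),
      mt Q (reflO Q e he * reflO Q e' he') *ᵥ binj i y ∈ Dblk F t 2 i)
    (han : ∀ a b : F, Q (a • e + b • e') = 0 → a = 0 ∧ b = 0)
    (hsq : ∀ a b : F, a • e + b • e' ≠ 0 →
      mt Q (reflO Q e he * reflO Q e' he') *ᵥ (mt Q (reflO Q e he * reflO Q e' he') *ᵥ (a • e + b • e'))
        ≠ a • e + b • e') :
    ∃ l : Fin t, e ∈ Dblk F t 2 l ∧ e' ∈ Dblk F t 2 l := by
  set g := reflO Q e he * reflO Q e' he' with hg
  have he0 : e ≠ 0 := by
    intro h0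
    apply he
    rw [h0, map_zero]
  -- some block vector is moved
  have hmoved : ∃ (l : Fin t) (y₁ : Fin 2 → F), mt Q g *ᵥ binj l y₁ - binj l y₁ ≠ 0 := by
    by_contra hcon
    push Not at hcon
    have hid : ∀ z, mt Q g *ᵥ z = z :=
      ROTFIXB.aux_id g (fun l y => sub_eq_zero.mp (hcon l y))
    have h1 : (1 : F) • e + (0 : F) • e' ≠ 0 := by
      rw [one_smul, zero_smul, add_zero]; exact he0
    exact hsq 1 0 h1 (by rw [hid, hid])
  obtain ⟨l, y₁, hr0⟩ := hmoved
  set r := mt Q g *ᵥ binj l y₁ - binj l y₁ with hr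
  have hrl : r ∈ Dblk F t 2 l := Submodule.sub_mem _ (hσ l y₁) (binj_mem l y₁)
  obtain ⟨a, b, hab⟩ := RR.sub_mem e e' he he' (binj l y₁)
  rw [← hg, ← hr] at hab
  have hgr : mt Q g *ᵥ r ∈ Dblk F t 2 l := by
    rw [QB.mem_Dblk_iff'.mp hrl]
    exact hσ l _
  set r' := mt Q g *ᵥ r - r with hr'
  have hr'l : r' ∈ Dblk F t 2 l := Submodule.sub_mem _ hgr hrl
  obtain ⟨a', b', hab'⟩ := RR.sub_mem e e' he he' r
  rw [← hg, ← hr'] at hab'
  by_cases hΔ : a * b' - a' * b = 0
  · exfalso
    -- `r' = c • r`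
    have hc : ∃ c : F, r' = c • r := by
      by_cases ha : a = 0
      · have hb : b ≠ 0 := by
          intro hb
          apply hr0
          rw [hab, ha, hb, zero_smul, zero_smul, add_zero]
        have ha' : a' = 0 := by
          rw [ha, zero_mul, zero_sub, neg_eq_zero] at hΔ
          rcases mul_eq_zero.mp hΔ with h | h
          · exact h
          · exact absurd h hb
        refine ⟨b' / b, ?_⟩
        rw [hab', hab, ha, ha', zero_smul, zero_add, zero_add, smul_smul,
          div_mul_cancel₀ _ hb]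
      · refine ⟨a' / a, ?_⟩
        have hb' : b' = a' / a * b := by
          field_simp
          linear_combination hΔ
        rw [hab', hab, smul_add, smul_smul, smul_smul, div_mul_cancel₀ _ ha, ← hb']
    obtain ⟨c, hc⟩ := hc
    have hgr' : mt Q g *ᵥ r = (1 + c) • r := by
      have : mt Q g *ᵥ r = r' + r := by rw [hr']; abel
      rw [this, hc]; module
    have hQr : Q r ≠ 0 := by
      intro h0
      rw [hab] at h0
      obtain ⟨ha0, hb0⟩ := han a b h0
      apply hr0
      rw [hab, ha0, hb0, zero_smul, zero_smul, add_zero]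
    have hiso : Q (mt Q g *ᵥ r) = Q r := Cfsg.Agent.Helper28.Spin.isom_apply Q g r
    rw [hgr', Q_smul] at hiso
    have hcc : (1 + c) * (1 + c) = 1 := by
      have h2 : ((1 + c) * (1 + c) - 1) * Q r = 0 := by linear_combination hiso
      rcases mul_eq_zero.mp h2 with h | h
      · exact sub_eq_zero.mp h
      · exact absurd h hQr
    have hggr : mt Q g *ᵥ (mt Q g *ᵥ r) = r := by
      rw [hgr', Matrix.mulVec_smul, hgr', smul_smul, hcc, one_smul]
    have hr0' : a • e + b • e' ≠ 0 := by rw [← hab]; exact hr0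
    apply hsq a b hr0'
    rw [← hab]
    exact hggr
  · refine ⟨l, ?_, ?_⟩
    · have h1 : e = (a * b' - a' * b)⁻¹ • (b' • r - b • r') := by
        rw [hab, hab']
        have : b' • (a • e + b • e') - b • (a' • e + b' • e') = (a * b' - a' * b) • e := by module
        rw [this, smul_smul, inv_mul_cancel₀ hΔ, one_smul]
      rw [h1]
      exact Submodule.smul_mem _ _ (Submodule.sub_mem _ (Submodule.smul_mem _ _ hrl)
        (Submodule.smul_mem _ _ hr'l))
    · have h1 : e' = (a * b' - a' * b)⁻¹ • (a • r' - a' • r) := by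
        rw [hab, hab']
        have : a • (a' • e + b' • e') - a' • (a • e + b • e') = (a * b' - a' * b) • e' := by module
        rw [this, smul_smul, inv_mul_cancel₀ hΔ, one_smul]
      rw [h1]
      exact Submodule.smul_mem _ _ (Submodule.sub_mem _ (Submodule.smul_mem _ _ hr'l)
        (Submodule.smul_mem _ _ hrl))

end Cfsg.Agent.K2M
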