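import Mathlib
import Cfsg.Agent.Helper7.K2M.Defs2
import Cfsg.Agent.Helper4.K2MQB
import Cfsg.Agent.Helper27.K2MSTAB
import Cfsg.Agent.Helper27.K2MINVBase
import Cfsg.Agent.Helper27.K2MROTFIXB
import Cfsg.Agent.Helper7.K2MINVROTFIXA

set_option autoImplicit false
set_option linter.unusedSectionVars false
set_option linter.unusedVariables false

/-! # S5694, `k = 2` minus blocks, chapter INV (driver helper27): ROTFIX (assembly of ROTFIXA + ROTFIXB). -/

namespace Cfsg.Agent.K2M

open Matrix Cfsg.Agent.OC2P Cfsg.Agent.Helper28.Sg Cfsg.Agent.Helper28.Spin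
  Cfsg.Agent.Helper12.OrthGen

variable {F : Type*} [Field F] [Fintype F] {t : ℕ} {Q : QuadraticForm F (Fin t × Fin 2 → F)}
  {q : QuadraticForm F (Fin 2 → F)}

/-- ROTFIX: a product of two reflections `g = r_e r_e'` permuting the blocks, with `span{e,e'}` anisotropic and `g²`
without nonzero fixed vectors in it, has `e, e'` in one block -/
theorem ROTFIX.main (bm : BM Q q) {e e' : Fin t × Fin 2 → F} (he : Q e ≠ 0) (he' : Q e' ≠ 0)
    (hS : StabD Q (reflO Q e he * reflO Q e' he'))
    (han : ∀ a b : F, Q (a • e + b • e') = 0 → a = 0 ∧ b = 0)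
    (hsq : ∀ a b : F, a • e + b • e' ≠ 0 →
      mt Q (reflO Q e he * reflO Q e' he') *ᵥ (mt Q (reflO Q e he * reflO Q e' he') *ᵥ (a • e + b • e'))
        ≠ a • e + b • e') :
    ∃ l : Fin t, e ∈ Dblk F t 2 l ∧ e' ∈ Dblk F t 2 l := by
  obtain ⟨σ, hσ⟩ := (STAB.iff bm _).mp hS
  by_cases hall : ∀ l, σ l = l
  · refine ROTFIXB.main bm he he' (fun i y => ?_) han hsq
    have h := hσ i y
    rwa [hall i] at h
  · push Not at hall
    obtain ⟨l, hl⟩ := hall
    exfalso
    have h1 := ROTFIXA.main bm he he' σ hσ hl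
    have he0 : (1 : F) • e + (0 : F) • e' ≠ 0 := by
      rw [one_smul, zero_smul, add_zero]
      intro h0
      apply he
      rw [h0, map_zero]
    have h2 := hsq 1 0 he0
    rw [one_smul, zero_smul, add_zero] at h2
    exact h2 h1

end Cfsg.Agent.K2M
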