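import Mathlib
import Cfsg.Agent.Helper7.K2M.Defs2
import Cfsg.Agent.Helper4.K2MQB
import Cfsg.Agent.Helper27.K2MSTAB
import Cfsg.Agent.Helper27.K2MINVBase
import Cfsg.Agent.Helper19.K2MINVFULLP

set_option autoImplicit false
set_option linter.unusedSectionVars false
set_option linter.unusedVariables false

/-! # S5694, `k = 2` minus blocks, chapter INV (driver helper27): FULL (assembly from FULLP). -/

namespace Cfsg.Agent.K2M

open Matrix Cfsg.Agent.OC2P Cfsg.Agent.Helper28.Sg Cfsg.Agent.Helper28.Spin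
  Cfsg.Agent.Helper12.OrthGen

variable {F : Type*} [Field F] [Fintype F] {t : ℕ} {Q : QuadraticForm F (Fin t × Fin 2 → F)}
  {q : QuadraticForm F (Fin 2 → F)}

/-- FULL: all components of the image of a nonzero block vector under `x ∈ H ∖ StabD` are nonzero -/
theorem FULL.main (bm : BM Q q) (ht : 3 ≤ t) (hF : Fintype.card F ≠ 3) {H : Subgroup (OG Q)}
    (hH : HasMO H) (hP : PropP H) {x : OG Q} (hx : x ∈ H) (hns : ¬ StabD Q x)
    {v : Fin t × Fin 2 → F} (hv : IsBlk v) (hv0 : v ≠ 0) (i : Fin t) :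
    bproj i (mt Q x *ᵥ v) ≠ 0 := by
  intro hi
  apply hns
  obtain ⟨l, hl⟩ := FULLP.main bm ht hF hH hP hx hv hv0 hi
  -- a block vector `v'` with `x v' = binj i y₀`
  set y₀ : Fin 2 → F := fun _ => 1 with hy₀
  have hy₀0 : y₀ ≠ 0 := by
    intro h
    have := congrFun h 0
    simp [hy₀] at this
  set v' := mt Q x⁻¹ *ᵥ binj i y₀ with hv'
  have hv'blk : IsBlk v' := ⟨l, hl y₀⟩
  have hxv' : mt Q x *ᵥ v' = binj i y₀ := by rw [hv', mt_mulVec_inv]
  have hv'0 : v' ≠ 0 := by
    intro h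
    rw [h, Matrix.mulVec_zero] at hxv'
    exact hy₀0 (QB.binj_eq_zero.mp hxv'.symm)
  have hinv : StabD Q x⁻¹ := by
    refine STAB.of_forall' bm x⁻¹ (fun i' => ?_)
    by_cases hii : i' = i
    · subst hii
      exact ⟨l, hl⟩
    · have hi' : bproj i' (mt Q x *ᵥ v') = 0 := by
        rw [hxv']
        exact bproj_binj_ne hii y₀
      exact FULLP.main bm ht hF hH hP hx hv'blk hv'0 hi'
  have := STAB.inv hinv
  rwa [inv_inv] at this

end Cfsg.Agent.K2M
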