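import Mathlib
import Cfsg.Agent.Helper7.K2M.Defs2
import Cfsg.Agent.Helper4.K2MQB
import Cfsg.Agent.Helper3.K2MRACT
import Cfsg.Agent.Helper27.K2MSTAB
import Cfsg.Agent.Helper27.K2MINVBase
import Cfsg.Agent.Helper27.K2MROTFIXB
import Cfsg.Agent.Helper7.K2MINVSWAPSUPP

set_option autoImplicit false
set_option linter.unusedSectionVars false
set_option linter.unusedVariables false

/-! # S5694, `k = 2` minus blocks, chapter INV (driver helper27), piece INV-RANK2. -/

namespace Cfsg.Agent.K2M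

open Matrix Cfsg.Agent.OC2P Cfsg.Agent.Helper28.Sg Cfsg.Agent.Helper28.Spin
  Cfsg.Agent.Helper12.OrthGen

variable {F : Type*} [Field F] [Fintype F] {t : ℕ} {Q : QuadraticForm F (Fin t × Fin 2 → F)}
  {q : QuadraticForm F (Fin 2 → F)}

theorem RANK2.main (bm : BM Q q) {e e' : Fin t × Fin 2 → F} (he : Q e ≠ 0) (he' : Q e' ≠ 0)
    (hee : B Q e e' = 0) (hind : Indep2 (F := F) e e')
    (hS : StabD Q (reflO Q e he * reflO Q e' he')) {a : Fin t} {v : Fin t × Fin 2 → F}
    (hv : v ∈ Dblk F t 2 a) (hv0 : v ≠ 0) (hev : B Q e v = 0) (hev' : B Q e' v = 0) :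
    (∀ w ∈ Dblk F t 2 a, B Q e w = 0 ∧ B Q e' w = 0) ∨
      (∃ (l : Fin t) (r : Fin t × Fin 2 → F) (α β : F),
        r ∈ Dblk F t 2 l ∧ r ≠ 0 ∧ r = α • e + β • e') := by
  set g := reflO Q e he * reflO Q e' he' with hg
  obtain ⟨σ, hσ⟩ := (STAB.iff bm _).mp hS
  have hgv : mt Q g *ᵥ v = v := RR.fix e e' he he' hev hev'
  have hσa : σ a = a := by
    by_contra hne
    have h1 : v ∈ Dblk F t 2 (σ a) := by
      have h2 := hσ a (bproj a v)
      rw [← QB.mem_Dblk_iff'.mp hv, hgv] at h2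
      exact h2
    have h3 : bproj a v = 0 := (QB.mem_Dblk_iff.mp h1) a (Ne.symm hne)
    apply hv0
    rw [QB.mem_Dblk_iff'.mp hv, h3, QB.binj_zero]
  by_cases hall : ∀ l, σ l = l
  · by_cases hmoved : ∃ (l : Fin t) (y : Fin 2 → F), mt Q g *ᵥ binj l y - binj l y ≠ 0
    · right
      obtain ⟨l, y, hne⟩ := hmoved
      obtain ⟨α, β, hαβ⟩ := RR.sub_mem e e' he he' (binj l y)
      refine ⟨l, mt Q g *ᵥ binj l y - binj l y, α, β, ?_, hne, hαβ⟩
      have h1 := hσ l y
      rw [hall l] at h1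
      exact Submodule.sub_mem _ h1 (binj_mem l y)
    · left
      push Not at hmoved
      have hid : ∀ z, mt Q g *ᵥ z = z :=
        ROTFIXB.aux_id g (fun l y => sub_eq_zero.mp (hmoved l y))
      intro w _
      have h1 := hid w
      rw [hg, RR.mulVec, hee, mul_zero, sub_zero] at h1
      have h2 : ((Q e)⁻¹ * B Q e w) • e + ((Q e')⁻¹ * B Q e' w) • e' = 0 := by
        have h3 : w - (w - ((Q e')⁻¹ * B Q e' w) • e' - ((Q e)⁻¹ * B Q e w) • e) = 0 := by
          rw [h1, sub_self]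
        rw [← h3]
        module
      obtain ⟨k1, k2⟩ := hind _ _ h2
      constructor
      · rcases mul_eq_zero.mp k1 with h | h
        · exact absurd (inv_eq_zero.mp h) he
        · exact h
      · rcases mul_eq_zero.mp k2 with h | h
        · exact absurd (inv_eq_zero.mp h) he'
        · exact h
  · left
    push Not at hall
    obtain ⟨l, hl⟩ := hall
    have hal : a ≠ l := by
      intro h
      rw [← h] at hl
      exact hl hσa
    have haσl : a ≠ σ l := by
      intro h
      have h1 : σ a = σ l := by rw [hσa]; exact h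
      exact hal (σ.injective h1)
    obtain ⟨h1, h2⟩ := SWAPSUPP.supp bm he he' σ hσ hl hal haσl
    intro w hw
    rw [QB.mem_Dblk_iff'.mp hw, QB.B_binj_right bm, QB.B_binj_right bm, h1, h2,
      QuadraticMap.polar_zero_left]
    exact ⟨rfl, rfl⟩

end Cfsg.Agent.K2M
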