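import Mathlib
import Cfsg.Agent.Helper7.K2M.Defs2
import Cfsg.Agent.Helper4.K2MQB
import Cfsg.Agent.Helper27.K2MSTAB
import Cfsg.Agent.Helper27.K2MINVBase
import Cfsg.Agent.Helper27.K2MFULL
import Cfsg.Agent.Helper16.K2MINVSQ3
import Cfsg.Agent.Helper16.K2MINVPERPV
import Cfsg.Agent.Helper5.K2MINVOLPAIR

set_option autoImplicit false
set_option linter.unusedSectionVars false
set_option linter.unusedVariables false

/-! # S5694, `k = 2` minus blocks (designer helper7), chapter INV (driver helper27): `INVOL.main`, `INV.main`: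
under property (P) every element of `H ⊇ M ∩ Ω` permutes the blocks. -/

namespace Cfsg.Agent.K2M

open Matrix Cfsg.Agent.OC2P Cfsg.Agent.Helper28.Sg Cfsg.Agent.Helper28.Spin
  Cfsg.Agent.Helper12.OrthGen

variable {F : Type*} [Field F] [Fintype F] {t : ℕ} {Q : QuadraticForm F (Fin t × Fin 2 → F)}
  {q : QuadraticForm F (Fin 2 → F)}

/-- INVOL -/
theorem INVOL.main (bm : BM Q q) (ht : 3 ≤ t) (hF : Fintype.card F ≠ 3) {H : Subgroup (OG Q)}
    (hH : HasMO H) (hP : PropP H) {x : OG Q} (hx : x ∈ H) (hns : ¬ StabD Q x) : False := by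
  set i1 : Fin t := ⟨0, by omega⟩ with hi1
  set i2 : Fin t := ⟨1, by omega⟩ with hi2
  set i3 : Fin t := ⟨2, by omega⟩ with hi3
  have h12 : i1 ≠ i2 := by simp [hi1, hi2, Fin.ext_iff]
  have h13 : i1 ≠ i3 := by simp [hi1, hi3, Fin.ext_iff]
  have h23 : i2 ≠ i3 := by simp [hi2, hi3, Fin.ext_iff]
  set y₀ : Fin 2 → F := fun _ => 1 with hy₀
  have hy₀0 : y₀ ≠ 0 := by
    intro h
    have := congrFun h 0
    simp [hy₀] at this
  obtain ⟨p1, hp1, hu1⟩ := PERPV.main bm (bproj i1 (mt Q x *ᵥ binj i1 y₀))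
  obtain ⟨p2, hp2, hu2⟩ := PERPV.main bm (bproj i2 (mt Q x *ᵥ binj i1 y₀))
  obtain ⟨p3, hp3, hu3⟩ := PERPV.main bm (bproj i3 (mt Q x *ᵥ binj i1 y₀))
  have hq1 : q p1 ≠ 0 := fun h => hp1 (bm.aniso _ h)
  have hq2 : q p2 ≠ 0 := fun h => hp2 (bm.aniso _ h)
  have hq3 : q p3 ≠ 0 := fun h => hp3 (bm.aniso _ h)
  rcases SQ3.main hq1 hq2 hq3 with h | h | h
  · exact INVOLPAIR.main bm ht hF hH hP hx hns hy₀0 h12 h13 h23 hp1 hp2 hu1 hu2 h
  · exact INVOLPAIR.main bm ht hF hH hP hx hns hy₀0 h13 h12 h23.symm hp1 hp3 hu1 hu3 h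
  · exact INVOLPAIR.main bm ht hF hH hP hx hns hy₀0 h23 h12.symm h13.symm hp2 hp3 hu2 hu3 h

/-- chapter INV -/
theorem INV.main (bm : BM Q q) (ht : 7 ≤ t) (hF : Fintype.card F ≠ 3) {H : Subgroup (OG Q)}
    (hH : HasMO H) (hP : PropP H) {g : OG Q} (hg : g ∈ H) : StabD Q g := by
  by_contra hns
  exact INVOL.main bm (by omega) hF hH hP hg hns

end Cfsg.Agent.K2M
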