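import Mathlib
import Cfsg.Agent.Helper15.Iso44Bas
import Cfsg.Agent.Helper25.Iso44INV
import Cfsg.Agent.Helper22.Iso44AP

/-!
# S3044/S3045 piece AT (helper27): in case A the quotient `Y / Y_L` has prime exponent `t ≠ p`.
-/

set_option autoImplicit false
set_option linter.style.haveILetI false

namespace Cfsg.Agent.Helper15.Iso44

open Cfsg Subgroup

variable {G : Type*} [Group G] [Finite G] {p : ℕ} [Fact p.Prime] {S : Sylow p G} {P : Subgroup G}

theorem caseA_exists_t (h : Ctx p S P) (hA : ⁅Ysub p P, Ysub p P⁆ ≤ YLsub p S P) :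
    ∃ t : ℕ, t.Prime ∧ t ≠ p ∧ ∀ y ∈ Ysub p P, y ^ t ∈ YLsub p S P := by
  classical
  have hpp : p.Prime := Fact.out
  have hpq : PPrimeQuot p P := caseA_pprime h hA
  -- the quotient `Y / Y_L`
  have hKn : ((YLsub p S P).subgroupOf (Ysub p P)).Normal := inferInstance
  have hcomm : ∀ a b : ↥(Ysub p P) ⧸ (YLsub p S P).subgroupOf (Ysub p P), a * b = b * a := by
    intro a b
    induction a using QuotientGroup.induction_on with
    | H a =>
      induction b using QuotientGroup.induction_on with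
      | H b =>
        rw [← QuotientGroup.mk_mul, ← QuotientGroup.mk_mul, QuotientGroup.eq, Subgroup.mem_subgroupOf]
        apply hA
        have e : (((a * b)⁻¹ * (b * a) : ↥(Ysub p P)) : G) =
            (b : G)⁻¹ * (a : G)⁻¹ * ((b : G)⁻¹)⁻¹ * ((a : G)⁻¹)⁻¹ := by
          push_cast
          group
        rw [e, ← commutatorElement_def]
        exact Subgroup.commutator_mem_commutator (Subgroup.inv_mem _ b.2) (Subgroup.inv_mem _ a.2)
  letI : CommGroup (↥(Ysub p P) ⧸ (YLsub p S P).subgroupOf (Ysub p P)) :=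
    { (inferInstance : Group (↥(Ysub p P) ⧸ (YLsub p S P).subgroupOf (Ysub p P))) with mul_comm := hcomm }
  -- `p` does not divide the order of the quotient
  have hpQ : ¬ p ∣ Nat.card (↥(Ysub p P) ⧸ (YLsub p S P).subgroupOf (Ysub p P)) := by
    rw [← Subgroup.index_eq_card]
    have R : Sylow p ↥(Ysub p P) := default
    have hRK : (R : Subgroup ↥(Ysub p P)) ≤ (YLsub p S P).subgroupOf (Ysub p P) := by
      intro r hr
      rw [Subgroup.mem_subgroupOf]
      have hT : IsPGroup p ↥((R : Subgroup ↥(Ysub p P)).map (Ysub p P).subtype) :=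
        R.isPGroup'.map _
      have hle := hpq _ hT (Subgroup.map_subtype_le _)
      exact O_le_YL (hle (Subgroup.mem_map_of_mem _ hr))
    intro hdvd
    exact R.not_dvd_index (dvd_trans hdvd (Subgroup.index_dvd_of_le hRK))
  -- the quotient is not trivial
  have hne : Nat.card (↥(Ysub p P) ⧸ (YLsub p S P).subgroupOf (Ysub p P)) ≠ 1 := by
    intro h1
    apply Y_not_le_L h
    intro y hy
    apply YL_le_L
    have : ((⟨y, hy⟩ : ↥(Ysub p P)) : ↥(Ysub p P) ⧸ (YLsub p S P).subgroupOf (Ysub p P)) = 1 := by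
      have hsub : Subsingleton (↥(Ysub p P) ⧸ (YLsub p S P).subgroupOf (Ysub p P)) :=
        (Nat.card_eq_one_iff_unique.mp h1).1
      exact Subsingleton.elim _ _
    rw [QuotientGroup.eq_one_iff, Subgroup.mem_subgroupOf] at this
    exact this
  obtain ⟨t, ht, htd⟩ := Nat.exists_prime_and_dvd hne
  refine ⟨t, ht, ?_, ?_⟩
  · rintro rfl; exact hpQ htd
  haveI := Fact.mk ht
  obtain ⟨q, hq⟩ := exists_prime_orderOf_dvd_card' t htd
  -- the subgroup `N`
  let f : ↥(Ysub p P) →* ↥(Ysub p P) ⧸ (YLsub p S P).subgroupOf (Ysub p P) :=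
    (powMonoidHom t).comp (QuotientGroup.mk' _)
  have hf : ∀ y : ↥(Ysub p P), f y = 1 ↔ (y : G) ^ t ∈ YLsub p S P := by
    intro y
    show ((y : ↥(Ysub p P) ⧸ (YLsub p S P).subgroupOf (Ysub p P))) ^ t = 1 ↔ _
    rw [← QuotientGroup.mk_pow, QuotientGroup.eq_one_iff, Subgroup.mem_subgroupOf]
    simp
  have hNmem : ∀ g : G, g ∈ f.ker.map (Ysub p P).subtype ↔ g ∈ Ysub p P ∧ g ^ t ∈ YLsub p S P := by
    intro g
    constructor
    · rintro ⟨y, hy, rfl⟩
      exact ⟨y.2, (hf y).mp (MonoidHom.mem_ker.mp hy)⟩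
    · rintro ⟨hg, hgt⟩
      exact ⟨⟨g, hg⟩, MonoidHom.mem_ker.mpr ((hf ⟨g, hg⟩).mpr hgt), rfl⟩
  have hNn : (f.ker.map (Ysub p P).subtype).Normal := by
    refine ⟨fun n hn g => ?_⟩
    rw [hNmem] at hn ⊢
    refine ⟨Y_normal.conj_mem n hn.1 g, ?_⟩
    rw [conj_pow]
    exact YL_normal.conj_mem _ hn.2 g
  have hNY : f.ker.map (Ysub p P).subtype ≤ Ysub p P := Subgroup.map_subtype_le _
  rcases normal_le_Y h _ hNn hNY with hN | hN
  · intro y hy
    rw [← hN] at hy
    exact ((hNmem y).mp hy).2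
  · exfalso
    induction q using QuotientGroup.induction_on with
    | H y =>
      have hy1 : (y : G) ^ t ∈ YLsub p S P := by
        rw [← hf]
        show ((y : ↥(Ysub p P) ⧸ (YLsub p S P).subgroupOf (Ysub p P))) ^ t = 1
        rw [← hq]; exact pow_orderOf_eq_one _
      have hy2 : (y : G) ∈ YLsub p S P := hN ((hNmem _).mpr ⟨y.2, hy1⟩)
      have : ((y : ↥(Ysub p P) ⧸ (YLsub p S P).subgroupOf (Ysub p P))) = 1 := by
        rw [QuotientGroup.eq_one_iff, Subgroup.mem_subgroupOf]; exact hy2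
      rw [this, orderOf_one] at hq
      exact ht.one_lt.ne hq

end Cfsg.Agent.Helper15.Iso44
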