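import Mathlib

/-! S0420 piece (C): there is no strongly regular graph with parameters `(55, 18, 1, 8)`
(irrational eigenvalues `(-7 ± √89)/2` would need equal multiplicities). -/

set_option autoImplicit false

namespace Cfsg.Agent.Helper27.Srg55

open Matrix Polynomial

/-- Arithmetic core: eigenvalue multiplicities `a, f, g` with `a + f + g = 55` and
`18 a + f r + g s = 0` for `r, s = (-7 ± √89)/2` do not exist. -/
theorem arith_core (a f g : ℕ) (h55 : a + f + g = 55)
    (htr : (18 : ℝ) * a + (f : ℝ) * ((-7 + Real.sqrt 89) / 2) +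
      (g : ℝ) * ((-7 - Real.sqrt 89) / 2) = 0) : False := by
  have hirr : Irrational (Real.sqrt (89 : ℕ)) := Nat.Prime.irrational_sqrt (by norm_num)
  have h89 : ((89 : ℕ) : ℝ) = 89 := by norm_num
  rw [h89] at hirr
  have h1 : (((f : ℤ) - (g : ℤ) : ℤ) : ℝ) * Real.sqrt 89 =
      ((7 * ((f : ℤ) + (g : ℤ)) - 36 * (a : ℤ) : ℤ) : ℝ) := by
    push_cast
    linarith
  by_cases hfg : (f : ℤ) - (g : ℤ) = 0
  · rw [hfg] at h1
    simp only [Int.cast_zero, zero_mul] at h1
    have h2 : (7 * ((f : ℤ) + (g : ℤ)) - 36 * (a : ℤ) : ℤ) = 0 := by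
      exact_mod_cast h1.symm
    omega
  · have h3 : Irrational ((((f : ℤ) - (g : ℤ) : ℤ) : ℝ) * Real.sqrt 89) :=
      hirr.intCast_mul hfg
    rw [h1] at h3
    exact h3.ne_int _ rfl

theorem no_srg_55_18_1_8 {V : Type*} [Fintype V] [DecidableEq V] (adj : V → V → Prop)
    [DecidableRel adj] (hsymm : ∀ a b, adj a b → adj b a) (hirr : ∀ a, ¬ adj a a)
    (hV : Fintype.card V = 55)
    (hk : ∀ a, (Finset.univ.filter (fun c => adj a c)).card = 18)
    (hl : ∀ a b, adj a b → (Finset.univ.filter (fun c => adj a c ∧ adj b c)).card = 1)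
    (hm : ∀ a b, a ≠ b → ¬ adj a b →
      (Finset.univ.filter (fun c => adj a c ∧ adj b c)).card = 8) : False := by
  classical
  have hne : Nonempty V := by
    rw [← Fintype.card_pos_iff, hV]; norm_num
  let A : Matrix V V ℝ := Matrix.of fun a b => if adj a b then 1 else 0
  let J : Matrix V V ℝ := Matrix.of fun _ _ => 1
  have hAapp : ∀ a b, A a b = if adj a b then 1 else 0 := fun a b => rfl
  have hJapp : ∀ a b, J a b = 1 := fun a b => rfl
  have hAH : A.IsHermitian := by
    ext a b
    simp only [conjTranspose_apply, hAapp, star_trivial]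
    by_cases h : adj a b
    · rw [if_pos h, if_pos (hsymm a b h)]
    · rw [if_neg h, if_neg (fun h' => h (hsymm b a h'))]
  -- row sums
  have hrow : ∀ a, ∑ b, A a b = 18 := by
    intro a
    simp only [hAapp]
    rw [Finset.sum_boole, hk a]
    norm_num
  -- entries of `A * A`
  have hsq : ∀ a b, (A * A) a b = if a = b then 18 else if adj a b then 1 else 8 := by
    intro a b
    rw [Matrix.mul_apply]
    have h1 : ∀ c, A a c * A c b = if adj a c ∧ adj b c then 1 else 0 := by
      intro c
      simp only [hAapp]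
      by_cases h1 : adj a c
      · by_cases h2 : adj b c
        · rw [if_pos h1, if_pos (hsymm b c h2), if_pos ⟨h1, h2⟩, mul_one]
        · rw [if_pos h1, if_neg (fun h' => h2 (hsymm c b h')),
            if_neg (show ¬ (adj a c ∧ adj b c) from fun h' => h2 h'.2), mul_zero]
      · rw [if_neg h1, if_neg (show ¬ (adj a c ∧ adj b c) from fun h' => h1 h'.1), zero_mul]
    simp_rw [h1]
    rw [Finset.sum_boole]
    by_cases hab : a = b
    · subst hab
      rw [if_pos rfl]
      have : (Finset.univ.filter (fun c => adj a c ∧ adj a c)) =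
          (Finset.univ.filter (fun c => adj a c)) := by
        ext c; simp
      rw [this, hk a]
      norm_num
    · rw [if_neg hab]
      by_cases h : adj a b
      · rw [if_pos h, hl a b h]; norm_num
      · rw [if_neg h, hm a b hab h]; norm_num
  -- the quadratic identity
  have hquad : A * A + (7 : ℝ) • A - (10 : ℝ) • (1 : Matrix V V ℝ) = (8 : ℝ) • J := by
    ext a b
    simp only [Matrix.add_apply, Matrix.sub_apply, Matrix.smul_apply, hsq, hAapp, hJapp,
      Matrix.one_apply, smul_eq_mul]
    by_cases hab : a = b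
    · subst hab
      simp only [if_true, if_neg (hirr a)]
      norm_num
    · by_cases h : adj a b
      · simp only [if_neg hab, if_pos h]; norm_num
      · simp only [if_neg hab, if_neg h]; norm_num
  have hAJ : (A - (18 : ℝ) • (1 : Matrix V V ℝ)) * J = 0 := by
    ext a b
    rw [Matrix.sub_mul, Matrix.sub_apply, Matrix.mul_apply, Matrix.smul_mul, Matrix.one_mul,
      Matrix.smul_apply, hJapp]
    simp only [hJapp, mul_one, Matrix.zero_apply, smul_eq_mul]
    rw [hrow a]
    norm_num
  -- the cubic annihilating polynomial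
  let P : ℝ[X] := (X - C 18) * (X ^ 2 + C 7 * X - C 10)
  have hPA : aeval A P = 0 := by
    have h1 : aeval A P = (A - (18 : ℝ) • (1 : Matrix V V ℝ)) *
        (A * A + (7 : ℝ) • A - (10 : ℝ) • (1 : Matrix V V ℝ)) := by
      simp only [P, map_mul, map_sub, map_add, aeval_X, aeval_C,
        Algebra.algebraMap_eq_smul_one, pow_two, smul_mul_assoc, one_mul]
    rw [h1, hquad, Matrix.mul_smul, hAJ, smul_zero]
  -- eigenvalues
  have hθ : ∀ i, hAH.eigenvalues i = 18 ∨
      hAH.eigenvalues i ^ 2 + 7 * hAH.eigenvalues i - 10 = 0 := by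
    intro i
    have h1 := hAH.eigenvalues_mem_spectrum_real i
    have h2 := spectrum.subset_polynomial_aeval A P ⟨_, h1, rfl⟩
    rw [hPA, spectrum.zero_eq, Set.mem_singleton_iff] at h2
    simp only [P, eval_mul, eval_sub, eval_add, eval_pow, eval_X, eval_C] at h2
    rcases mul_eq_zero.mp h2 with h3 | h3
    · left; linarith
    · right; exact h3
  set r : ℝ := (-7 + Real.sqrt 89) / 2 with hr
  set s : ℝ := (-7 - Real.sqrt 89) / 2 with hs
  have hsqrt : Real.sqrt 89 * Real.sqrt 89 = 89 := Real.mul_self_sqrt (by norm_num)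
  have hsqrt_pos : 0 < Real.sqrt 89 := Real.sqrt_pos.mpr (by norm_num)
  have hθ' : ∀ i, hAH.eigenvalues i = 18 ∨ hAH.eigenvalues i = r ∨ hAH.eigenvalues i = s := by
    intro i
    rcases hθ i with h | h
    · exact Or.inl h
    · right
      have h1 : (hAH.eigenvalues i - r) * (hAH.eigenvalues i - s) = 0 := by
        rw [hr, hs]
        nlinarith [hsqrt]
      rcases mul_eq_zero.mp h1 with h2 | h2
      · left; linarith
      · right; linarith
  have hr18 : r ≠ 18 := by
    intro h
    have : Real.sqrt 89 = 43 := by rw [hr] at h; linarith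
    rw [this] at hsqrt
    norm_num at hsqrt
  have hs18 : s ≠ 18 := by
    intro h
    have : Real.sqrt 89 = -43 := by rw [hs] at h; linarith
    linarith
  have hrs : r ≠ s := by
    intro h
    rw [hr, hs] at h
    linarith
  -- trace
  have htr0 : A.trace = 0 := by
    rw [Matrix.trace]
    apply Finset.sum_eq_zero
    intro a _
    rw [Matrix.diag_apply, hAapp, if_neg (hirr a)]
  have htr := hAH.trace_eq_sum_eigenvalues
  rw [htr0] at htr
  -- split the sum
  let Sa := Finset.univ.filter (fun i => hAH.eigenvalues i = 18)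
  let Sf := Finset.univ.filter (fun i => hAH.eigenvalues i = r)
  let Sg := Finset.univ.filter (fun i => hAH.eigenvalues i = s)
  have hdis1 : Disjoint Sa Sf := by
    rw [Finset.disjoint_filter]
    intro i _ h1 h2
    exact hr18 (h2.symm.trans h1)
  have hdis2 : Disjoint (Sa ∪ Sf) Sg := by
    rw [Finset.disjoint_union_left]
    constructor
    · rw [Finset.disjoint_filter]
      intro i _ h1 h2
      exact hs18 (h2.symm.trans h1)
    · rw [Finset.disjoint_filter]
      intro i _ h1 h2
      exact hrs (h1.symm.trans h2)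
  have huniv : (Finset.univ : Finset V) = (Sa ∪ Sf) ∪ Sg := by
    ext i
    simp only [Finset.mem_univ, Finset.mem_union, Finset.mem_filter, true_and, Sa, Sf, Sg,
      true_iff]
    rcases hθ' i with h | h | h
    · exact Or.inl (Or.inl h)
    · exact Or.inl (Or.inr h)
    · exact Or.inr h
  have hcard : Sa.card + Sf.card + Sg.card = 55 := by
    rw [← Finset.card_union_of_disjoint hdis1, ← Finset.card_union_of_disjoint hdis2, ← huniv,
      Finset.card_univ, hV]
  have hsum : (∑ i, (hAH.eigenvalues i : ℝ)) =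
      18 * (Sa.card : ℝ) + (Sf.card : ℝ) * r + (Sg.card : ℝ) * s := by
    rw [huniv, Finset.sum_union hdis2, Finset.sum_union hdis1]
    have e1 : ∑ i ∈ Sa, hAH.eigenvalues i = 18 * (Sa.card : ℝ) := by
      rw [Finset.sum_congr rfl (fun i hi => (Finset.mem_filter.mp hi).2), Finset.sum_const,
        nsmul_eq_mul, mul_comm]
    have e2 : ∑ i ∈ Sf, hAH.eigenvalues i = (Sf.card : ℝ) * r := by
      rw [Finset.sum_congr rfl (fun i hi => (Finset.mem_filter.mp hi).2), Finset.sum_const,
        nsmul_eq_mul]
    have e3 : ∑ i ∈ Sg, hAH.eigenvalues i = (Sg.card : ℝ) * s := by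
      rw [Finset.sum_congr rfl (fun i hi => (Finset.mem_filter.mp hi).2), Finset.sum_const,
        nsmul_eq_mul]
    rw [e1, e2, e3]
  have hfin : (18 : ℝ) * (Sa.card : ℝ) + (Sf.card : ℝ) * ((-7 + Real.sqrt 89) / 2) +
      (Sg.card : ℝ) * ((-7 - Real.sqrt 89) / 2) = 0 := by
    have h1 : (∑ i, (hAH.eigenvalues i : ℝ)) = 0 := by
      have := htr.symm
      simpa using this
    rw [hsum] at h1
    exact h1
  exact arith_core Sa.card Sf.card Sg.card hcard hfin

end Cfsg.Agent.Helper27.Srg55
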