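import Mathlib

/-! S0420 piece (E): the counting identity `k^2 = k + kλ + (v-k-1)μ` of a strongly regular
graph. -/

set_option autoImplicit false

namespace Cfsg.Agent.Helper27.SrgId

theorem srg_identity {V : Type*} [Fintype V] [DecidableEq V] [Nonempty V] (adj : V → V → Prop)
    [DecidableRel adj] (hsymm : ∀ a b, adj a b → adj b a) (hirr : ∀ a, ¬ adj a a) (k l m : ℕ)
    (hk : ∀ a, (Finset.univ.filter (fun c => adj a c)).card = k)
    (hl : ∀ a b, adj a b → (Finset.univ.filter (fun c => adj a c ∧ adj b c)).card = l)
    (hm : ∀ a b, a ≠ b → ¬ adj a b →
      (Finset.univ.filter (fun c => adj a c ∧ adj b c)).card = m) :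
    k * k = k + k * l + (Fintype.card V - k - 1) * m := by
  classical
  obtain ⟨a⟩ := ‹Nonempty V›
  -- double count, first way
  have hL : ∑ c, (Finset.univ.filter (fun b => adj a b ∧ adj c b)).card = k * k := by
    simp_rw [Finset.card_filter]
    rw [Finset.sum_comm]
    have h1 : ∀ b, (∑ c, if adj a b ∧ adj c b then 1 else 0) = if adj a b then k else 0 := by
      intro b
      by_cases h : adj a b
      · rw [if_pos h]
        simp only [h, true_and]
        rw [← Finset.card_filter, ← hk b]
        congr 1
        ext c
        simp only [Finset.mem_filter, Finset.mem_univ, true_and]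
        exact ⟨hsymm c b, hsymm b c⟩
      · rw [if_neg h]
        simp [h]
    simp_rw [h1]
    rw [← Finset.sum_filter, Finset.sum_const, hk a, smul_eq_mul]
  -- second way
  have hF : ∀ c, (Finset.univ.filter (fun b => adj a b ∧ adj c b)).card =
      if c = a then k else if adj a c then l else m := by
    intro c
    by_cases hca : c = a
    · subst hca
      rw [if_pos rfl, ← hk c]
      congr 1
      ext b
      simp
    · rw [if_neg hca]
      by_cases h : adj a c
      · rw [if_pos h]; exact hl a c h
      · rw [if_neg h]; exact hm a c (Ne.symm hca) h
  have hR : ∑ c, (Finset.univ.filter (fun b => adj a b ∧ adj c b)).card =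
      k + k * l + (Fintype.card V - k - 1) * m := by
    simp_rw [hF]
    rw [Finset.sum_ite, Finset.sum_ite, Finset.sum_const, Finset.sum_const, Finset.sum_const]
    have c1 : (Finset.univ.filter (fun c : V => c = a)).card = 1 := by
      rw [Finset.filter_eq' Finset.univ a, if_pos (Finset.mem_univ a), Finset.card_singleton]
    have c2 : (Finset.univ.filter (fun c : V => c = a)).card +
        (Finset.univ.filter (fun c : V => ¬ c = a)).card = Fintype.card V := by
      rw [Finset.card_filter_add_card_filter_not, Finset.card_univ]
    have c3 : ((Finset.univ.filter (fun c : V => ¬ c = a)).filter (fun c => adj a c)).card = k := by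
      rw [← hk a]
      congr 1
      ext c
      simp only [Finset.mem_filter, Finset.mem_univ, true_and]
      constructor
      · exact fun h => h.2
      · intro h
        refine ⟨?_, h⟩
        rintro rfl
        exact hirr _ h
    have c4 : ((Finset.univ.filter (fun c : V => ¬ c = a)).filter (fun c => adj a c)).card +
        ((Finset.univ.filter (fun c : V => ¬ c = a)).filter (fun c => ¬ adj a c)).card =
        (Finset.univ.filter (fun c : V => ¬ c = a)).card := by
      rw [Finset.card_filter_add_card_filter_not]
    have c5 : ((Finset.univ.filter (fun c : V => ¬ c = a)).filter (fun c => ¬ adj a c)).card =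
        Fintype.card V - k - 1 := by omega
    rw [c1, c3, c5]
    simp only [smul_eq_mul, one_mul]
    ring
  rw [← hL, hR]

end Cfsg.Agent.Helper27.SrgId
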