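import Cfsg.Agent.Helper27.M12Card

/-!
The stabiliser of a dodecad in `Cfsg.M24` (the group `M12`) and the stabiliser of a dodecad and one of its points
(the group `M11`): stabiliser chains, sharp five-fold transitivity, orders.
-/

set_option autoImplicit false

namespace Cfsg.Agent.Helper27

open Cfsg
open scoped Pointwise

/-! ### The setwise stabiliser of a set of points, as a group of permutations -/

/-- the setwise stabiliser in `M24` of a set of points -/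
def stabP (d : Finset GolayPt) : Subgroup (Equiv.Perm GolayPt) :=
  M24 ⊓ MulAction.stabilizer (Equiv.Perm GolayPt) d

theorem mem_stabP (d : Finset GolayPt) (g : Equiv.Perm GolayPt) : g ∈ stabP d ↔ g ∈ M24 ∧ g • d = d := by
  rw [stabP, Subgroup.mem_inf]
  exact Iff.rfl

theorem invSet_of_mem_stabP {d : Finset GolayPt} {g : Equiv.Perm GolayPt} (hg : g ∈ stabP d) : InvSet g d :=
  ((mem_stabP d g).mp hg).2

theorem map_stabilizer_eq_stabP (d : Finset GolayPt) :
    (MulAction.stabilizer M24 d).map M24.subtype = stabP d := by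
  ext g
  rw [Subgroup.mem_map, mem_stabP]
  constructor
  · rintro ⟨k, hk, rfl⟩
    exact ⟨k.2, hk⟩
  · rintro ⟨h1, h2⟩
    exact ⟨⟨g, h1⟩, h2, rfl⟩

theorem card_stabP_eq (d : Finset GolayPt) : Nat.card (stabP d) = Nat.card (MulAction.stabilizer M24 d) := by
  rw [← map_stabilizer_eq_stabP]
  exact Subgroup.card_map_of_injective M24.subtype_injective

theorem card_stabP {d : Finset GolayPt} (hd : d ∈ dodecads) : Nat.card (stabP d) = 95040 := by
  rw [card_stabP_eq, card_stabilizer_dodecad hd]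

/-- conjugation of setwise stabilisers -/
theorem mem_stabP_smul {g : Equiv.Perm GolayPt} (hg : g ∈ M24) (d : Finset GolayPt) (k : Equiv.Perm GolayPt) :
    k ∈ stabP (g • d) ↔ g⁻¹ * k * g ∈ stabP d := by
  rw [mem_stabP, mem_stabP]
  constructor
  · rintro ⟨h1, h2⟩
    refine ⟨M24.mul_mem (M24.mul_mem (M24.inv_mem hg) h1) hg, ?_⟩
    rw [mul_smul, mul_smul, h2, inv_smul_smul]
  · rintro ⟨h1, h2⟩
    have hk : k = g * (g⁻¹ * k * g) * g⁻¹ := by group
    refine ⟨?_, ?_⟩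
    · rw [hk]
      exact M24.mul_mem (M24.mul_mem hg h1) (M24.inv_mem hg)
    · rw [mul_smul, mul_smul] at h2
      have := congrArg (fun s => g • s) h2
      simpa using this

/-! ### The standard dodecad -/

/-- membership test for the stabiliser of the standard dodecad -/
def cert12 (T : List ℕ) : Bool := tblInCode T && (applyTbl T dod0 == dod0)

theorem certSound12 : CertSound (stabP (maskSet dod0)) cert12 := by
  intro T hv h
  simp only [cert12, Bool.and_eq_true, beq_iff_eq] at h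
  rw [mem_stabP]
  refine ⟨tblPerm_mem_M24 T hv h.1, ?_⟩
  have h1 := maskSet_applyTbl hv dod0
  rw [h.2] at h1
  have h2 : tblPerm T hv • maskSet dod0 = tblPerm T hv • ((tblPerm T hv)⁻¹ • maskSet dod0) :=
    congrArg (fun s => tblPerm T hv • s) h1
  rw [smul_inv_smul] at h2
  exact h2

theorem level_of_orbit {H : Subgroup (Equiv.Perm GolayPt)} {fixed : List ℕ} {a : ℕ} {b : GolayPt}
    (hb : b ∈ orbitSet (fixH H (ptsOf fixed)) (pt a)) :
    ∃ g ∈ H, (∀ f ∈ fixed, g (pt f) = pt f) ∧ g (pt a) = b := by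
  obtain ⟨g, hg, rfl⟩ := hb
  rw [mem_fixH] at hg
  exact ⟨g, hg.1, fun f hf => hg.2 _ ((mem_ptsOf fixed _).mpr ⟨f, hf, rfl⟩), rfl⟩

/-- the orbit of a point of an invariant set avoiding the fixed points stays in that set and avoids them -/
theorem orbit_sub_inv {H : Subgroup (Equiv.Perm GolayPt)} {fixed : List ℕ} (hfix : ∀ f ∈ fixed, f < 24) {a : ℕ}
    (ha : a < 24) (hna : a ∉ fixed) (dm : ℕ) (hD : ∀ g ∈ H, InvSet g (maskSet dm)) (haD : dm.testBit a = true) :
    ∀ g ∈ fixH H (ptsOf fixed), g (pt a) ∈ maskSet (dm ^^^ (dm &&& tblMask fixed)) := by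
  intro g hg
  rw [maskSet_xor_and, Finset.mem_sdiff]
  constructor
  · rw [invSet_apply_mem_iff (hD g (fixH_le H _ hg)), mem_maskSet, idx_pt ha]
    exact haD
  · rw [← ptsOf_eq_maskSet hfix]
    apply apply_not_mem_of_fixH hg
    rw [mem_ptsOf]
    rintro ⟨f, hf, hfa⟩
    have : f = a := by
      have := congrArg idx hfa
      rwa [idx_pt (hfix f hf), idx_pt ha] at this
    exact hna (this ▸ hf)

/-- transversal of the dodecad stabiliser at level 0 -/
def m12L0 : List (List ℕ) := [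
  [0,1,2,3,4,5,6,7,8,9,10,11,12,13,14,15,16,17,18,19,20,21,22,23],
  [2,23,13,10,3,1,11,14,0,9,4,8,20,6,7,17,21,18,19,12,15,16,22,5],
  [3,12,10,9,0,19,4,11,2,13,14,8,23,6,7,21,22,18,15,20,1,16,17,5],
  [4,19,3,9,8,18,10,6,0,2,7,11,1,13,14,16,22,17,20,12,5,21,15,23],
  [6,22,2,3,10,5,0,8,7,9,4,11,16,14,13,19,12,21,18,15,20,17,1,23],
  [7,16,9,2,6,20,8,4,10,3,0,11,15,14,13,1,19,21,5,22,18,17,12,23],
  [8,12,9,2,0,20,7,10,4,3,6,11,19,13,14,22,15,17,5,1,18,21,16,23],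
  [9,12,2,3,8,22,6,11,0,4,7,14,16,13,10,17,18,20,1,15,19,23,5,21],
  [10,15,3,9,7,18,4,0,6,2,8,11,22,14,13,12,1,21,20,16,5,17,19,23],
  [11,19,4,2,7,18,3,0,14,9,8,10,22,6,13,5,17,21,16,20,12,1,15,23],
  [13,17,2,10,14,22,11,8,9,7,6,4,5,0,3,18,20,1,23,19,21,12,16,15],
  [14,21,9,13,11,15,0,3,4,10,2,8,17,7,6,23,12,16,1,22,19,18,20,5]]

/-- transversal of the dodecad stabiliser at level 1 -/
def m12L1 : List (List ℕ) := [
  [0,1,2,3,4,5,6,7,8,9,10,11,12,13,14,15,16,17,18,19,20,21,22,23],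
  [0,20,3,9,2,15,10,7,8,4,14,6,19,13,11,12,1,16,22,5,17,23,18,21],
  [0,16,4,2,9,19,11,7,8,3,6,14,15,13,10,5,17,20,22,12,1,23,18,21],
  [0,5,6,13,11,19,4,3,2,8,14,9,20,7,10,12,15,18,17,1,23,16,22,21],
  [0,21,7,2,10,19,4,11,8,14,9,13,18,3,6,15,20,1,22,12,17,16,5,23],
  [0,18,8,11,13,20,10,3,2,6,9,14,19,7,4,1,23,5,17,12,15,16,22,21],
  [0,17,9,4,3,12,14,7,8,2,11,10,5,13,6,19,20,1,18,15,16,21,22,23],
  [0,19,10,14,8,17,2,4,9,13,3,11,5,7,6,15,18,23,22,16,12,21,1,20],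
  [0,15,11,6,8,1,9,3,2,13,4,10,12,7,14,19,18,23,22,20,5,21,17,16],
  [0,23,13,8,6,12,14,3,2,11,10,4,1,7,9,20,5,15,22,19,18,21,17,16],
  [0,5,14,11,8,16,3,2,4,13,9,6,15,7,10,12,22,21,18,1,19,23,20,17]]

/-- transversal of the dodecad stabiliser at level 2 -/
def m12L2 : List (List ℕ) := [
  [0,1,2,3,4,5,6,7,8,9,10,11,12,13,14,15,16,17,18,19,20,21,22,23],
  [0,16,2,4,11,17,6,3,13,9,14,7,18,10,8,1,22,5,19,23,21,20,15,12],
  [0,18,2,6,13,12,8,9,10,7,14,3,23,11,4,1,17,21,19,16,15,20,5,22],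
  [0,5,2,7,6,19,4,8,11,14,3,13,18,9,10,1,20,15,22,16,23,12,21,17],
  [0,19,2,8,4,16,6,11,13,10,7,9,22,14,3,5,23,1,21,20,17,18,12,15],
  [0,23,2,9,6,17,4,14,10,8,13,3,18,7,11,20,1,16,22,15,5,12,21,19],
  [0,15,2,10,6,1,4,3,7,13,14,8,21,11,9,17,19,23,12,5,16,22,18,20],
  [0,16,2,11,6,20,4,13,9,3,8,14,21,10,7,19,17,5,12,23,15,22,18,1],
  [0,20,2,13,4,23,6,9,14,7,11,10,12,3,8,16,15,19,18,17,1,21,22,5],
  [0,17,2,14,4,15,6,10,3,11,9,7,22,8,13,23,5,20,21,1,19,18,12,16]]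

/-- transversal of the dodecad stabiliser at level 3 -/
def m12L3 : List (List ℕ) := [
  [0,1,2,3,4,5,6,7,8,9,10,11,12,13,14,15,16,17,18,19,20,21,22,23],
  [0,17,2,3,6,23,11,13,7,8,4,10,19,9,14,16,21,1,15,22,12,18,20,5],
  [0,12,2,3,7,16,14,4,11,13,10,8,1,9,6,21,5,20,18,19,17,15,22,23],
  [0,20,2,3,8,15,14,10,6,7,11,9,17,13,4,16,23,22,21,12,1,18,19,5],
  [0,20,2,3,9,15,11,7,13,10,14,8,19,6,4,18,21,22,23,1,12,16,17,5],
  [0,17,2,3,10,23,4,8,9,13,11,6,20,7,14,18,15,1,21,12,22,16,19,5],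
  [0,1,2,3,11,5,10,9,13,7,6,4,22,8,14,21,18,17,16,20,19,15,12,23],
  [0,19,2,3,13,21,14,6,10,9,4,7,17,8,11,18,23,12,15,22,1,16,20,5],
  [0,22,2,3,14,5,9,13,10,6,8,11,12,7,4,23,18,20,16,19,17,21,1,15]]

/-- transversal of the dodecad stabiliser at level 4 -/
def m12L4 : List (List ℕ) := [
  [0,1,2,3,4,5,6,7,8,9,10,11,12,13,14,15,16,17,18,19,20,21,22,23],
  [0,19,2,3,4,15,7,13,11,14,6,9,17,10,8,5,21,1,23,12,22,18,20,16],
  [0,18,2,3,4,22,8,14,13,6,11,7,16,9,10,20,1,23,12,21,15,17,5,19],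
  [0,16,2,3,4,22,9,11,6,13,14,10,18,8,7,20,12,21,1,23,15,19,5,17],
  [0,17,2,3,4,15,10,6,14,11,13,8,19,7,9,5,23,12,21,1,22,16,20,18],
  [0,23,2,3,4,20,11,8,10,7,9,13,21,14,6,22,19,16,17,18,5,1,15,12],
  [0,12,2,3,4,5,13,10,9,8,7,14,1,6,11,15,18,19,16,17,20,23,22,21],
  [0,21,2,3,4,20,14,9,7,10,8,6,23,11,13,22,17,18,19,16,5,12,15,1]]

/-- transversal of the stabiliser of a dodecad and one of its points, acting on the complement, at level 0 -/
def m11L0 : List (List ℕ) := [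
  [0,1,2,3,4,5,6,7,8,9,10,11,12,13,14,15,16,17,18,19,20,21,22,23],
  [0,5,14,9,2,12,7,8,4,10,11,6,15,3,13,16,23,19,18,20,21,22,1,17],
  [0,12,11,3,6,18,14,4,2,9,8,10,15,13,7,21,19,20,16,5,17,1,23,22],
  [0,15,11,6,8,1,9,3,2,13,4,10,12,7,14,19,18,23,22,20,5,21,17,16],
  [0,16,3,14,9,21,2,6,10,11,8,4,17,7,13,22,1,19,15,20,5,12,18,23],
  [0,17,3,9,8,12,11,14,10,7,6,4,16,13,2,1,21,18,23,19,20,22,5,15],
  [0,18,9,7,10,16,4,2,6,14,11,8,21,13,3,17,22,23,15,19,20,5,12,1],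
  [0,19,14,11,10,17,4,13,8,6,2,9,1,7,3,16,12,15,23,20,5,18,21,22],
  [0,20,13,4,8,19,9,7,10,2,3,11,16,6,14,1,17,22,23,5,21,15,12,18],
  [0,21,9,2,7,22,3,11,6,4,10,8,18,14,13,5,17,19,1,20,12,16,23,15],
  [0,22,7,3,14,5,9,4,11,8,6,10,23,2,13,12,18,19,17,20,16,21,15,1],
  [0,23,7,14,6,21,8,3,11,2,4,10,22,13,9,18,5,15,1,19,20,12,16,17]]

/-- transversal of the stabiliser of a dodecad and one of its points, acting on the complement, at level 1 -/
def m11L1 : List (List ℕ) := [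
  [0,1,2,3,4,5,6,7,8,9,10,11,12,13,14,15,16,17,18,19,20,21,22,23],
  [0,1,9,13,8,12,4,2,11,3,7,14,17,6,10,23,21,22,20,5,16,19,15,18],
  [0,1,10,7,2,15,14,4,11,9,3,6,12,8,13,17,22,16,20,23,19,18,5,21],
  [0,1,13,6,3,16,4,10,14,11,8,7,23,2,9,22,21,19,12,17,15,5,18,20],
  [0,1,14,6,4,17,9,8,3,7,2,10,20,11,13,18,12,21,16,19,15,23,5,22],
  [0,1,14,2,10,18,6,13,9,4,11,8,19,3,7,12,16,15,23,21,5,17,20,22],
  [0,1,6,9,3,19,10,2,8,14,11,7,22,4,13,15,21,20,12,18,23,17,5,16],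
  [0,1,3,13,9,20,6,14,11,8,4,10,15,7,2,17,16,21,5,12,22,19,23,18],
  [0,1,4,13,6,21,14,7,2,3,11,9,18,10,8,23,22,12,5,16,20,17,15,19],
  [0,1,13,7,8,22,6,2,10,11,9,4,17,14,3,21,16,19,20,15,23,12,18,5],
  [0,1,7,14,11,23,6,3,4,10,8,9,21,2,13,19,16,12,22,17,18,15,5,20]]

/-- transversal of the stabiliser of a dodecad and one of its points, acting on the complement, at level 2 -/
def m11L2 : List (List ℕ) := [
  [0,1,2,3,4,5,6,7,8,9,10,11,12,13,14,15,16,17,18,19,20,21,22,23],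
  [0,1,13,3,4,5,6,14,11,10,9,8,15,2,7,12,16,19,20,17,18,21,23,22],
  [0,1,8,4,11,5,14,10,3,6,9,2,16,13,7,18,22,23,19,17,21,12,20,15],
  [0,1,2,13,8,5,14,7,4,10,9,11,17,3,6,23,16,12,21,22,20,18,19,15],
  [0,1,4,13,11,5,9,6,8,14,7,3,18,2,10,19,21,20,22,12,16,23,15,17],
  [0,1,11,13,2,5,6,14,3,7,10,4,19,8,9,17,12,21,20,16,22,15,18,23],
  [0,1,4,2,8,5,10,6,11,7,14,3,20,13,9,17,21,18,23,15,16,22,12,19],
  [0,1,11,8,3,5,9,14,2,10,7,4,21,13,6,23,12,19,15,18,22,20,16,17],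
  [0,1,3,11,2,5,7,9,4,14,6,8,22,13,10,19,20,15,17,23,12,16,21,18],
  [0,1,3,8,13,5,14,10,4,7,6,11,23,2,9,17,18,12,19,22,15,16,21,20]]
/-- the stabiliser of the standard dodecad -/
abbrev H12 : Subgroup (Equiv.Perm GolayPt) := stabP (maskSet dod0)

theorem H12_inv : ∀ g ∈ H12, InvSet g (maskSet dod0) := fun _ hg => invSet_of_mem_stabP hg

theorem m12OK0 : transOKH cert12 [] m12L0 = true := by decide +kernel
theorem m12OK1 : transOKH cert12 [0] m12L1 = true := by decide +kernel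
theorem m12OK2 : transOKH cert12 [2, 0] m12L2 = true := by decide +kernel
theorem m12OK3 : transOKH cert12 [3, 2, 0] m12L3 = true := by decide +kernel
theorem m12OK4 : transOKH cert12 [4, 3, 2, 0] m12L4 = true := by decide +kernel

theorem orbit12_eq0 : orbitSet (fixH H12 (ptsOf [])) (pt 0) =
    (maskSet (dod0 ^^^ (dod0 &&& tblMask [])) : Set GolayPt) := by
  have hfix : ∀ f ∈ ([] : List ℕ), f < 24 := fixed_lt_24 (by decide)
  exact orbit_eq_of_transH certSound12 hfix (by norm_num) m12OK0 _ (by decide +kernel)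
    (orbit_sub_inv hfix (by norm_num) (by decide) dod0 H12_inv (by decide +kernel))

theorem orbit12_eq1 : orbitSet (fixH H12 (ptsOf [0])) (pt 2) =
    (maskSet (dod0 ^^^ (dod0 &&& tblMask [0])) : Set GolayPt) := by
  have hfix : ∀ f ∈ ([0] : List ℕ), f < 24 := fixed_lt_24 (by decide)
  exact orbit_eq_of_transH certSound12 hfix (by norm_num) m12OK1 _ (by decide +kernel)
    (orbit_sub_inv hfix (by norm_num) (by decide) dod0 H12_inv (by decide +kernel))

theorem orbit12_eq2 : orbitSet (fixH H12 (ptsOf [2, 0])) (pt 3) =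
    (maskSet (dod0 ^^^ (dod0 &&& tblMask [2, 0])) : Set GolayPt) := by
  have hfix : ∀ f ∈ ([2, 0] : List ℕ), f < 24 := fixed_lt_24 (by decide)
  exact orbit_eq_of_transH certSound12 hfix (by norm_num) m12OK2 _ (by decide +kernel)
    (orbit_sub_inv hfix (by norm_num) (by decide) dod0 H12_inv (by decide +kernel))

theorem orbit12_eq3 : orbitSet (fixH H12 (ptsOf [3, 2, 0])) (pt 4) =
    (maskSet (dod0 ^^^ (dod0 &&& tblMask [3, 2, 0])) : Set GolayPt) := by
  have hfix : ∀ f ∈ ([3, 2, 0] : List ℕ), f < 24 := fixed_lt_24 (by decide)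
  exact orbit_eq_of_transH certSound12 hfix (by norm_num) m12OK3 _ (by decide +kernel)
    (orbit_sub_inv hfix (by norm_num) (by decide) dod0 H12_inv (by decide +kernel))

theorem orbit12_eq4 : orbitSet (fixH H12 (ptsOf [4, 3, 2, 0])) (pt 6) =
    (maskSet (dod0 ^^^ (dod0 &&& tblMask [4, 3, 2, 0])) : Set GolayPt) := by
  have hfix : ∀ f ∈ ([4, 3, 2, 0] : List ℕ), f < 24 := fixed_lt_24 (by decide)
  exact orbit_eq_of_transH certSound12 hfix (by norm_num) m12OK4 _ (by decide +kernel)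
    (orbit_sub_inv hfix (by norm_num) (by decide) dod0 H12_inv (by decide +kernel))

/-- the pointwise stabiliser of five points of the standard dodecad in its stabiliser is trivial -/
theorem fixH12_base_eq_bot : fixH H12 (ptsOf [6, 4, 3, 2, 0]) = ⊥ := by
  have h0 := card_fixH_insert H12 (ptsOf []) (pt 0)
  have h1 := card_fixH_insert H12 (ptsOf [0]) (pt 2)
  have h2 := card_fixH_insert H12 (ptsOf [2, 0]) (pt 3)
  have h3 := card_fixH_insert H12 (ptsOf [3, 2, 0]) (pt 4)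
  have h4 := card_fixH_insert H12 (ptsOf [4, 3, 2, 0]) (pt 6)
  rw [← ptsOf_cons, orbit_ncard_of_eq orbit12_eq0] at h0
  rw [← ptsOf_cons, orbit_ncard_of_eq orbit12_eq1] at h1
  rw [← ptsOf_cons, orbit_ncard_of_eq orbit12_eq2] at h2
  rw [← ptsOf_cons, orbit_ncard_of_eq orbit12_eq3] at h3
  rw [← ptsOf_cons, orbit_ncard_of_eq orbit12_eq4] at h4
  have hE : ptsOf [] = ∅ := by simp [ptsOf]
  rw [hE, fixH_empty, card_stabP maskSet_dod0_mem, h1, h2, h3, h4] at h0
  have e0 : popc 24 (dod0 ^^^ (dod0 &&& tblMask [])) = 12 := by decide +kernel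
  have e1 : popc 24 (dod0 ^^^ (dod0 &&& tblMask [0])) = 11 := by decide +kernel
  have e2 : popc 24 (dod0 ^^^ (dod0 &&& tblMask [2, 0])) = 10 := by decide +kernel
  have e3 : popc 24 (dod0 ^^^ (dod0 &&& tblMask [3, 2, 0])) = 9 := by decide +kernel
  have e4 : popc 24 (dod0 ^^^ (dod0 &&& tblMask [4, 3, 2, 0])) = 8 := by decide +kernel
  rw [e0, e1, e2, e3, e4] at h0
  have hc : Nat.card (fixH H12 (ptsOf [6, 4, 3, 2, 0])) = 1 := by omega
  exact Subgroup.card_eq_one.mp hc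

/-! ### Chains from lists of base points -/

theorem chainFull_of_list {H : Subgroup (Equiv.Perm GolayPt)} {D : Finset GolayPt} (baseL : List ℕ)
    (h : ∀ n < baseL.length, ∀ b ∈ D, (∀ f ∈ baseL.take n, b ≠ pt f) →
      ∃ g ∈ H, (∀ f ∈ baseL.take n, g (pt f) = pt f) ∧ g (pt (baseL.getD n 0)) = b) :
    ChainFull H D (fun i : Fin baseL.length => baseL.getD i.val 0) := by
  intro n b hbD hne
  have hmem : ∀ f ∈ baseL.take n.val, ∃ j : Fin baseL.length, j.val < n.val ∧ baseL.getD j.val 0 = f := by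
    intro f hf
    rw [List.mem_take_iff_getElem] at hf
    obtain ⟨i, hi, rfl⟩ := hf
    have hi1 : i < n.val := lt_of_lt_of_le hi (min_le_left _ _)
    have hi2 : i < baseL.length := lt_of_lt_of_le hi (min_le_right _ _)
    exact ⟨⟨i, hi2⟩, hi1, List.getD_eq_getElem _ _ hi2⟩
  obtain ⟨g, hg, hgfix, hgn⟩ := h n.val n.2 b hbD (by
    intro f hf
    obtain ⟨j, hj, rfl⟩ := hmem f hf
    exact hne j hj)
  refine ⟨g, hg, ?_, hgn⟩
  intro j hj
  apply hgfix
  rw [List.mem_take_iff_getElem]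
  exact ⟨j.val, lt_min hj j.2, (List.getD_eq_getElem _ _ j.2).symm⟩

theorem mem_of_orbit_eq {H : Subgroup (Equiv.Perm GolayPt)} {fixed : List ℕ} {a m : ℕ}
    (h : orbitSet (fixH H (ptsOf fixed)) (pt a) = (maskSet m : Set GolayPt)) {b : GolayPt} (hb : b ∈ maskSet m) :
    ∃ g ∈ H, (∀ f ∈ fixed, g (pt f) = pt f) ∧ g (pt a) = b := by
  apply level_of_orbit
  rw [h]
  exact hb

theorem mem_maskSet_sdiff {dm : ℕ} {fixed : List ℕ} (hfix : ∀ f ∈ fixed, f < 24) {b : GolayPt}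
    (hb : b ∈ maskSet dm) (hne : ∀ f ∈ fixed, b ≠ pt f) : b ∈ maskSet (dm ^^^ (dm &&& tblMask fixed)) := by
  rw [maskSet_xor_and, Finset.mem_sdiff, ← ptsOf_eq_maskSet hfix, mem_ptsOf]
  refine ⟨hb, ?_⟩
  rintro ⟨f, hf, rfl⟩
  exact hne f hf rfl

/-- the stabiliser of the standard dodecad is five-fold transitive on it -/
theorem chainFull12 : ChainFull H12 (maskSet dod0) (fun i : Fin [0, 2, 3, 4, 6].length => [0, 2, 3, 4, 6].getD i.val 0) := by
  apply chainFull_of_list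
  intro n hn b hbD hne
  have hn' : n < 5 := hn
  interval_cases n
  · obtain ⟨g, hg, hgf, hgb⟩ := mem_of_orbit_eq orbit12_eq0
      (mem_maskSet_sdiff (fixed_lt_24 (by decide)) hbD (fun f hf => by simp at hf))
    exact ⟨g, hg, fun f hf => by simp at hf, hgb⟩
  · obtain ⟨g, hg, hgf, hgb⟩ := mem_of_orbit_eq orbit12_eq1
      (mem_maskSet_sdiff (fixed_lt_24 (by decide)) hbD (fun f hf => hne f (by simp at hf ⊢; omega)))
    exact ⟨g, hg, fun f hf => hgf f (by simp at hf ⊢; omega), hgb⟩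
  · obtain ⟨g, hg, hgf, hgb⟩ := mem_of_orbit_eq orbit12_eq2
      (mem_maskSet_sdiff (fixed_lt_24 (by decide)) hbD (fun f hf => hne f (by simp at hf ⊢; omega)))
    exact ⟨g, hg, fun f hf => hgf f (by simp at hf ⊢; omega), hgb⟩
  · obtain ⟨g, hg, hgf, hgb⟩ := mem_of_orbit_eq orbit12_eq3
      (mem_maskSet_sdiff (fixed_lt_24 (by decide)) hbD (fun f hf => hne f (by simp at hf ⊢; omega)))
    exact ⟨g, hg, fun f hf => hgf f (by simp at hf ⊢; omega), hgb⟩
  · obtain ⟨g, hg, hgf, hgb⟩ := mem_of_orbit_eq orbit12_eq4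
      (mem_maskSet_sdiff (fixed_lt_24 (by decide)) hbD (fun f hf => hne f (by simp at hf ⊢; omega)))
    exact ⟨g, hg, fun f hf => hgf f (by simp at hf ⊢; omega), hgb⟩

theorem H12_maps {h : Equiv.Perm GolayPt} (hh : h ∈ H12) {q : GolayPt} (hq : q ∈ maskSet dod0) :
    h q ∈ maskSet dod0 :=
  (invSet_apply_mem_iff (H12_inv h hh) q).mpr hq

theorem fixH12_eq_one {v : Equiv.Perm GolayPt} (hv : v ∈ H12)
    (hfix : ∀ i : Fin [0, 2, 3, 4, 6].length, v (pt ([0, 2, 3, 4, 6].getD i.val 0)) = pt ([0, 2, 3, 4, 6].getD i.val 0)) :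
    v = 1 := by
  have hmem : v ∈ fixH H12 (ptsOf [6, 4, 3, 2, 0]) := by
    rw [mem_fixH]
    refine ⟨hv, ?_⟩
    intro q hq
    rw [mem_ptsOf] at hq
    obtain ⟨f, hf, rfl⟩ := hq
    simp only [List.mem_cons, List.not_mem_nil, or_false] at hf
    rcases hf with rfl | rfl | rfl | rfl | rfl
    · exact hfix ⟨4, by decide⟩
    · exact hfix ⟨3, by decide⟩
    · exact hfix ⟨2, by decide⟩
    · exact hfix ⟨1, by decide⟩
    · exact hfix ⟨0, by decide⟩
  rw [fixH12_base_eq_bot, Subgroup.mem_bot] at hmem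
  exact hmem

/-- sharp five-fold transitivity of the stabiliser of a dodecad on its points -/
theorem stabP_sharp5 {d : Finset GolayPt} (hd : d ∈ dodecads) (x y : Fin 5 → GolayPt)
    (hx : Function.Injective x) (hy : Function.Injective y) (hxd : ∀ i, x i ∈ d) (hyd : ∀ i, y i ∈ d) :
    ∃ k ∈ stabP d, (∀ i, k (x i) = y i) ∧ ∀ k' ∈ stabP d, (∀ i, k' (x i) = y i) → k' = k := by
  obtain ⟨g, hg, hgd⟩ := exists_smul_eq_dod0 hd
  have hD : ∀ h ∈ H12, ∀ q ∈ maskSet dod0, h q ∈ maskSet dod0 := fun h hh q hq => H12_maps hh hq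
  have hgmem : ∀ q ∈ d, g q ∈ maskSet dod0 := by
    intro q hq
    rw [← hgd, mem_smul_finset_perm]
    exact hq
  have hx' : Function.Injective (fun i => g (x i)) := g.injective.comp hx
  have hy' : Function.Injective (fun i => g (y i)) := g.injective.comp hy
  obtain ⟨h0, hh0, hmap⟩ := exists_map_of_chain chainFull12 hD (fun i => g (x i)) (fun i => g (y i)) hx' hy'
    (fun i => hgmem _ (hxd i)) (fun i => hgmem _ (hyd i))
  have hk : g⁻¹ * h0 * g ∈ stabP d := by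
    rw [← mem_stabP_smul hg d h0, hgd]
    exact hh0
  refine ⟨g⁻¹ * h0 * g, hk, ?_, ?_⟩
  · intro i
    rw [Equiv.Perm.mul_apply, Equiv.Perm.mul_apply, Equiv.Perm.inv_eq_iff_eq]
    exact hmap i
  · intro k' hk' hk'x
    -- `u` fixes the `x i` and stabilises `d`
    set k := g⁻¹ * h0 * g with hkdef
    have hkx : ∀ i, k (x i) = y i := by
      intro i
      rw [hkdef, Equiv.Perm.mul_apply, Equiv.Perm.mul_apply, Equiv.Perm.inv_eq_iff_eq]
      exact hmap i
    have hu : k⁻¹ * k' ∈ stabP d := (stabP d).mul_mem ((stabP d).inv_mem hk) hk'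
    have hux : ∀ i, (k⁻¹ * k') (x i) = x i := by
      intro i
      rw [Equiv.Perm.mul_apply, Equiv.Perm.inv_eq_iff_eq, hk'x, hkx]
    have hu0 : g * (k⁻¹ * k') * g⁻¹ ∈ H12 := by
      have h1 : g * (k⁻¹ * k') * g⁻¹ ∈ stabP (g • d) := by
        rw [mem_stabP_smul hg]
        have : g⁻¹ * (g * (k⁻¹ * k') * g⁻¹) * g = k⁻¹ * k' := by group
        rw [this]
        exact hu
      rwa [hgd] at h1
    have hu0x : ∀ i, (g * (k⁻¹ * k') * g⁻¹) (g (x i)) = g (x i) := by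
      intro i
      rw [Equiv.Perm.mul_apply, Equiv.Perm.mul_apply]
      have : g⁻¹ (g (x i)) = x i := by simp
      rw [this, hux]
    obtain ⟨m, hm, hmx⟩ := exists_move_of_chain chainFull12 hD (fun i => g (x i)) hx' (fun i => hgmem _ (hxd i))
    have hv : m * (g * (k⁻¹ * k') * g⁻¹) * m⁻¹ = 1 := by
      apply fixH12_eq_one (H12.mul_mem (H12.mul_mem hm hu0) (H12.inv_mem hm))
      intro i
      rw [← hmx i, Equiv.Perm.mul_apply, Equiv.Perm.mul_apply]
      have : m⁻¹ (m (g (x i))) = g (x i) := by simp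
      rw [this, hu0x]
    have hu1 : g * (k⁻¹ * k') * g⁻¹ = 1 := by
      have : g * (k⁻¹ * k') * g⁻¹ = m⁻¹ * (m * (g * (k⁻¹ * k') * g⁻¹) * m⁻¹) * m := by group
      rw [this, hv]; group
    have hu2 : k⁻¹ * k' = 1 := by
      have : k⁻¹ * k' = g⁻¹ * (g * (k⁻¹ * k') * g⁻¹) * g := by group
      rw [this, hu1]; group
    exact (inv_mul_eq_one.mp hu2).symm

/-! ### Transitivity on the points of a dodecad, and the order of the stabiliser of a point -/

/-- every dodecad with a chosen point can be moved to the standard dodecad with its first point -/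
theorem exists_smul_eq_dod0_pt {d : Finset GolayPt} (hd : d ∈ dodecads) {p : GolayPt} (hp : p ∈ d) :
    ∃ g ∈ M24, g • d = maskSet dod0 ∧ g p = pt 0 := by
  obtain ⟨g, hg, hgd⟩ := exists_smul_eq_dod0 hd
  have hgp : g p ∈ maskSet dod0 := by
    rw [← hgd, mem_smul_finset_perm]
    exact hp
  obtain ⟨a, ha, -, hap⟩ := chainFull12 ⟨0, by decide⟩ (g p) hgp (fun j hj => absurd hj (Nat.not_lt_zero _))
  have ha' := (mem_stabP _ a).mp ha
  refine ⟨a⁻¹ * g, M24.mul_mem (M24.inv_mem ha'.1) hg, ?_, ?_⟩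
  · rw [mul_smul, hgd, inv_smul_eq_iff, ha'.2]
  · rw [Equiv.Perm.mul_apply, Equiv.Perm.inv_eq_iff_eq]
    exact hap.symm

theorem stabP_transitive {d : Finset GolayPt} (hd : d ∈ dodecads) {p q : GolayPt} (hp : p ∈ d) (hq : q ∈ d) :
    ∃ k ∈ stabP d, k p = q := by
  obtain ⟨g, hg, hgd, hgp⟩ := exists_smul_eq_dod0_pt hd hp
  obtain ⟨g', hg', hgd', hgq⟩ := exists_smul_eq_dod0_pt hd hq
  refine ⟨g'⁻¹ * g, ?_, ?_⟩
  · rw [mem_stabP]
    refine ⟨M24.mul_mem (M24.inv_mem hg') hg, ?_⟩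
    rw [mul_smul, hgd, ← hgd', inv_smul_smul]
  · rw [Equiv.Perm.mul_apply, Equiv.Perm.inv_eq_iff_eq, hgp, hgq]

theorem orbit_stabP {d : Finset GolayPt} (hd : d ∈ dodecads) {p : GolayPt} (hp : p ∈ d) :
    orbitSet (fixH (stabP d) ∅) p = (d : Set GolayPt) := by
  rw [fixH_empty]
  ext q
  constructor
  · rintro ⟨k, hk, rfl⟩
    exact (invSet_apply_mem_iff (invSet_of_mem_stabP hk) p).mpr hp
  · intro hq
    exact stabP_transitive hd hp hq

theorem card_fixH_stabP_pt {d : Finset GolayPt} (hd : d ∈ dodecads) {p : GolayPt} (hp : p ∈ d) :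
    Nat.card (fixH (stabP d) {p}) = 7920 := by
  have h := card_fixH_insert (stabP d) ∅ p
  rw [orbit_stabP hd hp, Set.ncard_coe_finset, hd.2, fixH_empty, card_stabP hd] at h
  have h2 : (insert p ∅ : Finset GolayPt) = {p} := by simp
  rw [h2] at h
  omega

theorem map_stabilizer_inf_eq (d : Finset GolayPt) (p : GolayPt) :
    (MulAction.stabilizer M24 d ⊓ MulAction.stabilizer M24 p).map M24.subtype = fixH (stabP d) {p} := by
  ext g
  rw [Subgroup.mem_map, mem_fixH, mem_stabP]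
  constructor
  · rintro ⟨k, hk, rfl⟩
    rw [Subgroup.mem_inf] at hk
    refine ⟨⟨k.2, hk.1⟩, ?_⟩
    intro q hq
    rw [Finset.mem_singleton] at hq
    rw [hq]
    exact hk.2
  · rintro ⟨⟨h1, h2⟩, h3⟩
    refine ⟨⟨g, h1⟩, ?_, rfl⟩
    rw [Subgroup.mem_inf]
    exact ⟨h2, h3 p (Finset.mem_singleton_self p)⟩

theorem card_stabilizer_dodecad_pt {d : Finset GolayPt} (hd : d ∈ dodecads) {p : GolayPt} (hp : p ∈ d) :
    Nat.card ↥(MulAction.stabilizer M24 d ⊓ MulAction.stabilizer M24 p) = 7920 := by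
  rw [← card_fixH_stabP_pt hd hp, ← map_stabilizer_inf_eq]
  exact (Subgroup.card_map_of_injective M24.subtype_injective).symm

/-! ### The stabiliser of a dodecad and one of its points acts three-fold transitively on the complement -/

theorem InvSet.compl {σ : Equiv.Perm GolayPt} {X : Finset GolayPt} (h : InvSet σ X) :
    InvSet σ (Finset.univ \ X) := by
  unfold InvSet at *
  rw [Finset.smul_finset_sdiff, h, Finset.smul_finset_univ]

/-- mask of the complement of the standard dodecad -/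
def dod0c : ℕ := onesMask ^^^ dod0

theorem H12_inv_compl : ∀ g ∈ H12, InvSet g (maskSet dod0c) := by
  intro g hg
  rw [dod0c, maskSet_compl]
  exact (H12_inv g hg).compl

theorem m11OK0 : transOKH cert12 [0] m11L0 = true := by decide +kernel
theorem m11OK1 : transOKH cert12 [1, 0] m11L1 = true := by decide +kernel
theorem m11OK2 : transOKH cert12 [5, 1, 0] m11L2 = true := by decide +kernel

theorem orbit11_eq0 : orbitSet (fixH H12 (ptsOf [0])) (pt 1) =
    (maskSet (dod0c ^^^ (dod0c &&& tblMask [0])) : Set GolayPt) := by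
  have hfix : ∀ f ∈ ([0] : List ℕ), f < 24 := fixed_lt_24 (by decide)
  exact orbit_eq_of_transH certSound12 hfix (by norm_num) m11OK0 _ (by decide +kernel)
    (orbit_sub_inv hfix (by norm_num) (by decide) dod0c H12_inv_compl (by decide +kernel))

theorem orbit11_eq1 : orbitSet (fixH H12 (ptsOf [1, 0])) (pt 5) =
    (maskSet (dod0c ^^^ (dod0c &&& tblMask [1, 0])) : Set GolayPt) := by
  have hfix : ∀ f ∈ ([1, 0] : List ℕ), f < 24 := fixed_lt_24 (by decide)
  exact orbit_eq_of_transH certSound12 hfix (by norm_num) m11OK1 _ (by decide +kernel)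
    (orbit_sub_inv hfix (by norm_num) (by decide) dod0c H12_inv_compl (by decide +kernel))

theorem orbit11_eq2 : orbitSet (fixH H12 (ptsOf [5, 1, 0])) (pt 12) =
    (maskSet (dod0c ^^^ (dod0c &&& tblMask [5, 1, 0])) : Set GolayPt) := by
  have hfix : ∀ f ∈ ([5, 1, 0] : List ℕ), f < 24 := fixed_lt_24 (by decide)
  exact orbit_eq_of_transH certSound12 hfix (by norm_num) m11OK2 _ (by decide +kernel)
    (orbit_sub_inv hfix (by norm_num) (by decide) dod0c H12_inv_compl (by decide +kernel))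

theorem mem_maskSet_sdiff' {dm : ℕ} {fixed : List ℕ} (hfix : ∀ f ∈ fixed, f < 24) {b : GolayPt}
    (hb : b ∈ maskSet dm) (hne : ∀ f ∈ fixed, dm.testBit f = true → b ≠ pt f) :
    b ∈ maskSet (dm ^^^ (dm &&& tblMask fixed)) := by
  rw [maskSet_xor_and, Finset.mem_sdiff, ← ptsOf_eq_maskSet hfix, mem_ptsOf]
  refine ⟨hb, ?_⟩
  rintro ⟨f, hf, rfl⟩
  refine hne f hf ?_ rfl
  rw [mem_maskSet, idx_pt (hfix f hf)] at hb
  exact hb

/-- the stabiliser of the standard dodecad and its first point is three-fold transitive on the complement -/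
theorem chainFull11 : ChainFull (fixH H12 (ptsOf [0])) (maskSet dod0c)
    (fun i : Fin [1, 5, 12].length => [1, 5, 12].getD i.val 0) := by
  apply chainFull_of_list
  intro n hn b hbD hne
  have hn' : n < 3 := hn
  have h0 : dod0c.testBit 0 = false := by decide +kernel
  interval_cases n
  · obtain ⟨g, hg, hgf, hgb⟩ := mem_of_orbit_eq orbit11_eq0
      (mem_maskSet_sdiff' (fixed_lt_24 (by decide)) hbD (fun f hf hbit => by
        simp only [List.mem_cons, List.not_mem_nil, or_false] at hf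
        subst hf
        rw [h0] at hbit
        exact absurd hbit (by simp)))
    refine ⟨g, ?_, fun f hf => by simp at hf, hgb⟩
    rw [mem_fixH]
    refine ⟨hg, ?_⟩
    intro q hq
    obtain ⟨f, hf, rfl⟩ := (mem_ptsOf _ q).mp hq
    exact hgf f (by simp at hf ⊢; omega)
  · obtain ⟨g, hg, hgf, hgb⟩ := mem_of_orbit_eq orbit11_eq1
      (mem_maskSet_sdiff' (fixed_lt_24 (by decide)) hbD (fun f hf hbit => by
        simp only [List.mem_cons, List.not_mem_nil, or_false] at hf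
        rcases hf with rfl | rfl
        · exact hne 1 (by simp)
        · rw [h0] at hbit
          exact absurd hbit (by simp)))
    refine ⟨g, ?_, fun f hf => hgf f (by simp at hf ⊢; omega), hgb⟩
    rw [mem_fixH]
    refine ⟨hg, ?_⟩
    intro q hq
    obtain ⟨f, hf, rfl⟩ := (mem_ptsOf _ q).mp hq
    exact hgf f (by simp at hf ⊢; omega)
  · obtain ⟨g, hg, hgf, hgb⟩ := mem_of_orbit_eq orbit11_eq2
      (mem_maskSet_sdiff' (fixed_lt_24 (by decide)) hbD (fun f hf hbit => by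
        simp only [List.mem_cons, List.not_mem_nil, or_false] at hf
        rcases hf with rfl | rfl | rfl
        · exact hne 5 (by simp)
        · exact hne 1 (by simp)
        · rw [h0] at hbit
          exact absurd hbit (by simp)))
    refine ⟨g, ?_, fun f hf => hgf f (by simp at hf ⊢; omega), hgb⟩
    rw [mem_fixH]
    refine ⟨hg, ?_⟩
    intro q hq
    obtain ⟨f, hf, rfl⟩ := (mem_ptsOf _ q).mp hq
    exact hgf f (by simp at hf ⊢; omega)

/-- the stabiliser of a dodecad and one of its points is three-fold transitive on the complement -/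
theorem stabP_pt_three_transitive {d : Finset GolayPt} (hd : d ∈ dodecads) {p : GolayPt} (hp : p ∈ d)
    (x y : Fin 3 → GolayPt) (hx : Function.Injective x) (hy : Function.Injective y) (hxd : ∀ i, x i ∉ d)
    (hyd : ∀ i, y i ∉ d) : ∃ k ∈ fixH (stabP d) {p}, ∀ i, k (x i) = y i := by
  obtain ⟨g, hg, hgd, hgp⟩ := exists_smul_eq_dod0_pt hd hp
  have hD : ∀ h ∈ fixH H12 (ptsOf [0]), ∀ q ∈ maskSet dod0c, h q ∈ maskSet dod0c := fun h hh q hq =>
    (invSet_apply_mem_iff (H12_inv_compl h (fixH_le _ _ hh)) q).mpr hq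
  have hgmem : ∀ q, q ∉ d → g q ∈ maskSet dod0c := by
    intro q hq
    rw [dod0c, maskSet_compl, Finset.mem_sdiff]
    refine ⟨Finset.mem_univ _, ?_⟩
    rw [← hgd, mem_smul_finset_perm]
    exact hq
  have hx' : Function.Injective (fun i => g (x i)) := g.injective.comp hx
  have hy' : Function.Injective (fun i => g (y i)) := g.injective.comp hy
  obtain ⟨h0, hh0, hmap⟩ := exists_map_of_chain chainFull11 hD (fun i => g (x i)) (fun i => g (y i)) hx' hy'
    (fun i => hgmem _ (hxd i)) (fun i => hgmem _ (hyd i))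
  rw [mem_fixH] at hh0
  refine ⟨g⁻¹ * h0 * g, ?_, ?_⟩
  · rw [mem_fixH]
    constructor
    · rw [← mem_stabP_smul hg d h0, hgd]
      exact hh0.1
    · intro q hq
      rw [Finset.mem_singleton] at hq
      rw [hq, Equiv.Perm.mul_apply, Equiv.Perm.mul_apply, Equiv.Perm.inv_eq_iff_eq, hgp]
      exact hh0.2 _ ((mem_ptsOf _ _).mpr ⟨0, by simp, rfl⟩)
  · intro i
    rw [Equiv.Perm.mul_apply, Equiv.Perm.mul_apply, Equiv.Perm.inv_eq_iff_eq]
    exact hmap i

end Cfsg.Agent.Helper27
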