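import Cfsg.Agent.Helper27.SimpleConcrete
import Cfsg.Agent.Helper27.M12

/-!
Tools for verifying the hypotheses of the simplicity criteria for groups given by stabiliser chains: commutator leaves
for perfectness certificates, powers of permutations given by tables, centralisers, double transitivity from two levels
of a chain.
-/

set_option autoImplicit false

namespace Cfsg.Agent.Helper27

open Cfsg
open scoped Pointwise commutatorElement

/-! ### Tables -/

theorem represents_inj {f f' : Equiv.Perm GolayPt} {T : List ℕ} (h : Represents f T) (h' : Represents f' T) :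
    f = f' := by
  apply Equiv.ext
  intro p
  have h1 : idx (f p) = idx (f' p) := by rw [h.2, h'.2]
  have := congrArg pt h1
  rwa [pt_idx, pt_idx] at this

theorem represents_one : Represents (1 : Equiv.Perm GolayPt) idT := by
  refine ⟨by simp [idT], ?_⟩
  intro p
  rw [idT, List.getD_eq_getElem _ _ (by simpa using idx_lt p)]
  simp

/-- membership test for a pointwise stabiliser -/
def certFix (cert : List ℕ → Bool) (fixed : List ℕ) (T : List ℕ) : Bool :=
  cert T && fixed.all (fun f => T.getD f 0 == f)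

theorem certSound_fix {H : Subgroup (Equiv.Perm GolayPt)} {cert : List ℕ → Bool} (hc : CertSound H cert)
    {fixed : List ℕ} (hfix : ∀ f ∈ fixed, f < 24) : CertSound (fixH H (ptsOf fixed)) (certFix cert fixed) := by
  intro T hv h
  simp only [certFix, Bool.and_eq_true, List.all_eq_true, beq_iff_eq] at h
  rw [mem_fixH]
  refine ⟨hc T hv h.1, ?_⟩
  intro q hq
  obtain ⟨f, hf, rfl⟩ := (mem_ptsOf fixed q).mp hq
  rw [tblPerm_pt T hv (hfix f hf), h.2 f hf]

/-! ### Commutator leaves -/

/-- the table of the commutator of the permutations with tables `a`, `b` (inverses `ai`, `bi`) -/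
def commLeaf (a b ai bi : List ℕ) : List ℕ := compT (compT a b) (compT ai bi)

/-- the data of a commutator leaf is sound -/
def commLeafOK (cert : List ℕ → Bool) (a b ai bi : List ℕ) : Bool :=
  validTbl a && cert a && validTbl b && cert b && validTbl ai && validTbl bi &&
    (compT a ai == idT) && (compT b bi == idT)

theorem commLeaf_inK {H : Subgroup (Equiv.Perm GolayPt)} {cert : List ℕ → Bool} (hc : CertSound H cert)
    {a b ai bi : List ℕ} (h : commLeafOK cert a b ai bi = true) : InK ⁅H, H⁆ (commLeaf a b ai bi) := by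
  simp only [commLeafOK, Bool.and_eq_true, beq_iff_eq] at h
  obtain ⟨⟨⟨⟨⟨⟨⟨hva, hca⟩, hvb⟩, hcb⟩, hvai⟩, hvbi⟩, hai⟩, hbi⟩ := h
  have hga := hc a hva hca
  have hgb := hc b hvb hcb
  have hra := tblPerm_represents a hva
  have hrb := tblPerm_represents b hvb
  have hrai := tblPerm_represents ai hvai
  have hrbi := tblPerm_represents bi hvbi
  have e1 : tblPerm a hva * tblPerm ai hvai = 1 := by
    have := represents_compT hra hrai
    rw [hai] at this
    exact represents_inj this represents_one
  have e2 : tblPerm b hvb * tblPerm bi hvbi = 1 := by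
    have := represents_compT hrb hrbi
    rw [hbi] at this
    exact represents_inj this represents_one
  have e1' : tblPerm ai hvai = (tblPerm a hva)⁻¹ := (inv_eq_of_mul_eq_one_right e1).symm
  have e2' : tblPerm bi hvbi = (tblPerm b hvb)⁻¹ := (inv_eq_of_mul_eq_one_right e2).symm
  refine ⟨⁅tblPerm a hva, tblPerm b hvb⁆, Subgroup.commutator_mem_commutator hga hgb, ?_⟩
  have : ⁅tblPerm a hva, tblPerm b hvb⁆ = (tblPerm a hva * tblPerm b hvb) * (tblPerm ai hvai * tblPerm bi hvbi) := by
    rw [commutatorElement_def, e1', e2']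
    group
  rw [this]
  exact represents_compT (represents_compT hra hrb) (represents_compT hrai hrbi)

/-- all leaves of a list are sound -/
def leavesOK (cert : List ℕ → Bool) (L : List (List ℕ × List ℕ × List ℕ × List ℕ)) : Bool :=
  L.all (fun t => commLeafOK cert t.1 t.2.1 t.2.2.1 t.2.2.2)

/-- the initial tables of the straight-line program: the commutators and the identity -/
def leafTables (L : List (List ℕ × List ℕ × List ℕ × List ℕ)) : List (List ℕ) :=
  L.map (fun t => commLeaf t.1 t.2.1 t.2.2.1 t.2.2.2) ++ [idT]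

theorem leafTables_inK {H : Subgroup (Equiv.Perm GolayPt)} {cert : List ℕ → Bool} (hc : CertSound H cert)
    {L : List (List ℕ × List ℕ × List ℕ × List ℕ)} (h : leavesOK cert L = true) :
    ∀ T ∈ leafTables L, InK ⁅H, H⁆ T := by
  intro T hT
  rw [leafTables, List.mem_append, List.mem_map, List.mem_singleton] at hT
  rw [leavesOK, List.all_eq_true] at h
  rcases hT with ⟨t, ht, rfl⟩ | rfl
  · exact commLeaf_inK hc (h t ht)
  · exact inK_idT _

/-- all tables of the lists `Ls` are produced by the program from the commutator leaves -/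
theorem tables_inK {H : Subgroup (Equiv.Perm GolayPt)} {cert : List ℕ → Bool} (hc : CertSound H cert)
    {L : List (List ℕ × List ℕ × List ℕ × List ℕ)} (h : leavesOK cert L = true) (prog : List (ℕ × ℕ))
    (targets : List (List ℕ)) (hcov : checkCover (slpRun (leafTables L) prog) targets = true) :
    ∀ T ∈ targets, InK ⁅H, H⁆ T := by
  intro T hT
  exact slpRun_inK prog _ (leafTables_inK hc h) T (checkCover_sound _ _ hcov T hT)

/-! ### Powers of a permutation given by a table -/

/-- iterate a table -/
def iterT (T : List ℕ) : ℕ → ℕ → ℕ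
  | 0, j => j
  | n + 1, j => T.getD (iterT T n j) 0

theorem iterT_lt {T : List ℕ} (hv : validTbl T = true) (n : ℕ) {j : ℕ} (hj : j < 24) : iterT T n j < 24 := by
  induction n with
  | zero => exact hj
  | succ n ih => exact validTbl_getD_lt hv ih

theorem tblPerm_pow_pt {T : List ℕ} (hv : validTbl T = true) (n : ℕ) {j : ℕ} (hj : j < 24) :
    (tblPerm T hv ^ n) (pt j) = pt (iterT T n j) := by
  induction n with
  | zero => simp [iterT]
  | succ n ih =>
    rw [pow_succ', Equiv.Perm.mul_apply, ih, tblPerm_pt T hv (iterT_lt hv n hj)]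
    rfl

/-- the table has order dividing `p` and is not the identity -/
def orderOK (T : List ℕ) (p : ℕ) : Bool :=
  (List.range 24).all (fun j => iterT T p j == j) && !(T == idT)

theorem tblPerm_pow_eq_one {T : List ℕ} (hv : validTbl T = true) {p : ℕ} (h : orderOK T p = true) :
    tblPerm T hv ^ p = 1 := by
  simp only [orderOK, Bool.and_eq_true, List.all_eq_true, List.mem_range, beq_iff_eq] at h
  apply Equiv.ext
  intro q
  have := tblPerm_pow_pt hv p (idx_lt q)
  rw [pt_idx] at this
  rw [this, h.1 _ (idx_lt q), pt_idx]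
  rfl

theorem tblPerm_orderOf {T : List ℕ} (hv : validTbl T = true) {p : ℕ} [hp : Fact p.Prime]
    (h : orderOK T p = true) : orderOf (tblPerm T hv) = p := by
  apply orderOf_eq_prime (tblPerm_pow_eq_one hv h)
  intro h1
  have hr : Represents (tblPerm T hv) T := tblPerm_represents T hv
  rw [h1] at hr
  -- the table of the identity is `idT`
  have hT : T = idT := by
    apply List.ext_getElem
    · rw [hr.1]; simp [idT]
    · intro i h1' h2'
      have hi : i < 24 := by rw [hr.1] at h1'; exact h1'
      have := hr.2 (pt i)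
      rw [idx_pt hi, List.getD_eq_getElem _ _ h1'] at this
      rw [← this]
      simp [idT, idx_pt hi]
  simp only [orderOK, Bool.and_eq_true, Bool.not_eq_true', beq_eq_false_iff_ne] at h
  exact h.2 hT

/-! ### Centralisers -/

/-- an element commuting with `x` and fixing `a` fixes the orbit of `a` under `x` -/
theorem fixes_orbit_of_commute {g x : Equiv.Perm GolayPt} (hc : g * x = x * g) {a : GolayPt} (ha : g a = a) (n : ℕ) :
    g ((x ^ n) a) = (x ^ n) a := by
  induction n with
  | zero => simpa using ha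
  | succ n ih =>
    rw [pow_succ', Equiv.Perm.mul_apply]
    have : g (x ((x ^ n) a)) = x (g ((x ^ n) a)) := by
      have := congrArg (fun f => f ((x ^ n) a)) hc
      simpa using this
    rw [this, ih]

/-- the points of the mask `F` lie in the orbit of the point with index `a1` under the table -/
def orbitOK (T : List ℕ) (p a1 F : ℕ) : Bool :=
  (List.range 24).all (fun j => !F.testBit j || (List.range p).any (fun n => iterT T n a1 == j))

theorem orbitOK_spec {T : List ℕ} (hv : validTbl T = true) {p a1 F : ℕ} (ha1 : a1 < 24)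
    (h : orbitOK T p a1 F = true) {q : GolayPt} (hq : q ∈ maskSet F) :
    ∃ n : ℕ, (tblPerm T hv ^ n) (pt a1) = q := by
  simp only [orbitOK, List.all_eq_true, List.mem_range, Bool.or_eq_true, Bool.not_eq_true',
    List.any_eq_true, beq_iff_eq] at h
  rw [mem_maskSet] at hq
  rcases h _ (idx_lt q) with h1 | ⟨n, -, hn⟩
  · rw [hq] at h1; exact absurd h1 (by simp)
  · exact ⟨n, by rw [tblPerm_pow_pt hv n ha1, hn, pt_idx]⟩

/-- semiregularity of the centraliser from a certificate that the pointwise stabiliser of an orbit is trivial -/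
theorem semireg_of_cert {H : Subgroup (Equiv.Perm GolayPt)} (hHM : H ≤ M24) {T : List ℕ} (hv : validTbl T = true)
    {p a1 F : ℕ} (ha1 : a1 < 24) (horb : orbitOK T p a1 F = true) (cert : List (ℕ × ℕ × ℕ))
    (hcert : checkCert [] F cert = true) :
    ∀ g ∈ H, g * tblPerm T hv = tblPerm T hv * g → g (pt a1) = pt a1 → g = 1 := by
  intro g hg hcomm hfix
  apply checkCert_sound (hHM hg) (inv := []) (by simp) cert F hcert
  intro q hq
  obtain ⟨n, rfl⟩ := orbitOK_spec hv ha1 horb hq
  exact fixes_orbit_of_commute hcomm hfix n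

/-- transitivity of the powers of `x` on an orbit -/
theorem pow_transitive_of_orbit {T : List ℕ} (hv : validTbl T = true) {p a1 F : ℕ} (ha1 : a1 < 24)
    (hord : tblPerm T hv ^ p = 1) (horb : orbitOK T p a1 F = true) {u v : GolayPt} (hu : u ∈ maskSet F)
    (hv' : v ∈ maskSet F) : ∃ i : ℕ, (tblPerm T hv ^ i) u = v := by
  obtain ⟨n, rfl⟩ := orbitOK_spec hv ha1 horb hu
  obtain ⟨m, rfl⟩ := orbitOK_spec hv ha1 horb hv'
  refine ⟨m + n * (p - 1), ?_⟩
  rw [← Equiv.Perm.mul_apply, ← pow_add]
  have hp : p ≠ 0 := by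
    intro h0
    rw [h0, pow_zero] at hord
    -- cannot conclude; handle separately
    simp only [orbitOK, h0, List.range_zero, List.any_nil, Bool.or_false, List.all_eq_true, List.mem_range,
      Bool.not_eq_true'] at horb
    have hq := hu
    rw [mem_maskSet] at hq
    rw [horb _ (idx_lt _)] at hq
    exact absurd hq (by simp)
  have : m + n * (p - 1) + n = m + p * n := by
    have hp1 : p - 1 + 1 = p := Nat.sub_add_cancel (Nat.pos_of_ne_zero hp)
    calc m + n * (p - 1) + n = m + n * (p - 1 + 1) := by ring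
      _ = m + p * n := by rw [hp1]; ring
  rw [this, pow_add, pow_mul, hord, one_pow, mul_one]

/-! ### Double transitivity from two levels of a chain -/

theorem two_trans_of_orbits {H : Subgroup (Equiv.Perm GolayPt)} {fixed : List ℕ} {a b : ℕ} {D : Finset GolayPt}
    (h1 : ∀ q ∈ D, q ∈ orbitSet (fixH H (ptsOf fixed)) (pt a))
    (h2 : ∀ q ∈ D, q ≠ pt a → q ∈ orbitSet (fixH H (ptsOf (a :: fixed))) (pt b))
    (hinv : ∀ h ∈ fixH H (ptsOf fixed), ∀ q ∈ D, h q ∈ D) :
    ∀ u ∈ D, ∀ v ∈ D, ∀ u' ∈ D, ∀ v' ∈ D, u ≠ v → u' ≠ v' →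
      ∃ h ∈ fixH H (ptsOf fixed), h u = u' ∧ h v = v' := by
  have hle : fixH H (ptsOf (a :: fixed)) ≤ fixH H (ptsOf fixed) := by
    intro g hg
    rw [mem_fixH] at hg ⊢
    exact ⟨hg.1, fun q hq => hg.2 q (by rw [ptsOf_cons]; exact Finset.mem_insert_of_mem hq)⟩
  have hfa : ∀ g ∈ fixH H (ptsOf (a :: fixed)), g (pt a) = pt a := by
    intro g hg
    rw [mem_fixH] at hg
    exact hg.2 _ (by rw [ptsOf_cons]; exact Finset.mem_insert_self _ _)
  -- every pair can be reached from the base pair
  have hmove : ∀ u ∈ D, ∀ v ∈ D, u ≠ v → ∃ k ∈ fixH H (ptsOf fixed), k (pt a) = u ∧ k (pt b) = v := by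
    intro u hu v hv huv
    obtain ⟨g1, hg1, hg1a⟩ := h1 u hu
    have hg1i : g1⁻¹ ∈ fixH H (ptsOf fixed) := (fixH H _).inv_mem hg1
    have hvD : g1⁻¹ v ∈ D := hinv _ hg1i v hv
    have hvne : g1⁻¹ v ≠ pt a := by
      intro h
      rw [Equiv.Perm.inv_eq_iff_eq, hg1a] at h
      exact huv h.symm
    obtain ⟨g2, hg2, hg2b⟩ := h2 _ hvD hvne
    refine ⟨g1 * g2, (fixH H _).mul_mem hg1 (hle hg2), ?_, ?_⟩
    · rw [Equiv.Perm.mul_apply, hfa g2 hg2, hg1a]
    · rw [Equiv.Perm.mul_apply, hg2b]
      simp
  intro u hu v hv u' hu' v' hv' huv huv'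
  obtain ⟨k, hk, hka, hkb⟩ := hmove u hu v hv huv
  obtain ⟨k', hk', hka', hkb'⟩ := hmove u' hu' v' hv' huv'
  refine ⟨k' * k⁻¹, (fixH H _).mul_mem hk' ((fixH H _).inv_mem hk), ?_, ?_⟩
  · rw [Equiv.Perm.mul_apply]
    have : k⁻¹ u = pt a := by rw [Equiv.Perm.inv_eq_iff_eq, hka]
    rw [this, hka']
  · rw [Equiv.Perm.mul_apply]
    have : k⁻¹ v = pt b := by rw [Equiv.Perm.inv_eq_iff_eq, hkb]
    rw [this, hkb']

theorem orbit_invariant {H : Subgroup (Equiv.Perm GolayPt)} {a : GolayPt} {D : Finset GolayPt}
    (h : orbitSet H a = (D : Set GolayPt)) : ∀ g ∈ H, ∀ q ∈ D, g q ∈ D := by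
  intro g hg q hq
  have hq' : q ∈ orbitSet H a := by rw [h]; exact hq
  obtain ⟨k, hk, rfl⟩ := hq'
  have : g (k a) ∈ orbitSet H a := ⟨g * k, H.mul_mem hg hk, rfl⟩
  rw [h] at this
  exact this

end Cfsg.Agent.Helper27
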