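import Cfsg.Agent.Helper27.M12
import Cfsg.Agent.Helper27.SimpleTools

/-!
The kernel computation for `M11Elusive`: the 7920 products of coset representatives all satisfy `elusP`.
-/

set_option autoImplicit false

namespace Cfsg.Agent.Helper27

open Cfsg

/-- all products of one table from each list -/
def allProd : List (List (List ℕ)) → List ℕ → (List ℕ → Bool) → Bool
  | [], acc, P => P acc
  | L :: rest, acc, P => L.all (fun T => allProd rest (compT acc T) P)

/-- the table has a fixed point outside the standard dodecad -/
def fixOut (T : List ℕ) : Bool := (List.range 24).any (fun i => !(dod0.testBit i) && (T.getD i 0 == i))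

/-- the `p`-th power of the table is the identity -/
def powId (T : List ℕ) (p : ℕ) : Bool := (List.range 24).all (fun j => iterT T p j == j)

/-- the property checked on the 7920 tables -/
def elusP (T : List ℕ) : Bool := fixOut T || !(powId T 2 || powId T 3 || powId T 5 || powId T 11)

theorem elus_check : allProd [m12L1, m12L2, m12L3, m12L4] idT elusP = true := by decide +kernel

end Cfsg.Agent.Helper27
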