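import Cfsg.Agent.Helper27.M11Two
import Cfsg.Agent.Helper27.M11ElusiveData

/-!
Every element of prime order of `Cfsg.Spor.M11` fixes a point outside the dodecad of squares: the 7920 elements of a
conjugate of the group are enumerated as products of coset representatives along a stabiliser chain.
-/

set_option autoImplicit false

namespace Cfsg.Agent.Helper27

open Cfsg
open scoped Pointwise

theorem represents_one_idT : Represents (1 : Equiv.Perm GolayPt) idT := by
  obtain ⟨g, hg, hr⟩ := inK_idT (⊥ : Subgroup (Equiv.Perm GolayPt))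
  rw [Subgroup.mem_bot] at hg
  rwa [hg] at hr

/-- one level of a stabiliser chain: split off a coset representative -/
theorem level_step {H : Subgroup (Equiv.Perm GolayPt)} {cert : List ℕ → Bool} (hc : CertSound H cert)
    {fixed : List ℕ} {L : List (List ℕ)} (hfix : ∀ f ∈ fixed, f < 24) {a : ℕ} (ha : a < 24)
    (h : transOKH cert fixed L = true) {g : Equiv.Perm GolayPt} (hg : g ∈ fixH H (ptsOf fixed))
    (hga : g (pt a) ∈ maskSet (transImg a L)) :
    ∃ T ∈ L, ∃ t g' : Equiv.Perm GolayPt, Represents t T ∧ g' ∈ fixH H (ptsOf (a :: fixed)) ∧ g = t * g' := by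
  rw [mem_maskSet, transImg, testBit_tblMask] at hga
  simp only [decide_eq_true_eq, List.mem_map] at hga
  obtain ⟨T, hT, hTb⟩ := hga
  obtain ⟨hv, htm⟩ := transOKH_mem hc hfix h hT
  refine ⟨T, hT, tblPerm T hv, (tblPerm T hv)⁻¹ * g, tblPerm_represents T hv, ?_, by group⟩
  have hta : tblPerm T hv (pt a) = g (pt a) := by
    rw [tblPerm_pt T hv ha, hTb, pt_idx]
  have h1 : (tblPerm T hv)⁻¹ * g ∈ fixH H (ptsOf fixed) := (fixH H _).mul_mem ((fixH H _).inv_mem htm) hg
  rw [mem_fixH] at h1 ⊢
  refine ⟨h1.1, ?_⟩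
  intro q hq
  rw [ptsOf_cons, Finset.mem_insert] at hq
  rcases hq with rfl | hq
  · rw [Equiv.Perm.mul_apply, Equiv.Perm.inv_eq_iff_eq, hta]
  · exact h1.2 q hq

/-- every element of the point stabiliser in the stabiliser of the standard dodecad is a product of coset
representatives -/
theorem m11_enum (P : List ℕ → Bool) (hP : allProd [m12L1, m12L2, m12L3, m12L4] idT P = true)
    {g : Equiv.Perm GolayPt} (hg : g ∈ fixH H12 (ptsOf [0])) : ∃ T, Represents g T ∧ P T = true := by
  have i1 : transImg 2 m12L1 = dod0 ^^^ (dod0 &&& tblMask [0]) := by decide +kernel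
  have i2 : transImg 3 m12L2 = dod0 ^^^ (dod0 &&& tblMask [2, 0]) := by decide +kernel
  have i3 : transImg 4 m12L3 = dod0 ^^^ (dod0 &&& tblMask [3, 2, 0]) := by decide +kernel
  have i4 : transImg 6 m12L4 = dod0 ^^^ (dod0 &&& tblMask [4, 3, 2, 0]) := by decide +kernel
  have o1 : g (pt 2) ∈ maskSet (transImg 2 m12L1) := by
    have : g (pt 2) ∈ orbitSet (fixH H12 (ptsOf [0])) (pt 2) := ⟨g, hg, rfl⟩
    rw [orbit12_eq1] at this
    rw [i1]; exact this
  obtain ⟨T1, hT1, t1, g1, r1, hg1, e1⟩ :=
    level_step certSound12 (fixed_lt_24 (by decide)) (by norm_num) m12OK1 hg o1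
  have o2 : g1 (pt 3) ∈ maskSet (transImg 3 m12L2) := by
    have : g1 (pt 3) ∈ orbitSet (fixH H12 (ptsOf [2, 0])) (pt 3) := ⟨g1, hg1, rfl⟩
    rw [orbit12_eq2] at this
    rw [i2]; exact this
  obtain ⟨T2, hT2, t2, g2, r2, hg2, e2⟩ :=
    level_step certSound12 (fixed_lt_24 (by decide)) (by norm_num) m12OK2 hg1 o2
  have o3 : g2 (pt 4) ∈ maskSet (transImg 4 m12L3) := by
    have : g2 (pt 4) ∈ orbitSet (fixH H12 (ptsOf [3, 2, 0])) (pt 4) := ⟨g2, hg2, rfl⟩
    rw [orbit12_eq3] at this
    rw [i3]; exact this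
  obtain ⟨T3, hT3, t3, g3, r3, hg3, e3⟩ :=
    level_step certSound12 (fixed_lt_24 (by decide)) (by norm_num) m12OK3 hg2 o3
  have o4 : g3 (pt 6) ∈ maskSet (transImg 6 m12L4) := by
    have : g3 (pt 6) ∈ orbitSet (fixH H12 (ptsOf [4, 3, 2, 0])) (pt 6) := ⟨g3, hg3, rfl⟩
    rw [orbit12_eq4] at this
    rw [i4]; exact this
  obtain ⟨T4, hT4, t4, g4, r4, hg4, e4⟩ :=
    level_step certSound12 (fixed_lt_24 (by decide)) (by norm_num) m12OK4 hg3 o4
  rw [fixH12_base_eq_bot, Subgroup.mem_bot] at hg4
  refine ⟨compT (compT (compT (compT idT T1) T2) T3) T4, ?_, ?_⟩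
  · have : g = 1 * t1 * t2 * t3 * t4 := by
      rw [e1, e2, e3, e4, hg4]; group
    rw [this]
    exact represents_compT (represents_compT (represents_compT (represents_compT represents_one_idT r1) r2) r3) r4
  · simp only [allProd, List.all_eq_true] at hP
    exact hP T1 hT1 T2 hT2 T3 hT3 T4 hT4

/-! ### Powers -/

theorem represents_pow_pt {g : Equiv.Perm GolayPt} {T : List ℕ} (h : Represents g T) (n : ℕ) {j : ℕ} (hj : j < 24) :
    (g ^ n) (pt j) = pt (iterT T n j) ∧ iterT T n j < 24 := by
  induction n with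
  | zero => exact ⟨by simp [iterT], hj⟩
  | succ n ih =>
    obtain ⟨ih1, ih2⟩ := ih
    have h1 := h.2 (pt (iterT T n j))
    rw [idx_pt ih2] at h1
    constructor
    · rw [pow_succ', Equiv.Perm.mul_apply, ih1]
      show g (pt (iterT T n j)) = pt (T.getD (iterT T n j) 0)
      rw [← h1, pt_idx]
    · show T.getD (iterT T n j) 0 < 24
      rw [← h1]
      exact idx_lt _

theorem powId_of_pow_eq_one {g : Equiv.Perm GolayPt} {T : List ℕ} (h : Represents g T) {p : ℕ} (hp : g ^ p = 1) :
    powId T p = true := by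
  simp only [powId, List.all_eq_true, List.mem_range, beq_iff_eq]
  intro j hj
  have := (represents_pow_pt h p hj).1
  rw [hp, Equiv.Perm.one_apply] at this
  have h2 := congrArg idx this
  rw [idx_pt hj, idx_pt (represents_pow_pt h p hj).2] at h2
  exact h2.symm

theorem m11_std_elusive {g : Equiv.Perm GolayPt} (hg : g ∈ fixH H12 (ptsOf [0])) (hord : (orderOf g).Prime) :
    ∃ x : GolayPt, x ∉ maskSet dod0 ∧ g x = x := by
  obtain ⟨T, hr, hT⟩ := m11_enum elusP elus_check hg
  have hT' : fixOut T = true ∨ (powId T 2 = false ∧ powId T 3 = false ∧ powId T 5 = false ∧ powId T 11 = false) := by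
    unfold elusP at hT
    cases h1 : fixOut T
    · right
      rw [h1] at hT
      cases h2 : powId T 2 <;> cases h3 : powId T 3 <;> cases h5 : powId T 5 <;> cases h11 : powId T 11 <;>
        simp_all
    · left; rfl
  rcases hT' with hT | hT
  · simp only [fixOut, List.any_eq_true, List.mem_range, Bool.and_eq_true, Bool.not_eq_true', beq_iff_eq] at hT
    obtain ⟨i, hi, hbit, hfix⟩ := hT
    refine ⟨pt i, ?_, ?_⟩
    · rw [mem_maskSet, idx_pt hi, hbit]
      simp
    · have := hr.2 (pt i)
      rw [idx_pt hi, hfix] at this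
      rw [← pt_idx (g (pt i)), this]
  · exfalso
    -- the order divides 7920
    have hpt : ptsOf [0] = {pt 0} := by simp [ptsOf]
    have hcard : Nat.card (fixH H12 (ptsOf [0])) = 7920 := by
      rw [hpt]
      exact card_fixH_stabP_pt maskSet_dod0_mem (by rw [mem_maskSet, idx_pt (by norm_num)]; decide +kernel)
    have hdvd : orderOf g ∣ 7920 := by
      have := orderOf_dvd_natCard (⟨g, hg⟩ : fixH H12 (ptsOf [0]))
      rw [hcard] at this
      rwa [Subgroup.orderOf_mk] at this
    have hcases : orderOf g = 2 ∨ orderOf g = 3 ∨ orderOf g = 5 ∨ orderOf g = 11 := by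
      have h7920 : (7920 : ℕ) = 2 ^ 4 * 3 ^ 2 * 5 * 11 := by norm_num
      rw [h7920] at hdvd
      have h1 := (Nat.Prime.dvd_mul hord).mp hdvd
      rcases h1 with h1 | h1
      · have h2 := (Nat.Prime.dvd_mul hord).mp h1
        rcases h2 with h2 | h2
        · have h3 := (Nat.Prime.dvd_mul hord).mp h2
          rcases h3 with h3 | h3
          · left
            exact (Nat.prime_dvd_prime_iff_eq hord Nat.prime_two).mp (hord.dvd_of_dvd_pow h3)
          · right; left
            exact (Nat.prime_dvd_prime_iff_eq hord Nat.prime_three).mp (hord.dvd_of_dvd_pow h3)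
        · right; right; left
          exact (Nat.prime_dvd_prime_iff_eq hord Nat.prime_five).mp h2
      · right; right; right
        exact (Nat.prime_dvd_prime_iff_eq hord (by norm_num)).mp h1
    obtain ⟨h2, h3, h5, h11⟩ := hT
    rcases hcases with hc | hc | hc | hc
    · have := powId_of_pow_eq_one hr (hc ▸ pow_orderOf_eq_one g)
      rw [h2] at this; exact absurd this (by decide)
    · have := powId_of_pow_eq_one hr (hc ▸ pow_orderOf_eq_one g)
      rw [h3] at this; exact absurd this (by decide)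
    · have := powId_of_pow_eq_one hr (hc ▸ pow_orderOf_eq_one g)
      rw [h5] at this; exact absurd this (by decide)
    · have := powId_of_pow_eq_one hr (hc ▸ pow_orderOf_eq_one g)
      rw [h11] at this; exact absurd this (by decide)

theorem spor_M11_elusive (g : Equiv.Perm GolayPt) (hg : g ∈ Spor.M11) (hord : (orderOf g).Prime) :
    ∃ x : GolayPt, x ∉ Spor.squareDodecad ∧ g x = x := by
  rw [spor_M11_eq, mem_fixH] at hg
  obtain ⟨hgs, hg0⟩ := hg
  have hg0' : g (some 0) = some 0 := hg0 _ (Finset.mem_singleton_self _)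
  obtain ⟨k, hk, hkd, hkp⟩ := exists_smul_eq_dod0_pt sqDod_mem_dodecads some_zero_mem_sqDod
  have hmem : k * g * k⁻¹ ∈ fixH H12 (ptsOf [0]) := by
    rw [mem_fixH]
    constructor
    · show k * g * k⁻¹ ∈ stabP (maskSet dod0)
      rw [← hkd, mem_stabP_smul hk]
      have : k⁻¹ * (k * g * k⁻¹) * k = g := by group
      rw [this]
      exact hgs
    · intro q hq
      have hq' : q = pt 0 := by simpa [ptsOf] using hq
      rw [hq', ← hkp, Equiv.Perm.mul_apply, Equiv.Perm.mul_apply]
      simp [hg0']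
  have hord' : (orderOf (k * g * k⁻¹)).Prime := by
    have := (MulAut.conj k).orderOf_eq g
    rw [MulAut.conj_apply] at this
    rw [this]
    exact hord
  obtain ⟨x', hx', hfix⟩ := m11_std_elusive hmem hord'
  refine ⟨k⁻¹ x', ?_, ?_⟩
  · intro hmem'
    apply hx'
    rw [← hkd]
    have := (mem_smul_finset_perm k Spor.squareDodecad (k⁻¹ x')).mpr hmem'
    simpa using this
  · rw [Equiv.Perm.mul_apply, Equiv.Perm.mul_apply] at hfix
    rw [Equiv.Perm.eq_inv_iff_eq]
    exact hfix

end Cfsg.Agent.Helper27
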