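import Cfsg.Agent.Helper27.M24Invol

/-!
A pruned enumeration of the elements of `Cfsg.M24` along its stabiliser chain: every element of the group subject
to a condition that can be tested on the images of an initial segment of the base is found by the search.
-/

set_option autoImplicit false

namespace Cfsg.Agent.Helper27

open Cfsg
open scoped Pointwise

/-- the table of a permutation -/
def tblOf (g : Equiv.Perm GolayPt) : List ℕ := (List.range 24).map (fun i => idx (g (pt i)))

theorem represents_tblOf (g : Equiv.Perm GolayPt) : Represents g (tblOf g) := by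
  constructor
  · simp [tblOf]
  · intro p
    have hp := idx_lt p
    simp [tblOf, List.getD_eq_getElem?_getD, hp, pt_idx]

theorem represents_tbl_unique {g : Equiv.Perm GolayPt} {T T' : List ℕ} (h : Represents g T) (h' : Represents g T') :
    T = T' := by
  apply List.ext_getElem (h.1.trans h'.1.symm)
  intro i h1 h2
  have hi : i < 24 := h.1 ▸ h1
  have a := h.2 (pt i)
  have b := h'.2 (pt i)
  rw [idx_pt hi, List.getD_eq_getElem _ _ h1] at a
  rw [idx_pt hi, List.getD_eq_getElem _ _ h2] at b
  rw [← a, ← b]

theorem tblOf_eq {g : Equiv.Perm GolayPt} {T : List ℕ} (h : Represents g T) : tblOf g = T :=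
  represents_tbl_unique (represents_tblOf g) h

theorem tblOf_getD (g : Equiv.Perm GolayPt) {i : ℕ} (hi : i < 24) : (tblOf g).getD i 0 = idx (g (pt i)) := by
  have := (represents_tblOf g).2 (pt i)
  rw [idx_pt hi] at this
  exact this.symm

/-- the pruned depth-first enumeration: `vs` holds the images of the base points treated so far -/
def enumL : List (ℕ × List (List ℕ)) → List ℕ → List ℕ → (List ℕ → Bool) → List (List ℕ)
  | [], _, acc, _ => [acc]
  | (b, L) :: rest, vs, acc, ok =>
      L.flatMap (fun T =>
        if ok (vs ++ [acc.getD (T.getD b 0) 0]) then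
          enumL rest (vs ++ [acc.getD (T.getD b 0) 0]) (compT acc T) ok
        else [])

/-- the chain data is sound: transversals for the successive orbits, ending in the trivial group -/
def ChainSound : List ℕ → List (ℕ × List (List ℕ)) → Prop
  | fixed, [] => fixG (ptsOf fixed) = ⊥
  | fixed, (b, L) :: rest => b < 24 ∧ transOKH tblInCode fixed L = true ∧
      (∀ h ∈ fixG (ptsOf fixed), h (pt b) ∈ maskSet (transImg b L)) ∧ ChainSound (b :: fixed) rest

theorem enum_step {fixed : List ℕ} {L : List (List ℕ)} (hfix : ∀ f ∈ fixed, f < 24) {b : ℕ} (hb : b < 24)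
    (htrans : transOKH tblInCode fixed L = true)
    (horb : ∀ h ∈ fixG (ptsOf fixed), h (pt b) ∈ maskSet (transImg b L))
    {g a h : Equiv.Perm GolayPt} {A : List ℕ} (hA : Represents a A) (hga : g = a * h)
    (hh : h ∈ fixG (ptsOf fixed)) :
    ∃ T ∈ L, ∃ t h' : Equiv.Perm GolayPt, Represents (a * t) (compT A T) ∧ h' ∈ fixG (ptsOf (b :: fixed)) ∧
      g = (a * t) * h' ∧ A.getD (T.getD b 0) 0 = idx (g (pt b)) := by
  obtain ⟨T, hT, t, h', rT, hh', e⟩ := level_stepM certSound_M24 hfix hb htrans hh (horb h hh)
  refine ⟨T, hT, t, h', represents_compT hA rT, hh', by rw [hga, e]; group, ?_⟩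
  have hfixb : h' (pt b) = pt b := by
    have := (mem_fixH _ _ _).mp hh'
    apply this.2
    rw [ptsOf_cons]
    exact Finset.mem_insert_self _ _
  have h1 := rT.2 (pt b)
  rw [idx_pt hb] at h1
  have h2 := hA.2 (t (pt b))
  rw [h1] at h2
  rw [← h2, hga, e]
  simp only [Equiv.Perm.mul_apply, hfixb]

theorem enum_sound_aux (ok : List ℕ → Bool) {g : Equiv.Perm GolayPt} :
    ∀ (chain : List (ℕ × List (List ℕ))) (fixed : List ℕ), (∀ f ∈ fixed, f < 24) → ChainSound fixed chain →
    ∀ (vs A : List ℕ) (a h : Equiv.Perm GolayPt), Represents a A → g = a * h → h ∈ fixG (ptsOf fixed) →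
    (∀ k, 1 ≤ k → k ≤ chain.length → ok (vs ++ (chain.take k).map (fun c => idx (g (pt c.1)))) = true) →
    tblOf g ∈ enumL chain vs A ok := by
  intro chain
  induction chain with
  | nil =>
    intro fixed _ hcs vs A a h hA hga hh _
    simp only [ChainSound] at hcs
    rw [hcs, Subgroup.mem_bot] at hh
    rw [hh, mul_one] at hga
    rw [enumL, List.mem_singleton]
    rw [hga]
    exact tblOf_eq hA
  | cons c rest ih =>
    obtain ⟨b, L⟩ := c
    intro fixed hfix hcs vs A a h hA hga hh hok
    simp only [ChainSound] at hcs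
    obtain ⟨hb, htrans, horb, hrest⟩ := hcs
    obtain ⟨T, hT, t, h', hAT, hh', hg', hv⟩ := enum_step hfix hb htrans horb hA hga hh
    rw [enumL, List.mem_flatMap]
    refine ⟨T, hT, ?_⟩
    rw [hv]
    have hok1 := hok 1 le_rfl (by simp)
    simp only [List.take_succ_cons, List.take_zero, List.map_cons, List.map_nil] at hok1
    rw [if_pos hok1]
    apply ih (b :: fixed) ?_ hrest _ _ (a * t) h' hAT hg' hh'
    · intro k hk1 hk2
      have := hok (k + 1) (by omega) (by simp only [List.length_cons]; omega)
      simp only [List.take_succ_cons, List.map_cons] at this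
      rw [List.append_assoc]
      exact this
    · intro f hf
      rcases List.mem_cons.mp hf with rfl | hf
      · exact hb
      · exact hfix f hf

/-- the base of the stabiliser chain of `M24` -/
def baseL : List ℕ := [0, 1, 2, 3, 4, 5, 7]

/-- the stabiliser chain of `M24` -/
def chainL : List (ℕ × List (List ℕ)) :=
  [(0, transL0), (1, transL1), (2, transL2), (3, transL3), (4, transL4), (5, transL5), (7, transL6)]

theorem chainSound_M24 : ChainSound [] chainL := by
  have i0 : transImg 0 transL0 = onesMask ^^^ tblMask [] := by decide +kernel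
  have i1 : transImg 1 transL1 = onesMask ^^^ tblMask [0] := by decide +kernel
  have i2 : transImg 2 transL2 = onesMask ^^^ tblMask [1, 0] := by decide +kernel
  have i3 : transImg 3 transL3 = onesMask ^^^ tblMask [2, 1, 0] := by decide +kernel
  have i4 : transImg 4 transL4 = onesMask ^^^ tblMask [3, 2, 1, 0] := by decide +kernel
  have i5 : transImg 5 transL5 = onesMask ^^^ oct5 := by decide +kernel
  have i6 : transImg 7 transL6 = oct5 ^^^ (oct5 &&& 63) := by decide +kernel
  simp only [chainL, ChainSound]
  refine ⟨by norm_num, transOK0, ?_, by norm_num, transOK1, ?_, by norm_num, transOK2, ?_, by norm_num, transOK3, ?_,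
    by norm_num, transOK4, ?_, by norm_num, transOK5, ?_, by norm_num, transOK6, ?_, fixG_base_eq_bot⟩
  · intro h hh
    have : h (pt 0) ∈ orbitSet (fixG (ptsOf [])) (pt 0) := ⟨h, hh, rfl⟩
    rw [orbit_eq0] at this
    rw [i0]; exact this
  · intro h hh
    have : h (pt 1) ∈ orbitSet (fixG (ptsOf [0])) (pt 1) := ⟨h, hh, rfl⟩
    rw [orbit_eq1] at this
    rw [i1]; exact this
  · intro h hh
    have : h (pt 2) ∈ orbitSet (fixG (ptsOf [1, 0])) (pt 2) := ⟨h, hh, rfl⟩
    rw [orbit_eq2] at this
    rw [i2]; exact this
  · intro h hh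
    have : h (pt 3) ∈ orbitSet (fixG (ptsOf [2, 1, 0])) (pt 3) := ⟨h, hh, rfl⟩
    rw [orbit_eq3] at this
    rw [i3]; exact this
  · intro h hh
    have : h (pt 4) ∈ orbitSet (fixG (ptsOf [3, 2, 1, 0])) (pt 4) := ⟨h, hh, rfl⟩
    rw [orbit_eq4] at this
    rw [i4]; exact this
  · intro h hh
    have : h (pt 5) ∈ orbitSet (fixG (ptsOf [4, 3, 2, 1, 0])) (pt 5) := ⟨h, hh, rfl⟩
    rw [orbit_eq5] at this
    rw [i5]; exact this
  · intro h hh
    have : h (pt 7) ∈ orbitSet (fixG (ptsOf [5, 4, 3, 2, 1, 0])) (pt 7) := ⟨h, hh, rfl⟩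
    rw [orbit_eq6] at this
    rw [i6]; exact this

/-- the images of the first `n` base points -/
def baseImgs (T : List ℕ) (n : ℕ) : List ℕ := (baseL.take n).map (fun b => T.getD b 0)

/-- every element of `M24` whose base images pass the pruning test at every level is found by the enumeration -/
theorem m24_enum_sound (ok : List ℕ → Bool) {g : Equiv.Perm GolayPt} (hg : g ∈ M24)
    (hok : ∀ n, 1 ≤ n → n ≤ 7 → ok (baseImgs (tblOf g) n) = true) : tblOf g ∈ enumL chainL [] idT ok := by
  apply enum_sound_aux ok chainL [] (by simp) chainSound_M24 [] idT 1 g represents_one (by simp)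
  · rw [fixG_eq_fixH]
    have : ptsOf [] = ∅ := rfl
    rw [this, fixH_empty]
    exact hg
  · intro k hk1 hk2
    have hk7 : k ≤ 7 := by simpa [chainL] using hk2
    have := hok k hk1 hk7
    rw [List.nil_append]
    convert this using 2
    have e0 := tblOf_getD g (show 0 < 24 by norm_num)
    have e1 := tblOf_getD g (show 1 < 24 by norm_num)
    have e2 := tblOf_getD g (show 2 < 24 by norm_num)
    have e3 := tblOf_getD g (show 3 < 24 by norm_num)
    have e4 := tblOf_getD g (show 4 < 24 by norm_num)
    have e5 := tblOf_getD g (show 5 < 24 by norm_num)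
    have e7 := tblOf_getD g (show 7 < 24 by norm_num)
    simp only [baseImgs, baseL, chainL]
    interval_cases k <;>
      simp only [List.take_succ_cons, List.take_zero, List.take_nil, List.map_cons, List.map_nil,
        e0, e1, e2, e3, e4, e5, e7]

end Cfsg.Agent.Helper27
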