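import Cfsg.Agent.Helper27.GLIso3
import Cfsg.Prelude.Def_ClassificationStages

/-!
A sufficient condition for two finite groups to have the same centraliser-of-involution pattern: each has an involution
whose centraliser has odd index, is isomorphic to a common group, and all of whose involutions are conjugate to it in
the whole group.
-/

set_option autoImplicit false

namespace Cfsg.Agent.Helper27

open Cfsg

/-- `G` has an involution `u` whose centraliser is isomorphic to `K` and of odd index, every involution of which is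
conjugate to `u` in `G` -/
def InvPattern (K : Type*) [Group K] (G : Type*) [Group G] : Prop :=
  ∃ u : G, orderOf u = 2 ∧ Nonempty (↥(Subgroup.centralizer ({u} : Set G)) ≃* K) ∧
    ¬ 2 ∣ (Subgroup.centralizer ({u} : Set G)).index ∧
    ∀ a : G, a ∈ Subgroup.centralizer ({u} : Set G) → orderOf a = 2 → IsConj a u

theorem InvPattern.of_equiv {K G G' : Type*} [Group K] [Group G] [Group G'] (e : G ≃* G')
    (h : InvPattern K G) : InvPattern K G' := by
  obtain ⟨u, hu, ⟨θ⟩, hidx, hconj⟩ := h
  refine ⟨e u, by rw [MulEquiv.orderOf_eq]; exact hu, ⟨(centralizerSingletonEquiv e u).symm.trans θ⟩, ?_, ?_⟩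
  · rw [← centralizer_singleton_map e u]
    have := Subgroup.index_map_equiv (Subgroup.centralizer ({u} : Set G)) e
    rw [show (Subgroup.centralizer ({u} : Set G)).map e.toMonoidHom =
      (Subgroup.centralizer ({u} : Set G)).map (e : G →* G') from rfl, this]
    exact hidx
  · intro a ha ha2
    have hmem : e.symm a ∈ Subgroup.centralizer ({u} : Set G) := by
      rw [← centralizer_singleton_map e u, Subgroup.mem_map_equiv] at ha
      exact ha
    have h1 := hconj (e.symm a) hmem (by rw [MulEquiv.orderOf_eq]; exact ha2)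
    have h2 := e.toMonoidHom.map_isConj h1
    simpa using h2

/-- conjugate elements have isomorphic centralisers -/
theorem centralizer_equiv_of_isConj {G : Type*} [Group G] {a b : G} (h : IsConj a b) :
    Nonempty (↥(Subgroup.centralizer ({a} : Set G)) ≃* ↥(Subgroup.centralizer ({b} : Set G))) := by
  obtain ⟨g, hg⟩ := isConj_iff.mp h
  have e := centralizerSingletonEquiv (MulAut.conj g) a
  rw [MulAut.conj_apply, hg] at e
  exact ⟨e⟩

theorem sameCentPattern_of_invPattern {K G H : Type*} [Group K] [Group G] [Group H] [Finite G] [Finite H]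
    (hG : InvPattern K G) (hH : InvPattern K H) : SameCentralizerInvolutionPattern G H := by
  obtain ⟨u, hu, ⟨θG⟩, hGi, hGc⟩ := hG
  obtain ⟨t, ht, ⟨θH⟩, hHi, hHc⟩ := hH
  have : Fact (Nat.Prime 2) := ⟨Nat.prime_two⟩
  let θ : ↥(Subgroup.centralizer ({u} : Set G)) ≃* ↥(Subgroup.centralizer ({t} : Set H)) := θG.trans θH.symm
  let S₀ : Sylow 2 ↥(Subgroup.centralizer ({u} : Set G)) := default
  let T₀ : Subgroup ↥(Subgroup.centralizer ({t} : Set H)) :=
    (S₀ : Subgroup ↥(Subgroup.centralizer ({u} : Set G))).map (θ : _ →* _)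
  have hT₀i : T₀.index = (S₀ : Subgroup ↥(Subgroup.centralizer ({u} : Set G))).index :=
    Subgroup.index_map_equiv _ θ
  have hSGp : IsPGroup 2 ((S₀ : Subgroup ↥(Subgroup.centralizer ({u} : Set G))).map
      (Subgroup.centralizer ({u} : Set G)).subtype) := S₀.isPGroup'.map _
  have hTHp : IsPGroup 2 (T₀.map (Subgroup.centralizer ({t} : Set H)).subtype) := (S₀.isPGroup'.map _).map _
  have hSGi : ¬ 2 ∣ ((S₀ : Subgroup ↥(Subgroup.centralizer ({u} : Set G))).map
      (Subgroup.centralizer ({u} : Set G)).subtype).index := by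
    rw [Subgroup.index_map_subtype]
    exact Nat.Prime.not_dvd_mul Nat.prime_two S₀.not_dvd_index hGi
  have hTHi : ¬ 2 ∣ (T₀.map (Subgroup.centralizer ({t} : Set H)).subtype).index := by
    rw [Subgroup.index_map_subtype, hT₀i]
    exact Nat.Prime.not_dvd_mul Nat.prime_two S₀.not_dvd_index hHi
  let e1 := (S₀ : Subgroup ↥(Subgroup.centralizer ({u} : Set G))).equivMapOfInjective
    (Subgroup.centralizer ({u} : Set G)).subtype (Subgroup.subtype_injective _)
  let e2 := θ.subgroupMap (S₀ : Subgroup ↥(Subgroup.centralizer ({u} : Set G)))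
  let e3 := T₀.equivMapOfInjective (Subgroup.centralizer ({t} : Set H)).subtype (Subgroup.subtype_injective _)
  have key : ∀ c : ↥((S₀ : Subgroup ↥(Subgroup.centralizer ({u} : Set G))).map
      (Subgroup.centralizer ({u} : Set G)).subtype), orderOf c = 2 →
      IsConj (((e1.symm.trans (e2.trans e3)) c : ↥(T₀.map (Subgroup.centralizer ({t} : Set H)).subtype)) : H) t := by
    intro c hc
    apply hHc
    · exact Subgroup.map_subtype_le _ ((e1.symm.trans (e2.trans e3)) c).2
    · rw [Subgroup.orderOf_coe, MulEquiv.orderOf_eq]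
      exact hc
  have keyG : ∀ c : ↥((S₀ : Subgroup ↥(Subgroup.centralizer ({u} : Set G))).map
      (Subgroup.centralizer ({u} : Set G)).subtype), orderOf c = 2 → IsConj (c : G) u := by
    intro c hc
    apply hGc
    · exact Subgroup.map_subtype_le _ c.2
    · rw [Subgroup.orderOf_coe]
      exact hc
  refine ⟨hSGp.toSylow hSGi, hTHp.toSylow hTHi, e1.symm.trans (e2.trans e3), ?_, ?_⟩
  · intro a b ha hb
    exact iff_of_true ((keyG a ha).trans (keyG b hb).symm) ((key a ha).trans (key b hb).symm)
  · intro a ha
    obtain ⟨f1⟩ := centralizer_equiv_of_isConj (keyG a ha)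
    obtain ⟨f2⟩ := centralizer_equiv_of_isConj (key a ha)
    exact ⟨f1.trans (θ.trans f2.symm)⟩

end Cfsg.Agent.Helper27
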