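import Cfsg.Agent.Helper27.M24Descent

/-!
`Cfsg.M24` is generated by the shift, the projective inversion and the cube twist: all elements of a stabiliser chain's
transversals are produced from the three generators by a straight-line program.
-/

set_option autoImplicit false

namespace Cfsg.Agent.Helper27

open Cfsg
open scoped Pointwise

/-! ### Straight-line programs on tables -/

/-- composition of tables: the table of `g * h` from those of `g` and `h` -/
def compT (X Y : List ℕ) : List ℕ := Y.map (fun y => X.getD y 0)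

/-- the identity table -/
def idT : List ℕ := List.range 24

/-- run a straight-line program: each step appends the composition of two earlier tables -/
def slpRun : List (List ℕ) → List (ℕ × ℕ) → List (List ℕ)
  | acc, [] => acc
  | acc, (i, j) :: rest => slpRun (acc ++ [compT (acc.getD i idT) (acc.getD j idT)]) rest

/-- the table represents an element of `K` -/
def InK (K : Subgroup (Equiv.Perm GolayPt)) (T : List ℕ) : Prop := ∃ g ∈ K, Represents g T

theorem represents_compT {g h : Equiv.Perm GolayPt} {X Y : List ℕ} (hX : Represents g X) (hY : Represents h Y) :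
    Represents (g * h) (compT X Y) := by
  refine ⟨by simp [compT, hY.1], ?_⟩
  intro p
  have hp : idx p < Y.length := by rw [hY.1]; exact idx_lt p
  have hp' : idx p < (Y.map (fun y => X.getD y 0)).length := by simpa using hp
  rw [Equiv.Perm.mul_apply, hX.2, hY.2, compT, List.getD_eq_getElem (Y.map (fun y => X.getD y 0)) 0 hp',
    List.getElem_map, List.getD_eq_getElem Y 0 hp]

theorem inK_idT (K : Subgroup (Equiv.Perm GolayPt)) : InK K idT := by
  refine ⟨1, K.one_mem, by simp [idT], ?_⟩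
  intro p
  rw [idT, List.getD_eq_getElem _ _ (by simpa using idx_lt p)]
  simp

theorem inK_compT {K : Subgroup (Equiv.Perm GolayPt)} {X Y : List ℕ} (hX : InK K X) (hY : InK K Y) :
    InK K (compT X Y) := by
  obtain ⟨g, hg, hgX⟩ := hX
  obtain ⟨h, hh, hhY⟩ := hY
  exact ⟨g * h, K.mul_mem hg hh, represents_compT hgX hhY⟩

theorem inK_getD {K : Subgroup (Equiv.Perm GolayPt)} {acc : List (List ℕ)} (h : ∀ T ∈ acc, InK K T) (i : ℕ) :
    InK K (acc.getD i idT) := by
  by_cases hi : i < acc.length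
  · rw [List.getD_eq_getElem _ _ hi]
    exact h _ (List.getElem_mem _)
  · rw [List.getD_eq_default _ _ (by omega)]
    exact inK_idT K

theorem slpRun_inK {K : Subgroup (Equiv.Perm GolayPt)} (prog : List (ℕ × ℕ)) :
    ∀ acc : List (List ℕ), (∀ T ∈ acc, InK K T) → ∀ T ∈ slpRun acc prog, InK K T := by
  induction prog with
  | nil => intro acc h; exact h
  | cons s rest ih =>
    obtain ⟨i, j⟩ := s
    intro acc h
    apply ih
    intro T hT
    rw [List.mem_append, List.mem_singleton] at hT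
    rcases hT with hT | rfl
    · exact h T hT
    · exact inK_compT (inK_getD h i) (inK_getD h j)

theorem tblPerm_mem_of_inK {K : Subgroup (Equiv.Perm GolayPt)} {T : List ℕ} (hv : validTbl T = true)
    (h : InK K T) : tblPerm T hv ∈ K := by
  obtain ⟨g, hg, hgT⟩ := h
  have : tblPerm T hv = g := by
    apply Equiv.ext
    intro p
    have h1 : idx (tblPerm T hv p) = idx (g p) := by
      rw [hgT.2, show idx (tblPerm T hv p) = T.getD (idx p) 0 from idx_tblFun hv p]
    have := congrArg pt h1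
    rwa [pt_idx, pt_idx] at this
  rw [this]
  exact hg

/-- all target tables occur in the output list -/
def checkCover : List (List ℕ) → List (List ℕ) → Bool
  | [], rem => rem.isEmpty
  | X :: out, rem => checkCover out (rem.filter (fun T => !(T == X)))

theorem checkCover_sound : ∀ (out rem : List (List ℕ)), checkCover out rem = true → ∀ T ∈ rem, T ∈ out := by
  intro out
  induction out with
  | nil =>
    intro rem h T hT
    simp only [checkCover, List.isEmpty_iff] at h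
    rw [h] at hT
    exact absurd hT (List.not_mem_nil)
  | cons X out ih =>
    intro rem h T hT
    simp only [checkCover] at h
    by_cases hTX : T = X
    · rw [hTX]; exact List.mem_cons_self
    · apply List.mem_cons_of_mem
      apply ih _ h
      rw [List.mem_filter]
      refine ⟨hT, ?_⟩
      simp [hTX]

/-! ### Descending a chain inside a subgroup -/

/-- if the transversal elements and the next stabiliser lie in `K`, so does this stabiliser -/
theorem fixH_le_of_trans {H K : Subgroup (Equiv.Perm GolayPt)} {cert : List ℕ → Bool} (hc : CertSound H cert)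
    {fixed : List ℕ} {L : List (List ℕ)} (hfix : ∀ f ∈ fixed, f < 24) {a : ℕ} (ha : a < 24)
    (h : transOKH cert fixed L = true) (hK : ∀ T ∈ L, InK K T) (hnext : fixH H (ptsOf (a :: fixed)) ≤ K)
    (horb : ∀ g ∈ fixH H (ptsOf fixed), g (pt a) ∈ maskSet (transImg a L)) : fixH H (ptsOf fixed) ≤ K := by
  intro g hg
  have hga := horb g hg
  rw [mem_maskSet, transImg, testBit_tblMask] at hga
  simp only [decide_eq_true_eq, List.mem_map] at hga
  obtain ⟨T, hT, hTb⟩ := hga
  obtain ⟨hv, htm⟩ := transOKH_mem hc hfix h hT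
  have hta : tblPerm T hv (pt a) = g (pt a) := by
    rw [tblPerm_pt T hv ha, hTb, pt_idx]
  have hmem : (tblPerm T hv)⁻¹ * g ∈ fixH H (ptsOf (a :: fixed)) := by
    have h1 : (tblPerm T hv)⁻¹ * g ∈ fixH H (ptsOf fixed) := (fixH H _).mul_mem ((fixH H _).inv_mem htm) hg
    rw [mem_fixH] at h1 ⊢
    refine ⟨h1.1, ?_⟩
    intro q hq
    rw [ptsOf_cons, Finset.mem_insert] at hq
    rcases hq with rfl | hq
    · rw [Equiv.Perm.mul_apply, Equiv.Perm.inv_eq_iff_eq, hta]
    · exact h1.2 q hq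
  have : g = tblPerm T hv * ((tblPerm T hv)⁻¹ * g) := by group
  rw [this]
  exact K.mul_mem (tblPerm_mem_of_inK hv (hK T hT)) (hnext hmem)

/-! ### The generators -/

/-- table of the shift `x ↦ x + 1` -/
def tblShift : List ℕ := [1, 2, 3, 4, 5, 6, 7, 8, 9, 10, 11, 12, 13, 14, 15, 16, 17, 18, 19, 20, 21, 22, 0, 23]

/-- table of the projective inversion `x ↦ -1/x` -/
def tblProjInv : List ℕ := [23, 22, 11, 15, 17, 9, 19, 13, 20, 5, 16, 2, 21, 7, 18, 3, 10, 4, 14, 6, 8, 12, 1, 0]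

/-- table of the cube twist -/
def tblCubeTwist : List ℕ := [0, 18, 6, 3, 2, 21, 1, 5, 16, 12, 7, 19, 8, 9, 17, 15, 13, 11, 4, 22, 10, 20, 14, 23]

theorem represents_shift : Represents (Equiv.optionCongr (Equiv.addRight (1 : ZMod 23))) tblShift := by
  refine ⟨rfl, ?_⟩
  decide +kernel

theorem represents_projInv : Represents projInv tblProjInv := by
  refine ⟨rfl, ?_⟩
  decide +kernel

theorem represents_cubeTwist : Represents cubeTwist tblCubeTwist := by
  refine ⟨rfl, ?_⟩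
  have h : ∀ p : GolayPt, idx (cubeTwistFun p) = tblCubeTwist.getD (idx p) 0 := by
    decide +kernel
  exact h

/-- the straight-line program producing the transversal elements from the three generators -/
def genProg : List (ℕ × ℕ) := [
  (0,0),(4,4),(4,5),(5,5),(7,7),(6,8),(2,2),(10,10),(0,1),(1,9),(2,0),(9,11),(1,2),(11,1),
  (0,2),(11,9),(2,1),(1,11),(14,16),(17,15),(0,18),(19,9),(12,16),(17,13),(2,24),(25,11),(20,26),(27,21),
  (24,30),(31,25),(18,28),(29,19),(1,34),(35,1),(20,1),(1,21),(20,38),(39,21),(38,24),(25,39),(28,36),(37,29),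
  (38,16),(17,39),(38,32),(33,39),(48,40),(41,49),(46,50),(51,47),(44,40),(41,45),(36,22),(23,37),(56,42),(43,57),
  (52,58),(59,53),(50,56),(57,51),(54,50),(51,55),(64,58),(59,65),(58,60),(61,59),(68,36),(37,69),(70,66),(67,71),
  (68,50),(51,69),(62,66),(67,63),(74,50),(51,75),(76,40),(41,77),(62,72),(73,63),(60,72),(73,61),(72,74),(75,73),
  (84,38),(39,85),(76,38),(39,77),(90,82),(83,91),(88,76),(77,89),(90,80),(81,91),(92,90),(91,93),(86,74),(75,87),
  (88,100),(101,89),(100,98),(99,101),(74,104),(105,75),(98,78),(79,99),(102,94),(95,103),(104,106),(107,105),(102,98),(99,103),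
  (112,110),(111,113),(110,92),(93,111),(114,96),(97,115),(120,118),(119,121),(116,98),(99,117),(114,118),(119,115),(114,98),(99,115),
  (122,92),(93,123),(106,128),(129,107),(122,132),(133,123),(106,124),(125,107),(130,124),(125,131),(126,138),(139,127),(108,136),(137,109),
  (142,142),(143,143),(144,142),(143,145),(144,144),(145,145),(148,142),(148,144),(145,149),(148,146),(147,149),(148,148),(149,149),(155,142),
  (143,156),(155,144),(145,156),(126,140),(141,127),(161,161),(162,162),(142,161),(144,161),(162,145),(146,161),(162,147),(148,161),(162,149),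
  (151,161),(162,152),(153,161),(162,154),(155,161),(157,161),(162,158),(159,161),(163,161),(165,163),(166,163),(168,163),(170,163),(164,171),
  (172,163),(174,163),(164,175),(176,163),(177,163),(164,178),(179,163),(170,165),(161,172),(173,162),(126,122),(123,127),(195,196),(197,194),
  (198,142),(198,151),(152,199),(198,153),(154,199),(198,155),(198,157),(198,159),(148,198),(199,149),(150,198),(153,198),(155,198),(201,203),
  (204,202),(134,126),(127,135),(175,215),(216,174),(202,217),(218,201),(219,219),(220,220),(221,219),(220,222),(221,221),(222,222),(196,215),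
  (216,197),(173,227),(228,172),(214,229),(230,213),(231,219),(220,232),(231,225),(226,232),(219,231),(232,220),(221,231),(223,231),(232,224),
  (231,231),(232,232),(242,219),(237,225),(239,225),(242,225),(233,231),(235,233),(234,236),(242,233),(234,243),(237,235),(236,238),(233,237),
  (126,124),(125,127),(191,256),(257,190),(199,258),(259,198),(241,260),(261,240),(262,262),(263,263),(264,262),(264,264),(265,265),(267,262),
  (263,268),(267,264),(256,126),(127,257),(167,272),(273,166),(250,274),(275,249),(276,262),(263,277),(276,264),(276,266),(276,267),(276,269),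
  (264,276),(277,265),(269,276),(277,270),(271,276),(284,262),(263,285),(286,262),(263,287),(284,264),(286,264),(282,276),(272,196),(197,273),
  (175,296),(297,174),(214,298),(299,213),(238,300),(301,237),(270,302),(303,269),(304,304),(306,304),(161,272),(273,162),(188,308),(309,187),
  (209,310),(311,208),(252,312),(313,251),(285,314),(315,284),(316,304),(305,317),(316,306),(316,307),(304,316),(317,305),(307,316),(318,316),
  (317,319),(320,316),(316,318),(318,318),(322,318),(319,323),(324,318),(324,320),(322,322),(323,323),(329,316),(328,322),(108,256),(164,338),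
  (204,339),(234,340),(292,341),(308,296),(297,309),(169,343),(344,168),(160,345),(346,159),(222,347),(348,221),(265,349),(350,264),(331,351),
  (352,330),(353,342),(98,256),(167,356),(209,357),(254,358),(290,359),(335,360),(361,342),(361,353),(361,355),(361,361),(365,342),(365,353),
  (365,355),(308,356),(175,369),(147,370),(241,371),(279,372),(335,373),(374,342),(374,353),(374,355),(227,161),(188,378),(145,379),(98,338),
  (185,381),(209,382),(238,383),(290,384),(326,385),(354,386),(387,387)]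

/-- transversal at level 0, with all elements words in the generators -/
def genL0 : List (List ℕ) := [
  [0,1,2,3,4,5,6,7,8,9,10,11,12,13,14,15,16,17,18,19,20,21,22,23],
  [1,23,12,20,6,21,3,19,7,18,8,17,15,22,5,0,14,4,16,13,11,9,10,2],
  [2,15,5,6,10,11,8,22,12,21,18,19,9,14,3,0,1,17,20,13,23,7,4,16],
  [3,10,23,17,20,14,5,1,0,13,12,19,18,6,21,16,15,8,2,4,7,9,11,22],
  [4,3,11,22,14,12,15,20,21,7,9,16,8,6,23,0,10,2,19,13,5,18,1,17],
  [5,22,20,15,4,12,6,3,21,17,0,19,2,11,10,8,23,1,18,9,14,16,13,7],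
  [6,12,18,17,19,9,11,2,8,15,23,1,5,16,21,0,20,14,4,13,7,3,22,10],
  [7,16,18,6,1,17,9,19,0,13,15,10,5,2,3,14,21,12,22,20,23,11,8,4],
  [8,4,15,19,6,1,3,2,0,13,5,22,21,10,11,20,9,18,16,17,12,7,23,14],
  [9,2,8,20,14,4,15,17,0,13,23,6,12,1,5,22,18,7,19,16,11,21,3,10],
  [10,5,21,19,22,7,23,16,18,9,15,2,3,20,11,0,6,1,17,13,12,8,14,4],
  [11,22,12,1,17,20,21,6,0,13,18,2,15,19,9,4,5,23,10,14,8,3,7,16],
  [12,20,21,10,2,19,7,22,0,13,9,4,3,16,8,1,11,5,14,6,15,23,18,17],
  [13,7,0,3,15,4,10,11,21,17,2,18,23,19,16,9,6,20,22,12,1,5,14,8],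
  [14,11,7,16,20,18,5,17,9,8,3,4,23,19,12,0,22,10,2,13,21,15,6,1],
  [15,1,3,16,22,10,23,4,0,13,11,20,7,14,12,19,8,9,17,2,21,18,5,6],
  [16,9,3,10,4,23,18,14,5,11,21,22,7,1,8,0,2,19,6,13,15,12,17,20],
  [17,8,23,14,1,5,9,6,11,12,7,20,18,10,15,0,4,16,22,13,3,21,2,19],
  [18,17,9,22,10,2,8,16,0,13,3,14,11,4,23,6,7,21,20,19,5,12,15,1],
  [19,18,15,1,2,3,7,10,23,5,12,6,21,4,9,0,17,20,14,13,8,11,16,22],
  [20,7,8,4,17,15,21,1,3,23,11,14,12,2,18,0,16,22,10,13,9,5,19,6],
  [21,19,7,14,4,16,18,20,0,13,8,1,23,17,15,10,12,11,6,22,3,5,9,2],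
  [22,3,1,21,5,23,2,17,18,4,11,19,20,8,12,7,6,0,9,10,16,13,14,15],
  [23,14,5,2,19,6,11,10,0,13,21,16,9,22,7,17,3,15,4,1,18,8,12,20]]

/-- transversal at level 1, with all elements words in the generators -/
def genL1 : List (List ℕ) := [
  [0,1,2,3,4,5,6,7,8,9,10,11,12,13,14,15,16,17,18,19,20,21,22,23],
  [0,2,16,8,17,3,10,12,18,7,4,23,5,13,1,9,20,19,21,22,6,11,14,15],
  [0,3,15,16,18,8,21,22,4,20,6,9,13,5,19,17,10,2,14,23,7,12,11,1],
  [0,4,17,15,2,23,14,21,9,18,1,5,11,13,10,8,19,16,7,20,22,12,6,3],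
  [0,5,23,2,8,3,18,19,10,16,20,15,13,12,17,4,6,1,22,11,9,7,21,14],
  [0,6,10,11,14,21,19,8,23,3,22,7,18,13,20,5,4,1,15,2,17,9,16,12],
  [0,7,21,14,5,12,3,4,20,1,2,11,13,9,10,6,16,22,17,18,23,15,8,19],
  [0,8,1,4,23,14,17,7,16,22,5,3,15,12,20,10,11,6,19,9,21,13,18,2],
  [0,9,18,7,21,22,1,2,15,3,11,16,10,12,6,13,20,17,14,5,8,4,23,19],
  [0,10,4,23,1,11,22,18,15,8,14,12,21,13,6,3,17,2,9,16,19,7,20,5],
  [0,11,21,19,9,16,23,14,13,15,6,10,4,12,1,7,17,18,3,20,5,2,8,22],
  [0,12,11,1,3,5,8,17,6,2,16,23,13,7,4,10,20,14,19,21,15,9,18,22],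
  [0,13,11,21,18,20,1,12,6,23,14,9,15,22,7,8,2,19,10,16,4,3,5,17],
  [0,14,1,5,10,12,20,9,3,15,6,21,7,13,22,23,2,4,8,17,16,18,19,11],
  [0,15,8,19,7,9,12,6,2,22,14,18,13,23,20,16,1,17,10,3,21,11,5,4],
  [0,16,20,18,19,8,4,5,21,12,17,15,3,13,2,7,6,22,11,14,10,23,1,9],
  [0,17,19,9,16,15,1,11,7,21,2,3,23,13,4,18,22,20,12,6,14,5,10,8],
  [0,18,20,15,17,7,11,10,14,2,21,19,22,12,9,3,8,5,4,23,1,16,6,13],
  [0,19,22,7,20,9,2,23,12,11,16,8,15,13,17,21,14,6,5,10,1,3,4,18],
  [0,20,6,21,22,18,17,3,11,5,19,9,8,13,16,12,10,14,23,1,4,15,2,7],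
  [0,21,17,13,18,19,6,4,3,14,9,22,16,12,11,15,5,20,2,8,23,10,1,7],
  [0,22,14,12,6,7,16,15,5,23,20,18,9,13,19,11,1,10,3,4,2,8,17,21],
  [0,23,6,10,1,2,20,13,22,19,8,14,3,12,5,16,9,11,7,21,18,15,17,4]]

/-- transversal at level 2, with all elements words in the generators -/
def genL2 : List (List ℕ) := [
  [0,1,2,3,4,5,6,7,8,9,10,11,12,13,14,15,16,17,18,19,20,21,22,23],
  [0,1,3,5,20,11,16,8,22,4,9,21,12,17,10,13,7,18,23,19,14,2,6,15],
  [0,1,4,3,14,7,21,15,18,16,13,5,9,20,10,22,8,12,19,17,23,11,6,2],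
  [0,1,5,3,2,7,10,23,21,11,17,15,14,9,22,6,4,13,20,16,8,12,18,19],
  [0,1,6,3,17,12,16,20,2,4,15,21,7,8,18,22,11,14,23,9,10,13,5,19],
  [0,1,7,3,2,13,18,10,14,9,12,16,4,6,22,11,21,5,17,8,15,20,23,19],
  [0,1,8,3,16,9,7,15,22,11,19,21,2,13,12,17,18,20,10,4,6,23,14,5],
  [0,1,9,3,20,11,19,8,13,17,5,10,12,7,6,15,4,2,18,14,16,23,21,22],
  [0,1,10,3,22,18,17,14,7,9,20,21,16,6,11,2,4,5,13,12,23,8,19,15],
  [0,1,11,3,20,2,21,19,12,7,23,14,4,15,6,17,13,9,5,16,10,18,8,22],
  [0,1,12,3,8,21,14,20,17,19,5,6,9,2,15,16,11,22,4,13,10,7,18,23],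
  [0,1,13,3,6,19,12,10,15,16,23,11,8,21,5,4,14,7,20,9,2,18,17,22],
  [0,1,14,3,22,2,6,10,21,18,16,19,20,4,17,8,11,23,15,7,13,9,12,5],
  [0,1,15,3,16,17,13,8,21,9,2,14,19,18,7,23,12,6,5,22,10,11,4,20],
  [0,1,16,3,7,8,11,23,5,12,18,17,9,10,2,4,21,19,22,6,20,14,13,15],
  [0,1,17,3,18,20,13,22,23,11,8,12,4,10,15,5,2,7,9,14,19,21,16,6],
  [0,1,18,3,13,22,19,2,23,12,20,14,21,11,17,16,7,8,10,9,15,5,6,4],
  [0,1,19,3,7,16,23,13,21,4,22,20,5,12,2,10,9,8,14,17,6,18,11,15],
  [0,1,20,3,19,13,5,11,14,9,23,8,4,17,21,10,22,18,6,16,15,7,12,2],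
  [0,1,21,3,12,9,8,23,4,14,22,11,15,18,19,6,5,10,2,16,13,20,7,17],
  [0,1,22,3,11,14,8,2,13,4,6,18,9,23,20,19,7,16,12,5,15,21,17,10],
  [0,1,23,3,12,6,18,21,11,9,15,7,22,5,8,20,19,13,17,4,2,14,16,10]]

/-- transversal at level 3, with all elements words in the generators -/
def genL3 : List (List ℕ) := [
  [0,1,2,3,4,5,6,7,8,9,10,11,12,13,14,15,16,17,18,19,20,21,22,23],
  [0,1,2,4,6,5,3,20,22,12,8,7,14,17,9,23,16,19,15,13,11,21,10,18],
  [0,1,2,5,15,18,11,13,17,7,6,20,12,8,4,23,3,9,22,14,21,10,16,19],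
  [0,1,2,6,7,3,20,23,16,4,19,14,21,13,11,18,17,22,12,10,5,15,8,9],
  [0,1,2,7,13,23,14,8,10,22,9,18,17,5,19,3,12,21,16,4,11,20,15,6],
  [0,1,2,8,12,16,7,23,10,9,18,13,11,20,3,5,22,15,14,21,4,6,17,19],
  [0,1,2,9,22,12,18,3,15,19,6,4,11,8,14,23,10,16,17,20,7,13,5,21],
  [0,1,2,10,9,16,11,15,22,14,23,19,20,7,6,5,8,18,12,21,3,4,13,17],
  [0,1,2,11,21,23,9,17,16,6,4,3,15,10,12,20,5,18,19,7,14,13,22,8],
  [0,1,2,12,19,7,9,22,5,21,20,14,17,8,4,13,15,10,23,6,18,11,16,3],
  [0,1,2,13,5,18,8,15,10,9,6,7,12,23,21,11,14,20,4,19,22,16,17,3],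
  [0,1,2,14,13,20,12,10,5,21,11,9,19,22,6,17,23,8,18,3,15,7,16,4],
  [0,1,2,15,7,17,6,22,23,13,14,12,18,16,21,10,20,4,8,9,19,3,5,11],
  [0,1,2,16,18,5,13,10,3,4,17,22,6,12,20,15,8,7,9,19,21,14,23,11],
  [0,1,2,17,6,22,21,16,7,11,18,4,10,5,19,8,13,20,3,9,23,14,15,12],
  [0,1,2,18,11,13,4,8,15,19,12,9,23,16,21,22,7,3,10,14,17,6,5,20],
  [0,1,2,19,3,10,21,16,20,7,15,6,8,5,13,22,17,11,4,12,18,9,23,14],
  [0,1,2,20,21,15,14,13,16,4,3,6,18,22,9,7,5,23,17,11,12,19,8,10],
  [0,1,2,21,16,17,23,12,13,6,9,19,14,5,4,3,20,15,10,18,22,8,7,11],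
  [0,1,2,22,20,8,15,17,23,14,12,7,19,3,10,16,13,5,6,4,9,11,18,21],
  [0,1,2,23,14,8,19,5,13,6,17,21,3,15,11,16,22,12,20,4,10,9,7,18]]

/-- transversal at level 4, with all elements words in the generators -/
def genL4 : List (List ℕ) := [
  [0,1,2,3,4,5,6,7,8,9,10,11,12,13,14,15,16,17,18,19,20,21,22,23],
  [0,1,2,3,5,13,7,23,11,12,14,4,17,8,20,9,22,18,15,6,16,19,10,21],
  [0,1,2,3,6,19,14,9,20,23,22,5,11,10,8,13,18,15,7,21,4,12,17,16],
  [0,1,2,3,7,8,11,10,20,9,4,22,12,23,16,18,21,15,17,13,5,14,6,19],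
  [0,1,2,3,8,18,4,16,14,12,15,10,19,9,20,5,17,21,11,23,6,22,7,13],
  [0,1,2,3,9,12,20,6,23,21,11,13,22,19,10,17,5,7,16,14,15,8,18,4],
  [0,1,2,3,10,23,8,4,21,15,7,16,12,11,5,18,13,17,9,20,22,6,19,14],
  [0,1,2,3,11,19,23,22,18,14,9,17,6,7,8,21,20,15,10,13,12,4,5,16],
  [0,1,2,3,12,17,11,10,8,22,7,6,4,21,23,15,16,5,20,19,18,13,9,14],
  [0,1,2,3,13,9,14,20,19,17,18,23,21,12,11,16,15,22,7,8,10,4,5,6],
  [0,1,2,3,14,8,11,17,10,6,5,9,23,18,19,12,7,16,20,4,13,21,22,15],
  [0,1,2,3,15,14,4,16,11,7,19,12,8,20,17,6,9,5,18,22,21,13,10,23],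
  [0,1,2,3,16,21,5,19,11,14,15,23,8,10,20,22,6,13,12,9,7,4,17,18],
  [0,1,2,3,17,21,10,14,6,4,23,12,5,8,18,22,9,20,15,11,16,19,7,13],
  [0,1,2,3,18,9,16,13,10,19,20,8,21,14,6,12,7,11,5,4,17,23,15,22],
  [0,1,2,3,19,21,10,15,14,7,16,4,8,22,13,5,17,18,6,23,11,9,12,20],
  [0,1,2,3,20,19,23,18,10,17,13,5,21,6,15,7,4,16,22,12,9,11,14,8],
  [0,1,2,3,21,22,23,18,19,5,20,14,13,4,6,16,15,9,10,8,7,12,17,11],
  [0,1,2,3,22,7,13,11,23,18,6,20,9,8,4,17,5,12,15,14,16,19,21,10],
  [0,1,2,3,23,9,16,5,13,15,17,19,14,12,22,21,18,6,10,20,4,7,8,11]]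

/-- transversal at level 5, with all elements words in the generators -/
def genL5 : List (List ℕ) := [
  [0,1,2,3,4,5,6,7,8,9,10,11,12,13,14,15,16,17,18,19,20,21,22,23],
  [0,1,2,3,4,6,16,12,23,8,7,15,10,18,22,17,5,11,20,14,13,21,19,9],
  [0,1,2,3,4,8,18,7,5,20,10,13,12,11,19,23,17,16,6,14,9,22,21,15],
  [0,1,2,3,4,9,13,10,16,18,12,20,7,17,22,8,15,6,5,19,23,14,21,11],
  [0,1,2,3,4,11,23,7,13,17,10,5,12,8,22,18,20,9,15,21,16,19,14,6],
  [0,1,2,3,4,13,15,7,11,16,10,8,12,5,21,6,9,20,23,22,17,14,19,18],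
  [0,1,2,3,4,14,9,7,19,6,10,22,12,21,5,16,15,23,20,8,18,13,11,17],
  [0,1,2,3,4,15,9,12,18,11,7,6,10,23,19,20,13,8,17,21,5,14,22,16],
  [0,1,2,3,4,16,5,10,9,23,12,17,7,20,19,11,6,15,13,22,18,21,14,8],
  [0,1,2,3,4,17,8,10,20,15,12,16,7,9,14,13,18,23,11,21,6,22,19,5],
  [0,1,2,3,4,18,17,12,15,5,7,23,10,6,21,16,8,13,9,19,11,22,14,20],
  [0,1,2,3,4,19,20,7,14,18,10,21,12,22,8,17,23,15,9,5,6,11,13,16],
  [0,1,2,3,4,20,11,10,17,6,12,9,7,16,21,5,23,18,8,14,15,19,22,13],
  [0,1,2,3,4,21,16,7,22,15,10,19,12,14,13,9,6,18,17,11,23,5,8,20],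
  [0,1,2,3,4,22,17,7,21,23,10,14,12,19,11,20,18,6,16,13,15,8,5,9],
  [0,1,2,3,4,23,20,12,6,13,7,18,10,15,14,9,11,5,16,22,8,19,21,17]]

/-- transversal at level 6, with all elements words in the generators -/
def genL6 : List (List ℕ) := [
  [0,1,2,3,4,5,6,7,8,9,10,11,12,13,14,15,16,17,18,19,20,21,22,23],
  [0,1,2,3,4,5,16,10,13,19,12,8,7,11,23,20,21,14,9,18,22,6,15,17],
  [0,1,2,3,4,5,21,12,11,18,7,13,10,8,17,22,6,23,19,9,15,16,20,14]]
/-- the group generated by the three permutations -/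
def genK : Subgroup (Equiv.Perm GolayPt) :=
  Subgroup.closure {Equiv.optionCongr (Equiv.addRight (1 : ZMod 23)), projInv, cubeTwist}

theorem gen_cover : checkCover (slpRun [tblShift, tblProjInv, tblCubeTwist, idT] genProg)
    (genL0 ++ genL1 ++ genL2 ++ genL3 ++ genL4 ++ genL5 ++ genL6) = true := by
  decide +kernel

theorem gens_inK : ∀ T ∈ [tblShift, tblProjInv, tblCubeTwist, idT], InK genK T := by
  intro T hT
  simp only [List.mem_cons, List.not_mem_nil, or_false] at hT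
  rcases hT with rfl | rfl | rfl | rfl
  · exact ⟨_, Subgroup.subset_closure (by simp), represents_shift⟩
  · exact ⟨_, Subgroup.subset_closure (by simp), represents_projInv⟩
  · exact ⟨_, Subgroup.subset_closure (by simp), represents_cubeTwist⟩
  · exact inK_idT _

theorem genL_inK : ∀ T ∈ genL0 ++ genL1 ++ genL2 ++ genL3 ++ genL4 ++ genL5 ++ genL6, InK genK T := by
  intro T hT
  exact slpRun_inK genProg _ gens_inK T (checkCover_sound _ _ gen_cover T hT)

theorem genOK0 : transOKH tblInCode [] genL0 = true := by decide +kernel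
theorem genOK1 : transOKH tblInCode [0] genL1 = true := by decide +kernel
theorem genOK2 : transOKH tblInCode [1, 0] genL2 = true := by decide +kernel
theorem genOK3 : transOKH tblInCode [2, 1, 0] genL3 = true := by decide +kernel
theorem genOK4 : transOKH tblInCode [3, 2, 1, 0] genL4 = true := by decide +kernel
theorem genOK5 : transOKH tblInCode [4, 3, 2, 1, 0] genL5 = true := by decide +kernel
theorem genOK6 : transOKH tblInCode [5, 4, 3, 2, 1, 0] genL6 = true := by decide +kernel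

theorem apply_mem_of_orbit_eq {H : Subgroup (Equiv.Perm GolayPt)} {a : GolayPt} {m : ℕ}
    (h : orbitSet H a = (maskSet m : Set GolayPt)) {g : Equiv.Perm GolayPt} (hg : g ∈ H) : g a ∈ maskSet m := by
  have : g a ∈ orbitSet H a := ⟨g, hg, rfl⟩
  rw [h] at this
  exact this

theorem M24_le_genK : M24 ≤ genK := by
  have h7 : fixH M24 (ptsOf (7 :: [5, 4, 3, 2, 1, 0])) ≤ genK := by
    have : fixH M24 (ptsOf (7 :: [5, 4, 3, 2, 1, 0])) = ⊥ := fixG_base_eq_bot
    rw [this]
    exact bot_le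
  have h6 : fixH M24 (ptsOf (5 :: [4, 3, 2, 1, 0])) ≤ genK :=
    fixH_le_of_trans certSound_M24 (fixed_lt_24 (by decide)) (by norm_num) genOK6
      (fun T hT => genL_inK T (by simp [hT])) h7 (fun g hg => by
        have h := apply_mem_of_orbit_eq orbit_eq6 hg
        have e : transImg 7 genL6 = oct5 ^^^ (oct5 &&& 63) := by decide +kernel
        rw [e]; exact h)
  have h5 : fixH M24 (ptsOf (4 :: [3, 2, 1, 0])) ≤ genK :=
    fixH_le_of_trans certSound_M24 (fixed_lt_24 (by decide)) (by norm_num) genOK5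
      (fun T hT => genL_inK T (by simp [hT])) h6 (fun g hg => by
        have h := apply_mem_of_orbit_eq orbit_eq5 hg
        have e : transImg 5 genL5 = onesMask ^^^ oct5 := by decide +kernel
        rw [e]; exact h)
  have h4 : fixH M24 (ptsOf (3 :: [2, 1, 0])) ≤ genK :=
    fixH_le_of_trans certSound_M24 (fixed_lt_24 (by decide)) (by norm_num) genOK4
      (fun T hT => genL_inK T (by simp [hT])) h5 (fun g hg => by
        have h := apply_mem_of_orbit_eq orbit_eq4 hg
        have e : transImg 4 genL4 = onesMask ^^^ tblMask [3, 2, 1, 0] := by decide +kernel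
        rw [e]; exact h)
  have h3 : fixH M24 (ptsOf (2 :: [1, 0])) ≤ genK :=
    fixH_le_of_trans certSound_M24 (fixed_lt_24 (by decide)) (by norm_num) genOK3
      (fun T hT => genL_inK T (by simp [hT])) h4 (fun g hg => by
        have h := apply_mem_of_orbit_eq orbit_eq3 hg
        have e : transImg 3 genL3 = onesMask ^^^ tblMask [2, 1, 0] := by decide +kernel
        rw [e]; exact h)
  have h2 : fixH M24 (ptsOf (1 :: [0])) ≤ genK :=
    fixH_le_of_trans certSound_M24 (fixed_lt_24 (by decide)) (by norm_num) genOK2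
      (fun T hT => genL_inK T (by simp [hT])) h3 (fun g hg => by
        have h := apply_mem_of_orbit_eq orbit_eq2 hg
        have e : transImg 2 genL2 = onesMask ^^^ tblMask [1, 0] := by decide +kernel
        rw [e]; exact h)
  have h1 : fixH M24 (ptsOf (0 :: [])) ≤ genK :=
    fixH_le_of_trans certSound_M24 (fixed_lt_24 (by decide)) (by norm_num) genOK1
      (fun T hT => genL_inK T (by simp [hT])) h2 (fun g hg => by
        have h := apply_mem_of_orbit_eq orbit_eq1 hg
        have e : transImg 1 genL1 = onesMask ^^^ tblMask [0] := by decide +kernel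
        rw [e]; exact h)
  have h0 : fixH M24 (ptsOf []) ≤ genK :=
    fixH_le_of_trans certSound_M24 (fixed_lt_24 (by decide)) (by norm_num) genOK0
      (fun T hT => genL_inK T (by simp [hT])) h1 (fun g hg => by
        have h := apply_mem_of_orbit_eq orbit_eq0 hg
        have e : transImg 0 genL0 = onesMask ^^^ tblMask [] := by decide +kernel
        rw [e]; exact h)
  have hE : ptsOf [] = ∅ := by simp [ptsOf]
  rw [hE, fixH_empty] at h0
  exact h0

theorem genK_le_M24 : genK ≤ M24 := by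
  rw [genK, Subgroup.closure_le]
  intro g hg
  simp only [Set.mem_insert_iff, Set.mem_singleton_iff] at hg
  rcases hg with rfl | rfl | rfl
  · exact mem_M24_of_table _ _ represents_shift (by decide +kernel)
  · exact mem_M24_of_table _ _ represents_projInv (by decide +kernel)
  · exact mem_M24_of_table _ _ represents_cubeTwist (by decide +kernel)

theorem genK_eq_M24 : genK = M24 := le_antisymm genK_le_M24 M24_le_genK

end Cfsg.Agent.Helper27
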