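import Cfsg.Agent.Helper27.M12
import Cfsg.Agent.Helper27.M24Gen
import Cfsg.Prelude.Def_Spor_Mathieu

/-!
The two classes of point stabilisers in the stabiliser of the dodecad of squares.
-/

set_option autoImplicit false

namespace Cfsg.Agent.Helper27

open Cfsg
open scoped Pointwise

theorem sqDod_mem_dodecads : Spor.squareDodecad ∈ dodecads := by
  refine ⟨⟨qrWord 0, Submodule.subset_span (Or.inl ⟨0, rfl⟩), rfl⟩, ?_⟩
  show (support₂ (qrWord 0)).card = 12
  rw [qrWord_eq, card_support_decW]
  decide +kernel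

theorem some_zero_mem_sqDod : (some 0 : GolayPt) ∈ Spor.squareDodecad := by
  show (some 0 : GolayPt) ∈ support₂ (qrWord 0)
  rw [qrWord_eq, mem_support_decW]
  decide +kernel

theorem none_not_mem_sqDod : (none : GolayPt) ∉ Spor.squareDodecad := by
  show (none : GolayPt) ∉ support₂ (qrWord 0)
  rw [qrWord_eq, mem_support_decW]
  decide +kernel

theorem projInv_mem_M24 : projInv ∈ M24 := mem_M24_of_table _ _ represents_projInv (by decide +kernel)

theorem mem_spor_M11 (x : Equiv.Perm GolayPt) :
    x ∈ Spor.M11 ↔ x ∈ M24 ∧ x • Spor.squareDodecad = Spor.squareDodecad ∧ x (some 0) = some 0 := by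
  unfold Spor.M11 Spor.M12
  rw [Subgroup.mem_inf, Subgroup.mem_inf, MulAction.mem_stabilizer_iff, MulAction.mem_stabilizer_iff, and_assoc]
  rfl

theorem mem_spor_M12_none (x : Equiv.Perm GolayPt) :
    x ∈ Spor.M12 ⊓ MulAction.stabilizer (Equiv.Perm GolayPt) (none : GolayPt) ↔
      x ∈ M24 ∧ x • Spor.squareDodecad = Spor.squareDodecad ∧ x none = none := by
  unfold Spor.M12
  rw [Subgroup.mem_inf, Subgroup.mem_inf, MulAction.mem_stabilizer_iff, MulAction.mem_stabilizer_iff, and_assoc]
  rfl

theorem spor_M11_eq : Spor.M11 = fixH (stabP Spor.squareDodecad) {some 0} := by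
  ext x
  rw [mem_spor_M11, mem_fixH, mem_stabP]
  simp only [Finset.mem_singleton, forall_eq, and_assoc]

theorem projInv_smul_sqDod : projInv • Spor.squareDodecad = Finset.univ \ Spor.squareDodecad := by
  decide

theorem smul_compl_eq_iff (x : Equiv.Perm GolayPt) (d : Finset GolayPt) :
    x • (Finset.univ \ d) = Finset.univ \ d ↔ x • d = d := by
  rw [Finset.smul_finset_sdiff, Finset.smul_finset_univ]
  constructor
  · intro h
    have := congrArg (fun s => Finset.univ \ s) h
    simpa using this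
  · intro h
    rw [h]

theorem conj_projInv_M11 :
    MulAut.conj projInv • Spor.M11 = Spor.M12 ⊓ MulAction.stabilizer (Equiv.Perm GolayPt) (none : GolayPt) := by
  ext x
  rw [Subgroup.mem_pointwise_smul_iff_inv_smul_mem, mem_spor_M12_none, mem_spor_M11]
  have hx : (MulAut.conj projInv)⁻¹ • x = projInv⁻¹ * x * projInv := by
    rw [MulAut.smul_def, MulAut.conj_inv_apply]
  rw [hx]
  have h1 : projInv⁻¹ * x * projInv ∈ M24 ↔ x ∈ M24 := by
    rw [Subgroup.mul_mem_cancel_right _ projInv_mem_M24, Subgroup.mul_mem_cancel_left _ (M24.inv_mem projInv_mem_M24)]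
  have h2 : (projInv⁻¹ * x * projInv) • Spor.squareDodecad = Spor.squareDodecad ↔
      x • Spor.squareDodecad = Spor.squareDodecad := by
    rw [mul_smul, mul_smul, inv_smul_eq_iff, projInv_smul_sqDod, smul_compl_eq_iff]
  have h3 : (projInv⁻¹ * x * projInv) (some 0) = some 0 ↔ x none = none := by
    rw [Equiv.Perm.mul_apply, Equiv.Perm.mul_apply, Equiv.Perm.inv_eq_iff_eq]
    have : projInv (some 0) = none := by decide
    rw [this]
  rw [h1, h2, h3]

theorem sqDod_compl_card : (Finset.univ \ Spor.squareDodecad).card = 12 := by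
  rw [Finset.card_sdiff_of_subset (Finset.subset_univ _), sqDod_mem_dodecads.2]
  rfl

theorem not_conj_in_M12 : ¬ ∃ k ∈ Spor.M12,
    MulAut.conj k • Spor.M11 = Spor.M12 ⊓ MulAction.stabilizer (Equiv.Perm GolayPt) (none : GolayPt) := by
  rintro ⟨k, hk, hconj⟩
  have hkd : k • Spor.squareDodecad = Spor.squareDodecad := by
    unfold Spor.M12 at hk
    exact MulAction.mem_stabilizer_iff.mp (Subgroup.mem_inf.mp hk).2
  set q : GolayPt := k⁻¹ none with hq
  -- every element of `M11` fixes `q`
  have hfix : ∀ x ∈ Spor.M11, x q = q := by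
    intro x hx
    have hmem : k * x * k⁻¹ ∈ MulAut.conj k • Spor.M11 := by
      rw [Subgroup.mem_pointwise_smul_iff_inv_smul_mem, MulAut.smul_def, MulAut.conj_inv_apply]
      simpa [mul_assoc] using hx
    rw [hconj, mem_spor_M12_none] at hmem
    have := hmem.2.2
    rw [Equiv.Perm.mul_apply, Equiv.Perm.mul_apply] at this
    rw [hq]
    exact (Equiv.Perm.eq_inv_iff_eq.mpr this).symm ▸ rfl
  have hqd : q ∉ Spor.squareDodecad := by
    intro hmem
    apply none_not_mem_sqDod
    have : k q ∈ k • Spor.squareDodecad := (mem_smul_finset_perm k _ _).mpr (by simpa using hmem)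
    rw [hkd] at this
    simpa [hq] using this
  -- two more points outside the dodecad
  have hcard : 1 < ((Finset.univ \ Spor.squareDodecad).erase q).card := by
    rw [Finset.card_erase_of_mem (by simp [hqd]), sqDod_compl_card]
    norm_num
  obtain ⟨u, hu, v, hv, huv⟩ := Finset.one_lt_card.mp hcard
  simp only [Finset.mem_erase, Finset.mem_sdiff, Finset.mem_univ, true_and] at hu hv
  have hx : Function.Injective ![q, u, v] := by
    intro i j hij
    fin_cases i <;> fin_cases j <;> simp_all [Ne.symm hu.1, Ne.symm hv.1]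
  have hy : Function.Injective ![u, q, v] := by
    intro i j hij
    fin_cases i <;> fin_cases j <;> simp_all [Ne.symm hu.1, Ne.symm hv.1]
  obtain ⟨h, hh, hmap⟩ := stabP_pt_three_transitive sqDod_mem_dodecads some_zero_mem_sqDod ![q, u, v] ![u, q, v] hx hy
    (by intro i; fin_cases i <;> simp [hqd, hu.2, hv.2]) (by intro i; fin_cases i <;> simp [hqd, hu.2, hv.2])
  rw [← spor_M11_eq] at hh
  have h0 := hmap 0
  simp only [Matrix.cons_val_zero] at h0
  rw [hfix h hh] at h0
  exact hu.1 h0.symm

theorem M11_two_classes :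
    Nonempty (↥(Spor.M12 ⊓ MulAction.stabilizer (Equiv.Perm GolayPt) (none : GolayPt)) ≃* ↥Spor.M11) ∧
    (¬ ∃ k ∈ Spor.M12,
      MulAut.conj k • Spor.M11 = Spor.M12 ⊓ MulAction.stabilizer (Equiv.Perm GolayPt) (none : GolayPt)) ∧
    ∃ g ∈ M24, g • Spor.squareDodecad = Finset.univ \ Spor.squareDodecad ∧
      MulAut.conj g • Spor.M11 = Spor.M12 ⊓ MulAction.stabilizer (Equiv.Perm GolayPt) (none : GolayPt) :=
  ⟨⟨((Subgroup.equivSMul (MulAut.conj projInv) Spor.M11).trans (MulEquiv.subgroupCongr conj_projInv_M11)).symm⟩,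
    not_conj_in_M12, projInv, projInv_mem_M24, projInv_smul_sqDod, conj_projInv_M11⟩

end Cfsg.Agent.Helper27
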