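import Cfsg.Agent.Helper27.M11CentMain
import Cfsg.Agent.Helper27.M11Two
import Cfsg.Agent.Helper27.InvPattern

/-!
The involution pattern of the Mathieu group of degree 11: one class of involutions, with centraliser `GL(2, 3)` of odd
index.
-/

set_option autoImplicit false

namespace Cfsg.Agent.Helper27

open Cfsg
open scoped Pointwise

/-- the involutions of the stabiliser of a dodecad and one of its points are conjugate -/
theorem stabDP_invol_conj {d : Finset GolayPt} (hd : d ∈ dodecads) {p : GolayPt} (hp : p ∈ d)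
    (x y : ↥(stabDP d p)) (hx : orderOf x = 2) (hy : orderOf y = 2) : IsConj x y := by
  have facts : ∀ w : ↥(stabDP d p), orderOf w = 2 →
      ∃ g ∈ M24, g • d = maskSet dod0 ∧ g p = pt 0 ∧ g * ((w : ↥M24) : Equiv.Perm GolayPt) * g⁻¹ = z0P := by
    intro w hw
    have hwm := (mem_stabDP (w : ↥M24)).mp w.2
    have hw2 : w * w = 1 := by
      have := pow_orderOf_eq_one w
      rwa [hw, pow_two] at this
    have hw1 : w ≠ 1 := by
      intro h
      rw [h, orderOf_one] at hw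
      omega
    have hξ2 : ((w : ↥M24) : Equiv.Perm GolayPt) * ((w : ↥M24) : Equiv.Perm GolayPt) = 1 :=
      congrArg (fun y : ↥(stabDP d p) => ((y : ↥M24) : Equiv.Perm GolayPt)) hw2
    have hξ1 : ((w : ↥M24) : Equiv.Perm GolayPt) ≠ 1 := fun h => hw1 (Subtype.ext (Subtype.ext h))
    exact exists_conj_z0 hd hp (w : ↥M24).2 hwm.1 hwm.2 hξ2 hξ1
  obtain ⟨g₁, hg₁, hd₁, hp₁, hc₁⟩ := facts x hx
  obtain ⟨g₂, hg₂, hd₂, hp₂, hc₂⟩ := facts y hy
  rw [isConj_iff]
  have hkd : (g₂⁻¹ * g₁) • d = d := by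
    rw [mul_smul, hd₁, inv_smul_eq_iff, hd₂]
  have hkp : (g₂⁻¹ * g₁) p = p := by
    rw [Equiv.Perm.mul_apply, hp₁, Equiv.Perm.inv_eq_iff_eq, hp₂]
  refine ⟨⟨⟨g₂⁻¹ * g₁, mul_mem (inv_mem hg₂) hg₁⟩, (mem_stabDP _).mpr ⟨hkd, hkp⟩⟩, ?_⟩
  apply Subtype.ext
  apply Subtype.ext
  show (g₂⁻¹ * g₁) * ((x : ↥M24) : Equiv.Perm GolayPt) * (g₂⁻¹ * g₁)⁻¹ = ((y : ↥M24) : Equiv.Perm GolayPt)
  have e2 : ((y : ↥M24) : Equiv.Perm GolayPt) = g₂⁻¹ * z0P * g₂ := by
    rw [← hc₂]
    group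
  rw [e2, ← hc₁]
  group

/-- the stabiliser of the dodecad of squares and the residue 0, as a subgroup of `M24`, is the Mathieu group of
degree 11 -/
noncomputable def sporM11Equiv : ↥(stabDP Spor.squareDodecad (some 0)) ≃* ↥Spor.M11 :=
  ((stabDP Spor.squareDodecad (some 0)).equivMapOfInjective M24.subtype M24.subtype_injective).trans
    (MulEquiv.subgroupCongr ((map_stabilizer_inf_eq _ _).trans spor_M11_eq.symm))

theorem card_spor_M11 : Nat.card ↥Spor.M11 = 7920 := by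
  rw [← Nat.card_congr sporM11Equiv.toEquiv]
  exact card_stabilizer_dodecad_pt sqDod_mem_dodecads some_zero_mem_sqDod

theorem stabDP_invPattern {d : Finset GolayPt} (hd : d ∈ dodecads) {p : GolayPt} (hp : p ∈ d) :
    InvPattern (GL (Fin 2) (ZMod 3)) ↥(stabDP d p) := by
  have hcard : Nat.card ↥(stabDP d p) = 7920 := card_stabilizer_dodecad_pt hd hp
  have hfin : Finite ↥(stabDP d p) := Nat.finite_of_card_ne_zero (by rw [hcard]; norm_num)
  have : Fact (Nat.Prime 2) := ⟨Nat.prime_two⟩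
  obtain ⟨u, hu⟩ := exists_prime_orderOf_dvd_card' (G := ↥(stabDP d p)) 2 (by rw [hcard]; norm_num)
  obtain ⟨θ⟩ := m11_invol_cent d hd p hp u hu
  refine ⟨u, hu, ⟨θ⟩, ?_, fun a _ ha => stabDP_invol_conj hd hp a u ha hu⟩
  have h1 := Subgroup.card_mul_index (Subgroup.centralizer ({u} : Set ↥(stabDP d p)))
  rw [Nat.card_congr θ.toEquiv, card_GL23, hcard] at h1
  have h2 : (Subgroup.centralizer ({u} : Set ↥(stabDP d p))).index = 165 := by omega
  rw [h2]
  norm_num

theorem spor_M11_invPattern : InvPattern (GL (Fin 2) (ZMod 3)) ↥Spor.M11 :=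
  (stabDP_invPattern sqDod_mem_dodecads some_zero_mem_sqDod).of_equiv sporM11Equiv

end Cfsg.Agent.Helper27
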