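import Cfsg.Agent.Helper16.FHBNDefs

set_option autoImplicit false

/-!
# Feit–Higman (S1142), piece E2: the Weyl group of a (B,N)-pair of rank 2 is dihedral

A group `W` generated by two involutions `w 0 ≠ w 1` (with the folding condition `Hyp`, which is
only used through the elementary properties of the length function) has order `2 n`,
`n = orderOf (w 0 * w 1)`, and the alternating words of length `≤ n` are reduced.
-/

namespace Cfsg.Agent.Helper27.Dih

open Cfsg.Agent.Helper14.ExchCox Cfsg.Agent.Helper16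

variable {W : Type*} [Group W] {ι : Type*} (s : ι → W) (σ : Fin 2 → ι)

theorem fin2_cases (i j : Fin 2) : j = i ∨ j = 1 - i := by
  fin_cases i <;> fin_cases j <;> simp

theorem fin2_sub_sub (i : Fin 2) : 1 - (1 - i) = i := by
  fin_cases i <;> simp

/-- the alternating product is the product of Helper14's alternating list -/
theorem alt_eq_wp (k : ℕ) (i : Fin 2) :
    FH.alt (fun i => s (σ i)) k i = wp s (Cfsg.Agent.Helper14.ExchCox.alt (σ i) (σ (1 - i)) k) := by
  induction k generalizing i with
  | zero => rfl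
  | succ k ih =>
    rw [FH.alt_succ, ih (1 - i), fin2_sub_sub]
    show _ = wp s (σ i :: Cfsg.Agent.Helper14.ExchCox.alt (σ (1 - i)) (σ i) k)
    rw [wp_cons]

theorem len_alt_le (h : Hyp s) (k : ℕ) (i : Fin 2) :
    len s (FH.alt (fun i => s (σ i)) k i) ≤ k := by
  induction k generalizing i with
  | zero => rw [FH.alt_zero, len_one]
  | succ k ih =>
    rw [FH.alt_succ]
    have := len_simple_mul_le h (σ i) (FH.alt (fun i => s (σ i)) k (1 - i))
    have := ih (1 - i)
    omega

/-- the braid relation -/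
theorem braid (h : Hyp s) :
    FH.alt (fun i => s (σ i)) (orderOf (s (σ 0) * s (σ 1))) 0 =
      FH.alt (fun i => s (σ i)) (orderOf (s (σ 0) * s (σ 1))) 1 := by
  rw [alt_eq_wp, alt_eq_wp]
  have h10 : (1 : Fin 2) - 0 = 1 := by simp
  have h11 : (1 : Fin 2) - 1 = 0 := by simp
  rw [h10, h11]
  exact alt_eq_of_pow_eq_one s h.sq (σ 0) (σ 1) _ (pow_orderOf_eq_one _)

theorem braid' (h : Hyp s) (i j : Fin 2) :
    FH.alt (fun i => s (σ i)) (orderOf (s (σ 0) * s (σ 1))) i =
      FH.alt (fun i => s (σ i)) (orderOf (s (σ 0) * s (σ 1))) j := by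
  have := braid s σ h
  fin_cases i <;> fin_cases j <;> first | rfl | exact this | exact this.symm

/-- normal form: every element is the alternating word of its length, and lengths are `≤ n` -/
theorem normal_form [Finite W] (h : Hyp s) (hσ : Function.Surjective σ) :
    ∀ (m : ℕ) (u : W), len s u = m →
      m ≤ orderOf (s (σ 0) * s (σ 1)) ∧ ∃ i, u = FH.alt (fun i => s (σ i)) m i := by
  have hnpos : 0 < orderOf (s (σ 0) * s (σ 1)) := orderOf_pos _
  intro m
  induction m with
  | zero =>
    intro u hu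
    exact ⟨Nat.zero_le _, 0, eq_one_of_len_eq_zero h hu⟩
  | succ m ih =>
    intro u hu
    obtain ⟨l, hl, hlen⟩ := exists_reduced h u
    rw [hu] at hlen
    match l, hl, hlen with
    | [], _, hlen => simp at hlen
    | x :: l', hl, hlen =>
      have hred : Red s (x :: l') := red_of_length_eq hl (by rw [hu]; exact hlen)
      have hred' : Red s l' := hred.tail h
      have hl'len : l'.length = m := by simpa using hlen
      have hlen' : len s (wp s l') = m := by rw [← hl'len]; exact hred'
      obtain ⟨hmn, j, hj⟩ := ih (wp s l') hlen'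
      obtain ⟨i, rfl⟩ := hσ x
      have hu' : u = s (σ i) * wp s l' := by rw [← hl, wp_cons]
      -- the tail cannot start with the same letter
      have hclaim : ∀ m'', m = m'' + 1 → wp s l' = FH.alt (fun i => s (σ i)) m i → False := by
        intro m'' hm'' he
        rw [hm'', FH.alt_succ] at he
        have : u = FH.alt (fun i => s (σ i)) m'' (1 - i) := by
          rw [hu', he]; exact simple_mul_cancel h (σ i) _
        have h1 := len_alt_le s σ h m'' (1 - i)
        rw [← this, hu] at h1
        omega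
      rcases Nat.eq_zero_or_pos m with hm0 | hmpos
      · subst hm0
        refine ⟨hnpos, i, ?_⟩
        have : wp s l' = 1 := eq_one_of_len_eq_zero h hlen'
        rw [hu', this, FH.alt_succ, FH.alt_zero]
      · obtain ⟨m'', hm''⟩ : ∃ m'', m = m'' + 1 := ⟨m - 1, by omega⟩
        have hji : j = 1 - i := by
          rcases fin2_cases i j with hji | hji
          · exact (hclaim m'' hm'' (by rw [hj, hji])).elim
          · exact hji
        constructor
        · by_contra hcon
          have hmeq : m = orderOf (s (σ 0) * s (σ 1)) := by omega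
          apply hclaim m'' hm''
          rw [hj, hmeq]
          exact braid' s σ h j i
        · exact ⟨i, by rw [hu', hj, hji, FH.alt_succ]⟩

/-- `2 ≤ n` -/
theorem two_le_order [Finite W] (h : Hyp s) (hs : Function.Injective s)
    (hσi : Function.Injective σ) : 2 ≤ orderOf (s (σ 0) * s (σ 1)) := by
  have hnpos : 0 < orderOf (s (σ 0) * s (σ 1)) := orderOf_pos _
  have hne : orderOf (s (σ 0) * s (σ 1)) ≠ 1 := by
    intro h1
    rw [orderOf_eq_one_iff] at h1
    have h2 : s (σ 0) = s (σ 1) := by
      have := h.sq (σ 1)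
      calc s (σ 0) = s (σ 0) * (s (σ 1) * s (σ 1)) := by rw [this, mul_one]
        _ = (s (σ 0) * s (σ 1)) * s (σ 1) := by group
        _ = s (σ 1) := by rw [h1, one_mul]
    have := hσi (hs h2)
    exact absurd this (by decide)
  omega

/-- `w 0` is not a power of `w 0 * w 1` -/
theorem not_mem_zpowers (h : Hyp s) :
    s (σ 0) ∉ Subgroup.zpowers (s (σ 0) * s (σ 1)) := by
  intro hmem
  set a := s (σ 0) with ha
  set b := s (σ 1) with hb
  have haa : a * a = 1 := h.sq _
  have hbb : b * b = 1 := h.sq _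
  obtain ⟨z, hz⟩ := Subgroup.mem_zpowers_iff.mp hmem
  -- `a` commutes with `r = a b`
  have hcomm : a * (a * b) = (a * b) * a := by
    have := ((Commute.refl (a * b)).zpow_left z).eq
    rw [hz] at this
    exact this
  -- hence `(a b)^2 = 1`
  have hr2 : (a * b) ^ 2 = 1 := by
    have e1 : a * (a * b) = b := by rw [← mul_assoc, haa, one_mul]
    rw [e1] at hcomm
    -- b = a b a
    rw [pow_two]
    calc a * b * (a * b) = (a * b * a) * b := by group
      _ = b * b := by rw [← hcomm]
      _ = 1 := hbb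
  rcases Int.even_or_odd z with ⟨c, hc⟩ | ⟨c, hc⟩
  · have : a = 1 := by
      rw [← hz, hc, ← two_mul, zpow_mul, zpow_ofNat, hr2, one_zpow]
    exact h.ne_one _ this
  · have : a = a * b := by
      have e : (a * b) ^ z = a * b := by
        rw [hc, zpow_add, zpow_mul, zpow_ofNat, hr2, one_zpow, one_mul, zpow_one]
      rw [← e, hz]
    have hb1 : b = 1 := by
      have := congrArg (fun x => a * x) this
      simp only [haa, ← mul_assoc, one_mul] at this
      exact this.symm
    exact h.ne_one _ hb1

/-- `2 n ≤ |W|` -/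
theorem two_mul_le_card [Finite W] (h : Hyp s) :
    2 * orderOf (s (σ 0) * s (σ 1)) ≤ Nat.card W := by
  have hnot := not_mem_zpowers s σ h
  have hidx := (Subgroup.zpowers (s (σ 0) * s (σ 1))).index_mul_card
  rw [Nat.card_zpowers] at hidx
  have hne1 : (Subgroup.zpowers (s (σ 0) * s (σ 1))).index ≠ 1 := by
    intro h1
    rw [Subgroup.index_eq_one] at h1
    apply hnot
    rw [h1]; trivial
  have hne0 : (Subgroup.zpowers (s (σ 0) * s (σ 1))).index ≠ 0 := Subgroup.index_ne_zero_of_finite
  have : 2 ≤ (Subgroup.zpowers (s (σ 0) * s (σ 1))).index := by omega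
  calc 2 * orderOf (s (σ 0) * s (σ 1)) ≤
      (Subgroup.zpowers (s (σ 0) * s (σ 1))).index * orderOf (s (σ 0) * s (σ 1)) :=
        Nat.mul_le_mul_right _ this
    _ = Nat.card W := hidx

/-- the enumeration of the `2 n` alternating words -/
def enum (p : Fin 2 × Fin (orderOf (s (σ 0) * s (σ 1)))) : W :=
  FH.alt (fun i => s (σ i)) (p.2.val + p.1.val) p.1

/-- every alternating word of length `≤ n` is enumerated, with the right index sum -/
theorem exists_enum [Finite W] (h : Hyp s) (k : ℕ) (hk : k ≤ orderOf (s (σ 0) * s (σ 1)))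
    (i : Fin 2) :
    ∃ p : Fin 2 × Fin (orderOf (s (σ 0) * s (σ 1))), p.2.val + p.1.val = k ∧
      FH.alt (fun i => s (σ i)) k i = enum s σ p := by
  have hnpos : 0 < orderOf (s (σ 0) * s (σ 1)) := orderOf_pos _
  rcases Nat.eq_zero_or_pos k with hk0 | hkpos
  · subst hk0
    exact ⟨(0, ⟨0, hnpos⟩), rfl, rfl⟩
  · rcases Nat.lt_or_ge k (orderOf (s (σ 0) * s (σ 1))) with hlt | hge
    · have hi : i.val ≤ 1 := by omega
      refine ⟨(i, ⟨k - i.val, by omega⟩), ?_, ?_⟩
      · show k - i.val + i.val = k
        omega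
      · unfold enum
        show _ = FH.alt (fun i => s (σ i)) (k - i.val + i.val) i
        congr 1
        omega
    · have hkn : k = orderOf (s (σ 0) * s (σ 1)) := le_antisymm hk hge
      refine ⟨(1, ⟨orderOf (s (σ 0) * s (σ 1)) - 1, by omega⟩), ?_, ?_⟩
      · show orderOf (s (σ 0) * s (σ 1)) - 1 + 1 = k
        omega
      · unfold enum
        show _ = FH.alt (fun i => s (σ i)) (orderOf (s (σ 0) * s (σ 1)) - 1 + 1) 1
        have e : orderOf (s (σ 0) * s (σ 1)) - 1 + 1 = orderOf (s (σ 0) * s (σ 1)) := by omega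
        rw [e, hkn]
        exact braid' s σ h i 1

theorem enum_surjective [Finite W] (h : Hyp s) (hσ : Function.Surjective σ) :
    Function.Surjective (enum s σ) := by
  intro u
  obtain ⟨hle, i, hi⟩ := normal_form s σ h hσ (len s u) u rfl
  obtain ⟨p, -, hp⟩ := exists_enum s σ h (len s u) hle i
  exact ⟨p, by rw [← hp, ← hi]⟩

/-- `|W| = 2 n` -/
theorem card_eq [Finite W] (h : Hyp s)
    (hσ : Function.Surjective σ) : Nat.card W = 2 * orderOf (s (σ 0) * s (σ 1)) := by
  apply le_antisymm _ (two_mul_le_card s σ h)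
  have := Nat.card_le_card_of_surjective _ (enum_surjective s σ h hσ)
  rwa [Nat.card_prod, Nat.card_fin, Nat.card_fin] at this

theorem enum_injective [Finite W] (h : Hyp s)
    (hσ : Function.Surjective σ) : Function.Injective (enum s σ) := by
  refine ((enum_surjective s σ h hσ).bijective_of_nat_card_le ?_).1
  rw [card_eq s σ h hσ, Nat.card_prod, Nat.card_fin, Nat.card_fin]

/-- alternating words of length `≤ n` are reduced -/
theorem len_alt [Finite W] (h : Hyp s)
    (hσ : Function.Surjective σ) (k : ℕ) (i : Fin 2) (hk : k ≤ orderOf (s (σ 0) * s (σ 1))) :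
    len s (FH.alt (fun i => s (σ i)) k i) = k := by
  obtain ⟨hle, i', hi'⟩ := normal_form s σ h hσ _ (FH.alt (fun i => s (σ i)) k i) rfl
  obtain ⟨p, hp1, hp2⟩ := exists_enum s σ h k hk i
  obtain ⟨p', hp1', hp2'⟩ := exists_enum s σ h _ hle i'
  have : p = p' := enum_injective s σ h hσ (by rw [← hp2, ← hp2', ← hi'])
  rw [← hp1', ← this, hp1]

end Cfsg.Agent.Helper27.Dih

namespace Cfsg.Agent.Helper16.FH

open Cfsg Cfsg.Agent.Helper12.BNSt Cfsg.Agent.Helper14.ExchCox

variable {G : Type*} [Group G] (P : Cfsg.BNPair G) [hN : ((P.B ⊓ P.N).subgroupOf P.N).Normal]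

theorem weyl_dihedral [Finite G] (σ : Fin 2 → P.S) (hσ : Function.Bijective σ) :
    2 ≤ orderOf (wgen P σ 0 * wgen P σ 1) ∧
    Nat.card (Wq P) = 2 * orderOf (wgen P σ 0 * wgen P σ 1) ∧
    alt (wgen P σ) (orderOf (wgen P σ 0 * wgen P σ 1)) 0 =
      alt (wgen P σ) (orderOf (wgen P σ 0 * wgen P σ 1)) 1 ∧
    ∀ k i, k ≤ orderOf (wgen P σ 0 * wgen P σ 1) → len (sgen P) (alt (wgen P σ) k i) = k := by
  have h : Hyp (sgen P) := hyp_sgen
  have hs : Function.Injective (sgen P) := sgen_injective
  exact ⟨Cfsg.Agent.Helper27.Dih.two_le_order (sgen P) σ h hs hσ.1,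
    Cfsg.Agent.Helper27.Dih.card_eq (sgen P) σ h hσ.2,
    Cfsg.Agent.Helper27.Dih.braid (sgen P) σ h,
    fun k i hk => Cfsg.Agent.Helper27.Dih.len_alt (sgen P) σ h hσ.2 k i hk⟩

end Cfsg.Agent.Helper16.FH
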