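import Cfsg.Agent.Helper27.S0745Defs
import Cfsg.Agent.Helper10.S0745CARDG
import Cfsg.Agent.Helper9.S0745CARDSS

set_option autoImplicit false

namespace Cfsg.Agent.S0745P

open Equiv

variable {α : Type*} [Fintype α] [DecidableEq α]

theorem CARDM_aux (n t c r M g : ℕ) (hn : n = r * c + t) (hc : 0 < c)
    (hG : g = n.descFactorial t * c) (hM : n.choose (t + 2) * M = g) :
    M * (r * (r * c - 1)) = (t + 2).factorial := by
  have htn : t ≤ n := by omega
  have hdpos : 0 < n.descFactorial t := Nat.descFactorial_pos.mpr htn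
  have h1 : n.descFactorial (t + 2) = (n - (t + 1)) * ((n - t) * n.descFactorial t) := by
    rw [Nat.descFactorial_succ, Nat.descFactorial_succ]
  have h2 : n.descFactorial (t + 2) = (t + 2).factorial * n.choose (t + 2) :=
    Nat.descFactorial_eq_factorial_mul_choose n (t + 2)
  have e1 : n - t = r * c := by omega
  have e2 : n - (t + 1) = r * c - 1 := by omega
  rw [e1, e2] at h1
  -- (t+2)! * C * M = (t+2)! * dF * c
  have h3 : (t + 2).factorial * (n.choose (t + 2) * M) = (t + 2).factorial * (n.descFactorial t * c) := by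
    rw [hM, hG]
  rw [← mul_assoc, ← h2, h1] at h3
  -- (rc-1) * (rc * dF) * M = (t+2)! * (dF * c)
  have h4 : (n.descFactorial t * c) * (M * (r * (r * c - 1))) = (n.descFactorial t * c) * (t + 2).factorial := by
    calc (n.descFactorial t * c) * (M * (r * (r * c - 1)))
        = (r * c - 1) * (r * c * n.descFactorial t) * M := by ring
      _ = (t + 2).factorial * (n.descFactorial t * c) := h3
      _ = (n.descFactorial t * c) * (t + 2).factorial := by ring
  exact Nat.eq_of_mul_eq_mul_left (Nat.mul_pos hdpos hc) h4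

/-- CARDM -/
theorem card_M {G : Subgroup (Perm α)} {t c r : ℕ} (h : Hyp G t c r) (S : Finset α)
    (hS : S.card = t + 2) : Nat.card (SS G S) * (r * (r * c - 1)) = (t + 2).factorial := by
  have hdeg := h.deg
  have hc : 0 < c := by
    obtain ⟨Γ, -, hΓ⟩ := Finset.exists_subset_card_eq (s := (Finset.univ : Finset α)) (n := t)
      (by rw [Finset.card_univ]; omega)
    rw [← h.cardH Γ hΓ]
    exact Nat.card_pos
  exact CARDM_aux (Fintype.card α) t c r _ _ hdeg hc (card_G h) (card_SS_mul G (t + 2) h.hom2 S hS)

end Cfsg.Agent.S0745P
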