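import Mathlib
import Cfsg.Agent.Helper17.QuadSpan
import Cfsg.Agent.Helper17.Suz2B

/-!
# Suzuki 2-groups: the field lemma INJ' (helper27 SUZ2 blueprint, section 5)
-/

set_option autoImplicit false
set_option linter.unusedSectionVars false
set_option linter.style.haveILetI false

namespace Cfsg.Agent.Helper27.Suz2Inj

open Cfsg.Agent.Helper17

section field

variable {F : Type*} [Field F] [Fintype F] [CharP F 2]

/-- Dedekind independence in coefficient form. -/
theorem coeff_eq_zero (a : (F ≃+* F) → F) (h : ∀ z : F, ∑ σ : F ≃+* F, a σ * σ z = 0)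
    (σ : F ≃+* F) : a σ = 0 := by
  have hli := aut_linearIndependent_fun (F := F)
  rw [Fintype.linearIndependent_iff] at hli
  apply hli a
  funext z
  have := h z
  simpa [Finset.sum_apply] using this

theorem eq_of_sq_eq {a b : F} (h : a * a = b * b) : a = b := by
  have h2 : (a + b) * (a + b) = 0 := by
    have : (a + b) * (a + b) = a * a + b * b + (a * b + a * b) := by ring
    rw [this, h, CharTwo.add_self_eq_zero, CharTwo.add_self_eq_zero, add_zero]
  have h3 : a + b = 0 := by
    rcases mul_eq_zero.mp h2 with h | h <;> exact h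
  calc a = a + (b + b) := by rw [CharTwo.add_self_eq_zero, add_zero]
    _ = (a + b) + b := by ring
    _ = b := by rw [h3, zero_add]

/-- PAIR LEMMA. -/
theorem pair_lemma (α β γ δ : F ≃+* F) (h : ∀ w : F, α w * β w = γ w * δ w) :
    (α = γ ∧ β = δ) ∨ (α = δ ∧ β = γ) := by
  classical
  by_cases h1 : α = γ
  · left
    refine ⟨h1, ?_⟩
    subst h1
    ext w
    by_cases hw : w = 0
    · simp [hw]
    · have hα : α w ≠ 0 := by simpa using hw
      exact mul_left_cancel₀ hα (h w)
  by_cases h2 : α = δ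
  · right
    refine ⟨h2, ?_⟩
    subst h2
    ext w
    by_cases hw : w = 0
    · simp [hw]
    · have hα : α w ≠ 0 := by simpa using hw
      have := h w
      rw [mul_comm (γ w)] at this
      exact mul_left_cancel₀ hα this
  exfalso
  have hrel : ∀ x : F, α x + β x + γ x + δ x = 0 := by
    intro x
    have e1 := h (x + 1)
    have e0 := h x
    simp only [map_add, map_one] at e1
    have e2 : α x + β x = γ x + δ x := by linear_combination e1 - e0
    calc α x + β x + γ x + δ x = (α x + β x) + (γ x + δ x) := by ring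
      _ = 0 := by rw [e2, CharTwo.add_self_eq_zero]
  by_cases h3 : α = β
  · subst h3
    have hγδ : γ = δ := by
      ext x
      have := hrel x
      rw [CharTwo.add_self_eq_zero, zero_add] at this
      calc γ x = γ x + (δ x + δ x) := by rw [CharTwo.add_self_eq_zero, add_zero]
        _ = (γ x + δ x) + δ x := by ring
        _ = δ x := by rw [this, zero_add]
    subst hγδ
    apply h1
    ext w
    exact eq_of_sq_eq (h w)
  · let a : (F ≃+* F) → F := fun σ =>
      (if σ = α then 1 else 0) + (if σ = β then 1 else 0) + (if σ = γ then 1 else 0) +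
        (if σ = δ then 1 else 0)
    have ha : ∀ z : F, ∑ σ : F ≃+* F, a σ * σ z = 0 := by
      intro z
      simp only [a, add_mul, Finset.sum_add_distrib, ite_mul, one_mul, zero_mul,
        Finset.sum_ite_eq', Finset.mem_univ, if_true]
      exact hrel z
    have := coeff_eq_zero a ha α
    simp only [a, if_true, if_neg h3, if_neg h1, if_neg h2, add_zero] at this
    exact one_ne_zero this

theorem exists_ne_zero_ne_one (hcard : 2 < Fintype.card F) : ∃ u : F, u ≠ 0 ∧ u ≠ 1 := by
  classical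
  by_contra hcon
  push Not at hcon
  have hsub : (Finset.univ : Finset F) ⊆ {0, 1} := by
    intro u _
    by_cases hu : u = 0
    · simp [hu]
    · simp [hcon u hu]
  have := Finset.card_le_card hsub
  have h2 : ({0, 1} : Finset F).card ≤ 2 := Finset.card_le_two
  rw [Finset.card_univ] at this
  omega

theorem char_two_eq_add {x y z : F} (h : x + y + z = 0) : x = y + z := by
  have : x - (y + z) = 0 := by
    rw [CharTwo.sub_eq_add]
    rw [← h]; ring
  exact sub_eq_zero.mp this

/-- INJ', field form. -/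
theorem inj_field (hcard : 2 < Fintype.card F)
    (τ : F → F) (hτ0 : τ 0 = 0) (hτm : ∀ u v, τ (u * v) = τ u * τ v)
    (hτb : Function.Bijective τ)
    (A0 : F → F) (hA : ∀ a b, A0 (a + b) = A0 a + A0 b) (hA0 : ∃ z, A0 z ≠ 0)
    (B : F → F → F) (hB : ∀ u z, u ≠ 0 → B u z = τ u * A0 ((τ u)⁻¹ * z))
    (hB0 : ∀ z, B 0 z = 0)
    (hBadd : ∀ u u' z, B (u + u') z = B u z + B u' z) :
    ∃ (c : F) (σ : F ≃+* F), c ≠ 0 ∧
      (∀ w w' : F, w ≠ 0 → w' ≠ 0 → w / σ w = w' / σ w' → w = w') ∧
      ∀ u z, u ≠ 0 → B u z = c * (τ u / σ (τ u)) * σ z := by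
  classical
  have hτne : ∀ u, u ≠ 0 → τ u ≠ 0 := fun u hu h => hu (hτb.1 (h.trans hτ0.symm))
  have hτ1 : τ 1 = 1 := by
    have h1 := hτm 1 1
    rw [mul_one] at h1
    have hne := hτne 1 one_ne_zero
    have : 1 * τ 1 = τ 1 * τ 1 := by rw [one_mul]; exact h1
    exact (mul_right_cancel₀ hne this).symm
  obtain ⟨c, hc⟩ := add_expand A0 hA
  obtain ⟨ψ, hψ⟩ : ∃ ψ : (F ≃+* F) → F → F,
      ∀ σ u, ψ σ u = if u = 0 then 0 else τ u / σ (τ u) := ⟨_, fun _ _ => rfl⟩
  have hψ0 : ∀ σ, ψ σ 0 = 0 := fun σ => by rw [hψ, if_pos rfl]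
  have hψne : ∀ σ u, u ≠ 0 → ψ σ u = τ u / σ (τ u) := fun σ u hu => by rw [hψ, if_neg hu]
  have hστ : ∀ (σ : F ≃+* F) u, u ≠ 0 → σ (τ u) ≠ 0 := by
    intro σ u hu
    have := hτne u hu
    simpa using this
  have hBsum : ∀ u z, B u z = ∑ σ : F ≃+* F, (c σ * ψ σ u) * σ z := by
    intro u z
    by_cases hu : u = 0
    · subst hu
      simp [hψ0, hB0]
    · rw [hB u z hu, hc, Finset.mul_sum]
      refine Finset.sum_congr rfl fun σ _ => ?_
      rw [hψne σ u hu, map_mul, map_inv₀]
      have := hστ σ u hu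
      field_simp
  have hfadd : ∀ σ u u', c σ * ψ σ (u + u') = c σ * ψ σ u + c σ * ψ σ u' := by
    intro σ u u'
    have key := coeff_eq_zero
      (fun σ => c σ * ψ σ (u + u') + c σ * ψ σ u + c σ * ψ σ u') (by
        intro z
        simp only [add_mul, Finset.sum_add_distrib, ← hBsum]
        rw [hBadd]
        have : B u z + B u' z + B u z + B u' z = (B u z + B u z) + (B u' z + B u' z) := by ring
        rw [this, CharTwo.add_self_eq_zero, CharTwo.add_self_eq_zero, add_zero]) σ
    exact char_two_eq_add key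
  have hψadd : ∀ σ, c σ ≠ 0 → ∀ u u', ψ σ (u + u') = ψ σ u + ψ σ u' := by
    intro σ hσ u u'
    have := hfadd σ u u'
    rw [← mul_add] at this
    exact mul_left_cancel₀ hσ this
  have hψmul : ∀ σ u v, ψ σ (u * v) = ψ σ u * ψ σ v := by
    intro σ u v
    by_cases hu : u = 0
    · subst hu; simp [hψ0]
    by_cases hv : v = 0
    · subst hv; simp [hψ0]
    rw [hψne σ _ (mul_ne_zero hu hv), hψne σ u hu, hψne σ v hv, hτm, map_mul, div_mul_div_comm]
  have hψ1 : ∀ σ, ψ σ 1 = 1 := by
    intro σ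
    rw [hψne σ 1 one_ne_zero, hτ1, map_one, div_one]
  have hΨ : ∀ σ, c σ ≠ 0 → ∃ Ψ : F →+* F, ∀ u, Ψ u = ψ σ u := by
    intro σ hσ
    exact ⟨{ toFun := ψ σ
             map_one' := hψ1 σ
             map_mul' := hψmul σ
             map_zero' := hψ0 σ
             map_add' := hψadd σ hσ }, fun _ => rfl⟩
  have hψinj : ∀ σ, c σ ≠ 0 → Function.Injective (ψ σ) := by
    intro σ hσ
    obtain ⟨Ψ, hΨ'⟩ := hΨ σ hσ
    intro a b hab
    apply Ψ.injective
    rw [hΨ', hΨ', hab]
  -- the identity has coefficient zero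
  have hcid : c (RingEquiv.refl F) = 0 := by
    by_contra hne
    obtain ⟨u, hu0, hu1⟩ := exists_ne_zero_ne_one hcard
    apply hu1
    apply hψinj _ hne
    rw [hψ1, hψne _ u hu0, RingEquiv.refl_apply, div_self (hτne u hu0)]
  -- uniqueness
  have huniq : ∀ σ σ' : F ≃+* F, c σ ≠ 0 → c σ' ≠ 0 → σ = σ' := by
    intro σ σ' hσ hσ'
    by_contra hne
    obtain ⟨Ψ, hΨ1⟩ := hΨ σ hσ
    obtain ⟨Ψ', hΨ2⟩ := hΨ σ' hσ'
    have hb : Function.Bijective Ψ :=
      ⟨Ψ.injective, Finite.injective_iff_surjective.mp Ψ.injective⟩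
    have hb' : Function.Bijective Ψ' :=
      ⟨Ψ'.injective, Finite.injective_iff_surjective.mp Ψ'.injective⟩
    let ρ : F ≃+* F := (RingEquiv.ofBijective Ψ hb).symm.trans (RingEquiv.ofBijective Ψ' hb')
    have hρ : ∀ u, ρ (Ψ u) = Ψ' u := by
      intro u
      show (RingEquiv.ofBijective Ψ' hb') ((RingEquiv.ofBijective Ψ hb).symm (Ψ u)) = Ψ' u
      have : (RingEquiv.ofBijective Ψ hb).symm (Ψ u) = u :=
        (RingEquiv.ofBijective Ψ hb).symm_apply_apply u
      rw [this]
      rfl
    have hrel : ∀ w : F, ρ w * σ' w = (RingEquiv.refl F) w * (σ.trans ρ) w := by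
      intro w
      rw [RingEquiv.refl_apply, RingEquiv.trans_apply]
      by_cases hw : w = 0
      · subst hw; simp
      obtain ⟨u, rfl⟩ := hτb.2 w
      have hu : u ≠ 0 := by
        rintro rfl
        exact hw hτ0
      have h1 := hρ u
      rw [hΨ1, hΨ2, hψne σ u hu, hψne σ' u hu, map_div₀] at h1
      have hd1 : ρ (σ (τ u)) ≠ 0 := by
        have := hστ σ u hu
        simpa using this
      have hd2 : σ' (τ u) ≠ 0 := hστ σ' u hu
      rw [div_eq_div_iff hd1 hd2] at h1
      exact h1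
    rcases pair_lemma ρ σ' (RingEquiv.refl F) (σ.trans ρ) hrel with ⟨h1, h2⟩ | ⟨_, h2⟩
    · apply hne
      rw [h2, h1]
      ext w
      rfl
    · rw [h2] at hσ'
      exact hσ' hcid
  -- some coefficient is nonzero
  obtain ⟨σ₀, hσ₀⟩ : ∃ σ₀, c σ₀ ≠ 0 := by
    by_contra hcon
    push Not at hcon
    obtain ⟨z, hz⟩ := hA0
    apply hz
    rw [hc]
    exact Finset.sum_eq_zero fun σ _ => by rw [hcon σ, zero_mul]
  refine ⟨c σ₀, σ₀, hσ₀, ?_, ?_⟩
  · intro w w' hw hw' hww
    obtain ⟨u, rfl⟩ := hτb.2 w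
    obtain ⟨u', rfl⟩ := hτb.2 w'
    have hu : u ≠ 0 := by
      rintro rfl
      exact hw hτ0
    have hu' : u' ≠ 0 := by
      rintro rfl
      exact hw' hτ0
    have : ψ σ₀ u = ψ σ₀ u' := by rw [hψne _ u hu, hψne _ u' hu', hww]
    rw [hψinj σ₀ hσ₀ this]
  · intro u z hu
    rw [hBsum u z, Finset.sum_eq_single σ₀]
    · rw [hψne σ₀ u hu]
    · intro σ _ hσ
      have : c σ = 0 := by
        by_contra hne
        exact hσ (huniq σ σ₀ hne hσ₀)
      rw [this, zero_mul, zero_mul]
    · intro h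
      exact absurd (Finset.mem_univ σ₀) h

end field

section module

open Cfsg.Agent.Helper17.Suz2

variable {K : Type*} {A Z : Type*} [Group K] [AddCommGroup A] [AddCommGroup Z]
  [DistribMulAction K A] [DistribMulAction K Z]

/-- INJ', module form: an equivariant biadditive map `A × Z → Z` between lines has no zero
divisors, and every `B a ·` (`a ≠ 0`) has exactly one nonzero fixed point. -/
theorem inj_module [Finite A] [Finite Z] (hA : IsLine K A) (hZ : IsLine K Z)
    (F : Type*) [Field F] [Fintype F] [CharP F 2]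
    (hFA : Fintype.card F = Nat.card A) (hFZ : Fintype.card F = Nat.card Z)
    (hcard : 2 < Fintype.card F)
    (B : A → Z → Z) (hB1 : ∀ a a' z, B (a + a') z = B a z + B a' z)
    (hB2 : ∀ a z z', B a (z + z') = B a z + B a z')
    (hBk : ∀ (k : K) a z, B (k • a) (k • z) = k • B a z) (hne : ∃ a z, B a z ≠ 0) :
    (∀ a z, a ≠ 0 → B a z = 0 → z = 0) ∧ (∀ a, a ≠ 0 → ∃! z, z ≠ 0 ∧ B a z = z) := by
  classical
  have hB0l : ∀ z, B 0 z = 0 := by
    intro z
    have := hB1 0 0 z
    rw [add_zero] at this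
    exact left_eq_add.mp this
  have hB0r : ∀ a, B a 0 = 0 := by
    intro a
    have := hB2 a 0 0
    rw [add_zero] at this
    exact left_eq_add.mp this
  obtain ⟨a₀, z₁, hz₁⟩ := hne
  have ha₀ : a₀ ≠ 0 := by
    rintro rfl
    exact hz₁ (hB0l z₁)
  have hz₁0 : z₁ ≠ 0 := by
    rintro rfl
    exact hz₁ (hB0r a₀)
  obtain ⟨θ', lam', hθ'1, hlam'b, hlam'm, hθ'k⟩ := exists_field_model hA a₀ ha₀ F hFA
  obtain ⟨θ, lam, -, hlamb, hlamm, hθk⟩ := exists_field_model hZ z₁ hz₁0 F hFZ
  have hlam1 : lam 1 = 1 := by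
    have := hlamm 1 1
    rw [mul_one] at this
    exact (mul_eq_left.mp this.symm)
  have hlaminv : ∀ k, lam k⁻¹ = (lam k)⁻¹ := by
    intro k
    have := hlamm k⁻¹ k
    rw [inv_mul_cancel, hlam1] at this
    exact eq_inv_of_mul_eq_one_left this.symm
  -- the inverse of lam'
  obtain ⟨kinv, hkinv⟩ : ∃ kinv : Fˣ → K, ∀ u, lam' (kinv u) = u :=
    ⟨Function.surjInv hlam'b.2, Function.surjInv_eq hlam'b.2⟩
  have hkinvmul : ∀ u v, kinv (u * v) = kinv u * kinv v := by
    intro u v
    apply hlam'b.1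
    rw [hlam'm, hkinv, hkinv, hkinv]
  obtain ⟨τ, hτ⟩ : ∃ τ : F → F, ∀ u, τ u = if h : u = 0 then 0 else (lam (kinv (Units.mk0 u h)) : F) :=
    ⟨_, fun _ => rfl⟩
  have hτ0 : τ 0 = 0 := by rw [hτ, dif_pos rfl]
  have hτne : ∀ u (h : u ≠ 0), τ u = (lam (kinv (Units.mk0 u h)) : F) := by
    intro u h
    rw [hτ, dif_neg h]
  have hτm : ∀ u v, τ (u * v) = τ u * τ v := by
    intro u v
    by_cases hu : u = 0
    · subst hu; simp [hτ0]
    by_cases hv : v = 0
    · subst hv; simp [hτ0]
    rw [hτne _ (mul_ne_zero hu hv), hτne u hu, hτne v hv, ← Units.val_mul, ← hlamm, ← hkinvmul]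
    congr 3
    exact Units.ext rfl
  have hτinj : Function.Injective τ := by
    intro u v huv
    by_cases hu : u = 0
    · subst hu
      by_contra hv
      have hv' : v ≠ 0 := fun h => hv h.symm
      rw [hτ0, hτne v hv'] at huv
      exact (Units.ne_zero _) huv.symm
    by_cases hv : v = 0
    · subst hv
      rw [hτ0, hτne u hu] at huv
      exact absurd huv (Units.ne_zero _)
    rw [hτne u hu, hτne v hv] at huv
    have h1 : kinv (Units.mk0 u hu) = kinv (Units.mk0 v hv) := hlamb.1 (Units.ext huv)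
    have h2 := congrArg lam' h1
    rw [hkinv, hkinv] at h2
    exact congrArg Units.val h2
  have hτb : Function.Bijective τ := ⟨hτinj, Finite.injective_iff_surjective.mp hτinj⟩
  -- transported maps
  obtain ⟨A0, hA0def⟩ : ∃ A0 : F → F, ∀ y, A0 y = θ (B a₀ (θ.symm y)) := ⟨_, fun _ => rfl⟩
  obtain ⟨B', hB'def⟩ : ∃ B' : F → F → F, ∀ u z, B' u z = θ (B (θ'.symm u) (θ.symm z)) :=
    ⟨_, fun _ _ => rfl⟩
  have hA0add : ∀ a b, A0 (a + b) = A0 a + A0 b := by
    intro a b
    rw [hA0def, hA0def, hA0def, map_add, hB2, map_add]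
  have hA0ne : ∃ z, A0 z ≠ 0 := by
    refine ⟨θ z₁, ?_⟩
    rw [hA0def, AddEquiv.symm_apply_apply]
    intro h
    apply hz₁
    have : θ (B a₀ z₁) = θ 0 := by rw [h, map_zero]
    exact θ.injective this
  have hB'0 : ∀ z, B' 0 z = 0 := by
    intro z
    rw [hB'def, map_zero, hB0l, map_zero]
  have hB'add : ∀ u u' z, B' (u + u') z = B' u z + B' u' z := by
    intro u u' z
    rw [hB'def, hB'def, hB'def, map_add, hB1, map_add]
  have hB' : ∀ u z, u ≠ 0 → B' u z = τ u * A0 ((τ u)⁻¹ * z) := by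
    intro u z hu
    set k := kinv (Units.mk0 u hu) with hk
    have hlk : lam' k = Units.mk0 u hu := hkinv _
    have h1 : θ'.symm u = k • a₀ := by
      rw [AddEquiv.symm_apply_eq, hθ'k, hθ'1, mul_one, hlk]
      rfl
    have h2 : θ.symm z = k • θ.symm ((lam k : F)⁻¹ * z) := by
      rw [AddEquiv.symm_apply_eq, hθk, AddEquiv.apply_symm_apply, ← mul_assoc,
        mul_inv_cancel₀ (Units.ne_zero _), one_mul]
    rw [hB'def, h1, h2, hBk, hθk, hτne u hu, hA0def]
  obtain ⟨c, σ, hc, hσinj, hform⟩ :=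
    inj_field hcard τ hτ0 hτm hτb A0 hA0add hA0ne B' hB' hB'0 hB'add
  have hτnz : ∀ u, u ≠ 0 → τ u ≠ 0 := fun u hu h => hu (hτinj (h.trans hτ0.symm))
  have hd : ∀ u, u ≠ 0 → c * (τ u / σ (τ u)) ≠ 0 := by
    intro u hu
    have h1 := hτnz u hu
    have h2 : σ (τ u) ≠ 0 := by simpa using h1
    exact mul_ne_zero hc (div_ne_zero h1 h2)
  have hBB' : ∀ a z, θ (B a z) = B' (θ' a) (θ z) := by
    intro a z
    rw [hB'def, AddEquiv.symm_apply_apply, AddEquiv.symm_apply_apply]
  have hθ'ne : ∀ a, a ≠ 0 → θ' a ≠ 0 := by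
    intro a ha h
    apply ha
    have : θ' a = θ' 0 := by rw [h, map_zero]
    exact θ'.injective this
  constructor
  · intro a z ha hz
    have h1 := hBB' a z
    rw [hz, map_zero, hform _ _ (hθ'ne a ha)] at h1
    have h2 : σ (θ z) = 0 := by
      rcases mul_eq_zero.mp h1.symm with h | h
      · exact absurd h (hd _ (hθ'ne a ha))
      · exact h
    have h3 : θ z = 0 := by simpa using h2
    have : θ z = θ 0 := by rw [h3, map_zero]
    exact θ.injective this
  · intro a ha
    set u := θ' a with hu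
    have hu0 : u ≠ 0 := hθ'ne a ha
    set d := c * (τ u / σ (τ u)) with hdd
    have hd0 : d ≠ 0 := hd u hu0
    have hσne : ∀ w : Fˣ, σ (w : F) ≠ 0 := fun w => by simp
    let g : Fˣ → Fˣ := fun w => Units.mk0 ((w : F) / σ w) (div_ne_zero w.ne_zero (hσne w))
    have hg : Function.Injective g := by
      intro w w' hww
      have := congrArg Units.val hww
      exact Units.ext (hσinj w w' w.ne_zero w'.ne_zero this)
    obtain ⟨w, hw⟩ := (Finite.injective_iff_surjective.mp hg) (Units.mk0 d hd0)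
    have hw' : (w : F) / σ w = d := congrArg Units.val hw
    have hfix : ∀ y : F, y ≠ 0 → (d * σ y = y ↔ y = w) := by
      intro y hy
      have hσy : σ y ≠ 0 := by simpa using hy
      constructor
      · intro h
        have h1 : y / σ y = d := by rw [div_eq_iff hσy]; exact h.symm
        exact hσinj y w hy w.ne_zero (h1.trans hw'.symm)
      · rintro rfl
        rw [← hw', div_mul_cancel₀ _ (hσne w)]
    refine ⟨θ.symm w, ⟨?_, ?_⟩, ?_⟩
    · intro h
      have : (w : F) = 0 := by
        have := congrArg θ h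
        rwa [AddEquiv.apply_symm_apply, map_zero] at this
      exact w.ne_zero this
    · apply θ.injective
      rw [hBB', AddEquiv.apply_symm_apply, hform _ _ hu0]
      exact (hfix w w.ne_zero).mpr rfl
    · rintro z ⟨hz0, hz⟩
      have hθz : θ z ≠ 0 := by
        intro h
        apply hz0
        have : θ z = θ 0 := by rw [h, map_zero]
        exact θ.injective this
      have h1 := hBB' a z
      rw [hz, hform _ _ hu0] at h1
      have := (hfix (θ z) hθz).mp h1.symm
      rw [AddEquiv.eq_symm_apply]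
      exact this

theorem exists_field_of_card (Z : Type*) [AddCommGroup Z] [Finite Z] (h2 : ∀ z : Z, z + z = 0)
    (hnt : 1 < Nat.card Z) :
    ∃ (F : Type) (_ : Field F) (_ : Fintype F), CharP F 2 ∧ Fintype.card F = Nat.card Z := by
  classical
  letI : Module (ZMod 2) Z := AddCommGroup.zmodModule (n := 2) (fun z => by rw [two_nsmul]; exact h2 z)
  have hcard : Nat.card Z = 2 ^ Module.finrank (ZMod 2) Z := by
    have := Module.natCard_eq_pow_finrank (K := ZMod 2) (V := Z)
    simpa using this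
  set n := Module.finrank (ZMod 2) Z with hn
  have hn0 : n ≠ 0 := by
    intro h
    rw [h, pow_zero] at hcard
    omega
  letI : Fintype (GaloisField 2 n) := Fintype.ofFinite _
  refine ⟨GaloisField 2 n, inferInstance, inferInstance, inferInstance, ?_⟩
  rw [← Nat.card_eq_fintype_card, GaloisField.card 2 n hn0, hcard]

/-- INJ' for lines over `𝔽₂`, no auxiliary field in the statement. -/
theorem inj_line [Finite A] [Finite Z] (hA : IsLine K A) (hZ : IsLine K Z)
    (h2 : ∀ z : Z, z + z = 0) (hAZ : Nat.card A = Nat.card Z) (hcard : 2 < Nat.card Z)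
    (B : A → Z → Z) (hB1 : ∀ a a' z, B (a + a') z = B a z + B a' z)
    (hB2 : ∀ a z z', B a (z + z') = B a z + B a z')
    (hBk : ∀ (k : K) a z, B (k • a) (k • z) = k • B a z) (hne : ∃ a z, B a z ≠ 0) :
    (∀ a z, a ≠ 0 → B a z = 0 → z = 0) ∧ (∀ a, a ≠ 0 → ∃! z, z ≠ 0 ∧ B a z = z) := by
  obtain ⟨F, iF, iFt, hch, hF⟩ := exists_field_of_card Z h2 (by omega)
  exact inj_module hA hZ F (hF.trans hAZ.symm) hF (by omega) B hB1 hB2 hBk hne

end module

end Cfsg.Agent.Helper27.Suz2Inj
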