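import Mathlib
import Cfsg.Agent.Helper27.S0996Defs
import Cfsg.Agent.Helper5.S0999Defs

set_option autoImplicit false

/-!
# S4700 (Brauer–Reynolds: perfect groups with a Sylow subgroup of order `p`): shared definitions

Proof document: `departures/helper27_s4700_pieces.md`.

`NotF p n`: `n` is NOT of the form `F(p,u,h) = (h u p + u² + u + h)/(u + 1)` with `h, u ≥ 1`.
`HypF`, `BasicF`: the standing hypotheses / first consequences of S0996 (`Cfsg.Agent.S0996P.Hyp`,
`Cfsg.Agent.S0996P.Basic`) with the hypothesis `2 n < p + 3` replaced by `NotF p n`.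
All other notation (`NP`, `QP`, `Lin`, `lam`, `indL`, `mult`, `EE`, `LinFacts`, `Dict0`, `Dict`, `Struc`,
`Perm`, …) is that of `Cfsg.Agent.Helper27.S0996Defs` (namespace `Cfsg.Agent.S0996P`).
`B0Ext`, `B0One`: the principal `p`-block of a group with a Sylow subgroup of order `p` and
ARBITRARY centralizer (`B0Full` of `Cfsg.Agent.Helper5.S0999Defs`), with the values on `P ∖ 1`.
-/

namespace Cfsg.Agent.S4700P

open Cfsg Cfsg.Agent.Helper24 Cfsg.Agent.Helper1.W2p Cfsg.Agent.S0996P Cfsg.Agent.S4503P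
  Cfsg.Agent.S0999P

universe u

variable {G : Type u} [Group G]

/-- `n` is not of the form `(h u p + u² + u + h)/(u + 1)` with positive integers `h`, `u`. -/
def NotF (p n : ℕ) : Prop :=
  ¬ ∃ h u : ℕ, 0 < h ∧ 0 < u ∧ n * (u + 1) = h * u * p + u ^ 2 + u + h

/-- The standing hypotheses: `P` of prime order `p` is self-centralizing, `G` is perfect, the number
of Sylow `p`-subgroups is `1 + n p` and `n` is not of the form `F(p,u,h)`. -/
structure HypF (p : ℕ) (P : Subgroup G) (n : ℕ) : Prop where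
  card_P : Nat.card P = p
  cent : Subgroup.centralizer (P : Set G) = P
  perf : commutator G = ⊤
  sylow : Nat.card (Sylow p G) = 1 + n * p
  notF : NotF p n

/-- Layer 1: elementary group-theoretic consequences of `HypF` (same fields as
`Cfsg.Agent.S0996P.Basic`). -/
structure BasicF (p : ℕ) (P : Subgroup G) (n : ℕ) : Prop extends HypF p P n where
  card_NP : Nat.card (NP P) = p * eN P
  index_NP : (NP P).index = 1 + n * p
  card_G : Nat.card G = p * eN P * (1 + n * p)
  eN_dvd : eN P ∣ p - 1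
  two_le_eN : 2 ≤ eN P
  one_le_n : 1 ≤ n
  five_le : 5 ≤ p
  /-- elements of `N ∖ P` are `p`-regular -/
  regular : ∀ h ∈ NP P, h ∉ P → ¬ p ∣ orderOf h
  /-- a non-trivial element of `P` is conjugated into `N` only by elements of `N` -/
  conj_mem : ∀ x y : G, y ∈ P → y ≠ 1 → x⁻¹ * y * x ∈ NP P → x ∈ NP P
  /-- for `h ∈ N ∖ P` the coset `h P` is the `P`-conjugacy class of `h` -/
  conj_mul : ∀ h ∈ NP P, h ∉ P → ∀ y ∈ P, ∃ u ∈ P, u * h * u⁻¹ = h * y
  /-- `C_P(h) = 1` for `h ∈ N ∖ P` -/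
  cent_P : ∀ h ∈ NP P, h ∉ P → ∀ y ∈ P, h * y = y * h → y = 1
  /-- `N / P` is cyclic -/
  cyc : IsCyclic (QP P)

section B0

variable [Finite G]

/-- The principal block for a Sylow subgroup `P` of order `p` with arbitrary centralizer, at least two
exceptional characters (`f = |N_G(P) : C_G(P)| ≠ p - 1`): `B0Full` (`Cfsg.Agent.Helper5.S0999Defs`)
together with the values on `P ∖ 1`:
* `val_X`: a non-exceptional character takes the value `δ χ` on `P ∖ 1`;
* `sum_Y`: `∑_{y ∈ P} ψ(y) = ψ(1) - ε f` for an exceptional character `ψ`. -/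
structure B0Ext (p : ℕ) (P : Sylow p G) extends B0Full p P where
  val_X : ∀ χ ∈ X, ∀ y ∈ (P : Subgroup G), y ≠ 1 → (χ : G → ℂ) y = (δ χ : ℂ)
  sum_Y : ∀ ψ ∈ Y, ∑ᶠ y : ↥(P : Subgroup G), (ψ : G → ℂ) (y : G) =
    (irrDeg ψ : ℂ) - (ε : ℂ) * (fN (P : Subgroup G) : ℂ)

/-- The principal block for a Sylow subgroup `P` of order `p` with arbitrary centralizer in the case
`f = |N_G(P) : C_G(P)| = p - 1` (no exceptional characters: the block consists of `p` characters
with signs, the value on `P ∖ 1` is the sign). -/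
structure B0One (p : ℕ) (P : Sylow p G) where
  X : Finset (IrrCharacter G)
  δ : IrrCharacter G → ℤ
  card_X : X.card = p
  triv_mem : trivIrr G ∈ X
  δ_pm : ∀ χ ∈ X, δ χ = 1 ∨ δ χ = -1
  val_X : ∀ χ ∈ X, ∀ y ∈ (P : Subgroup G), y ≠ 1 → (χ : G → ℂ) y = (δ χ : ℂ)
  deg_X : ∀ χ ∈ X, (irrDeg χ : ℤ) ≡ δ χ [ZMOD p]
  rel_one : ∑ χ ∈ X, δ χ * (irrDeg χ : ℤ) = 0
  big : ∀ χ ∈ X,
    (∀ c ∈ Subgroup.centralizer ((P : Subgroup G) : Set G), ¬ p ∣ orderOf c →
      (χ : G → ℂ) c = (χ : G → ℂ) 1) ∨ p ≤ irrDeg χ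

end B0

end Cfsg.Agent.S4700P
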