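import Mathlib
import Cfsg.Prelude.Def_GeometricClasses
import Cfsg.Prelude.Def_ClassicalGeometry

set_option autoImplicit false
open scoped MatrixGroups

/-! S5975 (driver helper27): shared definitions for the pieces.

`V = F^{2d}` with the form `f = Cfsg.sympForm d F`; `K` a field subalgebra of `M_{2d}(F)` of prime degree `k`
whose elements are `f`-self-adjoint and satisfy `f(a v, v) = 0`. -/

namespace Cfsg.Agent.S5975P

/-- the three hypotheses on `K` in S5975 -/
structure HypK (d k : ℕ) (F : Type*) [Field F]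
    (K : Subalgebra F (Matrix (Fin d ⊕ Fin d) (Fin d ⊕ Fin d) F)) : Prop where
  field : Cfsg.Geo.IsFieldSubalgebra k K
  sa : Cfsg.Geo.IsSelfAdjointFor (Cfsg.sympForm d F) K
  alt : ∀ a ∈ K, ∀ v : Fin d ⊕ Fin d → F, Cfsg.sympForm d F (a.mulVec v) v = 0

/-- `W` is invariant under `K` -/
def KInv (d : ℕ) (F : Type*) [Field F]
    (K : Subalgebra F (Matrix (Fin d ⊕ Fin d) (Fin d ⊕ Fin d) F))
    (W : Submodule F (Fin d ⊕ Fin d → F)) : Prop :=
  ∀ a ∈ K, ∀ w ∈ W, a.mulVec w ∈ W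

/-- the restriction of `f` to `W` is non-degenerate -/
def NDeg (d : ℕ) (F : Type*) [Field F] (W : Submodule F (Fin d ⊕ Fin d → F)) : Prop :=
  ∀ w ∈ W, (∀ w' ∈ W, Cfsg.sympForm d F w w' = 0) → w = 0

/-- `(u s, v s)`, `s < m`, is a `K`-symplectic frame of the `K`-invariant subspace `W` for the functional `τ`:
`f(a u_s, b u_t) = 0 = f(a v_s, b v_t)`, `f(a u_s, b v_t) = δ_st τ(ab)`, and `W = ⊕ (K u_s + K v_s)`. -/
structure IsFrame (d : ℕ) (F : Type*) [Field F]
    (K : Subalgebra F (Matrix (Fin d ⊕ Fin d) (Fin d ⊕ Fin d) F)) (τ : K →ₗ[F] F)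
    (W : Submodule F (Fin d ⊕ Fin d → F)) (m : ℕ) (u v : Fin m → (Fin d ⊕ Fin d → F)) : Prop where
  mem_u : ∀ s, u s ∈ W
  mem_v : ∀ s, v s ∈ W
  uu : ∀ (a b : K) (s t : Fin m), Cfsg.sympForm d F (a.1.mulVec (u s)) (b.1.mulVec (u t)) = 0
  vv : ∀ (a b : K) (s t : Fin m), Cfsg.sympForm d F (a.1.mulVec (v s)) (b.1.mulVec (v t)) = 0
  uv : ∀ (a b : K) (s t : Fin m),
    Cfsg.sympForm d F (a.1.mulVec (u s)) (b.1.mulVec (v t)) = if s = t then τ (a * b) else 0
  span : ∀ w ∈ W, ∃ a b : Fin m → K, w = ∑ s, ((a s).1.mulVec (u s) + (b s).1.mulVec (v s))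

/-! ### basic facts on `sympForm` -/

theorem sympForm_add_left (d : ℕ) (F : Type*) [Field F] (u u' v : Fin d ⊕ Fin d → F) :
    Cfsg.sympForm d F (u + u') v = Cfsg.sympForm d F u v + Cfsg.sympForm d F u' v := by
  unfold Cfsg.sympForm; rw [add_dotProduct]

theorem sympForm_add_right (d : ℕ) (F : Type*) [Field F] (u v v' : Fin d ⊕ Fin d → F) :
    Cfsg.sympForm d F u (v + v') = Cfsg.sympForm d F u v + Cfsg.sympForm d F u v' := by
  unfold Cfsg.sympForm; rw [Matrix.mulVec_add, dotProduct_add]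

theorem sympForm_smul_left (d : ℕ) (F : Type*) [Field F] (c : F) (u v : Fin d ⊕ Fin d → F) :
    Cfsg.sympForm d F (c • u) v = c * Cfsg.sympForm d F u v := by
  unfold Cfsg.sympForm; rw [smul_dotProduct, smul_eq_mul]

theorem sympForm_smul_right (d : ℕ) (F : Type*) [Field F] (c : F) (u v : Fin d ⊕ Fin d → F) :
    Cfsg.sympForm d F u (c • v) = c * Cfsg.sympForm d F u v := by
  unfold Cfsg.sympForm; rw [Matrix.mulVec_smul, dotProduct_smul, smul_eq_mul]

theorem sympForm_zero_left (d : ℕ) (F : Type*) [Field F] (v : Fin d ⊕ Fin d → F) :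
    Cfsg.sympForm d F 0 v = 0 := by
  unfold Cfsg.sympForm; rw [zero_dotProduct]

theorem sympForm_zero_right (d : ℕ) (F : Type*) [Field F] (u : Fin d ⊕ Fin d → F) :
    Cfsg.sympForm d F u 0 = 0 := by
  unfold Cfsg.sympForm; rw [Matrix.mulVec_zero, dotProduct_zero]

theorem sympForm_neg_left (d : ℕ) (F : Type*) [Field F] (u v : Fin d ⊕ Fin d → F) :
    Cfsg.sympForm d F (-u) v = -Cfsg.sympForm d F u v := by
  unfold Cfsg.sympForm; rw [neg_dotProduct]

theorem sympForm_neg_right (d : ℕ) (F : Type*) [Field F] (u v : Fin d ⊕ Fin d → F) :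
    Cfsg.sympForm d F u (-v) = -Cfsg.sympForm d F u v := by
  unfold Cfsg.sympForm; rw [Matrix.mulVec_neg, dotProduct_neg]

theorem sympForm_sub_left (d : ℕ) (F : Type*) [Field F] (u u' v : Fin d ⊕ Fin d → F) :
    Cfsg.sympForm d F (u - u') v = Cfsg.sympForm d F u v - Cfsg.sympForm d F u' v := by
  rw [sub_eq_add_neg, sympForm_add_left, sympForm_neg_left, ← sub_eq_add_neg]

theorem sympForm_sub_right (d : ℕ) (F : Type*) [Field F] (u v v' : Fin d ⊕ Fin d → F) :
    Cfsg.sympForm d F u (v - v') = Cfsg.sympForm d F u v - Cfsg.sympForm d F u v' := by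
  rw [sub_eq_add_neg, sympForm_add_right, sympForm_neg_right, ← sub_eq_add_neg]

theorem sympForm_sum_left (d : ℕ) (F : Type*) [Field F] {ι : Type*} (s : Finset ι)
    (u : ι → (Fin d ⊕ Fin d → F)) (v : Fin d ⊕ Fin d → F) :
    Cfsg.sympForm d F (∑ i ∈ s, u i) v = ∑ i ∈ s, Cfsg.sympForm d F (u i) v := by
  unfold Cfsg.sympForm; rw [sum_dotProduct]

theorem sympForm_sum_right (d : ℕ) (F : Type*) [Field F] {ι : Type*} (s : Finset ι)
    (u : Fin d ⊕ Fin d → F) (v : ι → (Fin d ⊕ Fin d → F)) :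
    Cfsg.sympForm d F u (∑ i ∈ s, v i) = ∑ i ∈ s, Cfsg.sympForm d F u (v i) := by
  unfold Cfsg.sympForm; rw [Matrix.mulVec_sum, dotProduct_sum]

/-- explicit formula -/
theorem sympForm_apply (d : ℕ) (F : Type*) [CommRing F] (u v : Fin d ⊕ Fin d → F) :
    Cfsg.sympForm d F u v =
      ∑ i, (u (Sum.inr i) * v (Sum.inl i) - u (Sum.inl i) * v (Sum.inr i)) := by
  unfold Cfsg.sympForm
  simp only [dotProduct, Matrix.mulVec, Matrix.J, Fintype.sum_sum_type, Matrix.fromBlocks_apply₁₁,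
    Matrix.fromBlocks_apply₁₂, Matrix.fromBlocks_apply₂₁, Matrix.fromBlocks_apply₂₂,
    Matrix.zero_apply, Matrix.neg_apply, Matrix.one_apply, zero_mul, Finset.sum_const_zero, zero_add,
    add_zero, neg_mul, ite_mul, one_mul, Finset.sum_neg_distrib, Finset.sum_ite_eq,
    Finset.mem_univ, if_true, mul_neg]
  rw [Finset.sum_sub_distrib]
  ring

/-- `f` is alternating -/
theorem sympForm_self (d : ℕ) (F : Type*) [CommRing F] (u : Fin d ⊕ Fin d → F) :
    Cfsg.sympForm d F u u = 0 := by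
  rw [sympForm_apply]
  apply Finset.sum_eq_zero
  intro i _
  ring

/-- `f` is antisymmetric -/
theorem sympForm_swap (d : ℕ) (F : Type*) [CommRing F] (u v : Fin d ⊕ Fin d → F) :
    Cfsg.sympForm d F u v = -Cfsg.sympForm d F v u := by
  rw [sympForm_apply, sympForm_apply, ← Finset.sum_neg_distrib]
  apply Finset.sum_congr rfl
  intro i _
  ring

/-- `f` is non-degenerate on the whole space -/
theorem nDeg_top (d : ℕ) (F : Type*) [Field F] : NDeg d F ⊤ := by
  classical
  intro w _ hw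
  funext j
  rcases j with j | j
  · have h := hw (Pi.single (Sum.inr j) 1) Submodule.mem_top
    rw [sympForm_apply] at h
    simp only [Pi.single_apply, reduceCtorEq, if_false, mul_zero, Sum.inr.injEq, mul_ite, mul_one,
      zero_sub, Finset.sum_neg_distrib, Finset.sum_ite_eq', Finset.mem_univ, if_true,
      neg_eq_zero] at h
    simpa using h
  · have h := hw (Pi.single (Sum.inl j) 1) Submodule.mem_top
    rw [sympForm_apply] at h
    simp only [Pi.single_apply, reduceCtorEq, if_false, mul_zero, Sum.inl.injEq, mul_ite, mul_one,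
      sub_zero, Finset.sum_ite_eq', Finset.mem_univ, if_true] at h
    simpa using h

/-- consequence of self-adjointness and `alt`: `f(a u, b u) = 0` -/
theorem HypK.form_smul_smul_self {d k : ℕ} {F : Type*} [Field F]
    {K : Subalgebra F (Matrix (Fin d ⊕ Fin d) (Fin d ⊕ Fin d) F)} (hK : HypK d k F K)
    {a b : Matrix (Fin d ⊕ Fin d) (Fin d ⊕ Fin d) F} (ha : a ∈ K) (hb : b ∈ K)
    (u : Fin d ⊕ Fin d → F) :
    Cfsg.sympForm d F (a.mulVec u) (b.mulVec u) = 0 := by
  rw [← hK.sa b hb, Matrix.mulVec_mulVec]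
  exact hK.alt _ (K.mul_mem hb ha) u

end Cfsg.Agent.S5975P
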