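import Mathlib
import Cfsg.Prelude.Def_GeometricClasses
import Cfsg.Prelude.Def_Classical
import Cfsg.Prelude.Def_LieClassical
import Cfsg.Agent.Helper16.S5974Defs
import Cfsg.Agent.Helper2.OInvE
import Cfsg.Agent.Helper28.Spin6
import Cfsg.Agent.Helper5.S5973MODELV
import Cfsg.Agent.Helper16.S5973TRANSPORTQ
import Cfsg.Agent.Helper16.S5973OMEGAODD

/-! S5974 / S5988 / S5990 piece MODELQ (helper27): an element of `Ω(Q)` of odd prime order `r ≠ p`
with `b` blocks, for every realisable `b`, in every characteristic. -/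

set_option autoImplicit false
open scoped MatrixGroups
universe u

namespace Cfsg.Agent.S5974P

open Module Cfsg.Agent.S5973P Cfsg.Agent.Helper2.SympInvol Cfsg.Agent.Helper2.SympUnits
  Cfsg.Agent.S5961P
open Cfsg.Agent.S5992P (PB Plus IsTy TS)
open Cfsg.Agent.S5989P (stabW ordO epsFac R2cond)

namespace MODELQ

/-- abstract model: a nondegenerate quadratic space of dimension `2d` and type `ε` with an isometry
of order `r` whose commutator space has dimension `c b` -/
theorem exists_model_abs {F : Type u} [Field F] [Fintype F] {p : ℕ} [Fact p.Prime] [CharP F p]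
    (r : ℕ) [Fact r.Prime] (hr2 : r ≠ 2) (hrp : r ≠ p) (d : ℕ) (ε : Bool) (b : ℕ)
    (hb : Realz ε (orderOf ((Fintype.card F : ℕ) : ZMod r)) (cc F r) d b) :
    ∃ (V : Type u) (_ : AddCommGroup V) (_ : Module F V) (_ : FiniteDimensional F V)
      (Q : QuadraticForm F V) (y : Module.End F V),
      IsYO Q y r ∧ finrank F V = 2 * d ∧ (IsHyp Q ↔ ε = true) ∧
      finrank F (LinearMap.range (y - 1)) = cc F r * b := by
  classical
  obtain ⟨hi0, -, -, -, -, -, -, -⟩ := cc_arith (F := F) (p := p) r hr2 hrp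
  obtain ⟨hb1, hle, htop⟩ := hb
  rw [cc_def] at hle htop ⊢
  set i := orderOf ((Fintype.card F : ℕ) : ZMod r) with hi
  set c := (if Even i then i else 2 * i) with hc
  have hceven : Even c := by
    rw [hc]
    split_ifs with hev
    · exact hev
    · exact even_two_mul i
  obtain ⟨κ, hκ⟩ : ∃ κ, κ + c * b = 2 * d := ⟨2 * d - c * b, by omega⟩
  have hκeven : Even κ := by
    have h2d : Even (2 * d) := even_two_mul d
    rw [← hκ] at h2d
    exact (Nat.even_add.mp h2d).mpr (hceven.mul_right b)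
  obtain ⟨V', _, _, _, Q', y', hY', hfix', hfr', -⟩ :=
    exists_fpf_model (F := F) (p := p) r hr2 hrp b hb1
  rw [← hi, ← hc] at hfr'
  obtain ⟨ι₀, _, _, Q₀, hQ₀, hcard₀, hhyp₀⟩ :=
    exists_space_of_type (F := F) κ hκeven (decide (typeC ε i b))
      (fun hk => decide_eq_true (htop (by omega)))
  have hhyp₀' : IsHyp Q₀ ↔ typeC ε i b := by
    rw [hhyp₀, decide_eq_true_iff]
  have hfr₀ : finrank F (ι₀ → F) = κ := by
    rw [Module.finrank_fintype_fun_eq_card, hcard₀]
  obtain ⟨hY, -, hrange⟩ := prod_isYO Q' Q₀ y' r hY' hfix' hQ₀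
  obtain ⟨htodd, hteven⟩ := fpf_type (p := p) r hr2 hrp Q' y' hY' hfix'
  rw [← hi] at htodd hteven
  refine ⟨V' × (ι₀ → F), inferInstance, inferInstance, inferInstance, Q'.prod Q₀,
    y'.prodMap 1, hY, ?_, ?_, ?_⟩
  · rw [Module.finrank_prod, hfr', hfr₀, ← hκ]; ring
  · have hprod := isHyp_prod_iff Q' Q₀ hY'.nondeg hQ₀ (by rw [hfr']; exact hceven.mul_right b)
      (by rw [hfr₀]; exact hκeven)
    rw [hprod, hhyp₀']
    unfold typeC
    by_cases hev : Even i
    · rw [if_pos hev]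
      have hci : c = i := by rw [hc, if_pos hev]
      have h1 := hteven hev
      rw [hfr', hci, Nat.mul_div_cancel_left _ hi0] at h1
      rw [h1]
      exact MODELV.prop_even _ _
    · rw [if_neg hev]
      have h1 := htodd (Nat.not_even_iff_odd.mp hev)
      exact MODELV.prop_odd _ _ h1
  · rw [hrange, ← Submodule.map_inl, Submodule.map_top,
      LinearMap.finrank_range_of_inj LinearMap.inl_injective, hfr']

end MODELQ

/-- MODELQ -/
theorem exists_model_q {F : Type u} [Field F] [Fintype F] {p : ℕ} [Fact p.Prime] [CharP F p]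
    (r : ℕ) [Fact r.Prime] (hr2 : r ≠ 2) (hrp : r ≠ p) {ι : Type} [Fintype ι] [DecidableEq ι]
    (Q : QuadraticForm F (ι → F)) (hQ : ND Q) (d : ℕ) (hd : 1 ≤ d)
    (hι : Fintype.card ι = 2 * d) (hΩ : (2 : F) ≠ 0 ∨ Cfsg.Agent.Helper2.OInv.HOm Q)
    (ε : Bool) (hε : IsHyp Q ↔ ε = true) (b : ℕ)
    (hb : Realz ε (orderOf ((Fintype.card F : ℕ) : ZMod r)) (cc F r) d b) :
    ∃ x : GL ι F, x ∈ Cfsg.Geo.omegaGL ⇑Q ∧ x ^ r = 1 ∧
      finrank F (LinearMap.range (Matrix.toLin' (x : Matrix ι ι F) - 1)) = cc F r * b := by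
  classical
  have hrprime : r.Prime := Fact.out
  obtain ⟨V, _, _, _, Q', y, hY, hfr, hQhyp, hrange⟩ :=
    MODELQ.exists_model_abs (F := F) (p := p) r hr2 hrp d ε b hb
  obtain ⟨x, e, hxiso, -, hey, hxr⟩ := exists_matrix_of_isYO Q' y r hY Q hQ
    (by rw [hfr, hι]) (by rw [hι]; exact ⟨d, by ring⟩) (hQhyp.trans hε.symm)
  have hxΩ : x ∈ Cfsg.Geo.omegaGL ⇑Q :=
    mem_omegaGL_of_odd Q hQ (by rw [hι]; omega) hΩ x hxiso r (hrprime.odd_of_ne_two hr2) hxr
  refine ⟨x, hxΩ, hxr, ?_⟩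
  have hmap : LinearMap.range (Matrix.toLin' (x : Matrix ι ι F) - 1) =
      (LinearMap.range (y - 1)).map (e : V →ₗ[F] (ι → F)) := by
    ext w
    constructor
    · rintro ⟨u, rfl⟩
      refine ⟨(y - 1) (e.symm u), ⟨e.symm u, rfl⟩, ?_⟩
      rw [LinearEquiv.coe_coe, LinearMap.sub_apply, Module.End.one_apply, map_sub, hey,
        LinearEquiv.apply_symm_apply, LinearMap.sub_apply, Module.End.one_apply]
    · rintro ⟨_, ⟨v, rfl⟩, rfl⟩
      refine ⟨e v, ?_⟩
      rw [LinearEquiv.coe_coe, LinearMap.sub_apply, Module.End.one_apply, LinearMap.sub_apply,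
        Module.End.one_apply, map_sub, hey]
  rw [hmap, LinearEquiv.finrank_map_eq e, hrange]

end Cfsg.Agent.S5974P
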