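import Mathlib
import Cfsg.Prelude.Def_GeometricClasses
import Cfsg.Prelude.Def_Classical
import Cfsg.Agent.Helper6.S5992Defs
import Cfsg.Agent.Helper27.Inv2Defs
import Cfsg.Agent.Helper19.Inv2TYPESUM2
import Cfsg.Agent.Helper19.Inv2EXC2
import Cfsg.Agent.Helper14.Inv2EVENDIM2
import Cfsg.Agent.Helper14.Inv2ORTHC2
import Cfsg.Agent.Helper24.Inv2PAIRBLOCK
import Cfsg.Agent.Helper13.Inv2CTYPE2
import Cfsg.Agent.Helper13.Inv2C2BASE
import Cfsg.Agent.Helper13.Inv2C2BLOCK
import Cfsg.Agent.Helper13.Inv2A2DER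
import Cfsg.Agent.Helper21.Inv2SIEGEL
import Cfsg.Agent.Helper28.CD2b
import Cfsg.Agent.Helper28.NonMax
import Cfsg.Agent.Helper28.IsoTransport
import Cfsg.Agent.Helper15.S5992SUPND
import Cfsg.Agent.Helper1.S5973STD
import Cfsg.Agent.Helper9.S5989PLUSTOP

/-! Inv2 sub-board (driver helper27): assembly.  Involutions of `Ω^±_{2d}(q)`, `q` even:
* `exists_ty_of_invol2` : sufficiency (every involution fixes a type-`θ` `m`-space under `Inv2Cond`);
* `exists_invol2_derangement_plus`, `exists_invol2_derangement_minus` : the derangements. -/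

set_option autoImplicit false
open scoped MatrixGroups

namespace Cfsg.Agent.Inv2P

open Cfsg.Agent.Helper2.SympInvol Cfsg.Agent.Helper2.SympUnits Cfsg.Agent.S5961P Cfsg.Agent.S5992P
open Cfsg.Agent.Helper28.Spin

section generic

variable {F V : Type*} [Field F] [Fintype F] [AddCommGroup V] [Module F V] [FiniteDimensional F V]

omit [Fintype F] [FiniteDimensional F V] in
theorem span4_le {M : Submodule F V} {a b c d : V} (ha : a ∈ M) (hb : b ∈ M) (hc : c ∈ M)
    (hd : d ∈ M) : Submodule.span F {a, b, c, d} ≤ M := by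
  rw [Submodule.span_le]
  intro x hx
  simp only [Set.mem_insert_iff, Set.mem_singleton_iff] at hx
  rcases hx with rfl | rfl | rfl | rfl
  exacts [ha, hb, hc, hd]

/-- PEEL4: an invariant hyperbolic 4-space of even rank -/
theorem peel4 (h2 : (2 : F) = 0) (Q : QuadraticForm F V) (t : Module.End F V) (ht : IsInv2 Q t)
    (M : Submodule F V) (hM : Nondeg (PB Q) M) (hMt : InvOn t M)
    (h6 : 6 ≤ Module.finrank F M) (hev : Even (rk t M)) :
    ∃ A : Submodule F V, A ≤ M ∧ IsTy Q true 4 A ∧ InvOn t A ∧ Even (rk t A) := by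
  by_cases h0 : rk t M = 0
  · obtain ⟨A, hAM, hA⟩ := exists_sub_ty2 Q M hM (even_finrank_of_nondeg h2 Q M hM) true 4
      (by decide) (by simp) (by omega)
    obtain ⟨h1, h3⟩ := invOn_of_rk_zero t M A h0 hAM
    exact ⟨A, hAM, hA, h1, by rw [h3]; exact Even.zero⟩
  · have hrk : 2 ≤ rk t M := by
      rcases hev with ⟨k, hk⟩
      omega
    rcases pair_or_ctype h2 Q t ht M hM hMt hrk with
      ⟨u, huM, v, hvM, hu, hv, huv⟩ | ⟨hrk2, v₀, hv₀M, hv₀⟩
    · obtain ⟨hty, hinv, hr⟩ := pair_block h2 Q t ht u v hu hv huv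
      refine ⟨_, ?_, hty, hinv, by rw [hr]; decide⟩
      exact span4_le huM hvM ((invOn_iff_N t M).mp hMt _ huM) ((invOn_iff_N t M).mp hMt _ hvM)
    · obtain ⟨A, hAM, hty, hinv, hr⟩ := c2_block h2 Q t ht M hM hMt h6 hrk2 v₀ hv₀M hv₀
      exact ⟨A, hAM, hty, hinv, by rw [hr]; decide⟩

/-- BASE4E: an involution of even rank on an elliptic 4-space fixes a hyperbolic plane -/
theorem base4e (h2 : (2 : F) = 0) (Q : QuadraticForm F V) (t : Module.End F V) (ht : IsInv2 Q t)
    (M : Submodule F V) (hM : Nondeg (PB Q) M) (hMt : InvOn t M)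
    (h4 : Module.finrank F M = 4) (hev : Even (rk t M)) (hnp : ¬ Plus Q M) :
    ∃ A : Submodule F V, A ≤ M ∧ IsTy Q true 2 A ∧ InvOn t A := by
  by_cases h0 : rk t M = 0
  · obtain ⟨A, hAM, hA⟩ := exists_sub_ty2 Q M hM (even_finrank_of_nondeg h2 Q M hM) true 2
      (by decide) (by simp) (by omega)
    exact ⟨A, hAM, hA, (invOn_of_rk_zero t M A h0 hAM).1⟩
  · have hrk : 2 ≤ rk t M := by
      rcases hev with ⟨k, hk⟩
      omega
    rcases pair_or_ctype h2 Q t ht M hM hMt hrk with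
      ⟨u, huM, v, hvM, hu, hv, huv⟩ | ⟨hrk2, v₀, hv₀M, hv₀⟩
    · exfalso
      obtain ⟨hty, -, -⟩ := pair_block h2 Q t ht u v hu hv huv
      have hle : Submodule.span F {u, v, (t - 1) u, (t - 1) v} ≤ M :=
        span4_le huM hvM ((invOn_iff_N t M).mp hMt _ huM) ((invOn_iff_N t M).mp hMt _ hvM)
      have heq : Submodule.span F {u, v, (t - 1) u, (t - 1) v} = M :=
        Submodule.eq_of_le_of_finrank_eq hle (by rw [hty.1, h4])
      apply hnp
      rw [← heq]
      exact hty.2.2.mpr rfl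
    · exact c2_base h2 Q t ht M hM hMt h4 hnp hrk2 v₀ hv₀M hv₀

/-- SUFFH: invariant hyperbolic `μ`-spaces inside an invariant nondegenerate `M` of dimension
`2 e` on which `t` has even rank -/
theorem suffH (h2 : (2 : F) = 0) (Q : QuadraticForm F V) (t : Module.End F V) (ht : IsInv2 Q t) :
    ∀ (e : ℕ) (M : Submodule F V), Nondeg (PB Q) M → InvOn t M → Module.finrank F M = 2 * e →
      Even (rk t M) → ∀ μ : ℕ, Even μ → μ ≤ 2 * e → (μ = 2 * e → Plus Q M) →
      (μ < 2 * e → μ % 4 = 0 ∨ (Plus Q M ↔ Odd e)) →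
      ∃ W : Submodule F V, W ≤ M ∧ IsTy Q true μ W ∧ InvOn t W := by
  intro e
  induction e using Nat.strong_induction_on with
  | _ e ih =>
    intro M hM hMt hdim hev μ hμ hle hfull hcond
    by_cases hμe : μ = 2 * e
    · exact ⟨M, le_refl _, ⟨by rw [hdim, hμe], hM, iff_of_true (hfull hμe) rfl⟩, hMt⟩
    by_cases hμ0 : μ = 0
    · subst hμ0
      refine ⟨⊥, bot_le, ⟨finrank_bot F V, ?_, iff_of_true (plus_bot Q) rfl⟩, invOn_bot t⟩
      intro w hw hw0
      exact absurd ((Submodule.mem_bot F).mp hw) hw0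
    have hlt : μ < 2 * e := lt_of_le_of_ne hle hμe
    have hc := hcond hlt
    obtain ⟨j, hj⟩ := hμ
    have hμ2 : 2 ≤ μ := by omega
    by_cases he3 : 3 ≤ e
    · -- peel a hyperbolic 4-space
      obtain ⟨A, hAM, hAty, hAt, hAev⟩ := peel4 h2 Q t ht M hM hMt (by omega) hev
      obtain ⟨M', hM'M, hM'nd, hort, hsup, hdisj, hfr, hM't, hrkadd⟩ :=
        orth_compl_inv h2 Q t ht M A hAM hM hAty.2.1 hMt hAt
      have hdim' : Module.finrank F M' = 2 * (e - 2) := by
        rw [hAty.1] at hfr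
        omega
      have hev' : Even (rk t M') := by
        rw [← hrkadd] at hev
        exact (Nat.even_add.mp hev).mp hAev
      have hAplus : Plus Q A := hAty.2.2.mpr rfl
      have htyM : Plus Q M ↔ Plus Q M' := by
        have := plus_sup_iff2 Q A M' hAty.2.1 hM'nd hort (by rw [hAty.1]; decide)
          (by rw [hdim']; exact even_two_mul _)
        rw [hsup] at this
        rw [this]
        exact ⟨fun h => h.mp hAplus, fun h => ⟨fun _ => h, fun _ => hAplus⟩⟩
      have hodd : Odd (e - 2) ↔ Odd e := by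
        rw [Nat.odd_iff, Nat.odd_iff]
        omega
      by_cases hμ4 : 4 ≤ μ
      · obtain ⟨W', hW'M', hW'ty, hW't⟩ := ih (e - 2) (by omega) M' hM'nd hM't hdim' hev' (μ - 4)
          ⟨j - 2, by omega⟩ (by omega) (fun h => by omega)
          (fun _ => by
            rcases hc with h | h
            · left; omega
            · right; rw [← htyM, hodd]; exact h)
        have hort' : Orth (PB Q) A W' := fun a ha w hw => hort a ha w (hW'M' hw)
        obtain ⟨hnd, -, hfrs⟩ := nondeg_sup_orth Q A W' hAty.2.1 hW'ty.2.1 hort'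
        refine ⟨A ⊔ W', sup_le hAM (le_trans hW'M' hM'M), ⟨?_, hnd, ?_⟩, invOn_sup t A W' hAt hW't⟩
        · rw [hfrs, hAty.1, hW'ty.1]
          omega
        · refine iff_of_true ?_ rfl
          rw [plus_sup_iff2 Q A W' hAty.2.1 hW'ty.2.1 hort' (by rw [hAty.1]; decide)
            (by rw [hW'ty.1]; exact ⟨j - 2, by omega⟩)]
          exact ⟨fun _ => hW'ty.2.2.mpr rfl, fun _ => hAplus⟩
      · have hμeq : μ = 2 := by omega
        obtain ⟨W', hW'M', hW'ty, hW't⟩ := ih (e - 2) (by omega) M' hM'nd hM't hdim' hev' 2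
          (by decide) (by omega)
          (fun h => by
            have he : e = 3 := by omega
            rcases hc with h' | h'
            · omega
            · rw [← htyM, h', he]; decide)
          (fun _ => by
            rcases hc with h | h
            · omega
            · right; rw [← htyM, hodd]; exact h)
        rw [hμeq]
        exact ⟨W', le_trans hW'M' hM'M, hW'ty, hW't⟩
    · -- e = 2, μ = 2
      have he2 : e = 2 := by omega
      have hμeq : μ = 2 := by omega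
      have hnp : ¬ Plus Q M := by
        rcases hc with h | h
        · omega
        · rw [h, he2]; decide
      rw [hμeq]
      exact base4e h2 Q t ht M hM hMt (by rw [hdim, he2]) hev hnp

end generic

section omega

variable {F : Type*} [Field F] [Fintype F] {ι : Type} [Fintype ι] [DecidableEq ι]

theorem rk_top_toLin' (A : Matrix ι ι F) : rk (Matrix.toLin' A) ⊤ = (A - 1).rank := by
  unfold rk
  rw [Submodule.map_top, Matrix.rank]
  have : Matrix.toLin' A - 1 = (A - 1).mulVecLin := by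
    apply LinearMap.ext
    intro v
    rw [LinearMap.sub_apply, Module.End.one_apply, Matrix.toLin'_apply, Matrix.mulVecLin_apply,
      Matrix.sub_mulVec, Matrix.one_mulVec]
  rw [this]

/-- OMEGA2: in characteristic two `Ω` consists of the isometries `x` with `rank (x - 1)` even -/
theorem mem_omegaGL_iff_even (h2 : (2 : F) = 0) (Q : QuadraticForm F (ι → F))
    (hQ : (QuadraticMap.polarBilin Q).Nondegenerate)
    (hcard : Fintype.card F ≠ 2 ∨ Fintype.card ι ≠ 4) (x : GL ι F) :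
    x ∈ Cfsg.Geo.omegaGL ⇑Q ↔
      x ∈ Cfsg.isometryGroup F ⇑Q ∧ Even (rk (Matrix.toLin' (x : Matrix ι ι F)) ⊤) := by
  rw [Cfsg.Agent.Helper28.NM.mem_omegaGL_iff, rk_top_toLin']
  constructor
  · rintro ⟨h, hΩ, rfl⟩
    exact ⟨h.2, (Cfsg.Agent.Helper28.CD2.mem_Omega_iff_even_rank Q h2 hQ hcard h).mp hΩ⟩
  · rintro ⟨hx, hev⟩
    exact ⟨⟨x, hx⟩, (Cfsg.Agent.Helper28.CD2.mem_Omega_iff_even_rank Q h2 hQ hcard ⟨x, hx⟩).mpr hev,
      rfl⟩

omit [Fintype F] in
theorem isInv2_toLin' (Q : QuadraticForm F (ι → F)) (x : GL ι F)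
    (hx : x ∈ Cfsg.isometryGroup F ⇑Q) (hxx : x * x = 1) :
    IsInv2 Q (Matrix.toLin' (x : Matrix ι ι F)) := by
  constructor
  · intro v
    rw [Cfsg.Agent.Helper28.IsoTransport.mem_isometryGroup_iff] at hx
    rw [Matrix.toLin'_apply]
    exact hx v
  · rw [Module.End.mul_eq_comp, ← Matrix.toLin'_mul]
    have : (x : Matrix ι ι F) * (x : Matrix ι ι F) = 1 := by
      rw [← Units.val_mul, hxx, Units.val_one]
    rw [this, Matrix.toLin'_one]
    rfl

/-- (5a) INV2SUFF: under `Inv2Cond` every involution of `Ω` fixes a nondegenerate `m`-space of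
type `θ` -/
theorem exists_ty_of_invol2 (h2 : (2 : F) = 0) (Q : QuadraticForm F (ι → F))
    (hQ : (QuadraticMap.polarBilin Q).Nondegenerate) (d : ℕ) (hι : Fintype.card ι = 2 * d)
    (hd : 4 ≤ d) (ε : Bool) (hε : Plus Q ⊤ ↔ ε = true) (x : GL ι F)
    (hx : x ∈ Cfsg.Geo.omegaGL ⇑Q) (hxx : x * x = 1) (θ : Bool) (m : ℕ) (hme : Even m)
    (hm2 : 2 ≤ m) (hmn : m + 2 ≤ 2 * d) (hc : Inv2Cond ε θ d m) :
    ∃ W : Submodule F (ι → F), IsTy Q θ m W ∧ W.map (Matrix.toLin' (x : Matrix ι ι F)) ≤ W := by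
  have hcard : Fintype.card F ≠ 2 ∨ Fintype.card ι ≠ 4 := Or.inr (by omega)
  obtain ⟨hxi, hev⟩ := (mem_omegaGL_iff_even h2 Q hQ hcard x).mp hx
  set t := Matrix.toLin' (x : Matrix ι ι F) with ht_def
  have ht : IsInv2 Q t := isInv2_toLin' Q x hxi hxx
  have hnd : Nondeg (PB Q) ⊤ := nondeg_top_of_nondegenerate Q hQ
  have hdim : Module.finrank F (⊤ : Submodule F (ι → F)) = 2 * d := by
    rw [finrank_top, Module.finrank_fintype_fun_eq_card, hι]
  obtain ⟨j, hj⟩ := hme
  unfold Inv2Cond at hc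
  cases θ with
  | true =>
    rw [if_pos rfl] at hc
    obtain ⟨W, -, hW, hWt⟩ := suffH h2 Q t ht d ⊤ hnd (invOn_top t) hdim hev m ⟨j, hj⟩ (by omega)
      (fun h => by omega) (fun _ => by
        rcases hc with h | h
        · exact Or.inl h
        · exact Or.inr (by rw [hε]; exact h))
    exact ⟨W, hW, (invOn_iff_map t W).mp hWt⟩
  | false =>
    rw [if_neg (by decide)] at hc
    obtain ⟨hε0, hc⟩ := hc
    have hnp : ¬ Plus Q ⊤ := by rw [hε, hε0]; decide
    obtain ⟨W', -, hW', hW't⟩ := suffH h2 Q t ht d ⊤ hnd (invOn_top t) hdim hev (2 * d - m)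
      ⟨d - j, by omega⟩ (by omega) (fun h => by omega) (fun _ => by
        rcases hc with h | h
        · right
          refine iff_of_false hnp ?_
          rw [Nat.not_odd_iff_even]
          exact h
        · by_cases hde : Even d
          · right
            refine iff_of_false hnp ?_
            rw [Nat.not_odd_iff_even]
            exact hde
          · left
            rw [Nat.not_even_iff_odd] at hde
            obtain ⟨l, hl⟩ := hde
            omega)
    obtain ⟨W, -, hWnd, hort, hsup, -, hfr, hWt, -⟩ :=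
      orth_compl_inv h2 Q t ht ⊤ W' le_top hnd hW'.2.1 (invOn_top t) hW't
    have hWdim : Module.finrank F W = m := by
      rw [hW'.1, hdim] at hfr
      omega
    refine ⟨W, ⟨hWdim, hWnd, ?_⟩, (invOn_iff_map t W).mp hWt⟩
    have hsum := plus_sup_iff2 Q W' W hW'.2.1 hWnd hort (by rw [hW'.1]; exact ⟨d - j, by omega⟩)
      (by rw [hWdim]; exact ⟨j, hj⟩)
    rw [hsup] at hsum
    constructor
    · intro hWp
      exact absurd (hsum.mpr ⟨fun _ => hWp, fun _ => hW'.2.2.mpr rfl⟩) hnp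
    · intro h
      exact absurd h (by decide)

end omega

section models

variable {F : Type*} [Field F] [Fintype F]

/-- common part of the two derangement statements -/
theorem derangement_core {ι : Type} [Fintype ι] [DecidableEq ι] (h2 : (2 : F) = 0)
    (Q : QuadraticForm F (ι → F)) (hQ : (QuadraticMap.polarBilin Q).Nondegenerate) (d : ℕ)
    (hd : 4 ≤ d) (hι : Fintype.card ι = 2 * d) (X : Matrix ι ι F) (hXX : X * X = 1)
    (hiso : ∀ u : ι → F, Q (X.mulVec u) = Q u) (ha : ∀ u : ι → F, Q ((X - 1).mulVec u) = 0)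
    (hker : Module.finrank F (LinearMap.ker (Matrix.toLin' X - 1)) = d + d % 2) :
    ∃ x : GL ι F, x ∈ Cfsg.Geo.omegaGL ⇑Q ∧ x * x = 1 ∧ x ≠ 1 ∧
      ∀ W : Submodule F (ι → F), Nondeg (PB Q) W →
        W.map (Matrix.toLin' (x : Matrix ι ι F)) ≤ W →
        (Even d → 4 ∣ Module.finrank F W ∧ Plus Q W) ∧
        (Odd d → (4 ∣ Module.finrank F W ∧ Plus Q W) ∨
          (Module.finrank F W % 4 = 2 ∧ (Plus Q W ↔ Plus Q ⊤))) := by
  let x : GL ι F := ⟨X, X, hXX, hXX⟩
  have hxv : (x : Matrix ι ι F) = X := rfl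
  have hxx : x * x = 1 := Units.ext (by rw [Units.val_mul, hxv, hXX, Units.val_one])
  have hxi : x ∈ Cfsg.isometryGroup F ⇑Q := by
    rw [Cfsg.Agent.Helper28.IsoTransport.mem_isometryGroup_iff]
    exact hiso
  have ht : IsInv2 Q (Matrix.toLin' X) := isInv2_toLin' Q x hxi hxx
  have hN : ∀ v, (Matrix.toLin' X - 1) v = (X - 1).mulVec v := by
    intro v
    rw [LinearMap.sub_apply, Module.End.one_apply, Matrix.toLin'_apply, Matrix.sub_mulVec,
      Matrix.one_mulVec]
  have hdimV : Module.finrank F (ι → F) = 2 * d := by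
    rw [Module.finrank_fintype_fun_eq_card, hι]
  have hrn := LinearMap.finrank_range_add_finrank_ker (Matrix.toLin' X - 1)
  have hrk : rk (Matrix.toLin' X) ⊤ = d - d % 2 := by
    unfold rk
    rw [Submodule.map_top]
    rw [hker, hdimV] at hrn
    omega
  refine ⟨x, ?_, hxx, ?_, ?_⟩
  · rw [mem_omegaGL_iff_even h2 Q hQ (Or.inr (by omega))]
    refine ⟨hxi, ?_⟩
    rw [hxv, hrk]
    rcases Nat.even_or_odd' d with ⟨l, hl | hl⟩
    · exact ⟨l, by omega⟩
    · exact ⟨l, by omega⟩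
  · intro h1
    have hX1 : X = 1 := by rw [← hxv, h1, Units.val_one]
    rw [hX1, Matrix.toLin'_one, ← Module.End.one_eq_id, sub_self, LinearMap.ker_zero, finrank_top,
      hdimV] at hker
    omega
  · intro W hW hWx
    have hWt : InvOn (Matrix.toLin' X) W := (invOn_iff_map _ W).mpr hWx
    obtain ⟨h1, h3⟩ := a2_derangement h2 Q (nondeg_top_of_nondegenerate Q hQ) (Matrix.toLin' X) ht
      (fun v => by rw [hN]; exact ha v) d hdimV W hW hWt
    constructor
    · intro hde
      apply h1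
      rw [hker]
      obtain ⟨l, hl⟩ := hde
      omega
    · intro hdo
      apply h3
      rw [hker]
      obtain ⟨l, hl⟩ := hdo
      omega

open Matrix in
/-- (5b) DERPLUS -/
theorem exists_invol2_derangement_plus (h2 : (2 : F) = 0) (d : ℕ) (hd : 4 ≤ d) :
    ∃ x : GL (Fin d ⊕ Fin d) F, x ∈ Cfsg.Geo.omegaGL (Cfsg.quadFormPlus d F) ∧ x * x = 1 ∧
      x ≠ 1 ∧ ∀ W : Submodule F (Fin d ⊕ Fin d → F), Nondeg (PB (QfPlus d F)) W →
        W.map (Matrix.toLin' (x : Matrix (Fin d ⊕ Fin d) (Fin d ⊕ Fin d) F)) ≤ W →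
        Plus (QfPlus d F) W ∧ (Even d → 4 ∣ Module.finrank F W) := by
  obtain ⟨hXX, hiso, ha, hker⟩ := siegel_facts (F := F) h2 d
  obtain ⟨x, hxΩ, hxx, hx1, hW⟩ := derangement_core h2 (QfPlus d F) (QfPlus_nondeg d) d hd
    (by rw [Fintype.card_sum, Fintype.card_fin]; omega) (siegelX d F) hXX
    (fun u => by rw [QfPlus_coe]; exact hiso u) (fun u => by rw [QfPlus_coe]; exact ha u) hker
  refine ⟨x, hxΩ, hxx, hx1, ?_⟩
  intro W hWnd hWx
  obtain ⟨he, ho⟩ := hW W hWnd hWx
  rcases Nat.even_or_odd d with hde | hdo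
  · exact ⟨(he hde).2, fun _ => (he hde).1⟩
  · refine ⟨?_, fun h => absurd h (Nat.not_even_iff_odd.mpr hdo)⟩
    rcases ho hdo with h | h
    · exact h.2
    · exact h.2.mpr (Cfsg.Agent.S5989P.plus_top_QfPlus d)

open Matrix in
/-- (5b) DERMINUS -/
theorem exists_invol2_derangement_minus (h2 : (2 : F) = 0) (d : ℕ) (hd : 4 ≤ d) (hodd : Odd d)
    (a b : F) (hab : ∀ x y : F, x ^ 2 + a * x * y + b * y ^ 2 = 0 → x = 0 ∧ y = 0) :
    ∃ x : GL ((Fin (d - 1) ⊕ Fin (d - 1)) ⊕ Fin 2) F,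
      x ∈ Cfsg.Geo.omegaGL (Cfsg.quadFormMinus (d - 1) F a b) ∧ x * x = 1 ∧ x ≠ 1 ∧
      ∀ W : Submodule F ((Fin (d - 1) ⊕ Fin (d - 1)) ⊕ Fin 2 → F),
        Nondeg (PB (QfMinus (d - 1) F a b)) W →
        W.map (Matrix.toLin' (x : Matrix ((Fin (d - 1) ⊕ Fin (d - 1)) ⊕ Fin 2)
          ((Fin (d - 1) ⊕ Fin (d - 1)) ⊕ Fin 2) F)) ≤ W →
        ¬ Plus (QfMinus (d - 1) F a b) W → Module.finrank F W % 4 = 2 := by
  obtain ⟨hXX, hiso, ha, hker⟩ := siegelM_facts (F := F) h2 (d - 1) a b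
  obtain ⟨l, hl⟩ := hodd
  obtain ⟨x, hxΩ, hxx, hx1, hW⟩ := derangement_core h2 (QfMinus (d - 1) F a b)
    (Cfsg.Agent.S5973P.std_minus (d - 1) a b hab).1 d hd
    (by rw [Fintype.card_sum, Fintype.card_sum, Fintype.card_fin, Fintype.card_fin]; omega)
    (siegelXM (d - 1) F) hXX
    (fun u => by rw [QfMinus_coe]; exact hiso u) (fun u => by rw [QfMinus_coe]; exact ha u)
    (by rw [hker]; omega)
  refine ⟨x, hxΩ, hxx, hx1, ?_⟩
  intro W hWnd hWx hnp
  rcases (hW W hWnd hWx).2 ⟨l, hl⟩ with h | h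
  · exact absurd h.2 hnp
  · exact h.1

end models

end Cfsg.Agent.Inv2P
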