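import Cfsg.Agent.Helper27.M11GenCheck
import Cfsg.Agent.Helper27.M11Pattern
import Cfsg.Prelude.Def_KGroupFacts

/-!
Every automorphism of the Mathieu group of degree 11 is inner.
-/

set_option autoImplicit false

namespace Cfsg.Agent.Helper27

open Cfsg
open scoped Pointwise

/-! ### An abstract criterion -/

/-- if `x` and `y` generate `G`, the images of `x` under automorphisms are conjugate to `x`, and the images of `y`
under the automorphisms fixing `x` are conjugate to `y` under the centraliser of `x`, then every automorphism of `G`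
is inner -/
theorem aut_inner_of_rigid {G : Type*} [Group G] (x y : G)
    (hgen : Subgroup.closure ({x, y} : Set G) = ⊤)
    (hx : ∀ α : MulAut G, IsConj (α x) x)
    (hy : ∀ α : MulAut G, α x = x → ∃ c : G, c * x = x * c ∧ α y = c * y * c⁻¹)
    (α : MulAut G) : ∃ g : G, α = MulAut.conj g := by
  obtain ⟨g, hg⟩ := isConj_iff.mp (hx α)
  have hβx : (MulAut.conj g * α) x = x := by
    rw [MulAut.mul_apply, MulAut.conj_apply]
    exact hg
  obtain ⟨c, hcx, hcy⟩ := hy (MulAut.conj g * α) hβx
  have hγx : (MulAut.conj c⁻¹ * (MulAut.conj g * α)) x = x := by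
    rw [MulAut.mul_apply, hβx, MulAut.conj_apply, inv_inv, mul_assoc, ← hcx, inv_mul_cancel_left]
  have hγy : (MulAut.conj c⁻¹ * (MulAut.conj g * α)) y = y := by
    rw [MulAut.mul_apply, hcy, MulAut.conj_apply, inv_inv]
    group
  have hγ : MulAut.conj c⁻¹ * (MulAut.conj g * α) = 1 := by
    apply MulEquiv.toMonoidHom_injective
    apply MonoidHom.eq_of_eqOn_dense hgen
    intro z hz
    rw [Set.mem_insert_iff, Set.mem_singleton_iff] at hz
    rcases hz with rfl | rfl
    · exact hγx
    · exact hγy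
  refine ⟨g⁻¹ * c, ?_⟩
  rw [map_inv, inv_mul_eq_one] at hγ
  rw [map_mul, map_inv, eq_inv_mul_iff_mul_eq]
  exact hγ.symm

theorem card_out_eq_one {G : Type*} [Group G] (h : ∀ α : MulAut G, ∃ g : G, α = MulAut.conj g) :
    Nat.card (Cfsg.Out G) = 1 := by
  have htop : Cfsg.Inn G = ⊤ := by
    rw [eq_top_iff]
    intro α _
    obtain ⟨g, rfl⟩ := h α
    exact ⟨g, rfl⟩
  show (Cfsg.Inn G).index = 1
  rw [htop]
  exact Subgroup.index_top

theorem inner_of_equiv {G G' : Type*} [Group G] [Group G'] (e : G ≃* G')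
    (h : ∀ α : MulAut G', ∃ g : G', α = MulAut.conj g) (α : MulAut G) : ∃ g : G, α = MulAut.conj g := by
  obtain ⟨g', hg'⟩ := h ((e.symm.trans α).trans e)
  refine ⟨e.symm g', ?_⟩
  apply MulEquiv.ext
  intro z
  have h1 := congrArg (fun β : MulAut G' => β (e z)) hg'
  simp only [MulEquiv.trans_apply, MulEquiv.symm_apply_apply, MulAut.conj_apply] at h1
  apply e.injective
  rw [h1, MulAut.conj_apply, map_mul, map_mul, map_inv, MulEquiv.apply_symm_apply]

/-- the word `x g x g² x g³` -/
def w3G {G : Type*} [Group G] (x g : G) : G := x * g * x * (g * g) * x * (g * g * g)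

theorem map_w3G {G H : Type*} [Group G] [Group H] (f : G →* H) (x g : G) : f (w3G x g) = w3G (f x) (f g) := by
  simp only [w3G, map_mul]

/-! ### The two generators -/

theorem pow_eq_one_of_powId {g : Equiv.Perm GolayPt} {T : List ℕ} (h : Represents g T) {p : ℕ}
    (hp : powId T p = true) : g ^ p = 1 := by
  simp only [powId, List.all_eq_true, List.mem_range, beq_iff_eq] at hp
  apply Equiv.ext
  intro q
  have h1 := (represents_pow_pt h p (idx_lt q)).1
  rw [pt_idx] at h1
  rw [h1, hp _ (idx_lt q), pt_idx]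
  rfl

/-- the second generator -/
noncomputable def yP : Equiv.Perm GolayPt := tblPerm m11gY m11gY_valid

theorem yP_rep : Represents yP m11gY := tblPerm_represents _ _

theorem yP_mem : yP ∈ fixH H12 (ptsOf [0]) :=
  certSound_fix certSound12 (fixed_lt_24 (by decide)) m11gY m11gY_valid m11gY_cert

theorem ptsOf_zero : ptsOf [0] = {pt 0} := by simp [ptsOf]

theorem z0P_mem_G0 : z0P ∈ fixH H12 (ptsOf [0]) := by
  rw [mem_fixH, ptsOf_zero]
  refine ⟨z0P_stabP, ?_⟩
  intro q hq
  rw [Finset.mem_singleton] at hq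
  rw [hq]
  exact z0P_pt (by norm_num) (by norm_num) (by decide)

theorem represents_w3 {g : Equiv.Perm GolayPt} {T : List ℕ} (h : Represents g T) :
    Represents (w3G (G := Equiv.Perm GolayPt) z0P g) (w3T T) :=
  represents_compT (represents_compT (represents_compT (represents_compT (represents_compT z0P_rep h) z0P_rep)
    (represents_compT h h)) z0P_rep) (represents_compT (represents_compT h h) h)

theorem yP_pows : yP ^ 4 = 1 ∧ (z0P * yP) ^ 11 = 1 ∧ (w3G z0P yP) ^ 5 = 1 := by
  have h := m11gY_pows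
  simp only [Bool.and_eq_true] at h
  exact ⟨pow_eq_one_of_powId yP_rep h.1.1, pow_eq_one_of_powId (represents_compT z0P_rep yP_rep) h.1.2,
    pow_eq_one_of_powId (represents_w3 yP_rep) h.2⟩

/-! ### Generation -/

theorem G0_le_closure :
    fixH H12 (ptsOf [0]) ≤ Subgroup.closure ({z0P, yP} : Set (Equiv.Perm GolayPt)) := by
  have hleaf : ∀ T ∈ [z0T, m11gY, idT], InK (Subgroup.closure ({z0P, yP} : Set (Equiv.Perm GolayPt))) T := by
    intro T hT
    simp only [List.mem_cons, List.not_mem_nil, or_false] at hT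
    rcases hT with rfl | rfl | rfl
    · exact ⟨z0P, Subgroup.subset_closure (by simp), z0P_rep⟩
    · exact ⟨yP, Subgroup.subset_closure (by simp), yP_rep⟩
    · exact inK_idT _
  have hinK : ∀ T ∈ m11gL0 ++ m11gL1 ++ m11gL2 ++ m11gL3,
      InK (Subgroup.closure ({z0P, yP} : Set (Equiv.Perm GolayPt))) T := fun T hT =>
    slpRun_inK m11gProg _ hleaf T (checkCover_sound _ _ m11g_cover T hT)
  have hb : fixH H12 (ptsOf (6 :: [4, 3, 2, 0])) ≤ Subgroup.closure ({z0P, yP} : Set (Equiv.Perm GolayPt)) := by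
    have : fixH H12 (ptsOf (6 :: [4, 3, 2, 0])) = ⊥ := fixH12_base_eq_bot
    rw [this]
    exact bot_le
  have h3 : fixH H12 (ptsOf (4 :: [3, 2, 0])) ≤ Subgroup.closure ({z0P, yP} : Set (Equiv.Perm GolayPt)) :=
    fixH_le_of_trans certSound12 (fixed_lt_24 (by decide)) (by norm_num) m11gOK3
      (fun T hT => hinK T (by simp [hT])) hb (fun g hg => by
        have h := apply_mem_of_orbit_eq orbit12_eq4 hg
        have e : transImg 6 m11gL3 = dod0 ^^^ (dod0 &&& tblMask [4, 3, 2, 0]) := by decide +kernel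
        rw [e]; exact h)
  have h2 : fixH H12 (ptsOf (3 :: [2, 0])) ≤ Subgroup.closure ({z0P, yP} : Set (Equiv.Perm GolayPt)) :=
    fixH_le_of_trans certSound12 (fixed_lt_24 (by decide)) (by norm_num) m11gOK2
      (fun T hT => hinK T (by simp [hT])) h3 (fun g hg => by
        have h := apply_mem_of_orbit_eq orbit12_eq3 hg
        have e : transImg 4 m11gL2 = dod0 ^^^ (dod0 &&& tblMask [3, 2, 0]) := by decide +kernel
        rw [e]; exact h)
  have h1 : fixH H12 (ptsOf (2 :: [0])) ≤ Subgroup.closure ({z0P, yP} : Set (Equiv.Perm GolayPt)) :=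
    fixH_le_of_trans certSound12 (fixed_lt_24 (by decide)) (by norm_num) m11gOK1
      (fun T hT => hinK T (by simp [hT])) h2 (fun g hg => by
        have h := apply_mem_of_orbit_eq orbit12_eq2 hg
        have e : transImg 3 m11gL1 = dod0 ^^^ (dod0 &&& tblMask [2, 0]) := by decide +kernel
        rw [e]; exact h)
  exact fixH_le_of_trans certSound12 (fixed_lt_24 (by decide)) (by norm_num) m11gOK0
      (fun T hT => hinK T (by simp [hT])) h1 (fun g hg => by
        have h := apply_mem_of_orbit_eq orbit12_eq1 hg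
        have e : transImg 2 m11gL0 = dod0 ^^^ (dod0 &&& tblMask [0]) := by decide +kernel
        rw [e]; exact h)

/-! ### Rigidity -/

/-- the stabiliser of the standard dodecad and its first point -/
abbrev G0 : Subgroup (Equiv.Perm GolayPt) := fixH H12 (ptsOf [0])

/-- the first generator -/
noncomputable def xG : ↥G0 := ⟨z0P, z0P_mem_G0⟩

/-- the second generator -/
noncomputable def yG : ↥G0 := ⟨yP, yP_mem⟩

theorem G0_closure : Subgroup.closure ({xG, yG} : Set ↥G0) = ⊤ := by
  rw [eq_top_iff]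
  intro g _
  have h1 : (g : Equiv.Perm GolayPt) ∈ Subgroup.closure ({z0P, yP} : Set (Equiv.Perm GolayPt)) :=
    G0_le_closure g.2
  have h2 : (Subgroup.closure ({xG, yG} : Set ↥G0)).map G0.subtype =
      Subgroup.closure ({z0P, yP} : Set (Equiv.Perm GolayPt)) := by
    rw [MonoidHom.map_closure]
    congr 1
    rw [Set.image_insert_eq, Set.image_singleton]
    rfl
  rw [← h2] at h1
  obtain ⟨h, hh, hhg⟩ := h1
  have : h = g := Subtype.ext hhg
  rw [← this]
  exact hh

theorem mem_G0 (g : Equiv.Perm GolayPt) :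
    g ∈ G0 ↔ g ∈ M24 ∧ g • maskSet dod0 = maskSet dod0 ∧ g (pt 0) = pt 0 := by
  rw [mem_fixH, ptsOf_zero, mem_stabP]
  simp only [Finset.mem_singleton, forall_eq, and_assoc]

theorem orderOf_xG : orderOf xG = 2 := by
  have : Fact (Nat.Prime 2) := ⟨Nat.prime_two⟩
  apply orderOf_eq_prime
  · apply Subtype.ext
    rw [pow_two]
    exact z0P_sq
  · intro h
    exact z0P_ne_one (congrArg Subtype.val h)

theorem G0_invol_conj (w : ↥G0) (hw : orderOf w = 2) : IsConj w xG := by
  have hwm := (mem_G0 _).mp w.2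
  have hw2 : w * w = 1 := by
    have := pow_orderOf_eq_one w
    rwa [hw, pow_two] at this
  have hw1 : w ≠ 1 := by
    intro h
    rw [h, orderOf_one] at hw
    omega
  have hξ2 : (w : Equiv.Perm GolayPt) * (w : Equiv.Perm GolayPt) = 1 := congrArg Subtype.val hw2
  have hξ1 : (w : Equiv.Perm GolayPt) ≠ 1 := fun h => hw1 (Subtype.ext h)
  have hp0 : pt 0 ∈ maskSet dod0 := by
    rw [mem_maskSet, idx_pt (by norm_num)]
    decide
  obtain ⟨g, hg, hgd, hgp, hconj⟩ := exists_conj_z0 maskSet_dod0_mem hp0 hwm.1 hwm.2.1 hwm.2.2 hξ2 hξ1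
  rw [isConj_iff]
  exact ⟨⟨g, (mem_G0 _).mpr ⟨hg, hgd, hgp⟩⟩, Subtype.ext hconj⟩

/-- the members of the list of the centraliser, as elements of the group -/
theorem c0L_elem {c : List ℕ} (hc : c ∈ c0L) :
    ∃ γ : ↥G0, Represents (γ : Equiv.Perm GolayPt) c ∧ γ * xG = xG * γ := by
  have h := List.all_eq_true.mp c0L_ok c hc
  simp only [c0OK, Bool.and_eq_true, beq_iff_eq] at h
  obtain ⟨⟨⟨⟨hv, hcode⟩, hdod⟩, h0⟩, hcomm⟩ := h
  have hmem : tblPerm c hv ∈ G0 := by
    rw [mem_fixH, ptsOf_zero]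
    refine ⟨certSound12 c hv (by simp only [cert12, Bool.and_eq_true, beq_iff_eq]; exact ⟨hcode, hdod⟩), ?_⟩
    intro q hq
    rw [Finset.mem_singleton] at hq
    rw [hq, tblPerm_pt c hv (by norm_num), h0]
  refine ⟨⟨tblPerm c hv, hmem⟩, tblPerm_represents c hv, ?_⟩
  apply Subtype.ext
  show tblPerm c hv * z0P = z0P * tblPerm c hv
  have r1 := represents_compT (tblPerm_represents c hv) z0P_rep
  have r2 := represents_compT z0P_rep (tblPerm_represents c hv)
  rw [hcomm] at r1
  exact represents_inj r1 r2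

theorem G0_rigid (α : MulAut ↥G0) (hα : α xG = xG) :
    ∃ c : ↥G0, c * xG = xG * c ∧ α yG = c * yG * c⁻¹ := by
  obtain ⟨p4, p11, p5⟩ := yP_pows
  have e4 : yG ^ 4 = 1 := Subtype.ext (by rw [Subgroup.coe_pow]; exact p4)
  have e11 : (xG * yG) ^ 11 = 1 := Subtype.ext (by rw [Subgroup.coe_pow]; exact p11)
  have e5 : (w3G xG yG) ^ 5 = 1 := Subtype.ext (by rw [Subgroup.coe_pow]; exact p5)
  have f4 : (α yG) ^ 4 = 1 := by rw [← map_pow, e4, map_one]
  have f11 : (xG * α yG) ^ 11 = 1 := by
    have := congrArg α e11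
    rwa [map_pow, map_mul, hα, map_one] at this
  have f5 : (w3G xG (α yG)) ^ 5 = 1 := by
    have := congrArg α e5
    rwa [map_pow, ← MulEquiv.coe_toMonoidHom, map_w3G, MulEquiv.coe_toMonoidHom, hα, map_one] at this
  have g4 : ((α yG : ↥G0) : Equiv.Perm GolayPt) ^ 4 = 1 := by
    have := congrArg Subtype.val f4
    rwa [Subgroup.coe_pow] at this
  have g11 : (z0P * ((α yG : ↥G0) : Equiv.Perm GolayPt)) ^ 11 = 1 := by
    have := congrArg Subtype.val f11
    rwa [Subgroup.coe_pow] at this
  have g5 : (w3G z0P ((α yG : ↥G0) : Equiv.Perm GolayPt)) ^ 5 = 1 := by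
    have := congrArg Subtype.val f5
    rwa [Subgroup.coe_pow] at this
  obtain ⟨T, hT, hP⟩ := m11_enum fpP m11g_fp (α yG).2
  have q4 := powId_of_pow_eq_one hT g4
  have q11 := powId_of_pow_eq_one (represents_compT z0P_rep hT) g11
  have q5 := powId_of_pow_eq_one (represents_w3 hT) g5
  have hcont : m11gConj.contains T = true := by
    simp only [fpP, q4, q11, q5, Bool.and_self, Bool.not_true, Bool.false_or] at hP
    exact hP
  have hTmem : T ∈ m11gConj := by simpa using hcont
  obtain ⟨k, hk, rfl⟩ := List.mem_iff_getElem.mp hTmem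
  have hk48 : k < 48 := by rwa [m11gConj_length] at hk
  have hkc : k < c0L.length := by rw [c0L_length]; exact hk48
  have hz : k < (c0L.zip m11gConj).length := by rw [List.length_zip]; exact lt_min hkc hk
  have hzip := List.all_eq_true.mp m11gConj_ok ((c0L.zip m11gConj)[k]) (List.getElem_mem hz)
  rw [List.getElem_zip, beq_iff_eq] at hzip
  obtain ⟨γ, hγr, hγx⟩ := c0L_elem (List.getElem_mem hkc)
  refine ⟨γ, hγx, ?_⟩
  rw [eq_mul_inv_iff_mul_eq]
  apply Subtype.ext
  show ((α yG : ↥G0) : Equiv.Perm GolayPt) * (γ : Equiv.Perm GolayPt) = (γ : Equiv.Perm GolayPt) * yP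
  have r1 := represents_compT hT hγr
  have r2 := represents_compT hγr yP_rep
  rw [hzip] at r1
  exact represents_inj r1 r2

theorem G0_aut_inner (α : MulAut ↥G0) : ∃ g : ↥G0, α = MulAut.conj g :=
  aut_inner_of_rigid xG yG G0_closure
    (fun α => G0_invol_conj (α xG) (by rw [MulEquiv.orderOf_eq]; exact orderOf_xG)) G0_rigid α

/-! ### The Mathieu group of degree 11 -/

theorem nonempty_sporM11_equiv_G0 : Nonempty (↥Spor.M11 ≃* ↥G0) := by
  obtain ⟨k, hk, hkd, hkp⟩ := exists_smul_eq_dod0_pt sqDod_mem_dodecads some_zero_mem_sqDod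
  let γ : ↥M24 := ⟨k, hk⟩
  have hmap : (stabDP Spor.squareDodecad (some 0)).map (MulAut.conj γ).toMonoidHom = M0 := by
    rw [stabDP_conj]
    have h1 : γ • Spor.squareDodecad = maskSet dod0 := hkd
    have h2 : γ • (some 0 : GolayPt) = pt 0 := hkp
    rw [h1, h2]
  have e1 : ↥(stabDP Spor.squareDodecad (some 0)) ≃* ↥M0 :=
    ((MulAut.conj γ).subgroupMap (stabDP Spor.squareDodecad (some 0))).trans (MulEquiv.subgroupCongr hmap)
  have hG0 : M0.map M24.subtype = G0 := by
    rw [map_stabilizer_inf_eq]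
    show fixH (stabP (maskSet dod0)) {pt 0} = fixH H12 (ptsOf [0])
    rw [ptsOf_zero]
  have e2 : ↥M0 ≃* ↥G0 :=
    (M0.equivMapOfInjective M24.subtype M24.subtype_injective).trans (MulEquiv.subgroupCongr hG0)
  exact ⟨sporM11Equiv.symm.trans (e1.trans e2)⟩

/-- the outer automorphism group of the Mathieu group of degree 11 is trivial -/
theorem card_out_spor_M11 : Nat.card (Cfsg.Out ↥Spor.M11) = 1 := by
  obtain ⟨e⟩ := nonempty_sporM11_equiv_G0
  exact card_out_eq_one (inner_of_equiv e G0_aut_inner)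

end Cfsg.Agent.Helper27
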