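import Mathlib

/-!
A group of order `n!` acting faithfully on an invariant set of `n` points is isomorphic to the symmetric group.
-/

set_option autoImplicit false

namespace Cfsg.Agent.Helper27

/-- a group of order `n!` acting faithfully on an invariant `n`-set is the symmetric group of degree `n` -/
theorem mulEquiv_perm_of_faithful {J α : Type*} [Group J] [MulAction J α] [DecidableEq α] (s : Finset α) (n : ℕ)
    (hs : s.card = n) (hinv : ∀ g : J, ∀ p ∈ s, g • p ∈ s) (hfaith : ∀ g : J, (∀ p ∈ s, g • p = p) → g = 1)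
    (hcard : Nat.card J = n.factorial) : Nonempty (J ≃* Equiv.Perm (Fin n)) := by
  classical
  let S : SubMulAction J α := { carrier := ↑s, smul_mem' := fun g p hp => hinv g p hp }
  have hmemS : ∀ p : α, p ∈ S ↔ p ∈ s := fun p => Iff.rfl
  let φ : J →* Equiv.Perm S := MulAction.toPermHom J S
  have hinj : Function.Injective φ := by
    rw [injective_iff_map_eq_one]
    intro g hg
    apply hfaith
    intro p hp
    have h1 := congrArg (fun f : Equiv.Perm S => (f ⟨p, (hmemS p).mpr hp⟩ : α)) hg
    simpa [φ] using h1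
  have hfinS : Fintype S := Fintype.ofFinset s (fun p => (hmemS p).symm)
  have hcardS : Fintype.card S = n := by
    rw [Fintype.card_of_subtype s (fun p => (hmemS p).symm), hs]
  have hcardP : Nat.card (Equiv.Perm S) = n.factorial := by
    rw [Nat.card_eq_fintype_card, Fintype.card_perm, hcardS]
  have hbij : Function.Bijective φ := by
    rw [Nat.bijective_iff_injective_and_card]
    exact ⟨hinj, by rw [hcard, hcardP]⟩
  exact ⟨(MulEquiv.ofBijective φ hbij).trans (Fintype.equivFinOfCardEq hcardS).permCongrHom⟩

/-- a group acting faithfully on an invariant `n`-set and inducing every permutation of it is the symmetric group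
of degree `n` -/
theorem mulEquiv_perm_of_faithful_surj {J α : Type*} [Group J] [MulAction J α] [DecidableEq α] (s : Finset α)
    (n : ℕ) (hs : s.card = n) (hinv : ∀ g : J, ∀ p ∈ s, g • p ∈ s)
    (hfaith : ∀ g : J, (∀ p ∈ s, g • p = p) → g = 1)
    (hsurj : ∀ τ : Equiv.Perm α, (∀ p ∈ s, τ p ∈ s) → ∃ g : J, ∀ p ∈ s, g • p = τ p) :
    Nonempty (J ≃* Equiv.Perm (Fin n)) := by
  classical
  let S : SubMulAction J α := { carrier := ↑s, smul_mem' := fun g p hp => hinv g p hp }
  have hmemS : ∀ p : α, p ∈ S ↔ p ∈ s := fun p => Iff.rfl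
  let φ : J →* Equiv.Perm S := MulAction.toPermHom J S
  have hinj : Function.Injective φ := by
    rw [injective_iff_map_eq_one]
    intro g hg
    apply hfaith
    intro p hp
    have h1 := congrArg (fun f : Equiv.Perm S => (f ⟨p, (hmemS p).mpr hp⟩ : α)) hg
    simpa [φ] using h1
  have hfinS : Fintype S := Fintype.ofFinset s (fun p => (hmemS p).symm)
  have hcardS : Fintype.card S = n := by
    rw [Fintype.card_of_subtype s (fun p => (hmemS p).symm), hs]
  have hsur : Function.Surjective φ := by
    intro σ
    obtain ⟨g, hg⟩ := hsurj (Equiv.Perm.ofSubtype σ) (by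
      intro p hp
      rw [Equiv.Perm.ofSubtype_apply_of_mem σ ((hmemS p).mpr hp)]
      exact (hmemS _).mp (σ ⟨p, _⟩).2)
    refine ⟨g, ?_⟩
    apply Equiv.ext
    intro p
    apply Subtype.ext
    have := hg p.1 ((hmemS _).mp p.2)
    rw [Equiv.Perm.ofSubtype_apply_coe] at this
    simpa [φ] using this
  exact ⟨(MulEquiv.ofBijective φ ⟨hinj, hsur⟩).trans (Fintype.equivFinOfCardEq hcardS).permCongrHom⟩

/-- a group inducing every permutation of an invariant `n`-set has order `n!` times the order of the pointwise
stabiliser of the set -/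
theorem card_eq_factorial_mul_of_surj {J α : Type*} [Group J] [MulAction J α] [DecidableEq α] (s : Finset α)
    (n : ℕ) (hs : s.card = n) (hinv : ∀ g : J, ∀ p ∈ s, g • p ∈ s)
    (hsurj : ∀ τ : Equiv.Perm α, (∀ p ∈ s, τ p ∈ s) → ∃ g : J, ∀ p ∈ s, g • p = τ p)
    (K : Subgroup J) (hK : ∀ g : J, g ∈ K ↔ ∀ p ∈ s, g • p = p) :
    Nat.card J = n.factorial * Nat.card K := by
  classical
  let S : SubMulAction J α := { carrier := ↑s, smul_mem' := fun g p hp => hinv g p hp }
  have hmemS : ∀ p : α, p ∈ S ↔ p ∈ s := fun p => Iff.rfl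
  let φ : J →* Equiv.Perm S := MulAction.toPermHom J S
  have hker : φ.ker = K := by
    ext g
    rw [MonoidHom.mem_ker, hK]
    constructor
    · intro hg p hp
      have h1 := congrArg (fun f : Equiv.Perm S => (f ⟨p, (hmemS p).mpr hp⟩ : α)) hg
      simpa [φ] using h1
    · intro hg
      apply Equiv.ext
      intro p
      apply Subtype.ext
      have := hg p.1 ((hmemS _).mp p.2)
      simpa [φ] using this
  have hfinS : Fintype S := Fintype.ofFinset s (fun p => (hmemS p).symm)
  have hcardS : Fintype.card S = n := by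
    rw [Fintype.card_of_subtype s (fun p => (hmemS p).symm), hs]
  have hcardP : Nat.card (Equiv.Perm S) = n.factorial := by
    rw [Nat.card_eq_fintype_card, Fintype.card_perm, hcardS]
  have hsur : Function.Surjective φ := by
    intro σ
    obtain ⟨g, hg⟩ := hsurj (Equiv.Perm.ofSubtype σ) (by
      intro p hp
      rw [Equiv.Perm.ofSubtype_apply_of_mem σ ((hmemS p).mpr hp)]
      exact (hmemS _).mp (σ ⟨p, _⟩).2)
    refine ⟨g, ?_⟩
    apply Equiv.ext
    intro p
    apply Subtype.ext
    have := hg p.1 ((hmemS _).mp p.2)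
    rw [Equiv.Perm.ofSubtype_apply_coe] at this
    simpa [φ] using this
  rw [Subgroup.card_eq_card_quotient_mul_card_subgroup φ.ker,
    Nat.card_congr (QuotientGroup.quotientKerEquivOfSurjective φ hsur).toEquiv, hcardP, hker]

end Cfsg.Agent.Helper27
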