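import Cfsg.Agent.Helper27.M24Invol

/-!
The two classes of involutions of `Cfsg.M24`.
-/

set_option autoImplicit false

namespace Cfsg.Agent.Helper27

open Cfsg
open scoped Pointwise

theorem perm_inv_apply_self (f : Equiv.Perm GolayPt) (x : GolayPt) : f⁻¹ (f x) = x := by simp

theorem perm_apply_inv_self (f : Equiv.Perm GolayPt) (x : GolayPt) : f (f⁻¹ x) = x := by simp

theorem exists_M24_map_k {k : ℕ} (hk : k ≤ 5) (x y : Fin k → GolayPt) (hx : Function.Injective x)
    (hy : Function.Injective y) : ∃ g ∈ M24, ∀ i, g (x i) = y i := by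
  have := M24_isMultiplyPretransitive_of_le hk
  obtain ⟨g, hg⟩ := MulAction.exists_smul_eq M24 (⟨x, hx⟩ : Fin k ↪ GolayPt) ⟨y, hy⟩
  refine ⟨g.1, g.2, fun i => ?_⟩
  have h1 := congrArg (fun e : Fin k ↪ GolayPt => e i) hg
  have h2 : g • x i = y i := by simpa using h1
  exact h2

theorem tblInvol_of_sq {g : Equiv.Perm GolayPt} {T : List ℕ} (h : Represents g T) (hsq : g * g = 1) :
    tblInvol T = true := by
  simp only [tblInvol, List.all_eq_true, List.mem_range, beq_iff_eq]
  intro j hj
  have h1 := h.2 (pt j)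
  rw [idx_pt hj] at h1
  have h2 := h.2 (g (pt j))
  rw [h1] at h2
  have h3 : g (g (pt j)) = pt j := by
    have := congrArg (fun f : Equiv.Perm GolayPt => f (pt j)) hsq
    simpa using this
  rw [h3, idx_pt hj] at h2
  exact h2.symm

theorem mem_fixMaskT {g : Equiv.Perm GolayPt} {T : List ℕ} (h : Represents g T) (p : GolayPt) :
    p ∈ maskSet (fixMaskT T) ↔ g p = p := by
  rw [mem_maskSet, fixMaskT, testBit_tblMask]
  simp only [decide_eq_true_eq, List.mem_filter, List.mem_range, beq_iff_eq]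
  constructor
  · rintro ⟨_, h2⟩
    apply idx_injective
    rw [h.2 p, h2]
  · intro h2
    exact ⟨idx_lt p, by rw [← h.2 p, h2]⟩

theorem zAT_valid : validTbl zAT = true := by decide +kernel
theorem zBT_valid : validTbl zBT = true := by decide +kernel
theorem t0T_valid : validTbl t0T = true := by decide +kernel

/-- the representative with an octad of fixed points -/
noncomputable def zA : Equiv.Perm GolayPt := tblPerm zAT zAT_valid

/-- the fixed-point-free representative -/
noncomputable def zB : Equiv.Perm GolayPt := tblPerm zBT zBT_valid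

theorem zA_mem : zA ∈ M24 := tblPerm_mem_M24 zAT zAT_valid (by decide +kernel)
theorem zB_mem : zB ∈ M24 := tblPerm_mem_M24 zBT zBT_valid (by decide +kernel)

theorem fixed_filter_eq {g : Equiv.Perm GolayPt} {T : List ℕ} (h : Represents g T) :
    (Finset.univ.filter fun p => g p = p) = maskSet (fixMaskT T) := by
  ext p
  rw [Finset.mem_filter, mem_fixMaskT h]
  simp

/-- an involution with the normalised images is conjugate to one of the two representatives -/
theorem invol_normalized {g : Equiv.Perm GolayPt} (hg : g ∈ M24) (h0 : g (pt 0) = pt 1) (h1 : g (pt 1) = pt 0)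
    (h2 : g (pt 2) = pt 3) (h3 : g (pt 3) = pt 2) (hsq : g * g = 1) :
    ((∀ p, g p ≠ p) ∧ ∃ k ∈ M24, k * g = zB * k) ∨
    ((Finset.univ.filter fun p => g p = p) ∈ octads ∧ ∃ k ∈ M24, k * g = zA * k) := by
  have ht0 : tblPerm t0T t0T_valid ∈ M24 := tblPerm_mem_M24 t0T t0T_valid (by decide +kernel)
  have e0 : tblPerm t0T t0T_valid (pt 0) = pt 1 := by rw [tblPerm_pt t0T t0T_valid (by norm_num)]; rfl
  have e1 : tblPerm t0T t0T_valid (pt 1) = pt 0 := by rw [tblPerm_pt t0T t0T_valid (by norm_num)]; rfl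
  have e2 : tblPerm t0T t0T_valid (pt 2) = pt 3 := by rw [tblPerm_pt t0T t0T_valid (by norm_num)]; rfl
  have e3 : tblPerm t0T t0T_valid (pt 3) = pt 2 := by rw [tblPerm_pt t0T t0T_valid (by norm_num)]; rfl
  have hs : (tblPerm t0T t0T_valid)⁻¹ * g ∈ fixG (ptsOf [3, 2, 1, 0]) := by
    rw [mem_fixG]
    refine ⟨M24.mul_mem (M24.inv_mem ht0) hg, ?_⟩
    intro q hq
    have hq' : q = pt 3 ∨ q = pt 2 ∨ q = pt 1 ∨ q = pt 0 := by simpa [ptsOf] using hq
    rcases hq' with rfl | rfl | rfl | rfl
    · rw [Equiv.Perm.mul_apply, h3, Equiv.Perm.inv_eq_iff_eq, e3]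
    · rw [Equiv.Perm.mul_apply, h2, Equiv.Perm.inv_eq_iff_eq, e2]
    · rw [Equiv.Perm.mul_apply, h1, Equiv.Perm.inv_eq_iff_eq, e1]
    · rw [Equiv.Perm.mul_apply, h0, Equiv.Perm.inv_eq_iff_eq, e0]
  obtain ⟨T, hr, hP⟩ := m24_tail_enum involP (tblPerm_represents t0T t0T_valid) invol_check hs
  have hgs : tblPerm t0T t0T_valid * ((tblPerm t0T t0T_valid)⁻¹ * g) = g := by group
  rw [hgs] at hr
  have hinv := tblInvol_of_sq hr hsq
  simp only [involP, hinv, Bool.not_true, Bool.false_or, Bool.and_eq_true, Bool.or_eq_true, beq_iff_eq] at hP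
  obtain ⟨hfix, hcert⟩ := hP
  unfold certOK at hcert
  split at hcert
  · exact absurd hcert (by simp)
  · rename_i c _
    simp only [Bool.and_eq_true, beq_iff_eq] at hcert
    obtain ⟨⟨hvK, hcK⟩, hconj⟩ := hcert
    have hk : tblPerm c.2 hvK ∈ M24 := tblPerm_mem_M24 _ hvK hcK
    have hrk := tblPerm_represents c.2 hvK
    by_cases hm : fixMaskT T = 0
    · left
      constructor
      · intro p hp
        have := (mem_fixMaskT hr p).mpr hp
        rw [hm, mem_maskSet] at this
        simp at this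
      · refine ⟨tblPerm c.2 hvK, hk, ?_⟩
        rw [if_pos hm] at hconj
        apply represents_unique (represents_compT hrk hr)
        rw [hconj]
        exact represents_compT (tblPerm_represents zBT zBT_valid) hrk
    · right
      have hoct : isOct (fixMaskT T) = true := by
        rcases hfix with hfix | hfix
        · exact absurd hfix hm
        · exact hfix
      constructor
      · rw [fixed_filter_eq hr]
        exact maskSet_mem_octads hoct
      · refine ⟨tblPerm c.2 hvK, hk, ?_⟩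
        rw [if_neg hm] at hconj
        apply represents_unique (represents_compT hrk hr)
        rw [hconj]
        exact represents_compT (tblPerm_represents zAT zAT_valid) hrk

/-- a non-trivial involution of `M24` has two 2-cycles -/
theorem exists_two_cycles {g : Equiv.Perm GolayPt} (hg : g ∈ M24) (hne : g ≠ 1) :
    ∃ a c, g a ≠ a ∧ g c ≠ c ∧ c ≠ a ∧ c ≠ g a := by
  have hex : ∃ a, g a ≠ a := by
    by_contra hcon
    push Not at hcon
    exact hne (Equiv.ext hcon)
  obtain ⟨a, ha⟩ := hex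
  by_contra hcon
  push Not at hcon
  have hfixall : ∀ c, c ≠ a → c ≠ g a → g c = c := by
    intro c hca hcb
    by_contra hc
    exact hcb (hcon a c ha hc hca)
  have hx : Function.Injective ![a, g a] := by
    intro i j hij
    fin_cases i <;> fin_cases j <;> simp_all [Ne.symm ha]
  have hy : Function.Injective ![(none : GolayPt), some 0] := by decide
  obtain ⟨k, hk, hmap⟩ := exists_M24_map_k (by norm_num) ![a, g a] ![(none : GolayPt), some 0] hx hy
  have k0 : k a = none := hmap 0
  have k1 : k (g a) = some 0 := hmap 1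
  apply no_swap_in_M24 (c := k * g * k⁻¹) (M24.mul_mem (M24.mul_mem hk hg) (M24.inv_mem hk))
  · rw [Equiv.Perm.mul_apply, Equiv.Perm.mul_apply, ← k0, perm_inv_apply_self, k1]
  · intro p hp1 hp2
    rw [Equiv.Perm.mul_apply, Equiv.Perm.mul_apply]
    have h1 : k⁻¹ p ≠ a := by
      intro h
      apply hp1
      rw [← k0, ← h, perm_apply_inv_self]
    have h2 : k⁻¹ p ≠ g a := by
      intro h
      apply hp2
      rw [← k1, ← h, perm_apply_inv_self]
    rw [hfixall _ h1 h2, perm_apply_inv_self]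

theorem sq_eq_one_of_orderOf {g : Equiv.Perm GolayPt} (hord : orderOf g = 2) : g * g = 1 := by
  have := pow_orderOf_eq_one g
  rwa [hord, pow_two] at this

/-- the classification of the involutions of `M24` -/
theorem invol_class {g : Equiv.Perm GolayPt} (hg : g ∈ M24) (hord : orderOf g = 2) :
    ((∀ p, g p ≠ p) ∧ ∃ k ∈ M24, k * g * k⁻¹ = zB) ∨
    ((Finset.univ.filter fun p => g p = p) ∈ octads ∧ ∃ k ∈ M24, k * g * k⁻¹ = zA) := by
  have hsq := sq_eq_one_of_orderOf hord
  have hne : g ≠ 1 := by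
    intro h
    rw [h, orderOf_one] at hord
    exact absurd hord (by norm_num)
  have hgg : ∀ p, g (g p) = p := by
    intro p
    have := congrArg (fun f : Equiv.Perm GolayPt => f p) hsq
    simpa using this
  obtain ⟨a, c, ha, hc, hca, hcb⟩ := exists_two_cycles hg hne
  have hx : Function.Injective ![a, g a, c, g c] := by
    have h1 : a ≠ g a := Ne.symm ha
    have h2 : a ≠ c := Ne.symm hca
    have h3 : a ≠ g c := by
      intro h
      apply hcb
      rw [h, hgg]
    have h4 : g a ≠ c := Ne.symm hcb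
    have h5 : g a ≠ g c := fun h => hca (g.injective h).symm
    have h6 : c ≠ g c := Ne.symm hc
    rw [← List.nodup_ofFn]
    simp [List.ofFn_succ, h1, h2, h3, h4, h5, h6]
  have hy : Function.Injective ![pt 0, pt 1, pt 2, pt 3] := by decide
  obtain ⟨k, hk, hmap⟩ := exists_M24_map_k (by norm_num) ![a, g a, c, g c] ![pt 0, pt 1, pt 2, pt 3] hx hy
  have k0 : k a = pt 0 := hmap 0
  have k1 : k (g a) = pt 1 := hmap 1
  have k2 : k c = pt 2 := hmap 2
  have k3 : k (g c) = pt 3 := hmap 3
  have hg' : k * g * k⁻¹ ∈ M24 := M24.mul_mem (M24.mul_mem hk hg) (M24.inv_mem hk)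
  have e0 : (k * g * k⁻¹) (pt 0) = pt 1 := by
    rw [Equiv.Perm.mul_apply, Equiv.Perm.mul_apply, ← k0, perm_inv_apply_self, k1]
  have e1 : (k * g * k⁻¹) (pt 1) = pt 0 := by
    rw [Equiv.Perm.mul_apply, Equiv.Perm.mul_apply, ← k1, perm_inv_apply_self, hgg, k0]
  have e2 : (k * g * k⁻¹) (pt 2) = pt 3 := by
    rw [Equiv.Perm.mul_apply, Equiv.Perm.mul_apply, ← k2, perm_inv_apply_self, k3]
  have e3 : (k * g * k⁻¹) (pt 3) = pt 2 := by
    rw [Equiv.Perm.mul_apply, Equiv.Perm.mul_apply, ← k3, perm_inv_apply_self, hgg, k2]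
  have hsq' : (k * g * k⁻¹) * (k * g * k⁻¹) = 1 := by
    have : (k * g * k⁻¹) * (k * g * k⁻¹) = k * (g * g) * k⁻¹ := by group
    rw [this, hsq]; group
  have hfixiff : ∀ p, (k * g * k⁻¹) (k p) = k p ↔ g p = p := by
    intro p
    rw [Equiv.Perm.mul_apply, Equiv.Perm.mul_apply, perm_inv_apply_self]
    exact k.injective.eq_iff
  rcases invol_normalized hg' e0 e1 e2 e3 hsq' with ⟨hfpf, k', hk', hconj⟩ | ⟨hoct, k', hk', hconj⟩
  · left
    constructor
    · intro p hp
      exact hfpf (k p) ((hfixiff p).mpr hp)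
    · refine ⟨k' * k, M24.mul_mem hk' hk, ?_⟩
      have : k' * k * g * (k' * k)⁻¹ = (k' * (k * g * k⁻¹)) * k'⁻¹ := by group
      rw [this, hconj]; group
  · right
    constructor
    · have : (Finset.univ.filter fun p => g p = p) = k⁻¹ • (Finset.univ.filter fun p => (k * g * k⁻¹) p = p) := by
        ext p
        rw [mem_smul_perm_iff, inv_inv, Finset.mem_filter, Finset.mem_filter, hfixiff]
        simp
      rw [this]
      exact smul_octad_mem (M24.inv_mem hk) hoct
    · refine ⟨k' * k, M24.mul_mem hk' hk, ?_⟩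
      have : k' * k * g * (k' * k)⁻¹ = (k' * (k * g * k⁻¹)) * k'⁻¹ := by group
      rw [this, hconj]; group

theorem zA_order : orderOf zA = 2 := by
  have : Fact (Nat.Prime 2) := ⟨Nat.prime_two⟩
  exact tblPerm_orderOf zAT_valid (by decide +kernel)

theorem zB_order : orderOf zB = 2 := by
  have : Fact (Nat.Prime 2) := ⟨Nat.prime_two⟩
  exact tblPerm_orderOf zBT_valid (by decide +kernel)

theorem zA_fixed : (Finset.univ.filter fun p => zA p = p) ∈ octads := by
  rw [zA, fixed_filter_eq (tblPerm_represents zAT zAT_valid)]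
  exact maskSet_mem_octads (by decide +kernel)

theorem zB_fixed : ∀ p, zB p ≠ p := by
  intro p hp
  have := (mem_fixMaskT (tblPerm_represents zBT zBT_valid) p).mpr hp
  have h0 : fixMaskT zBT = 0 := by decide +kernel
  rw [h0, mem_maskSet] at this
  simp at this

theorem octad_nonempty {o : Finset GolayPt} (ho : o ∈ octads) : ∃ p, p ∈ o := by
  have : 0 < o.card := by rw [ho.2]; norm_num
  exact Finset.card_pos.mp this

theorem M24_involution_classes :
    (∀ g ∈ M24, orderOf g = 2 → (Finset.univ.filter fun p => g p = p) ∈ octads ∨ ∀ p, g p ≠ p) ∧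
    (∃ g ∈ M24, orderOf g = 2 ∧ (Finset.univ.filter fun p => g p = p) ∈ octads) ∧
    (∃ g ∈ M24, orderOf g = 2 ∧ ∀ p, g p ≠ p) ∧
    ∀ g ∈ M24, ∀ h ∈ M24, orderOf g = 2 → orderOf h = 2 → ((∀ p, g p ≠ p) ↔ (∀ p, h p ≠ p)) →
      ∃ k ∈ M24, k * g * k⁻¹ = h := by
  refine ⟨?_, ⟨zA, zA_mem, zA_order, zA_fixed⟩, ⟨zB, zB_mem, zB_order, zB_fixed⟩, ?_⟩
  · intro g hg hord
    rcases invol_class hg hord with ⟨h1, -⟩ | ⟨h1, -⟩
    · exact Or.inr h1
    · exact Or.inl h1
  · intro g hg h hh hgo hho hiff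
    have key : ∀ {z : Equiv.Perm GolayPt} {k k' : Equiv.Perm GolayPt}, k ∈ M24 → k' ∈ M24 → k * g * k⁻¹ = z →
        k' * h * k'⁻¹ = z → ∃ k'' ∈ M24, k'' * g * k''⁻¹ = h := by
      intro z k k' hk hk' e1 e2
      refine ⟨k'⁻¹ * k, M24.mul_mem (M24.inv_mem hk') hk, ?_⟩
      have : k'⁻¹ * k * g * (k'⁻¹ * k)⁻¹ = k'⁻¹ * (k * g * k⁻¹) * k' := by group
      rw [this, e1, ← e2]; group
    rcases invol_class hg hgo with ⟨hg1, k, hk, e1⟩ | ⟨hg1, k, hk, e1⟩ <;>
      rcases invol_class hh hho with ⟨hh1, k', hk', e2⟩ | ⟨hh1, k', hk', e2⟩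
    · exact key hk hk' e1 e2
    · exfalso
      obtain ⟨p, hp⟩ := octad_nonempty hh1
      rw [Finset.mem_filter] at hp
      exact hiff.mp hg1 p hp.2
    · exfalso
      obtain ⟨p, hp⟩ := octad_nonempty hg1
      rw [Finset.mem_filter] at hp
      exact hiff.mpr hh1 p hp.2
    · exact key hk hk' e1 e2

end Cfsg.Agent.Helper27
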