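import Cfsg.Agent.Helper27.M24Order

/-!
Five-fold transitivity of `Cfsg.M24` and its consequences.
-/

set_option autoImplicit false

namespace Cfsg.Agent.Helper27

open Cfsg
open scoped Pointwise

/-- moving one more point into place -/
theorem step_move {fixed : List ℕ} {a : ℕ}
    (horb : ∀ b, b ∉ ptsOf fixed → b ∈ orbitSet (fixG (ptsOf fixed)) (pt a))
    (h : Equiv.Perm GolayPt) (hh : h ∈ M24) (y : GolayPt) (hy : h y ∉ ptsOf fixed) :
    ∃ h' ∈ M24, h' y = pt a ∧ ∀ z, h z ∈ ptsOf fixed → h' z = h z := by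
  obtain ⟨g, hg, hgb⟩ := horb (h y) hy
  rw [mem_fixG] at hg
  refine ⟨g⁻¹ * h, M24.mul_mem (M24.inv_mem hg.1) hh, ?_, ?_⟩
  · rw [Equiv.Perm.mul_apply, Equiv.Perm.inv_eq_iff_eq, hgb]
  · intro z hz
    rw [Equiv.Perm.mul_apply, Equiv.Perm.inv_eq_iff_eq, hg.2 _ hz]

theorem orbit_full {fixed : List ℕ} (hfix : ∀ f ∈ fixed, f < 24) {a : ℕ}
    (h : orbitSet (fixG (ptsOf fixed)) (pt a) = (maskSet (onesMask ^^^ tblMask fixed) : Set GolayPt)) :
    ∀ b, b ∉ ptsOf fixed → b ∈ orbitSet (fixG (ptsOf fixed)) (pt a) := by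
  intro b hb
  rw [h, Finset.mem_coe, maskSet_compl, ← ptsOf_eq_maskSet hfix, Finset.mem_sdiff]
  exact ⟨Finset.mem_univ _, hb⟩

theorem mem_ptsOf_iff_of_nodup (fixed : List ℕ) (hfix : ∀ f ∈ fixed, f < 24) (q : GolayPt) :
    q ∈ ptsOf fixed ↔ idx q ∈ fixed := by
  rw [mem_ptsOf]
  constructor
  · rintro ⟨f, hf, rfl⟩
    rw [idx_pt (hfix f hf)]; exact hf
  · intro h
    exact ⟨idx q, h, pt_idx q⟩

/-- any five distinct points can be moved to the points with indices 0, …, 4 -/
theorem exists_move_five (x : Fin 5 → GolayPt) (hx : Function.Injective x) :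
    ∃ h ∈ M24, ∀ i : Fin 5, h (x i) = pt i.val := by
  have hne : ∀ i j : Fin 5, i ≠ j → x i ≠ x j := fun i j hij h => hij (hx h)
  have hf0 : ∀ f ∈ ([] : List ℕ), f < 24 := fixed_lt_24 (by decide)
  have hf1 : ∀ f ∈ ([0] : List ℕ), f < 24 := fixed_lt_24 (by decide)
  have hf2 : ∀ f ∈ ([1, 0] : List ℕ), f < 24 := fixed_lt_24 (by decide)
  have hf3 : ∀ f ∈ ([2, 1, 0] : List ℕ), f < 24 := fixed_lt_24 (by decide)
  have hf4 : ∀ f ∈ ([3, 2, 1, 0] : List ℕ), f < 24 := fixed_lt_24 (by decide)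
  -- step 0
  obtain ⟨h0, hh0, h00, -⟩ := step_move (orbit_full hf0 orbit_eq0) 1 M24.one_mem (x 0) (by simp [ptsOf])
  -- step 1
  obtain ⟨h1, hh1, h11, h1k⟩ := step_move (orbit_full hf1 orbit_eq1) h0 hh0 (x 1) (by
    rw [mem_ptsOf]
    rintro ⟨f, hf, hfe⟩
    simp only [List.mem_singleton] at hf
    subst hf
    rw [← h00] at hfe
    exact hne 0 1 (by decide) (h0.injective hfe))
  have h10 : h1 (x 0) = pt 0 := by
    rw [h1k (x 0) (by rw [h00, mem_ptsOf]; exact ⟨0, by simp, rfl⟩), h00]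
  -- step 2
  obtain ⟨h2, hh2, h22, h2k⟩ := step_move (orbit_full hf2 orbit_eq2) h1 hh1 (x 2) (by
    rw [mem_ptsOf]
    rintro ⟨f, hf, hfe⟩
    simp only [List.mem_cons, List.not_mem_nil, or_false] at hf
    rcases hf with rfl | rfl
    · rw [← h11] at hfe
      exact hne 1 2 (by decide) (h1.injective hfe)
    · rw [← h10] at hfe
      exact hne 0 2 (by decide) (h1.injective hfe))
  have h20 : h2 (x 0) = pt 0 := by
    rw [h2k (x 0) (by rw [h10, mem_ptsOf]; exact ⟨0, by simp, rfl⟩), h10]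
  have h21 : h2 (x 1) = pt 1 := by
    rw [h2k (x 1) (by rw [h11, mem_ptsOf]; exact ⟨1, by simp, rfl⟩), h11]
  -- step 3
  obtain ⟨h3, hh3, h33, h3k⟩ := step_move (orbit_full hf3 orbit_eq3) h2 hh2 (x 3) (by
    rw [mem_ptsOf]
    rintro ⟨f, hf, hfe⟩
    simp only [List.mem_cons, List.not_mem_nil, or_false] at hf
    rcases hf with rfl | rfl | rfl
    · rw [← h22] at hfe
      exact hne 2 3 (by decide) (h2.injective hfe)
    · rw [← h21] at hfe
      exact hne 1 3 (by decide) (h2.injective hfe)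
    · rw [← h20] at hfe
      exact hne 0 3 (by decide) (h2.injective hfe))
  have h30 : h3 (x 0) = pt 0 := by
    rw [h3k (x 0) (by rw [h20, mem_ptsOf]; exact ⟨0, by simp, rfl⟩), h20]
  have h31 : h3 (x 1) = pt 1 := by
    rw [h3k (x 1) (by rw [h21, mem_ptsOf]; exact ⟨1, by simp, rfl⟩), h21]
  have h32 : h3 (x 2) = pt 2 := by
    rw [h3k (x 2) (by rw [h22, mem_ptsOf]; exact ⟨2, by simp, rfl⟩), h22]
  -- step 4
  obtain ⟨h4, hh4, h44, h4k⟩ := step_move (orbit_full hf4 orbit_eq4) h3 hh3 (x 4) (by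
    rw [mem_ptsOf]
    rintro ⟨f, hf, hfe⟩
    simp only [List.mem_cons, List.not_mem_nil, or_false] at hf
    rcases hf with rfl | rfl | rfl | rfl
    · rw [← h33] at hfe
      exact hne 3 4 (by decide) (h3.injective hfe)
    · rw [← h32] at hfe
      exact hne 2 4 (by decide) (h3.injective hfe)
    · rw [← h31] at hfe
      exact hne 1 4 (by decide) (h3.injective hfe)
    · rw [← h30] at hfe
      exact hne 0 4 (by decide) (h3.injective hfe))
  have h40 : h4 (x 0) = pt 0 := by
    rw [h4k (x 0) (by rw [h30, mem_ptsOf]; exact ⟨0, by simp, rfl⟩), h30]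
  have h41 : h4 (x 1) = pt 1 := by
    rw [h4k (x 1) (by rw [h31, mem_ptsOf]; exact ⟨1, by simp, rfl⟩), h31]
  have h42 : h4 (x 2) = pt 2 := by
    rw [h4k (x 2) (by rw [h32, mem_ptsOf]; exact ⟨2, by simp, rfl⟩), h32]
  have h43 : h4 (x 3) = pt 3 := by
    rw [h4k (x 3) (by rw [h33, mem_ptsOf]; exact ⟨3, by simp, rfl⟩), h33]
  refine ⟨h4, hh4, ?_⟩
  intro i
  fin_cases i
  · exact h40
  · exact h41
  · exact h42
  · exact h43
  · exact h44

/-- `M24` is five-fold transitive -/
theorem exists_M24_map_five (x y : Fin 5 → GolayPt) (hx : Function.Injective x) (hy : Function.Injective y) :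
    ∃ g ∈ M24, ∀ i, g (x i) = y i := by
  obtain ⟨h, hh, hxh⟩ := exists_move_five x hx
  obtain ⟨k, hk, hyk⟩ := exists_move_five y hy
  refine ⟨k⁻¹ * h, M24.mul_mem (M24.inv_mem hk) hh, ?_⟩
  intro i
  rw [Equiv.Perm.mul_apply, Equiv.Perm.inv_eq_iff_eq, hxh, hyk]

theorem M24_isMultiplyPretransitive_five : MulAction.IsMultiplyPretransitive M24 GolayPt 5 := by
  rw [MulAction.isMultiplyPretransitive_iff]
  intro x y
  obtain ⟨g, hg, hgx⟩ := exists_M24_map_five x y x.injective y.injective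
  refine ⟨⟨g, hg⟩, ?_⟩
  apply Function.Embedding.ext
  intro i
  exact hgx i

/-! ### Transitivity on octads -/

theorem exists_five_in (s : Finset GolayPt) (h : 5 ≤ s.card) :
    ∃ x : Fin 5 → GolayPt, Function.Injective x ∧ ∀ i, x i ∈ s := by
  obtain ⟨t, hts, htc⟩ := Finset.exists_subset_card_eq h
  let e := (Finset.equivFinOfCardEq htc).symm
  refine ⟨fun i => (e i).1, ?_, fun i => hts (e i).2⟩
  intro i j hij
  exact e.injective (Subtype.ext hij)

/-- an octad containing the images of five points of an octad `o` under `g ∈ M24` is `g • o` -/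
theorem smul_octad_eq {g : Equiv.Perm GolayPt} (hg : g ∈ M24) {o o' : Finset GolayPt} (ho : o ∈ octads)
    (ho' : o' ∈ octads) (x : Fin 5 → GolayPt) (hx : Function.Injective x) (hxo : ∀ i, x i ∈ o)
    (hxo' : ∀ i, g (x i) ∈ o') : g • o = o' := by
  apply octad_eq_of_inter (smul_octad_mem hg ho) ho'
  have hsub : (Finset.univ.image (fun i => g (x i))) ⊆ g • o ∩ o' := by
    intro q hq
    rw [Finset.mem_image] at hq
    obtain ⟨i, -, rfl⟩ := hq
    rw [Finset.mem_inter, mem_smul_finset_perm]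
    exact ⟨hxo i, hxo' i⟩
  have hcard : (Finset.univ.image (fun i => g (x i))).card = 5 := by
    have hinj : Function.Injective (fun i => g (x i)) := g.injective.comp hx
    rw [Finset.card_image_of_injective _ hinj]
    simp
  rw [← hcard]
  exact Finset.card_le_card hsub

theorem M24_octad_transitive (o o' : Finset GolayPt) (ho : o ∈ octads) (ho' : o' ∈ octads) :
    ∃ g ∈ M24, g • o = o' := by
  obtain ⟨x, hx, hxo⟩ := exists_five_in o (by rw [ho.2]; norm_num)
  obtain ⟨y, hy, hyo⟩ := exists_five_in o' (by rw [ho'.2]; norm_num)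
  obtain ⟨g, hg, hgx⟩ := exists_M24_map_five x y hx hy
  exact ⟨g, hg, smul_octad_eq hg ho ho' x hx hxo (fun i => by rw [hgx]; exact hyo i)⟩

/-! ### Orders of point stabilisers -/

theorem card_GolayPt : Nat.card GolayPt = 24 := by
  simp [GolayPt]

theorem M24_isMultiplyPretransitive_of_le {k : ℕ} (hk : k ≤ 5) : MulAction.IsMultiplyPretransitive M24 GolayPt k :=
  haveI := M24_isMultiplyPretransitive_five
  MulAction.isMultiplyPretransitive_of_le (n := 5) hk (by rw [card_GolayPt]; norm_num)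

theorem M24_isPretransitive : MulAction.IsPretransitive M24 GolayPt := by
  rw [← MulAction.is_one_pretransitive_iff]
  exact M24_isMultiplyPretransitive_of_le (by norm_num)

theorem card_stabilizer_M24 (p : GolayPt) : Nat.card (MulAction.stabilizer M24 p) = 10200960 := by
  have := M24_isPretransitive
  have h1 := MulAction.index_stabilizer_of_transitive M24 p
  have h2 := Subgroup.card_mul_index (MulAction.stabilizer M24 p)
  rw [h1, card_GolayPt, card_M24] at h2
  omega

theorem card_stabilizer2_M24 (p q : GolayPt) (hpq : p ≠ q) :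
    Nat.card ↥(MulAction.stabilizer M24 p ⊓ MulAction.stabilizer M24 q) = 443520 := by
  have h2p : MulAction.IsMultiplyPretransitive M24 GolayPt 2 := M24_isMultiplyPretransitive_of_le (by norm_num)
  have hs : ({p, q} : Set GolayPt).ncard = 2 := Set.ncard_pair hpq
  have h1 := h2p.index_of_fixingSubgroup_mul hs
  have hfs : fixingSubgroup M24 ({p, q} : Set GolayPt) =
      MulAction.stabilizer M24 p ⊓ MulAction.stabilizer M24 q := by
    ext g
    simp [mem_fixingSubgroup_iff, MulAction.mem_stabilizer_iff]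
  rw [hfs, card_GolayPt] at h1
  have h2 := Subgroup.card_mul_index (MulAction.stabilizer M24 p ⊓ MulAction.stabilizer M24 q)
  rw [card_M24] at h2
  have h3 : (24 : ℕ).factorial = 552 * (22 : ℕ).factorial := by
    rw [show (24:ℕ) = 22 + 1 + 1 from rfl, Nat.factorial_succ, Nat.factorial_succ]; ring
  rw [h3] at h1
  have h4 : (MulAction.stabilizer M24 p ⊓ MulAction.stabilizer M24 q).index = 552 :=
    Nat.eq_of_mul_eq_mul_right (Nat.factorial_pos 22) h1
  rw [h4] at h2
  omega

end Cfsg.Agent.Helper27
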