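import Cfsg.Agent.Helper27.M24Order
import Cfsg.Agent.Helper27.M24Trans
import Cfsg.Agent.Helper27.M24InvolClass
import Cfsg.Agent.Helper27.FaithfulPerm

/-!
The action of `Cfsg.M24` on sets of six points.
-/

set_option autoImplicit false

namespace Cfsg.Agent.Helper27

open Cfsg
open scoped Pointwise

/-- the first five base points -/
abbrev E0 : Finset GolayPt := ptsOf [4, 3, 2, 1, 0]

theorem E0_eq : E0 = maskSet 31 := by
  show ptsOf [4, 3, 2, 1, 0] = maskSet 31
  rw [ptsOf_eq_maskSet (fixed_lt_24 (by decide))]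
  have : tblMask [4, 3, 2, 1, 0] = 31 := by decide +kernel
  rw [this]

theorem E0_sub_oct5 : E0 ⊆ maskSet oct5 := by
  rw [E0_eq]
  intro q
  rw [mem_maskSet, mem_maskSet]
  have : ∀ i < 24, (31 : ℕ).testBit i = true → oct5.testBit i = true := by decide +kernel
  exact this _ (idx_lt q)

theorem card_E0 : E0.card = 5 := by
  rw [E0_eq, card_maskSet]; decide +kernel

theorem card_fixG_E0 : Nat.card (fixG E0) = 48 := by
  have h5 := card_fixG_insert (ptsOf [4, 3, 2, 1, 0]) (pt 5)
  have h6 := card_fixG_insert (ptsOf [5, 4, 3, 2, 1, 0]) (pt 7)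
  rw [← ptsOf_cons, orbit_card5] at h5
  rw [← ptsOf_cons, orbit_card6, fixG_base_eq_bot, Subgroup.card_bot] at h6
  rw [h5, h6]

theorem fixG_E0_inv {g : Equiv.Perm GolayPt} (hg : g ∈ fixG E0) : InvSet g (maskSet oct5) :=
  invSet_oct5 hg (by rw [E0_eq])

theorem fixG_mono {F F' : Finset GolayPt} (h : F ⊆ F') : fixG F' ≤ fixG F := by
  intro g hg
  rw [mem_fixG] at hg ⊢
  exact ⟨hg.1, fun q hq => hg.2 q (h hq)⟩

/-- the three further points of the standard octad -/
def inMask : ℕ := 5248

theorem maskSet_inMask : maskSet inMask = maskSet oct5 \ E0 := by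
  rw [E0_eq, ← maskSet_xor_and]
  rfl

theorem exists_fix_in {a : GolayPt} (ha : a ∈ maskSet oct5) (ha0 : a ∉ E0) : ∃ h ∈ fixG E0, h (pt 7) = a := by
  have hmem : a ∈ (maskSet (oct5 ^^^ (oct5 &&& 63)) : Set GolayPt) := by
    have : maskSet (oct5 ^^^ (oct5 &&& 63)) = maskSet inMask := rfl
    rw [this, maskSet_inMask]
    exact Finset.mem_coe.mpr (Finset.mem_sdiff.mpr ⟨ha, ha0⟩)
  rw [← orbit_eq6] at hmem
  obtain ⟨h, hh, rfl⟩ := hmem
  refine ⟨h, fixG_mono ?_ hh, rfl⟩
  rw [ptsOf_cons]
  exact Finset.subset_insert _ _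

theorem exists_fix_out {a : GolayPt} (ha : a ∉ maskSet oct5) : ∃ h ∈ fixG E0, h (pt 5) = a := by
  have hmem : a ∈ (maskSet (onesMask ^^^ oct5) : Set GolayPt) := by
    rw [maskSet_compl]
    exact Finset.mem_coe.mpr (Finset.mem_sdiff.mpr ⟨Finset.mem_univ _, ha⟩)
  rw [← orbit_eq5] at hmem
  obtain ⟨h, hh, rfl⟩ := hmem
  exact ⟨h, hh, rfl⟩

/-- the stabiliser of five points is transitive on the further points of their octad -/
theorem fix_trans_in {a b : GolayPt} (ha : a ∈ maskSet oct5) (ha0 : a ∉ E0) (hb : b ∈ maskSet oct5)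
    (hb0 : b ∉ E0) : ∃ h ∈ fixG E0, h a = b := by
  obtain ⟨h1, hh1, rfl⟩ := exists_fix_in ha ha0
  obtain ⟨h2, hh2, rfl⟩ := exists_fix_in hb hb0
  refine ⟨h2 * h1⁻¹, (fixG E0).mul_mem hh2 ((fixG E0).inv_mem hh1), ?_⟩
  rw [Equiv.Perm.mul_apply, perm_inv_apply_self]

/-- the stabiliser of five points is transitive on the points outside their octad -/
theorem fix_trans_out {a b : GolayPt} (ha : a ∉ maskSet oct5) (hb : b ∉ maskSet oct5) :
    ∃ h ∈ fixG E0, h a = b := by
  obtain ⟨h1, hh1, rfl⟩ := exists_fix_out ha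
  obtain ⟨h2, hh2, rfl⟩ := exists_fix_out hb
  refine ⟨h2 * h1⁻¹, (fixG E0).mul_mem hh2 ((fixG E0).inv_mem hh1), ?_⟩
  rw [Equiv.Perm.mul_apply, perm_inv_apply_self]

theorem orbit_in {a : GolayPt} (ha : a ∈ maskSet oct5) (ha0 : a ∉ E0) :
    orbitSet (fixG E0) a = (maskSet inMask : Set GolayPt) := by
  apply Set.Subset.antisymm
  · rintro b ⟨g, hg, rfl⟩
    rw [maskSet_inMask]
    exact Finset.mem_coe.mpr (Finset.mem_sdiff.mpr
      ⟨(invSet_apply_mem_iff (fixG_E0_inv hg) a).mpr ha, apply_not_mem_of_fixG hg ha0⟩)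
  · intro b hb
    rw [maskSet_inMask] at hb
    obtain ⟨hb1, hb2⟩ := Finset.mem_sdiff.mp (Finset.mem_coe.mp hb)
    obtain ⟨h, hh, e⟩ := fix_trans_in ha ha0 hb1 hb2
    exact ⟨h, hh, e⟩

theorem orbit_out {a : GolayPt} (ha : a ∉ maskSet oct5) :
    orbitSet (fixG E0) a = (maskSet (onesMask ^^^ oct5) : Set GolayPt) := by
  apply Set.Subset.antisymm
  · rintro b ⟨g, hg, rfl⟩
    rw [maskSet_compl]
    refine Finset.mem_coe.mpr (Finset.mem_sdiff.mpr ⟨Finset.mem_univ _, ?_⟩)
    rw [invSet_apply_mem_iff (fixG_E0_inv hg) a]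
    exact ha
  · intro b hb
    rw [maskSet_compl] at hb
    obtain ⟨-, hb2⟩ := Finset.mem_sdiff.mp (Finset.mem_coe.mp hb)
    obtain ⟨h, hh, e⟩ := fix_trans_out ha hb2
    exact ⟨h, hh, e⟩

theorem card_fixG_in {a : GolayPt} (ha : a ∈ maskSet oct5) (ha0 : a ∉ E0) :
    Nat.card (fixG (insert a E0)) = 16 := by
  have h := card_fixG_insert E0 a
  rw [orbit_in ha ha0, Set.ncard_coe_finset, card_maskSet, card_fixG_E0] at h
  have h3 : popc 24 inMask = 3 := by decide +kernel
  rw [h3] at h
  omega

theorem card_fixG_out {a : GolayPt} (ha : a ∉ maskSet oct5) : Nat.card (fixG (insert a E0)) = 3 := by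
  have h := card_fixG_insert E0 a
  rw [orbit_out ha, Set.ncard_coe_finset, card_maskSet, card_fixG_E0] at h
  have h3 : popc 24 (onesMask ^^^ oct5) = 16 := by decide +kernel
  rw [h3] at h
  omega

/-! ### Transport along elements of the group -/

/-- a set of six points can be moved to the first five base points and one further point -/
theorem normalize_six (E : Finset GolayPt) (hE : E.card = 6) :
    ∃ k ∈ M24, ∃ a, a ∉ E0 ∧ k • E = insert a E0 := by
  obtain ⟨e, t, het, rfl, htc⟩ := Finset.card_eq_succ.mp hE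
  obtain ⟨x, hx, hxt⟩ := exists_five_in t (by rw [htc])
  have hy : Function.Injective ![pt 0, pt 1, pt 2, pt 3, pt 4] := by decide
  obtain ⟨k, hk, hmap⟩ := exists_M24_map_five x ![pt 0, pt 1, pt 2, pt 3, pt 4] hx hy
  have himg : Finset.univ.image x = t := by
    apply Finset.eq_of_subset_of_card_le
    · intro p hp
      obtain ⟨i, -, rfl⟩ := Finset.mem_image.mp hp
      exact hxt i
    · rw [Finset.card_image_of_injective _ hx, htc]; simp
  have hkt : k • t = E0 := by
    apply Finset.eq_of_subset_of_card_le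
    · intro p hp
      rw [mem_smul_perm_iff, ← himg] at hp
      obtain ⟨i, -, hi⟩ := Finset.mem_image.mp hp
      have : p = k (x i) := by rw [hi, perm_apply_inv_self]
      rw [this, hmap i]
      fin_cases i <;> simp [ptsOf]
    · rw [card_E0, Finset.card_smul_finset, htc]
  refine ⟨k, hk, k e, ?_, ?_⟩
  · rw [← hkt, mem_smul_finset_perm]
    exact het
  · rw [Finset.smul_finset_insert, hkt]
    rfl

theorem octad_of_E0_sub {o : Finset GolayPt} (ho : o ∈ octads) (h : E0 ⊆ o) : o = maskSet oct5 := by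
  apply octad_eq_of_inter ho (maskSet_mem_octads isOct_oct5)
  rw [← card_E0]
  exact Finset.card_le_card (Finset.subset_inter h E0_sub_oct5)

/-- the normalised six-set lies in an octad iff its further point lies in the standard octad -/
theorem in_octad_iff {E : Finset GolayPt} {k : Equiv.Perm GolayPt} (hk : k ∈ M24) {a : GolayPt}
    (hkE : k • E = insert a E0) : (∃ o ∈ octads, E ⊆ o) ↔ a ∈ maskSet oct5 := by
  constructor
  · rintro ⟨o, ho, hEo⟩
    have hko : k • o ∈ octads := smul_octad_mem hk ho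
    have hsub : insert a E0 ⊆ k • o := by
      rw [← hkE]
      exact Finset.smul_finset_subset_smul_finset hEo
    have := octad_of_E0_sub hko (fun p hp => hsub (Finset.mem_insert_of_mem hp))
    rw [← this]
    exact hsub (Finset.mem_insert_self _ _)
  · intro ha
    refine ⟨k⁻¹ • maskSet oct5, smul_octad_mem (M24.inv_mem hk) (maskSet_mem_octads isOct_oct5), ?_⟩
    intro p hp
    rw [mem_smul_perm_iff, inv_inv]
    have : k p ∈ k • E := (mem_smul_finset_perm k E p).mpr hp
    rw [hkE, Finset.mem_insert] at this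
    rcases this with h | h
    · rw [h]; exact ha
    · exact E0_sub_oct5 h

/-! ### Every permutation of a six-set is induced -/

/-- every permutation of the set is induced by an element of the group -/
def Induces (E : Finset GolayPt) : Prop :=
  ∀ τ : Equiv.Perm GolayPt, (∀ p ∈ E, τ p ∈ E) → ∃ g ∈ M24, ∀ p ∈ E, g p = τ p

theorem induces_of_smul {k : Equiv.Perm GolayPt} (hk : k ∈ M24) {E : Finset GolayPt} (h : Induces (k • E)) :
    Induces E := by
  intro τ hτ
  obtain ⟨g, hg, hgp⟩ := h (k * τ * k⁻¹) (by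
    intro p hp
    rw [mem_smul_perm_iff] at hp
    rw [Equiv.Perm.mul_apply, Equiv.Perm.mul_apply, mem_smul_finset_perm]
    exact hτ _ hp)
  refine ⟨k⁻¹ * g * k, M24.mul_mem (M24.mul_mem (M24.inv_mem hk) hg) hk, ?_⟩
  intro p hp
  rw [Equiv.Perm.mul_apply, Equiv.Perm.mul_apply, hgp _ ((mem_smul_finset_perm k E p).mpr hp),
    Equiv.Perm.mul_apply, Equiv.Perm.mul_apply, perm_inv_apply_self, perm_inv_apply_self]

theorem pt_mem_E0 {i : ℕ} (hi : i < 5) : pt i ∈ E0 := by
  rw [mem_ptsOf]
  exact ⟨i, by interval_cases i <;> simp, rfl⟩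

theorem mem_E0_iff (p : GolayPt) : p ∈ E0 ↔ ∃ i : Fin 5, p = ![pt 0, pt 1, pt 2, pt 3, pt 4] i := by
  constructor
  · intro hp
    rw [mem_ptsOf] at hp
    obtain ⟨f, hf, rfl⟩ := hp
    simp only [List.mem_cons, List.not_mem_nil, or_false] at hf
    rcases hf with rfl | rfl | rfl | rfl | rfl
    · exact ⟨4, rfl⟩
    · exact ⟨3, rfl⟩
    · exact ⟨2, rfl⟩
    · exact ⟨1, rfl⟩
    · exact ⟨0, rfl⟩
  · rintro ⟨i, rfl⟩
    fin_cases i
    · exact pt_mem_E0 (i := 0) (by norm_num)
    · exact pt_mem_E0 (i := 1) (by norm_num)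
    · exact pt_mem_E0 (i := 2) (by norm_num)
    · exact pt_mem_E0 (i := 3) (by norm_num)
    · exact pt_mem_E0 (i := 4) (by norm_num)

theorem induces_std {a : GolayPt} (ha0 : a ∉ E0) : Induces (insert a E0) := by
  intro τ hτ
  have hy : Function.Injective ![pt 0, pt 1, pt 2, pt 3, pt 4] := by decide
  have hτy : Function.Injective (fun i => τ (![pt 0, pt 1, pt 2, pt 3, pt 4] i)) := τ.injective.comp hy
  obtain ⟨g0, hg0, hmap⟩ := exists_M24_map_five _ _ hy hτy
  have hg0E : ∀ p ∈ E0, g0 p = τ p := by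
    intro p hp
    obtain ⟨i, rfl⟩ := (mem_E0_iff p).mp hp
    exact hmap i
  -- the image of `insert a E0` under `τ` is the whole set
  have hτE : ∀ p, p ∈ insert a E0 ↔ τ p ∈ insert a E0 := by
    have himg : (insert a E0).image τ = insert a E0 := by
      apply Finset.eq_of_subset_of_card_le
      · intro p hp
        obtain ⟨q, hq, rfl⟩ := Finset.mem_image.mp hp
        exact hτ q hq
      · rw [Finset.card_image_of_injective _ τ.injective]
    intro p
    constructor
    · exact hτ p
    · intro hp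
      rw [← himg] at hp
      obtain ⟨q, hq, hqp⟩ := Finset.mem_image.mp hp
      rwa [← τ.injective hqp]
  obtain ⟨a', ha'⟩ : ∃ a', a' = g0⁻¹ (τ a) := ⟨_, rfl⟩
  have ha'0 : a' ∉ E0 := by
    intro h
    have h1 := hg0E _ h
    rw [ha', perm_apply_inv_self] at h1
    have h2 := τ.injective h1
    rw [ha', ← h2] at h
    exact ha0 h
  have hex : ∃ h ∈ fixG E0, h a = a' := by
    by_cases ha : a ∈ maskSet oct5
    · -- `g0` stabilises the standard octad
      have hsub : insert a E0 ⊆ maskSet oct5 := by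
        intro p hp
        rcases Finset.mem_insert.mp hp with rfl | hp
        · exact ha
        · exact E0_sub_oct5 hp
      have hg0o : g0 • maskSet oct5 = maskSet oct5 := by
        apply smul_octad_eq hg0 (maskSet_mem_octads isOct_oct5) (maskSet_mem_octads isOct_oct5) _ hy
        · intro i
          exact E0_sub_oct5 ((mem_E0_iff _).mpr ⟨i, rfl⟩)
        · intro i
          rw [hmap i]
          exact hsub (hτ _ (Finset.mem_insert_of_mem ((mem_E0_iff _).mpr ⟨i, rfl⟩)))
      have ha'o : a' ∈ maskSet oct5 := by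
        have h1 : τ a ∈ maskSet oct5 := hsub (hτ a (Finset.mem_insert_self _ _))
        rw [← hg0o, mem_smul_perm_iff] at h1
        rw [ha']
        exact h1
      exact fix_trans_in ha ha0 ha'o ha'0
    · have ha'o : a' ∉ maskSet oct5 := by
        intro h
        -- the octad `g0 • oct5` contains `insert a E0`
        have ho'' : g0 • maskSet oct5 ∈ octads := smul_octad_mem hg0 (maskSet_mem_octads isOct_oct5)
        have hsub : insert a E0 ⊆ g0 • maskSet oct5 := by
          intro p hp
          have hp' := (hτE p).mp hp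
          -- every element of the set is `τ q` for some `q` in it
          have himg : (insert a E0).image τ = insert a E0 := by
            apply Finset.eq_of_subset_of_card_le
            · intro p hp
              obtain ⟨q, hq, rfl⟩ := Finset.mem_image.mp hp
              exact hτ q hq
            · rw [Finset.card_image_of_injective _ τ.injective]
          rw [← himg] at hp
          obtain ⟨q, hq, rfl⟩ := Finset.mem_image.mp hp
          rcases Finset.mem_insert.mp hq with rfl | hq
          · rw [mem_smul_perm_iff, ← ha']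
            exact h
          · rw [← hg0E q hq, mem_smul_finset_perm]
            exact E0_sub_oct5 hq
        have := octad_of_E0_sub ho'' (fun p hp => hsub (Finset.mem_insert_of_mem hp))
        rw [this] at hsub
        exact ha (hsub (Finset.mem_insert_self _ _))
      exact fix_trans_out ha ha'o
  obtain ⟨h, hh, hha⟩ := hex
  have hh' := (mem_fixG E0 h).mp hh
  refine ⟨g0 * h, M24.mul_mem hg0 hh'.1, ?_⟩
  intro p hp
  rcases Finset.mem_insert.mp hp with rfl | hp
  · rw [Equiv.Perm.mul_apply, hha, ha', perm_apply_inv_self]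
  · rw [Equiv.Perm.mul_apply, hh'.2 p hp, hg0E p hp]

theorem induces_six (E : Finset GolayPt) (hE : E.card = 6) : Induces E := by
  obtain ⟨k, hk, a, ha0, hkE⟩ := normalize_six E hE
  apply induces_of_smul hk
  rw [hkE]
  exact induces_std ha0

theorem card_subtype_fix (E : Finset GolayPt) :
    Nat.card {g : Equiv.Perm GolayPt // g ∈ M24 ∧ ∀ p ∈ E, g p = p} = Nat.card (fixG E) :=
  Nat.card_congr (Equiv.subtypeEquivRight (fun g => (mem_fixG E g).symm))

theorem smul_eq_of_maps {g : Equiv.Perm GolayPt} {E : Finset GolayPt} (h : ∀ p ∈ E, g p ∈ E) : g • E = E := by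
  apply Finset.eq_of_subset_of_card_le
  · intro p hp
    rw [mem_smul_perm_iff] at hp
    have := h _ hp
    rwa [perm_apply_inv_self] at this
  · rw [Finset.card_smul_finset]

theorem six_sets (E : Finset GolayPt) (hE : E.card = 6) :
    (∀ σ : Equiv.Perm ↥E, ∃ g ∈ M24, ∀ p : ↥E, g p = σ p) ∧
    ((∃ o ∈ octads, E ⊆ o) → Nat.card {g : Equiv.Perm GolayPt // g ∈ M24 ∧ ∀ p ∈ E, g p = p} = 16) ∧
    ((¬ ∃ o ∈ octads, E ⊆ o) → Nat.card {g : Equiv.Perm GolayPt // g ∈ M24 ∧ ∀ p ∈ E, g p = p} = 3 ∧
      Nat.card ↥(MulAction.stabilizer M24 E) = 2160) := by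
  have hind := induces_six E hE
  obtain ⟨k, hk, a, ha0, hkE⟩ := normalize_six E hE
  have hoct := in_octad_iff hk hkE
  refine ⟨?_, ?_, ?_⟩
  · intro σ
    obtain ⟨g, hg, hgp⟩ := hind (Equiv.Perm.ofSubtype σ) (by
      intro p hp
      rw [Equiv.Perm.ofSubtype_apply_of_mem σ hp]
      exact (σ ⟨p, hp⟩).2)
    refine ⟨g, hg, fun p => ?_⟩
    rw [hgp p.1 p.2, Equiv.Perm.ofSubtype_apply_coe]
  · intro h
    rw [card_subtype_fix, ← card_fixG_smul hk E, hkE]
    exact card_fixG_in (hoct.mp h) ha0
  · intro h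
    have h3 : Nat.card (fixG E) = 3 := by
      rw [← card_fixG_smul hk E, hkE]
      exact card_fixG_out (fun hc => h (hoct.mpr hc))
    refine ⟨by rw [card_subtype_fix, h3], ?_⟩
    let f : ↥(MulAction.stabilizer M24 E) →* Equiv.Perm GolayPt :=
      M24.subtype.comp (MulAction.stabilizer M24 E).subtype
    have hf : Function.Injective f :=
      M24.subtype_injective.comp (MulAction.stabilizer M24 E).subtype_injective
    have hstab : ∀ g : ↥(MulAction.stabilizer M24 E), f g • E = E := fun g =>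
      MulAction.mem_stabilizer_iff.mp g.2
    have hrange : fixG E ≤ f.range := by
      intro x hx
      have hx' := (mem_fixG E x).mp hx
      have hxE : x • E = E := smul_eq_of_maps (fun p hp => by rw [hx'.2 p hp]; exact hp)
      exact ⟨⟨⟨x, hx'.1⟩, MulAction.mem_stabilizer_iff.mpr hxE⟩, rfl⟩
    have hcardK : Nat.card ((fixG E).comap f) = 3 := by
      rw [← Subgroup.card_map_of_injective hf, Subgroup.map_comap_eq, inf_eq_right.mpr hrange, h3]
    have := card_eq_factorial_mul_of_surj (J := ↥(MulAction.stabilizer M24 E)) E 6 hE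
      (fun g p hp => by
        have : f g p ∈ f g • E := (mem_smul_finset_perm _ _ p).mpr hp
        rw [hstab g] at this
        exact this)
      (fun τ hτ => by
        obtain ⟨g, hg, hgp⟩ := hind τ hτ
        have hgE : g • E = E := smul_eq_of_maps (fun p hp => by rw [hgp p hp]; exact hτ p hp)
        exact ⟨⟨⟨g, hg⟩, MulAction.mem_stabilizer_iff.mpr hgE⟩, fun p hp => hgp p hp⟩)
      ((fixG E).comap f)
      (fun g => by
        rw [Subgroup.mem_comap, mem_fixG]
        constructor
        · intro h p hp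
          exact h.2 p hp
        · intro h
          exact ⟨(g : ↥M24).2, fun p hp => h p hp⟩)
    rw [this, hcardK]
    rfl

end Cfsg.Agent.Helper27
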