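import Cfsg.Agent.Helper27.GolayFacts

/-!
The octads of `Cfsg.golayCode` form a Steiner system S(5, 8, 24).
-/

set_option autoImplicit false

namespace Cfsg.Agent.Helper27

open Cfsg

theorem support₂_add (v w : GolayPt → ZMod 2) : support₂ (v + w) = symmDiff (support₂ v) (support₂ w) := by
  ext p
  have hz : ∀ z : ZMod 2, z = 0 ∨ z = 1 := by decide
  simp only [support₂, Finset.mem_filter, Finset.mem_univ, true_and, Pi.add_apply, Finset.mem_symmDiff]
  have h11 : (1 : ZMod 2) + 1 = 0 := by decide
  rcases hz (v p) with hv | hv <;> rcases hz (w p) with hw | hw <;> simp [hv, hw, h11]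

theorem card_symmDiff_add (b c : Finset GolayPt) : (symmDiff b c).card + 2 * (b ∩ c).card = b.card + c.card := by
  have h1 : symmDiff b c = (b \ c) ∪ (c \ b) := rfl
  have hd : Disjoint (b \ c) (c \ b) := by
    rw [Finset.disjoint_left]
    intro x hx hx'
    simp only [Finset.mem_sdiff] at hx hx'
    exact hx.2 hx'.1
  rw [h1, Finset.card_union_of_disjoint hd]
  have h2 := Finset.card_sdiff_add_card_inter b c
  have h3 := Finset.card_sdiff_add_card_inter c b
  rw [Finset.inter_comm c b] at h3
  omega

theorem octads_ncard : octads.ncard = 759 := by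
  have h : countBelow (fun k => popc 24 (cw k) == 8) 4096 = 759 := by
    decide +kernel
  show (wordsOfWeight (golayCode : Set (GolayPt → ZMod 2)) 8).ncard = 759
  rw [wordsOfWeight_ncard, h]

theorem octad_card {b : Finset GolayPt} (hb : b ∈ octads) : b.card = 8 := hb.2

theorem octad_exists_word {b : Finset GolayPt} (hb : b ∈ octads) : ∃ v ∈ golayCode, support₂ v = b := by
  obtain ⟨⟨v, hv, rfl⟩, _⟩ := hb
  exact ⟨v, hv, rfl⟩

/-- two octads with at least five common points coincide -/
theorem octad_eq_of_inter {b c : Finset GolayPt} (hb : b ∈ octads) (hc : c ∈ octads) (h : 5 ≤ (b ∩ c).card) :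
    b = c := by
  obtain ⟨v, hv, rfl⟩ := octad_exists_word hb
  obtain ⟨w, hw, rfl⟩ := octad_exists_word hc
  have hvw : v + w ∈ golayCode := golayCode.add_mem hv hw
  have h1 := card_symmDiff_add (support₂ v) (support₂ w)
  rw [octad_card hb, octad_card hc, ← support₂_add] at h1
  have h2 : hammingNorm (v + w) < 8 := by
    rw [← card_support_eq_hammingNorm]; omega
  have h3 := golay_eq_zero_of_weight_lt hvw h2
  have h4 : v = w := by
    have h5 : v = -w := eq_neg_of_add_eq_zero_left h3
    rw [h5]
    funext p
    have hz : ∀ z : ZMod 2, -z = z := by decide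
    exact hz _
  rw [h4]

theorem octads_finite : (octads : Set (Finset GolayPt)).Finite := Set.toFinite _

theorem octads_steiner : IsSteinerSystem 5 8 octads := by
  classical
  refine ⟨fun b hb => hb.2, ?_⟩
  intro s hs
  -- the finset of octads
  set O : Finset (Finset GolayPt) := octads_finite.toFinset with hO
  have hOmem : ∀ b, b ∈ O ↔ b ∈ octads := fun b => Set.Finite.mem_toFinset _
  have hOcard : O.card = 759 := by
    rw [← octads_ncard, Set.ncard_eq_toFinset_card _ octads_finite]
  -- five-subsets of octads are pairwise disjoint families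
  have hdisj : (O : Set (Finset GolayPt)).PairwiseDisjoint (fun b => b.powersetCard 5) := by
    intro b hb c hc hbc
    rw [Function.onFun, Finset.disjoint_left]
    intro t ht ht'
    rw [Finset.mem_powersetCard] at ht ht'
    apply hbc
    apply octad_eq_of_inter ((hOmem b).mp hb) ((hOmem c).mp hc)
    have : t ⊆ b ∩ c := Finset.subset_inter ht.1 ht'.1
    calc 5 = t.card := ht.2.symm
      _ ≤ (b ∩ c).card := Finset.card_le_card this
  have hcard : (O.biUnion (fun b => b.powersetCard 5)).card = 42504 := by
    rw [Finset.card_biUnion hdisj]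
    have : ∀ b ∈ O, (b.powersetCard 5).card = 56 := by
      intro b hb
      rw [Finset.card_powersetCard, octad_card ((hOmem b).mp hb)]
      rfl
    rw [Finset.sum_const_nat this, hOcard]
  have hsub : O.biUnion (fun b => b.powersetCard 5) ⊆ (Finset.univ : Finset GolayPt).powersetCard 5 := by
    intro t ht
    rw [Finset.mem_biUnion] at ht
    obtain ⟨b, _, htb⟩ := ht
    rw [Finset.mem_powersetCard] at htb ⊢
    exact ⟨Finset.subset_univ _, htb.2⟩
  have htot : ((Finset.univ : Finset GolayPt).powersetCard 5).card = 42504 := by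
    rw [Finset.card_powersetCard]
    have : (Finset.univ : Finset GolayPt).card = 24 := by
      rw [Finset.card_univ]; simp [GolayPt]
    rw [this]
    rfl
  have heq : O.biUnion (fun b => b.powersetCard 5) = (Finset.univ : Finset GolayPt).powersetCard 5 :=
    Finset.eq_of_subset_of_card_le hsub (by rw [htot, hcard])
  have hs' : s ∈ O.biUnion (fun b => b.powersetCard 5) := by
    rw [heq, Finset.mem_powersetCard]
    exact ⟨Finset.subset_univ _, hs⟩
  rw [Finset.mem_biUnion] at hs'
  obtain ⟨b, hb, hsb⟩ := hs'
  rw [Finset.mem_powersetCard] at hsb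
  refine ⟨b, ⟨(hOmem b).mp hb, hsb.1⟩, ?_⟩
  rintro c ⟨hc, hsc⟩
  apply octad_eq_of_inter hc ((hOmem b).mp hb)
  have : s ⊆ c ∩ b := Finset.subset_inter hsc hsb.1
  calc 5 = s.card := hs.symm
    _ ≤ (c ∩ b).card := Finset.card_le_card this

end Cfsg.Agent.Helper27
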