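import Cfsg.Agent.Helper27.M24Three
import Cfsg.Agent.Helper27.M24InvolClass

/-!
The two classes of elements (and of subgroups) of order three of `Cfsg.M24`.
-/

set_option autoImplicit false

namespace Cfsg.Agent.Helper27

open Cfsg
open scoped Pointwise

theorem tblCube_of_cube {g : Equiv.Perm GolayPt} {T : List ℕ} (h : Represents g T)
    (hc : ∀ p, g (g (g p)) = p) : tblCube T = true := by
  simp only [tblCube, List.all_eq_true, List.mem_range, beq_iff_eq]
  intro j hj
  have h1 := h.2 (pt j)
  rw [idx_pt hj] at h1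
  have h2 := h.2 (g (pt j))
  rw [h1] at h2
  have h3 := h.2 (g (g (pt j)))
  rw [h2, hc, idx_pt hj] at h3
  exact h3.symm

theorem t3T_valid : validTbl t3T = true := by decide +kernel
theorem wAT_valid : validTbl wAT = true := by decide +kernel
theorem wBT_valid : validTbl wBT = true := by decide +kernel

/-- the representative of order three with six fixed points -/
noncomputable def wA : Equiv.Perm GolayPt := tblPerm wAT wAT_valid

/-- the fixed-point-free representative of order three -/
noncomputable def wB : Equiv.Perm GolayPt := tblPerm wBT wBT_valid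

theorem wA_mem : wA ∈ M24 := tblPerm_mem_M24 wAT wAT_valid (by decide +kernel)
theorem wB_mem : wB ∈ M24 := tblPerm_mem_M24 wBT wBT_valid (by decide +kernel)

theorem wA_order : orderOf wA = 3 := by
  have : Fact (Nat.Prime 3) := ⟨Nat.prime_three⟩
  exact tblPerm_orderOf wAT_valid (by decide +kernel)

theorem wB_order : orderOf wB = 3 := by
  have : Fact (Nat.Prime 3) := ⟨Nat.prime_three⟩
  exact tblPerm_orderOf wBT_valid (by decide +kernel)

theorem wA_fixed_card : (Finset.univ.filter fun p => wA p = p).card = 6 := by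
  rw [wA, fixed_filter_eq (tblPerm_represents wAT wAT_valid), card_maskSet]
  decide +kernel

theorem wB_fixed_card : (Finset.univ.filter fun p => wB p = p).card = 0 := by
  rw [wB, fixed_filter_eq (tblPerm_represents wBT wBT_valid), card_maskSet]
  decide +kernel

/-- `M24` contains no element moving at most three points -/
theorem no_three_cycle_in_M24 {c : Equiv.Perm GolayPt} (hc : c ∈ M24) (h1 : c none = some 0) (q : GolayPt)
    (hfix : ∀ p, p ≠ none → p ≠ some 0 → p ≠ q → c p = p) : False := by
  have hO := maskSet_mem_octads octNone_isOct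
  have hcO := smul_octad_mem hc hO
  have hsub : ((maskSet octNone).erase none).erase q ⊆ maskSet octNone ∩ c • maskSet octNone := by
    intro p hp
    rw [Finset.mem_erase, Finset.mem_erase] at hp
    obtain ⟨hpq, hpn, hpo⟩ := hp
    rw [Finset.mem_inter]
    refine ⟨hpo, ?_⟩
    have hp0 : p ≠ some 0 := fun h => zero_not_mem_octNone (h ▸ hpo)
    have h3 : c p = p := hfix p hpn hp0 hpq
    have h4 : c p ∈ c • maskSet octNone := (mem_smul_finset_perm c _ p).mpr hpo
    rwa [h3] at h4
  have hcard : 5 ≤ (maskSet octNone ∩ c • maskSet octNone).card := by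
    refine le_trans ?_ (Finset.card_le_card hsub)
    have h7 : ((maskSet octNone).erase none).card = 7 := by
      rw [Finset.card_erase_of_mem none_mem_octNone, hO.2]
    have h2 := Finset.pred_card_le_card_erase (s := (maskSet octNone).erase none) (a := q)
    omega
  have heq := octad_eq_of_inter hO hcO hcard
  apply zero_not_mem_octNone
  rw [heq, ← h1]
  exact (mem_smul_finset_perm c _ none).mpr none_mem_octNone

/-- an element of order three of `M24` has a 3-cycle and a further moved point -/
theorem exists_cycle_and_moved {g : Equiv.Perm GolayPt} (hg : g ∈ M24) (hne : g ≠ 1)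
    (hc : ∀ p, g (g (g p)) = p) :
    ∃ a c, g a ≠ a ∧ g c ≠ c ∧ c ≠ a ∧ c ≠ g a ∧ c ≠ g (g a) := by
  have hex : ∃ a, g a ≠ a := by
    by_contra hcon
    push Not at hcon
    exact hne (Equiv.ext hcon)
  obtain ⟨a, ha⟩ := hex
  by_contra hcon
  push Not at hcon
  have hfixall : ∀ c, c ≠ a → c ≠ g a → c ≠ g (g a) → g c = c := by
    intro c hca hcb hcc
    by_contra hc'
    exact hcc (hcon a c ha hc' hca hcb)
  have h12 : g a ≠ g (g a) := fun h => ha (g.injective h).symm
  have h02 : a ≠ g (g a) := by
    intro h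
    apply ha
    have := congrArg g h
    rw [hc] at this
    exact this
  have hx : Function.Injective ![a, g a, g (g a)] := by
    rw [← List.nodup_ofFn]
    simp [List.ofFn_succ, Ne.symm ha, h12, h02]
  have hy : Function.Injective ![(none : GolayPt), some 0, some 1] := by decide
  obtain ⟨k, hk, hmap⟩ := exists_M24_map_k (by norm_num) ![a, g a, g (g a)] ![(none : GolayPt), some 0, some 1] hx hy
  have k0 : k a = none := hmap 0
  have k1 : k (g a) = some 0 := hmap 1
  have k2 : k (g (g a)) = some 1 := hmap 2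
  apply no_three_cycle_in_M24 (c := k * g * k⁻¹) (M24.mul_mem (M24.mul_mem hk hg) (M24.inv_mem hk)) ?_ (some 1)
  · intro p hp1 hp2 hp3
    rw [Equiv.Perm.mul_apply, Equiv.Perm.mul_apply]
    have h1 : k⁻¹ p ≠ a := by
      intro h
      apply hp1
      rw [← k0, ← h, perm_apply_inv_self]
    have h2 : k⁻¹ p ≠ g a := by
      intro h
      apply hp2
      rw [← k1, ← h, perm_apply_inv_self]
    have h3 : k⁻¹ p ≠ g (g a) := by
      intro h
      apply hp3
      rw [← k2, ← h, perm_apply_inv_self]
    rw [hfixall _ h1 h2 h3, perm_apply_inv_self]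
  · rw [Equiv.Perm.mul_apply, Equiv.Perm.mul_apply, ← k0, perm_inv_apply_self, k1]

/-- an element of order three with the normalised images is conjugate to one of the two representatives -/
theorem three_normalized {g : Equiv.Perm GolayPt} (hg : g ∈ M24) (h0 : g (pt 0) = pt 1) (h1 : g (pt 1) = pt 2)
    (h2 : g (pt 2) = pt 0) (h3 : g (pt 3) = pt 4) (hc : ∀ p, g (g (g p)) = p) :
    (∃ k ∈ M24, k * g = wA * k) ∨ (∃ k ∈ M24, k * g = wB * k) := by
  have ht0 : tblPerm t3T t3T_valid ∈ M24 := tblPerm_mem_M24 t3T t3T_valid (by decide +kernel)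
  have e0 : tblPerm t3T t3T_valid (pt 0) = pt 1 := by rw [tblPerm_pt t3T t3T_valid (by norm_num)]; rfl
  have e1 : tblPerm t3T t3T_valid (pt 1) = pt 2 := by rw [tblPerm_pt t3T t3T_valid (by norm_num)]; rfl
  have e2 : tblPerm t3T t3T_valid (pt 2) = pt 0 := by rw [tblPerm_pt t3T t3T_valid (by norm_num)]; rfl
  have e3 : tblPerm t3T t3T_valid (pt 3) = pt 4 := by rw [tblPerm_pt t3T t3T_valid (by norm_num)]; rfl
  have hs : (tblPerm t3T t3T_valid)⁻¹ * g ∈ fixG (ptsOf [3, 2, 1, 0]) := by
    rw [mem_fixG]
    refine ⟨M24.mul_mem (M24.inv_mem ht0) hg, ?_⟩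
    intro q hq
    have hq' : q = pt 3 ∨ q = pt 2 ∨ q = pt 1 ∨ q = pt 0 := by simpa [ptsOf] using hq
    rcases hq' with rfl | rfl | rfl | rfl
    · rw [Equiv.Perm.mul_apply, h3, Equiv.Perm.inv_eq_iff_eq, e3]
    · rw [Equiv.Perm.mul_apply, h2, Equiv.Perm.inv_eq_iff_eq, e2]
    · rw [Equiv.Perm.mul_apply, h1, Equiv.Perm.inv_eq_iff_eq, e1]
    · rw [Equiv.Perm.mul_apply, h0, Equiv.Perm.inv_eq_iff_eq, e0]
  obtain ⟨T, hr, hP⟩ := m24_tail_enum threeP (tblPerm_represents t3T t3T_valid) three_check hs
  have hgs : tblPerm t3T t3T_valid * ((tblPerm t3T t3T_valid)⁻¹ * g) = g := by group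
  rw [hgs] at hr
  have hcube := tblCube_of_cube hr hc
  simp only [threeP, hcube, Bool.not_true, Bool.false_or] at hP
  unfold certOK3 at hP
  split at hP
  · exact absurd hP (by simp)
  · rename_i c _
    simp only [Bool.and_eq_true, beq_iff_eq] at hP
    obtain ⟨⟨hvK, hcK⟩, hconj⟩ := hP
    have hk : tblPerm c.2 hvK ∈ M24 := tblPerm_mem_M24 _ hvK hcK
    have hrk := tblPerm_represents c.2 hvK
    by_cases hm : fixMaskT T = 0
    · right
      refine ⟨tblPerm c.2 hvK, hk, ?_⟩
      rw [if_pos hm] at hconj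
      apply represents_unique (represents_compT hrk hr)
      rw [hconj]
      exact represents_compT (tblPerm_represents wBT wBT_valid) hrk
    · left
      refine ⟨tblPerm c.2 hvK, hk, ?_⟩
      rw [if_neg hm] at hconj
      apply represents_unique (represents_compT hrk hr)
      rw [hconj]
      exact represents_compT (tblPerm_represents wAT wAT_valid) hrk

theorem cube_apply_of_orderOf {g : Equiv.Perm GolayPt} (hord : orderOf g = 3) (p : GolayPt) : g (g (g p)) = p := by
  have h := pow_orderOf_eq_one g
  rw [hord] at h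
  have := congrArg (fun f : Equiv.Perm GolayPt => f p) h
  simpa [pow_succ] using this

/-- the classification of the elements of order three of `M24` -/
theorem three_class {g : Equiv.Perm GolayPt} (hg : g ∈ M24) (hord : orderOf g = 3) :
    (∃ k ∈ M24, k * g * k⁻¹ = wA) ∨ (∃ k ∈ M24, k * g * k⁻¹ = wB) := by
  have hc := cube_apply_of_orderOf hord
  have hne : g ≠ 1 := by
    intro h
    rw [h, orderOf_one] at hord
    exact absurd hord (by norm_num)
  obtain ⟨a, c, ha, hcm, hca, hcb, hcc⟩ := exists_cycle_and_moved hg hne hc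
  have h12 : g a ≠ g (g a) := fun h => ha (g.injective h).symm
  have h02 : a ≠ g (g a) := by
    intro h
    apply ha
    have := congrArg g h
    rw [hc] at this
    exact this
  have hgc0 : a ≠ g c := by
    intro h
    apply hcc
    have := congrArg (fun x => g (g x)) h
    simp only [hc] at this
    exact this.symm
  have hgc1 : g a ≠ g c := fun h => hca (g.injective h).symm
  have hgc2 : g (g a) ≠ g c := fun h => hcb (g.injective h).symm
  have hx : Function.Injective ![a, g a, g (g a), c, g c] :=
    injective_vec5 (Ne.symm ha) h02 (Ne.symm hca) hgc0 h12 (Ne.symm hcb) hgc1 (Ne.symm hcc) hgc2 (Ne.symm hcm)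
  have hy : Function.Injective ![pt 0, pt 1, pt 2, pt 3, pt 4] := by decide
  obtain ⟨k, hk, hmap⟩ := exists_M24_map_five _ _ hx hy
  have k0 : k a = pt 0 := hmap 0
  have k1 : k (g a) = pt 1 := hmap 1
  have k2 : k (g (g a)) = pt 2 := hmap 2
  have k3 : k c = pt 3 := hmap 3
  have k4 : k (g c) = pt 4 := hmap 4
  have hg' : k * g * k⁻¹ ∈ M24 := M24.mul_mem (M24.mul_mem hk hg) (M24.inv_mem hk)
  have e0 : (k * g * k⁻¹) (pt 0) = pt 1 := by
    rw [Equiv.Perm.mul_apply, Equiv.Perm.mul_apply, ← k0, perm_inv_apply_self, k1]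
  have e1 : (k * g * k⁻¹) (pt 1) = pt 2 := by
    rw [Equiv.Perm.mul_apply, Equiv.Perm.mul_apply, ← k1, perm_inv_apply_self, k2]
  have e2 : (k * g * k⁻¹) (pt 2) = pt 0 := by
    rw [Equiv.Perm.mul_apply, Equiv.Perm.mul_apply, ← k2, perm_inv_apply_self, hc, k0]
  have e3 : (k * g * k⁻¹) (pt 3) = pt 4 := by
    rw [Equiv.Perm.mul_apply, Equiv.Perm.mul_apply, ← k3, perm_inv_apply_self, k4]
  have hc' : ∀ p, (k * g * k⁻¹) ((k * g * k⁻¹) ((k * g * k⁻¹) p)) = p := by
    intro p
    simp only [Equiv.Perm.mul_apply, perm_inv_apply_self, hc, perm_apply_inv_self]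
  rcases three_normalized hg' e0 e1 e2 e3 hc' with ⟨k', hk', hconj⟩ | ⟨k', hk', hconj⟩
  · left
    refine ⟨k' * k, M24.mul_mem hk' hk, ?_⟩
    have : k' * k * g * (k' * k)⁻¹ = (k' * (k * g * k⁻¹)) * k'⁻¹ := by group
    rw [this, hconj]; group
  · right
    refine ⟨k' * k, M24.mul_mem hk' hk, ?_⟩
    have : k' * k * g * (k' * k)⁻¹ = (k' * (k * g * k⁻¹)) * k'⁻¹ := by group
    rw [this, hconj]; group

/-- conjugation preserves the number of fixed points -/
theorem fixed_card_conj (k g : Equiv.Perm GolayPt) :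
    (Finset.univ.filter fun p => (k * g * k⁻¹) p = p).card = (Finset.univ.filter fun p => g p = p).card := by
  have : (Finset.univ.filter fun p => (k * g * k⁻¹) p = p) = k • (Finset.univ.filter fun p => g p = p) := by
    ext p
    rw [mem_smul_perm_iff, Finset.mem_filter, Finset.mem_filter]
    simp only [Finset.mem_univ, true_and, Equiv.Perm.mul_apply]
    constructor
    · intro h
      have := congrArg (fun x => k⁻¹ x) h
      simp only [perm_inv_apply_self] at this
      exact this
    · intro h
      rw [h, perm_apply_inv_self]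
  rw [this, Finset.card_smul_finset]

/-- the classification of the elements of order three, with fixed points -/
theorem three_class_fixed {g : Equiv.Perm GolayPt} (hg : g ∈ M24) (hord : orderOf g = 3) :
    ((Finset.univ.filter fun p => g p = p).card = 6 ∧ ∃ k ∈ M24, k * g * k⁻¹ = wA) ∨
    ((Finset.univ.filter fun p => g p = p).card = 0 ∧ ∃ k ∈ M24, k * g * k⁻¹ = wB) := by
  rcases three_class hg hord with ⟨k, hk, e⟩ | ⟨k, hk, e⟩
  · left
    refine ⟨?_, k, hk, e⟩
    rw [← fixed_card_conj k g, e, wA_fixed_card]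
  · right
    refine ⟨?_, k, hk, e⟩
    rw [← fixed_card_conj k g, e, wB_fixed_card]

end Cfsg.Agent.Helper27
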