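import Cfsg.Agent.Helper27.M24Cent
import Cfsg.Agent.Helper27.M24ThreeClass

/-!
Involutions of `Cfsg.M24` commuting with an element of order three.
-/

set_option autoImplicit false

namespace Cfsg.Agent.Helper27

open Cfsg
open scoped Pointwise

/-- a representative of order three with six fixed points, adapted to the base -/
def wA2T : List ℕ := [1, 2, 0, 4, 7, 5, 6, 3, 21, 20, 10, 14, 12, 13, 19, 15, 17, 18, 16, 11, 23, 22, 8, 9]

/-- a fixed-point-free representative of order three, adapted to the base -/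
def wB2T : List ℕ := [1, 2, 0, 4, 5, 3, 8, 18, 22, 14, 9, 20, 19, 15, 10, 16, 13, 7, 17, 23, 21, 11, 6, 12]

def csA2 : List (List (ℕ × ℕ)) := [[], [(0, 1)], [(1, 2), (2, 0)], [], [(3, 4)], [(5, 5)], [(4, 6), (6, 3)]]

def csB2 : List (List (ℕ × ℕ)) := [[], [(0, 1)], [(1, 2), (2, 0)], [], [(3, 4)], [(4, 5), (5, 3)], []]

/-- conjugates `wA2T` to `wAT` -/
def conjAT : List ℕ := [21, 8, 5, 11, 13, 17, 10, 14, 16, 3, 22, 9, 19, 20, 23, 12, 1, 2, 0, 15, 4, 18, 6, 7]

/-- conjugates `wB2T` to `wBT` -/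
def conjBT : List ℕ := [23, 14, 20, 1, 2, 0, 5, 18, 6, 11, 19, 8, 16, 4, 7, 9, 3, 12, 22, 21, 15, 17, 10, 13]

theorem wA2T_valid : validTbl wA2T = true := by decide +kernel
theorem wB2T_valid : validTbl wB2T = true := by decide +kernel
theorem conjAT_valid : validTbl conjAT = true := by decide +kernel
theorem conjBT_valid : validTbl conjBT = true := by decide +kernel

noncomputable def wA2 : Equiv.Perm GolayPt := tblPerm wA2T wA2T_valid
noncomputable def wB2 : Equiv.Perm GolayPt := tblPerm wB2T wB2T_valid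

theorem conj_to_rep {w w2 : Equiv.Perm GolayPt} {W W2 C : List ℕ} (hW : Represents w W) (hW2 : Represents w2 W2)
    (hv : validTbl C = true) (hcode : tblInCode C = true) (hC : compT C W2 = compT W C)
    {x : Equiv.Perm GolayPt} (h : ∃ k ∈ M24, k * x * k⁻¹ = w) : ∃ m ∈ M24, m * x * m⁻¹ = w2 := by
  obtain ⟨k, hk, e⟩ := h
  have hc : tblPerm C hv ∈ M24 := tblPerm_mem_M24 C hv hcode
  have hr := tblPerm_represents C hv
  have h1 : tblPerm C hv * w2 = w * tblPerm C hv := by
    apply represents_unique (represents_compT hr hW2)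
    rw [hC]
    exact represents_compT hW hr
  refine ⟨(tblPerm C hv)⁻¹ * k, M24.mul_mem (M24.inv_mem hc) hk, ?_⟩
  have : (tblPerm C hv)⁻¹ * k * x * ((tblPerm C hv)⁻¹ * k)⁻¹ = (tblPerm C hv)⁻¹ * (k * x * k⁻¹) * tblPerm C hv := by
    group
  rw [this, e, mul_assoc, ← h1]
  group

theorem exists_conj_wA2 {x : Equiv.Perm GolayPt} (h : ∃ k ∈ M24, k * x * k⁻¹ = wA) :
    ∃ m ∈ M24, m * x * m⁻¹ = wA2 :=
  conj_to_rep (tblPerm_represents wAT wAT_valid) (tblPerm_represents wA2T wA2T_valid) conjAT_valid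
    (by decide +kernel) (by decide +kernel) h

theorem exists_conj_wB2 {x : Equiv.Perm GolayPt} (h : ∃ k ∈ M24, k * x * k⁻¹ = wB) :
    ∃ m ∈ M24, m * x * m⁻¹ = wB2 :=
  conj_to_rep (tblPerm_represents wBT wBT_valid) (tblPerm_represents wB2T wB2T_valid) conjBT_valid
    (by decide +kernel) (by decide +kernel) h

set_option maxRecDepth 100000 in
theorem invol_cent_wA2 : (enumL chainL [] idT (okC wA2T csA2)).all
    (fun T => !(tblInvol T) || T == idT || popc 24 (fixMaskT T) == 8) = true := by decide +kernel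

set_option maxRecDepth 100000 in
theorem invol_cent_wB2 : (enumL chainL [] idT (okC wB2T csB2)).all
    (fun T => !(tblInvol T) || T == idT || fixMaskT T == 0) = true := by decide +kernel

theorem tblOf_ne_idT {s : Equiv.Perm GolayPt} (hs : s ≠ 1) : tblOf s ≠ idT := by
  intro h
  apply hs
  have := represents_tblOf s
  rw [h] at this
  exact represents_unique this represents_one

theorem invol_commuting_wA2 {s : Equiv.Perm GolayPt} (hs : s ∈ M24) (h2 : orderOf s = 2) (hc : s * wA2 = wA2 * s) :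
    (Finset.univ.filter fun p => s p = p).card = 8 := by
  have hr := tblPerm_represents wA2T wA2T_valid
  have hmem := conj_enum_sound (cs := csA2) hs hr hr (by decide +kernel) hc
  have hP := List.all_eq_true.mp invol_cent_wA2 _ hmem
  have hinv := tblInvol_of_sq (represents_tblOf s) (sq_eq_one_of_orderOf h2)
  have hne : s ≠ 1 := by
    intro h
    rw [h, orderOf_one] at h2
    exact absurd h2 (by norm_num)
  have hne' : (tblOf s == idT) = false := by
    rw [beq_eq_false_iff_ne]
    exact tblOf_ne_idT hne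
  simp only [hinv, hne', Bool.not_true, Bool.false_or, beq_iff_eq] at hP
  rw [fixed_filter_eq (represents_tblOf s), card_maskSet, hP]

theorem invol_commuting_wB2 {s : Equiv.Perm GolayPt} (hs : s ∈ M24) (h2 : orderOf s = 2) (hc : s * wB2 = wB2 * s) :
    (Finset.univ.filter fun p => s p = p).card = 0 := by
  have hr := tblPerm_represents wB2T wB2T_valid
  have hmem := conj_enum_sound (cs := csB2) hs hr hr (by decide +kernel) hc
  have hP := List.all_eq_true.mp invol_cent_wB2 _ hmem
  have hinv := tblInvol_of_sq (represents_tblOf s) (sq_eq_one_of_orderOf h2)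
  have hne : s ≠ 1 := by
    intro h
    rw [h, orderOf_one] at h2
    exact absurd h2 (by norm_num)
  have hne' : (tblOf s == idT) = false := by
    rw [beq_eq_false_iff_ne]
    exact tblOf_ne_idT hne
  simp only [hinv, hne', Bool.not_true, Bool.false_or, beq_iff_eq] at hP
  rw [fixed_filter_eq (represents_tblOf s), card_maskSet, hP]
  decide +kernel

/-- a commuting pair of an element of order three and an involution in `M24` -/
theorem commuting_three_two {x s : Equiv.Perm GolayPt} (hx : x ∈ M24) (hs : s ∈ M24) (h3 : orderOf x = 3)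
    (h2 : orderOf s = 2) (hc : Commute x s) :
    ((Finset.univ.filter fun p => x p = p).card = 6 ∧ (Finset.univ.filter fun p => s p = p).card = 8) ∨
    ((Finset.univ.filter fun p => x p = p).card = 0 ∧ (Finset.univ.filter fun p => s p = p).card = 0) := by
  have key : ∀ m ∈ M24, m * s * m⁻¹ ∈ M24 ∧ orderOf (m * s * m⁻¹) = 2 ∧
      (m * s * m⁻¹) * (m * x * m⁻¹) = (m * x * m⁻¹) * (m * s * m⁻¹) := by
    intro m hm
    refine ⟨M24.mul_mem (M24.mul_mem hm hs) (M24.inv_mem hm), ?_, ?_⟩
    · have : m * s * m⁻¹ = MulAut.conj m s := by simp [MulAut.conj_apply]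
      rw [this, MulEquiv.orderOf_eq]
      exact h2
    · have h1 : m * s * m⁻¹ * (m * x * m⁻¹) = m * (s * x) * m⁻¹ := by group
      have h2 : m * x * m⁻¹ * (m * s * m⁻¹) = m * (x * s) * m⁻¹ := by group
      rw [h1, h2, hc.eq]
  rcases three_class_fixed hx h3 with ⟨hf, hk⟩ | ⟨hf, hk⟩
  · left
    refine ⟨hf, ?_⟩
    obtain ⟨m, hm, e⟩ := exists_conj_wA2 hk
    obtain ⟨k1, k2, k3⟩ := key m hm
    rw [e] at k3
    rw [← fixed_card_conj m s]
    exact invol_commuting_wA2 k1 k2 k3
  · right
    refine ⟨hf, ?_⟩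
    obtain ⟨m, hm, e⟩ := exists_conj_wB2 hk
    obtain ⟨k1, k2, k3⟩ := key m hm
    rw [e] at k3
    rw [← fixed_card_conj m s]
    exact invol_commuting_wB2 k1 k2 k3

end Cfsg.Agent.Helper27
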