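import Mathlib
import Cfsg.Agent.Helper17.Suz2A
import Cfsg.Agent.Helper17.Suz2E

/-!
# SUZ2 board (S5214, S1138): definitions.  Blueprint: departures/helper27_SUZ2_blueprint.md
-/

set_option autoImplicit false

namespace Cfsg.Agent.SUZ2P

open Cfsg.Agent.Helper17.Suz2

universe u v

/-- `H` is a `K`-invariant subgroup. -/
def KInv (K : Type v) {P : Type u} [Group K] [Group P] [MulDistribMulAction K P]
    (H : Subgroup P) : Prop :=
  ∀ (k : K), ∀ x ∈ H, k • x ∈ H

/-- `B < A` are `K`-subgroups with no `K`-subgroup strictly between. -/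
structure KMin (K : Type v) {P : Type u} [Group K] [Group P] [MulDistribMulAction K P]
    (B A : Subgroup P) : Prop where
  invB : KInv K B
  invA : KInv K A
  lt : B < A
  min : ∀ D : Subgroup P, KInv K D → B ≤ D → D ≤ A → D = B ∨ D = A

/-- The class (*) of the blueprint. -/
structure Star (K : Type v) (P : Type u) [Group K] [Group P] [MulDistribMulAction K P] :
    Prop where
  fin : Finite P
  pgrp : IsPGroup 2 P
  comm : ∀ a b : K, a * b = b * a
  reg : RegInv K P
  two : ∃ x y : P, x ≠ y ∧ x ≠ 1 ∧ x * x = 1 ∧ y ≠ 1 ∧ y * y = 1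

/-- Conclusion of Theorem H. -/
def HConc (P : Type u) [Group P] : Prop :=
  (∀ x : P, x * x ∈ Om P) ∧ ∀ x y : P, cm x y ∈ Om P

/-- nonabelian -/
def NonAb (P : Type u) [Group P] : Prop := ∃ x y : P, x * y ≠ y * x

/-- A minimal counterexample to Theorem H. -/
structure MinCE (K : Type v) (P : Type u) [Group K] [Group P] [MulDistribMulAction K P] :
    Prop where
  star : Star K P
  nonab : NonAb P
  notH : ¬ HConc P
  ih : ∀ (Q : Type u) [Group Q] [MulDistribMulAction K Q], Star K Q → NonAb Q →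
    Nat.card Q < Nat.card P → HConc Q

/-- `Z₂` relative to `Om P`: the elements all of whose commutators lie in `Om P`. -/
def Z2 (P : Type u) [Group P] : Subgroup P where
  carrier := {y | ∀ g : P, cm y g ∈ Om P}
  one_mem' := by
    intro g
    have : cm (1 : P) g = 1 := by unfold cm; group
    rw [this]; exact one_mem _
  mul_mem' := by
    intro a b ha hb g
    rw [cm_mul_left (hb g).1]
    exact mul_mem (hb g) (ha g)
  inv_mem' := by
    intro a ha g
    have hc : cm a g ∈ Subgroup.center P := (ha g).1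
    have h1 : a⁻¹ * cm a g = cm a g * a⁻¹ := Subgroup.mem_center_iff.mp hc a⁻¹
    have : cm a⁻¹ g = (cm a g)⁻¹ := by
      rw [eq_inv_iff_mul_eq_one]
      calc cm a⁻¹ g * cm a g = a⁻¹ * g * a * g⁻¹ * cm a g := by unfold cm; group
        _ = a⁻¹ * g * a * g⁻¹ * cm a g * a⁻¹ * a := by group
        _ = a⁻¹ * g * a * g⁻¹ * (cm a g * a⁻¹) * a := by group
        _ = a⁻¹ * g * a * g⁻¹ * (a⁻¹ * cm a g) * a := by rw [h1]
        _ = 1 := by unfold cm; group
    rw [this]; exact inv_mem (ha g)

theorem mem_Z2 {P : Type u} [Group P] {y : P} : y ∈ Z2 P ↔ ∀ g : P, cm y g ∈ Om P := Iff.rfl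

/-- `C_P(Z₂)`. -/
def CT (P : Type u) [Group P] : Subgroup P := Subgroup.centralizer (Z2 P : Set P)

theorem mem_CT {P : Type u} [Group P] {g : P} : g ∈ CT P ↔ ∀ t ∈ Z2 P, t * g = g * t :=
  Subgroup.mem_centralizer_iff

/-- The action on an invariant subgroup. -/
@[instance_reducible]
def subAction {K : Type v} {P : Type u} [Group K] [Group P] [MulDistribMulAction K P]
    (M : Subgroup P) (hM : KInv K M) : MulDistribMulAction K M where
  smul k x := ⟨k • (x : P), hM k x x.2⟩
  one_smul x := Subtype.ext (one_smul K (x : P))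
  mul_smul k l x := Subtype.ext (mul_smul k l (x : P))
  smul_mul k x y := Subtype.ext (smul_mul' k (x : P) (y : P))
  smul_one k := Subtype.ext (smul_one k)

theorem subAction_coe {K : Type v} {P : Type u} [Group K] [Group P] [MulDistribMulAction K P]
    (M : Subgroup P) (hM : KInv K M) (k : K) (x : M) :
    letI := subAction M hM
    ((k • x : M) : P) = k • (x : P) := rfl

/-- The subgroup `X` produced in blueprint 7.1. -/
structure XHyp (K : Type v) {P : Type u} [Group K] [Group P] [MulDistribMulAction K P]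
    (X : Subgroup P) : Prop where
  kmin : KMin K (Om P) X
  sq : ∀ x ∈ X, x * x ∈ Om P
  cmm : ∀ x ∈ X, ∀ x' ∈ X, cm x x' ∈ Om P
  meet : X ⊓ Z2 P = Om P

/-- `m` is the nonzero fixed point of `β_l` (blueprint F6(ii)): `cm t l = t²` iff `t² ∈ {1, m}`. -/
def IsFix {P : Type u} [Group P] (l m : P) : Prop :=
  m ∈ Om P ∧ m ≠ 1 ∧ ∀ t ∈ Z2 P, (cm t l = t * t ↔ (t * t = 1 ∨ t * t = m))

end Cfsg.Agent.SUZ2P
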