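import Mathlib
import Cfsg.Agent.Helper27.Suz2Defs

/-!
# SUZ2 board, piece SEC: an elementary abelian section `A/B` as an `𝔽₂ K`-module
-/

set_option autoImplicit false
set_option linter.style.haveILetI false
set_option linter.unusedSectionVars false

namespace Cfsg.Agent.SUZ2P

open Cfsg.Agent.Helper17.Suz2

universe u v

variable {K : Type v} {P : Type u} [Group K] [Group P] [MulDistribMulAction K P]

theorem exists_section [Finite P] {B A : Subgroup P} (hB : KInv K B) (hA : KInv K A)
    (hBA : B ≤ A) (hsq : ∀ a ∈ A, a * a ∈ B) (hcm : ∀ a ∈ A, ∀ a' ∈ A, cm a a' ∈ B) :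
    ∃ (V : Type u) (_ : AddCommGroup V) (_ : DistribMulAction K V) (π : P → V),
      Finite V ∧ (∀ v : V, ∃ a ∈ A, π a = v) ∧ (∀ a ∈ A, ∀ a' ∈ A, π (a * a') = π a + π a') ∧
      (∀ a ∈ A, (π a = 0 ↔ a ∈ B)) ∧ (∀ (k : K), ∀ a ∈ A, π (k • a) = k • π a) ∧
      ∀ v : V, v + v = 0 := by
  classical
  letI actA : MulDistribMulAction K A := subAction A hA
  set N : Subgroup A := B.subgroupOf A with hNdef
  have hmemN : ∀ x : A, x ∈ N ↔ (x : P) ∈ B := fun x => Subgroup.mem_subgroupOf
  haveI hNn : N.Normal := by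
    constructor
    intro n hn g
    rw [hmemN] at hn ⊢
    have h1 : cm (g : P) (n : P) ∈ B := hcm g g.2 n n.2
    have h2 : ((g * n * g⁻¹ : A) : P) = cm (g : P) (n : P) * (n : P) := by
      simp only [Subgroup.coe_mul, Subgroup.coe_inv]
      unfold cm; group
    rw [h2]
    exact mul_mem h1 hn
  have hNinv : ∀ (k : K), ∀ x ∈ N, k • x ∈ N := by
    intro k x hx
    rw [hmemN] at hx ⊢
    exact hB k x hx
  letI actQ : MulDistribMulAction K (A ⧸ N) := quotAction N hNinv
  have hQcomm : ∀ a b : A ⧸ N, a * b = b * a := by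
    intro a b
    induction a using QuotientGroup.induction_on with
    | H x =>
      induction b using QuotientGroup.induction_on with
      | H y =>
        rw [← QuotientGroup.mk_mul, ← QuotientGroup.mk_mul, QuotientGroup.eq, hmemN]
        have : (((x * y)⁻¹ * (y * x) : A) : P) = cm ((y : P)⁻¹) ((x : P)⁻¹) := by
          simp only [Subgroup.coe_mul, Subgroup.coe_inv]
          unfold cm; group
        rw [this]
        exact hcm _ (inv_mem y.2) _ (inv_mem x.2)
  letI iCG : CommGroup (A ⧸ N) := { (inferInstance : Group (A ⧸ N)) with mul_comm := hQcomm }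
  letI act : DistribMulAction K (Additive (A ⧸ N)) :=
    { smul := fun k a => Additive.ofMul (k • a.toMul)
      one_smul := fun a => by
        show Additive.ofMul ((1 : K) • a.toMul) = a
        rw [one_smul]; rfl
      mul_smul := fun k l a => by
        show Additive.ofMul ((k * l) • a.toMul) = Additive.ofMul (k • (l • a.toMul))
        rw [mul_smul]
      smul_zero := fun k => by
        show Additive.ofMul (k • (1 : A ⧸ N)) = 0
        rw [smul_one]; rfl
      smul_add := fun k a b => by
        show Additive.ofMul (k • (a.toMul * b.toMul)) =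
          Additive.ofMul (k • a.toMul) + Additive.ofMul (k • b.toMul)
        rw [smul_mul']; rfl }
  have hsm : ∀ (k : K) (a : Additive (A ⧸ N)), k • a = Additive.ofMul (k • a.toMul) :=
    fun _ _ => rfl
  let π : P → Additive (A ⧸ N) := fun p =>
    if h : p ∈ A then Additive.ofMul ((⟨p, h⟩ : A) : A ⧸ N) else 0
  have hπ : ∀ (p : P) (h : p ∈ A), π p = Additive.ofMul ((⟨p, h⟩ : A) : A ⧸ N) := by
    intro p h
    show (if h : p ∈ A then Additive.ofMul ((⟨p, h⟩ : A) : A ⧸ N) else 0) = _
    rw [dif_pos h]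
  refine ⟨Additive (A ⧸ N), inferInstance, act, π, ?_, ?_, ?_, ?_, ?_, ?_⟩
  · exact inferInstanceAs (Finite (A ⧸ N))
  · intro v
    obtain ⟨x, hx⟩ := QuotientGroup.mk_surjective (s := N) v.toMul
    refine ⟨x, x.2, ?_⟩
    rw [hπ x x.2]
    show Additive.ofMul ((⟨(x : P), x.2⟩ : A) : A ⧸ N) = v
    have : (⟨(x : P), x.2⟩ : A) = x := rfl
    rw [this, hx]; rfl
  · intro a ha a' ha'
    rw [hπ a ha, hπ a' ha', hπ (a * a') (mul_mem ha ha')]
    rfl
  · intro a ha
    rw [hπ a ha]
    constructor
    · intro h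
      have h1 : ((⟨a, ha⟩ : A) : A ⧸ N) = 1 := h
      rw [QuotientGroup.eq_one_iff, hmemN] at h1
      exact h1
    · intro h
      have h1 : ((⟨a, ha⟩ : A) : A ⧸ N) = 1 := by
        rw [QuotientGroup.eq_one_iff, hmemN]; exact h
      show Additive.ofMul (((⟨a, ha⟩ : A) : A ⧸ N)) = 0
      rw [h1]; rfl
  · intro k a ha
    rw [hπ a ha, hπ (k • a) (hA k a ha), hsm]
    rfl
  · intro v
    obtain ⟨x, hx⟩ := QuotientGroup.mk_surjective (s := N) v.toMul
    have h1 : ((x * x : A) : A ⧸ N) = 1 := by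
      rw [QuotientGroup.eq_one_iff, hmemN]
      exact hsq x x.2
    have h2 : v.toMul * v.toMul = 1 := by
      rw [← hx, ← QuotientGroup.mk_mul]; exact h1
    show Additive.ofMul (v.toMul * v.toMul) = 0
    rw [h2]; rfl

end Cfsg.Agent.SUZ2P
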