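import Mathlib
import Cfsg.Agent.Helper17.Suz2B

/-!
# Suzuki 2-groups: Lemma IRR (helper27 SUZ2 blueprint, section 1), module form.
An irreducible `𝔽₂ K`-module on which the commutative group `K` of order `2^n - 1` acts
fixed-point-freely is a line: `K` is regular on the nonzero vectors.
-/

set_option autoImplicit false
set_option linter.unusedSectionVars false
set_option linter.style.haveILetI false
set_option linter.deprecated false

namespace Cfsg.Agent.Helper27.Suz2Irr

open Cfsg.Agent.Helper17.Suz2 Polynomial

variable {K : Type*} {V : Type*} [Group K] [AddCommGroup V] [DistribMulAction K V]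

theorem irr_line [Finite K] [Finite V]
    (hcomm : ∀ a b : K, a * b = b * a) (n : ℕ) (hn : n ≠ 0) (hK : Nat.card K + 1 = 2 ^ n)
    (h2 : ∀ v : V, v + v = 0)
    (hfpf : ∀ k : K, k ≠ 1 → ∀ v : V, k • v = v → v = 0)
    (hirr : ∀ U : AddSubgroup V, (∀ (k : K), ∀ u ∈ U, k • u ∈ U) → U = ⊥ ∨ U = ⊤)
    (hnt : ∃ v : V, v ≠ 0) :
    IsLine K V ∧ Nat.card V = Nat.card K + 1 := by
  classical
  obtain ⟨v₀, hv₀⟩ := hnt
  let φ : K →* AddMonoid.End V := DistribMulAction.toAddMonoidEnd K V
  have hφ : ∀ (k : K) (v : V), φ k v = k • v := fun _ _ => rfl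
  let s : Set (AddMonoid.End V) := Set.range φ
  have hs : ∀ a ∈ s, ∀ b ∈ s, a * b = b * a := by
    rintro _ ⟨k, rfl⟩ _ ⟨l, rfl⟩
    rw [← map_mul, ← map_mul, hcomm]
  letI iCR : CommRing (Subring.closure s) := Subring.closureCommRingOfComm hs
  have hfinE : Finite (AddMonoid.End V) :=
    Finite.of_injective (fun f : AddMonoid.End V => ((f : V →+ V) : V → V)) DFunLike.coe_injective
  haveI : Finite (Subring.closure s) := Subtype.finite
  -- elements of R commute with K
  have hcommK : ∀ (r : Subring.closure s) (k : K) (v : V), (r : AddMonoid.End V) (k • v) =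
      k • (r : AddMonoid.End V) v := by
    intro r k v
    have hk : φ k ∈ Subring.closure s := Subring.subset_closure ⟨k, rfl⟩
    have h1 : r * ⟨φ k, hk⟩ = ⟨φ k, hk⟩ * r := mul_comm _ _
    have h2 := congrArg (fun t : Subring.closure s => (t : AddMonoid.End V) v) h1
    exact h2
  -- kernel dichotomy
  have hker : ∀ r : Subring.closure s, r = 0 ∨ Function.Injective (r : AddMonoid.End V) := by
    intro r
    let f : V →+ V := (r : AddMonoid.End V)
    have hinv : ∀ (k : K), ∀ u ∈ f.ker, k • u ∈ f.ker := by
      intro k u hu
      rw [AddMonoidHom.mem_ker] at hu ⊢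
      show (r : AddMonoid.End V) (k • u) = 0
      rw [hcommK, show (r : AddMonoid.End V) u = 0 from hu, smul_zero]
    rcases hirr f.ker hinv with h | h
    · right
      exact (AddMonoidHom.ker_eq_bot_iff f).mp h
    · left
      apply Subtype.ext
      show (r : AddMonoid.End V) = 0
      ext v
      have : v ∈ f.ker := by rw [h]; trivial
      exact this
  have hnontriv : (1 : Subring.closure s) ≠ 0 := by
    intro h
    have := congrArg (fun t : Subring.closure s => (t : AddMonoid.End V) v₀) h
    exact hv₀ this
  haveI : Nontrivial (Subring.closure s) := ⟨⟨1, 0, hnontriv⟩⟩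
  haveI : NoZeroDivisors (Subring.closure s) := by
    constructor
    intro a b hab
    rcases hker a with ha | ha
    · exact Or.inl ha
    · right
      apply Subtype.ext
      show (b : AddMonoid.End V) = 0
      ext v
      have h1 := congrArg (fun t : Subring.closure s => (t : AddMonoid.End V) v) hab
      have h2 : (a : AddMonoid.End V) ((b : AddMonoid.End V) v) = 0 := h1
      have h3 : (a : AddMonoid.End V) ((b : AddMonoid.End V) v) = (a : AddMonoid.End V) 0 := by
        rw [h2, map_zero]
      exact ha h3
  haveI : IsDomain (Subring.closure s) := NoZeroDivisors.to_isDomain _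
  -- characteristic two
  have htwo : (2 : Subring.closure s) = 0 := by
    apply Subtype.ext
    show ((2 : Subring.closure s) : AddMonoid.End V) = 0
    ext v
    have : ((2 : Subring.closure s) : AddMonoid.End V) = 1 + 1 := by
      rw [← one_add_one_eq_two]; rfl
    rw [this]
    exact h2 v
  haveI : CharP (Subring.closure s) 2 := CharTwo.of_one_ne_zero_of_two_eq_zero hnontriv htwo
  haveI : Fact (Nat.Prime 2) := ⟨Nat.prime_two⟩
  -- every element satisfies r ^ q = r
  have hKpow : ∀ k : K, k ^ (2 ^ n) = k := by
    intro k
    have h1 : k ^ Nat.card K = 1 := pow_card_eq_one'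
    rw [← hK, pow_succ, h1, one_mul]
  have hfrob : ∀ r : Subring.closure s, r ^ (2 ^ n) = r := by
    rintro ⟨r, hr⟩
    induction hr using Subring.closure_induction with
    | mem x hx =>
      obtain ⟨k, rfl⟩ := hx
      apply Subtype.ext
      show (φ k) ^ (2 ^ n) = φ k
      rw [← map_pow, hKpow]
    | zero =>
      exact zero_pow (by positivity)
    | one => exact one_pow _
    | add x y hx hy ihx ihy =>
      have : (⟨x + y, Subring.add_mem _ hx hy⟩ : Subring.closure s) = ⟨x, hx⟩ + ⟨y, hy⟩ := rfl
      rw [this, add_pow_char_pow, ihx, ihy]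
    | neg x hx ihx =>
      have : (⟨-x, Subring.neg_mem _ hx⟩ : Subring.closure s) = -⟨x, hx⟩ := rfl
      rw [this, CharTwo.neg_eq, ihx]
    | mul x y hx hy ihx ihy =>
      have : (⟨x * y, Subring.mul_mem _ hx hy⟩ : Subring.closure s) = ⟨x, hx⟩ * ⟨y, hy⟩ := rfl
      rw [this, mul_pow, ihx, ihy]
  -- |R| ≤ q
  letI : Fintype (Subring.closure s) := Fintype.ofFinite _
  letI iF : Field (Subring.closure s) := Fintype.fieldOfDomain _
  have hcardR : Nat.card (Subring.closure s) ≤ 2 ^ n := by
    rw [Nat.card_eq_fintype_card, ← Finset.card_univ]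
    have hdeg := FiniteField.X_pow_card_pow_sub_X_natDegree_eq (Subring.closure s) (p := 2) hn
      (by norm_num)
    have hne := FiniteField.X_pow_card_pow_sub_X_ne_zero (Subring.closure s) (p := 2) hn
      (by norm_num)
    rw [← hdeg]
    apply Polynomial.card_le_degree_of_subset_roots
    intro r _
    rw [Polynomial.mem_roots hne]
    simp [hfrob r]
  -- V = R v₀
  let ev : Subring.closure s →+ V :=
    { toFun := fun r => (r : AddMonoid.End V) v₀
      map_zero' := rfl
      map_add' := fun a b => rfl }
  have hev : Function.Surjective ev := by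
    have hinv : ∀ (k : K), ∀ u ∈ ev.range, k • u ∈ ev.range := by
      rintro k _ ⟨r, rfl⟩
      have hk : φ k ∈ Subring.closure s := Subring.subset_closure ⟨k, rfl⟩
      exact ⟨⟨φ k, hk⟩ * r, rfl⟩
    rcases hirr ev.range hinv with h | h
    · exfalso
      have : v₀ ∈ ev.range := ⟨1, rfl⟩
      rw [h] at this
      exact hv₀ this
    · intro v
      have : v ∈ ev.range := by rw [h]; trivial
      exact this
  have hcardV : Nat.card V ≤ 2 ^ n := (Nat.card_le_card_of_surjective ev hev).trans hcardR
  -- orbit maps are injective
  have horb : ∀ a : V, a ≠ 0 → Function.Injective (fun k : K => k • a) := by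
    intro a ha k l hkl
    have h1 : (l⁻¹ * k) • a = a := by
      rw [mul_smul]
      show l⁻¹ • (k • a) = a
      rw [show k • a = l • a from hkl, inv_smul_smul]
    by_contra hne
    have : l⁻¹ * k ≠ 1 := by
      intro h
      apply hne
      have := congrArg (fun t => l * t) h
      simpa using this
    exact ha (hfpf _ this a h1)
  have hsmulne : ∀ (k : K) (a : V), a ≠ 0 → k • a ≠ 0 := by
    intro k a ha h
    apply ha
    have := congrArg (fun t => k⁻¹ • t) h
    simpa using this
  have hcardV' : Nat.card V = Nat.card K + 1 := by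
    apply le_antisymm (by rw [hK]; exact hcardV)
    let g : Option K → V := fun o => match o with
      | none => 0
      | some k => k • v₀
    have hg : Function.Injective g := by
      intro a b hab
      cases a with
      | none =>
        cases b with
        | none => rfl
        | some l => exact absurd hab.symm (hsmulne l v₀ hv₀)
      | some k =>
        cases b with
        | none => exact absurd hab (hsmulne k v₀ hv₀)
        | some l => exact congrArg some (horb v₀ hv₀ hab)
    have := Nat.card_le_card_of_injective g hg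
    rwa [Finite.card_option] at this
  refine ⟨⟨hcomm, ?_⟩, hcardV'⟩
  intro a b ha hb
  -- the orbit map of a hits every nonzero vector
  let g : K → {v : V // v ≠ 0} := fun k => ⟨k • a, hsmulne k a ha⟩
  have hg : Function.Injective g := fun k l hkl => horb a ha (congrArg Subtype.val hkl)
  have hcard : Nat.card K = Nat.card {v : V // v ≠ 0} := by
    have h1 := Nat.card_congr (Equiv.optionSubtypeNe (0 : V))
    rw [Finite.card_option, hcardV'] at h1
    omega
  have hbij : Function.Bijective g := (Nat.bijective_iff_injective_and_card g).mpr ⟨hg, hcard⟩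
  obtain ⟨k, hk⟩ := hbij.2 ⟨b, hb⟩
  refine ⟨k, congrArg Subtype.val hk, ?_⟩
  intro l hl
  apply hg
  apply Subtype.ext
  show l • a = k • a
  rw [hl]
  exact (congrArg Subtype.val hk).symm

end Cfsg.Agent.Helper27.Suz2Irr
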