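import Mathlib
import Cfsg.Agent.Helper27.Suz2Defs
import Cfsg.Agent.Helper27.Suz2Irr
import Cfsg.Agent.Helper19.Suz2B0
import Cfsg.Agent.Helper3.SUZ2FPF

/-!
# SUZ2 board, auxiliary for F6 / SECLINE: a section module over a minimal pair is a line
-/

set_option autoImplicit false
set_option linter.style.haveILetI false
set_option linter.unusedSectionVars false

namespace Cfsg.Agent.SUZ2P

open Cfsg.Agent.Helper17.Suz2

universe u v

variable {K : Type v} {P : Type u} [Group K] [Group P] [MulDistribMulAction K P]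

/-- A section module over a minimal pair is a line. -/
theorem section_isLine (hS : Star K P) {B A : Subgroup P} (hmin : KMin K B A)
    {V : Type u} [AddCommGroup V] [DistribMulAction K V] [Finite V] (π : P → V)
    (hπsurj : ∀ v : V, ∃ a ∈ A, π a = v) (hπadd : ∀ a ∈ A, ∀ a' ∈ A, π (a * a') = π a + π a')
    (hπker : ∀ a ∈ A, (π a = 0 ↔ a ∈ B)) (hπk : ∀ (k : K), ∀ a ∈ A, π (k • a) = k • π a)
    (hV2 : ∀ v : V, v + v = 0) :
    IsLine K V ∧ Nat.card V = Nat.card K + 1 := by
  haveI := hS.fin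
  haveI : Finite K := B0_finK hS
  obtain ⟨n, hn2, -, hKn⟩ := B0_card hS
  have hBA : B ≤ A := hmin.lt.le
  have hπ1 : π 1 = 0 := (hπker 1 (one_mem _)).mpr (one_mem _)
  have hπinv : ∀ a ∈ A, π a⁻¹ = π a := by
    intro a ha
    have h1 := hπadd a⁻¹ (inv_mem ha) a ha
    rw [inv_mul_cancel, hπ1] at h1
    have h2 := hV2 (π a)
    -- π a⁻¹ + π a = 0 and π a + π a = 0
    have : π a⁻¹ + π a = π a + π a := by rw [← h1, h2]
    exact add_right_cancel this
  refine Cfsg.Agent.Helper27.Suz2Irr.irr_line hS.comm n (by omega) hKn hV2 ?_ ?_ ?_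
  · -- fixed point free
    intro k hk v hv
    obtain ⟨a, ha, rfl⟩ := hπsurj v
    have hka : k • a ∈ A := hmin.invA k a ha
    have h1 : π (a⁻¹ * k • a) = 0 := by
      rw [hπadd _ (inv_mem ha) _ hka, hπinv a ha, hπk k a ha, hv, hV2]
    have h2 : a⁻¹ * k • a ∈ B := (hπker _ (mul_mem (inv_mem ha) hka)).mp h1
    have h3 : a ∈ B := fpf hS hk B (fun x hx => hmin.invB k x hx) h2
    exact (hπker a ha).mpr h3
  · -- irreducible
    intro U hU
    let D : Subgroup P :=
      { carrier := {a | a ∈ A ∧ π a ∈ U}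
        one_mem' := ⟨one_mem _, by rw [hπ1]; exact U.zero_mem⟩
        mul_mem' := by
          rintro a b ⟨ha, hau⟩ ⟨hb, hbu⟩
          exact ⟨mul_mem ha hb, by rw [hπadd a ha b hb]; exact U.add_mem hau hbu⟩
        inv_mem' := by
          rintro a ⟨ha, hau⟩
          exact ⟨inv_mem ha, by rw [hπinv a ha]; exact hau⟩ }
    have hDmem : ∀ a, a ∈ D ↔ a ∈ A ∧ π a ∈ U := fun a => Iff.rfl
    have hDinv : KInv K D := by
      intro k a ha
      rw [hDmem] at ha ⊢
      exact ⟨hmin.invA k a ha.1, by rw [hπk k a ha.1]; exact hU k _ ha.2⟩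
    have hBD : B ≤ D := by
      intro b hb
      rw [hDmem]
      refine ⟨hBA hb, ?_⟩
      rw [(hπker b (hBA hb)).mpr hb]
      exact U.zero_mem
    have hDA : D ≤ A := fun a ha => ((hDmem a).mp ha).1
    rcases hmin.min D hDinv hBD hDA with h | h
    · left
      rw [eq_bot_iff]
      intro u hu
      obtain ⟨a, ha, rfl⟩ := hπsurj u
      have : a ∈ D := (hDmem a).mpr ⟨ha, hu⟩
      rw [h] at this
      rw [AddSubgroup.mem_bot]
      exact (hπker a ha).mpr this
    · right
      rw [eq_top_iff]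
      intro v _
      obtain ⟨a, ha, rfl⟩ := hπsurj v
      have : a ∈ D := by rw [h]; exact ha
      exact ((hDmem a).mp this).2
  · -- nontrivial
    obtain ⟨a, ha, haB⟩ := SetLike.exists_of_lt hmin.lt
    exact ⟨π a, fun h => haB ((hπker a ha).mp h)⟩

/-- `Z = Om P` is a minimal pair over `⊥`. -/
theorem kmin_bot_Om (hS : Star K P) : KMin K (⊥ : Subgroup P) (Om P) := by
  have hbot : KInv K (⊥ : Subgroup P) := by
    intro k x hx
    rw [Subgroup.mem_bot] at hx ⊢
    rw [hx, smul_one]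
  refine ⟨hbot, B0_Om_inv, ?_, ?_⟩
  · rw [bot_lt_iff_ne_bot]
    intro h
    obtain ⟨x, y, -, hx1, hx2, -, -⟩ := hS.two
    have : x ∈ Om P := (B0_mem_Om hS).mpr hx2
    rw [h, Subgroup.mem_bot] at this
    exact hx1 this
  · intro D hD _ hDZ
    by_cases hne : D = ⊥
    · exact Or.inl hne
    · exact Or.inr (le_antisymm hDZ (B0_Om_le hS hD hne))

end Cfsg.Agent.SUZ2P
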