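import Mathlib
import Cfsg.Agent.Helper27.Suz2Defs
import Cfsg.Agent.Helper27.Suz2Inj
import Cfsg.Agent.Helper27.Suz2Irr
import Cfsg.Agent.Helper27.SUZ2SEC
import Cfsg.Agent.Helper27.SUZ2F6a
import Cfsg.Agent.Helper19.Suz2B0
import Cfsg.Agent.Helper3.SUZ2FPF
import Cfsg.Agent.Helper18.Suz2F3
import Cfsg.Agent.Helper20.SUZ2F4C
import Cfsg.Agent.Helper20.SUZ2F5

/-!
# SUZ2 board, piece F6: blueprint F6 = the field lemma INJ' applied to `L/C × Z → Z`
-/

set_option autoImplicit false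
set_option linter.style.haveILetI false
set_option linter.unusedSectionVars false

namespace Cfsg.Agent.SUZ2P

open Cfsg.Agent.Helper17.Suz2

universe u v

variable {K : Type v} {P : Type u} [Group K] [Group P] [MulDistribMulAction K P]

theorem F6_aux_mul_right {t : P} (ht : t ∈ Z2 P) (g h : P) : cm t (g * h) = cm t g * cm t h :=
  cm_mul_right ((mem_Z2.mp ht) h).1

theorem F6_aux_mul_left {t t' : P} (ht : t ∈ Z2 P) (ht' : t' ∈ Z2 P) (g : P) :
    cm (t * t') g = cm t g * cm t' g := by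
  rw [cm_mul_left ((mem_Z2.mp ht') g).1]
  exact (Subgroup.mem_center_iff.mp ((mem_Z2.mp ht) g).1 _)

theorem F6 (h : MinCE K P) {L : Subgroup P} (hL : KMin K (CT P) L) {l : P} (hl : l ∈ L)
    (hlC : l ∉ CT P) : (∀ t ∈ Z2 P, cm t l = 1 → t ∈ Om P) ∧ ∃ m : P, IsFix l m := by
  classical
  have hS := h.star
  have hna := h.nonab
  haveI := hS.fin
  obtain ⟨hTmin, hTab, hTsq⟩ := T_props h
  obtain ⟨n, hn2, hZn, hKn⟩ := B0_card hS
  have hZ2sq : ∀ t ∈ Z2 P, t * t ∈ Om P := Z2_sq hS hna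
  have hcmOm : ∀ t ∈ Z2 P, ∀ g : P, cm t g ∈ Om P := fun t ht g => (mem_Z2.mp ht) g
  -- the two section modules
  have hsqL : ∀ a ∈ L, a * a ∈ CT P := fun a _ => (F5ii a a).1
  have hcmL : ∀ a ∈ L, ∀ a' ∈ L, cm a a' ∈ CT P := fun a _ a' _ => (F5ii a a').2
  obtain ⟨V, iV, iKV, π, hVfin, hπsurj, hπadd, hπker, hπk, hV2⟩ :=
    exists_section (K := K) CT_inv hL.invA hL.lt.le hsqL hcmL
  have hZmin := kmin_bot_Om (K := K) hS
  have hsqZ : ∀ a ∈ Om P, a * a ∈ (⊥ : Subgroup P) := fun a ha => by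
    rw [Subgroup.mem_bot]; exact ha.2
  have hcmZ : ∀ a ∈ Om P, ∀ a' ∈ Om P, cm a a' ∈ (⊥ : Subgroup P) := fun a ha a' _ => by
    rw [Subgroup.mem_bot]; exact cm_of_mem_center_left ha.1 a'
  obtain ⟨W, iW, iKW, ρ, hWfin, hρsurj, hρadd, hρker, hρk, hW2⟩ :=
    exists_section (K := K) hZmin.invB hZmin.invA bot_le hsqZ hcmZ
  letI := iV; letI := iKV; letI := iW; letI := iKW
  haveI := hVfin; haveI := hWfin
  obtain ⟨hVline, hVcard⟩ := section_isLine hS hL π hπsurj hπadd hπker hπk hV2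
  obtain ⟨hWline, hWcard⟩ := section_isLine hS hZmin ρ hρsurj hρadd hρker hρk hW2
  -- ρ is injective on Om P
  have hρ1 : ρ 1 = 0 := (hρker 1 (one_mem _)).mpr (one_mem _)
  have hρinj : ∀ a ∈ Om P, ∀ a' ∈ Om P, ρ a = ρ a' → a = a' := by
    intro a ha a' ha' haa
    have h1 : ρ (a * a') = 0 := by rw [hρadd a ha a' ha', haa, hW2]
    have h2 := (hρker _ (mul_mem ha ha')).mp h1
    rw [Subgroup.mem_bot] at h2
    have h3 : a' * a' = 1 := ha'.2
    calc a = a * (a' * a') := by rw [h3, mul_one]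
      _ = (a * a') * a' := by group
      _ = a' := by rw [h2, one_mul]
  have hρne : ∀ a ∈ Om P, ρ a = 0 → a = 1 := by
    intro a ha h0
    have := (hρker a ha).mp h0
    rwa [Subgroup.mem_bot] at this
  -- π facts
  have hπ1 : π 1 = 0 := (hπker 1 (one_mem _)).mpr (one_mem _)
  have hπinv : ∀ a ∈ L, π a⁻¹ = π a := by
    intro a ha
    have h1 := hπadd a⁻¹ (inv_mem ha) a ha
    rw [inv_mul_cancel, hπ1] at h1
    have h2 := hV2 (π a)
    have : π a⁻¹ + π a = π a + π a := by rw [← h1, h2]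
    exact add_right_cancel this
  -- elements of CT commute with Z2
  have hcmCT : ∀ t ∈ Z2 P, ∀ c ∈ CT P, cm t c = 1 := by
    intro t ht c hc
    rw [cm_eq_one_iff]
    exact (mem_CT.mp hc) t ht
  -- choice functions
  have hexa : ∀ v : V, ∃ a : P, a ∈ L ∧ π a = v := fun v => by
    obtain ⟨a, ha, hav⟩ := hπsurj v
    exact ⟨a, ha, hav⟩
  have hext : ∀ w : W, ∃ t : P, t ∈ Z2 P ∧ ρ (t * t) = w := fun w => by
    obtain ⟨z, hz, hzw⟩ := hρsurj w
    obtain ⟨t, ht, htz⟩ := hTsq z hz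
    exact ⟨t, ht, by rw [htz, hzw]⟩
  choose av hav1 hav2 using hexa
  choose tw htw1 htw2 using hext
  let Bf : V → W → W := fun v w => ρ (cm (tw w) (av v))
  -- well-definedness
  have hWD : ∀ a ∈ L, ∀ t ∈ Z2 P, Bf (π a) (ρ (t * t)) = ρ (cm t a) := by
    intro a ha t ht
    show ρ (cm (tw (ρ (t * t))) (av (π a))) = ρ (cm t a)
    set a' := av (π a) with ha'
    set t' := tw (ρ (t * t)) with ht'
    have ha'L : a' ∈ L := hav1 _
    have ht'T : t' ∈ Z2 P := htw1 _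
    have h1 : a⁻¹ * a' ∈ CT P := by
      apply (hπker _ (mul_mem (inv_mem ha) ha'L)).mp
      rw [hπadd _ (inv_mem ha) _ ha'L, hπinv a ha, hav2, hV2]
    have h2 : t' * t' = t * t :=
      hρinj _ (hZ2sq t' ht'T) _ (hZ2sq t ht) (htw2 _)
    have h3 : cm t' a' = cm t a' := cmT_sq_eq h ht'T ht h2 a'
    have h4 : cm t a' = cm t a := by
      have : a' = a * (a⁻¹ * a') := by group
      rw [this, F6_aux_mul_right ht, hcmCT t ht _ h1, mul_one]
    rw [h3, h4]
  -- representatives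
  have hrepV : ∀ v : V, ∃ a ∈ L, π a = v := hπsurj
  have hrepW : ∀ w : W, ∃ t ∈ Z2 P, ρ (t * t) = w := fun w => ⟨tw w, htw1 w, htw2 w⟩
  have hB1 : ∀ a a' z, Bf (a + a') z = Bf a z + Bf a' z := by
    intro v v' w
    obtain ⟨a, ha, rfl⟩ := hrepV v
    obtain ⟨a', ha', rfl⟩ := hrepV v'
    obtain ⟨t, ht, rfl⟩ := hrepW w
    rw [← hπadd a ha a' ha', hWD _ (mul_mem ha ha') t ht, hWD a ha t ht, hWD a' ha' t ht,
      F6_aux_mul_right ht, hρadd _ (hcmOm t ht a) _ (hcmOm t ht a')]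
  have hB2 : ∀ a z z', Bf a (z + z') = Bf a z + Bf a z' := by
    intro v w w'
    obtain ⟨a, ha, rfl⟩ := hrepV v
    obtain ⟨t, ht, rfl⟩ := hrepW w
    obtain ⟨t', ht', rfl⟩ := hrepW w'
    have htt : (t * t') * (t * t') = (t * t) * (t' * t') := by
      have := hTab t' ht' t ht
      calc (t * t') * (t * t') = t * (t' * t) * t' := by group
        _ = t * (t * t') * t' := by rw [this]
        _ = (t * t) * (t' * t') := by group
    rw [← hρadd _ (hZ2sq t ht) _ (hZ2sq t' ht'), ← htt, hWD a ha _ (mul_mem ht ht'),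
      hWD a ha t ht, hWD a ha t' ht', F6_aux_mul_left ht ht',
      hρadd _ (hcmOm t ht a) _ (hcmOm t' ht' a)]
  have hBk : ∀ (k : K) a z, Bf (k • a) (k • z) = k • Bf a z := by
    intro k v w
    obtain ⟨a, ha, rfl⟩ := hrepV v
    obtain ⟨t, ht, rfl⟩ := hrepW w
    have hkt : k • t ∈ Z2 P := Z2_inv k t ht
    have h1 : k • ρ (t * t) = ρ ((k • t) * (k • t)) := by
      rw [← hρk k _ (hZ2sq t ht), smul_mul']
    rw [← hπk k a ha, h1, hWD _ (hL.invA k a ha) _ hkt, hWD a ha t ht, ← cm_smul,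
      hρk k _ (hcmOm t ht a)]
  -- nonzero
  have hπl : π l ≠ 0 := fun h0 => hlC ((hπker l hl).mp h0)
  have hne : ∃ a z, Bf a z ≠ 0 := by
    have : ∃ t ∈ Z2 P, t * l ≠ l * t := by
      by_contra hcon
      push Not at hcon
      exact hlC (mem_CT.mpr hcon)
    obtain ⟨t, ht, htl⟩ := this
    refine ⟨π l, ρ (t * t), ?_⟩
    rw [hWD l hl t ht]
    intro h0
    apply htl
    rw [← cm_eq_one_iff]
    exact hρne _ (hcmOm t ht l) h0
  have hcardVW : Nat.card V = Nat.card W := by rw [hVcard, hWcard]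
  have hcardW : 2 < Nat.card W := by
    rw [hWcard, hKn]
    calc 2 < 2 ^ 2 := by norm_num
      _ ≤ 2 ^ n := Nat.pow_le_pow_right (by norm_num) hn2
  obtain ⟨hinj, hfix⟩ := Cfsg.Agent.Helper27.Suz2Inj.inj_line hVline hWline hW2 hcardVW hcardW
    Bf hB1 hB2 hBk hne
  constructor
  · intro t ht htl
    have h1 : Bf (π l) (ρ (t * t)) = 0 := by rw [hWD l hl t ht, htl, hρ1]
    have h2 := hinj _ _ hπl h1
    have h3 := hρne _ (hZ2sq t ht) h2
    exact (B0_mem_Om hS).mpr h3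
  · obtain ⟨w₀, ⟨hw₀ne, hw₀fix⟩, hw₀uniq⟩ := hfix (π l) hπl
    obtain ⟨m, hm, hmw⟩ := hρsurj w₀
    have hm1 : m ≠ 1 := by
      rintro rfl
      exact hw₀ne (hmw.symm.trans hρ1)
    refine ⟨m, hm, hm1, ?_⟩
    intro t ht
    constructor
    · intro hfixt
      by_cases h0 : ρ (t * t) = 0
      · left
        exact hρne _ (hZ2sq t ht) h0
      · right
        have h1 : Bf (π l) (ρ (t * t)) = ρ (t * t) := by rw [hWD l hl t ht, hfixt]
        have h2 := hw₀uniq (ρ (t * t)) ⟨h0, h1⟩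
        exact hρinj _ (hZ2sq t ht) _ hm (h2.trans hmw.symm)
    · rintro (h1 | h1)
      · have htZ : t ∈ Om P := (B0_mem_Om hS).mpr h1
        rw [h1]
        exact cm_of_mem_center_left htZ.1 l
      · apply hρinj _ (hcmOm t ht l) _ (hZ2sq t ht)
        rw [← hWD l hl t ht, h1, hmw]
        exact hw₀fix

end Cfsg.Agent.SUZ2P
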