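import Mathlib
import Cfsg.Agent.Helper27.S4700Defs

set_option autoImplicit false

/-! # S4700 piece ARITH: the arithmetic lemmas K1F–K4F and ARITHA (numbers not of the form `F(p,u,h)`) -/

namespace Cfsg.Agent.Helper27.S4700K

/-- `d ≡ 1 (mod p)` gives `d = 1 + u p`. -/
theorem exists_eq_of_mod {p d r : ℕ} (hmod : d % p = r) : ∃ u, d = r + u * p := by
  refine ⟨d / p, ?_⟩
  have := Nat.div_add_mod d p
  rw [hmod] at this
  rw [mul_comm] at this
  omega

end Cfsg.Agent.Helper27.S4700K

namespace Cfsg.Agent.S4700P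

open Cfsg.Agent.Helper27.S4700K

/-- K1F -/
theorem arith_K1F {p e n d : ℕ} (hp : p.Prime) (he : e ∣ p - 1) (hF : NotF p n)
    (hd : d ∣ e * (1 + n * p)) (hmod : d % p = 1) (hd1 : d ≠ 1) : d = 1 + n * p := by
  have hp0 : 0 < p := hp.pos
  have hp2 := hp.two_le
  obtain ⟨k, hk⟩ := he
  have hpk : p = 1 + e * k := by omega
  have he0 : 0 < e := by
    rcases Nat.eq_zero_or_pos e with h | h
    · subst h; omega
    · exact h
  have hk0 : 0 < k := by
    rcases Nat.eq_zero_or_pos k with h | h
    · subst h; omega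
    · exact h
  have hep : e < p := by nlinarith
  obtain ⟨u, hu⟩ := exists_eq_of_mod hmod
  have hu1 : 1 ≤ u := by
    rcases Nat.eq_zero_or_pos u with h | h
    · subst h; omega
    · exact h
  obtain ⟨c, hc⟩ := hd
  have hcmod : c % p = e := by
    have h1 : (e * (1 + n * p)) % p = e % p := by
      have : e * (1 + n * p) = e + (e * n) * p := by ring
      rw [this, Nat.add_mul_mod_self_right]
    have h2 : (d * c) % p = c % p := by
      rw [Nat.mul_mod, hmod, one_mul, Nat.mod_mod]
    rw [hc, h2] at h1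
    rw [h1]
    exact Nat.mod_eq_of_lt hep
  obtain ⟨w, hw⟩ := exists_eq_of_mod hcmod
  subst hu hw
  have hmain : e * n = w + u * e + u * w * p := by
    have : p * (e * n) = p * (w + u * e + u * w * p) := by nlinarith [hc]
    exact Nat.eq_of_mul_eq_mul_left hp0 this
  rcases Nat.eq_zero_or_pos w with hw0 | hw0
  · subst hw0
    have h1 : e * n = e * u := by rw [hmain]; ring
    have h2 : n = u := Nat.eq_of_mul_eq_mul_left he0 h1
    rw [h2]
  · exfalso
    apply hF
    have h1 : w * (1 + u) + e * (u + u * w * k) = e * n := by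
      rw [hmain]
      have : u * w * p = u * w + e * (u * w * k) := by
        have : u * w * p = u * w * (1 + e * k) := by rw [← hpk]
        rw [this]; ring
      rw [this]; ring
    have hlt : u + u * w * k < n := by
      by_contra hcon
      rw [not_lt] at hcon
      have h2 : e * n ≤ e * (u + u * w * k) := Nat.mul_le_mul_left e hcon
      have h3 : 0 < w * (1 + u) := Nat.mul_pos hw0 (by omega)
      omega
    obtain ⟨h', hh'⟩ : ∃ h', n = h' + (u + u * w * k) := ⟨n - (u + u * w * k), by omega⟩
    have hh'0 : 0 < h' := by omega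
    have h2 : w * (1 + u) = e * h' := by
      rw [hh'] at h1
      have : e * (h' + (u + u * w * k)) = e * h' + e * (u + u * w * k) := by ring
      omega
    refine ⟨h', u, hh'0, hu1, ?_⟩
    -- `(n - u)(u + 1) = h' (u p + 1)`
    have h3 : e * (n * (u + 1)) = e * (h' * u * p + u ^ 2 + u + h') := by
      have e1 : e * (h' * u * p + u ^ 2 + u + h') = (e * h') * (u * p + 1) + e * (u ^ 2 + u) := by ring
      rw [e1, ← h2]
      have e2 : e * (n * (u + 1)) = (e * n) * (u + 1) := by ring
      rw [e2, hmain]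
      ring
    exact Nat.eq_of_mul_eq_mul_left he0 h3

/-- K2F -/
theorem arith_K2F {p e n d u : ℕ} (hp : p.Prime) (he : e ∣ p - 1) (hF : NotF p n)
    (hd : d ∣ e * (1 + n * p)) (hdu : d = u * p + e) (hu : 1 ≤ u) : d = e * (1 + n * p) := by
  have hp0 : 0 < p := hp.pos
  have hp2 := hp.two_le
  have he' := he
  obtain ⟨k, hk⟩ := he'
  have he0 : 0 < e := by
    rcases Nat.eq_zero_or_pos e with h | h
    · subst h; omega
    · exact h
  have hep : e < p := by
    have : e ≤ p - 1 := Nat.le_of_dvd (by omega) he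
    omega
  obtain ⟨c, hc⟩ := hd
  have hd0 : 0 < d := by rw [hdu]; omega
  have hc0 : 0 < c := by
    rcases Nat.eq_zero_or_pos c with h | h
    · subst h
      rw [mul_zero] at hc
      have : 0 < e * (1 + n * p) := Nat.mul_pos he0 (by omega)
      omega
    · exact h
  -- `c ≡ 1 (mod p)`
  have hcop : Nat.Coprime e p := by
    rw [Nat.coprime_comm, hp.coprime_iff_not_dvd]
    intro h
    have := Nat.le_of_dvd he0 h
    omega
  have hcmod : c % p = 1 := by
    have h1 : e * (1 + n * p) ≡ e * 1 [MOD p] := by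
      apply Nat.ModEq.mul_left
      have : (1 + n * p) % p = 1 % p := by rw [Nat.add_mul_mod_self_right]
      exact this
    have h2 : d * c ≡ e * c [MOD p] := by
      apply Nat.ModEq.mul_right
      rw [hdu]
      have : (u * p + e) % p = e % p := by rw [add_comm, Nat.add_mul_mod_self_right]
      exact this
    rw [hc] at h1
    have h3 : e * c ≡ e * 1 [MOD p] := h2.symm.trans h1
    have h4 : c ≡ 1 [MOD p] := Nat.ModEq.cancel_left_of_coprime (by rw [Nat.gcd_comm]; exact hcop) h3
    have h5 : c % p = 1 % p := h4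
    rw [h5]
    exact Nat.mod_eq_of_lt (by omega)
  have hcd : c ∣ e * (1 + n * p) := ⟨d, by rw [hc]; ring⟩
  by_cases hc1 : c = 1
  · rw [hc, hc1, mul_one]
  · exfalso
    have h1 := arith_K1F hp he hF hcd hcmod hc1
    rw [h1] at hc
    have h2 : e = d := by
      have : (1 + n * p) * e = (1 + n * p) * d := by rw [mul_comm, hc]; ring
      exact Nat.eq_of_mul_eq_mul_left (by omega) this
    rw [hdu] at h2
    have : 0 < u * p := Nat.mul_pos (by omega) hp0
    omega

/-- K3F -/
theorem arith_K3F {p e t n d u : ℕ} (hp : p.Prime) (het : t * e = p - 1) (hF : NotF p n)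
    (hd : d ∣ e * (1 + n * p)) (hdu : d + e = u * p) (hd1 : d ≠ 1) :
    t * d = 1 + n * p ∧ u * t = n + 1 := by
  have hp0 : 0 < p := hp.pos
  have hp2 := hp.two_le
  have ht0 : 0 < t := by
    rcases Nat.eq_zero_or_pos t with h | h
    · subst h; omega
    · exact h
  have he0 : 0 < e := by
    rcases Nat.eq_zero_or_pos e with h | h
    · subst h; omega
    · exact h
  have hd0 : 0 < d := by
    rcases Nat.eq_zero_or_pos d with h | h
    · subst h
      rw [zero_dvd_iff] at hd
      have : 0 < e * (1 + n * p) := Nat.mul_pos he0 (by omega)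
      omega
    · exact h
  have hu0 : 0 < u := by
    rcases Nat.eq_zero_or_pos u with h | h
    · subst h; omega
    · exact h
  -- `t d = (t u - 1) p + 1`
  have htu : 1 ≤ t * u := Nat.mul_pos ht0 hu0
  have h1 : t * d + (p - 1) = t * u * p := by
    rw [← het]
    have : t * d + t * e = t * (d + e) := by ring
    rw [this, hdu]; ring
  have hmod : (t * d) % p = 1 := by
    obtain ⟨m, hm⟩ : ∃ m, t * u = m + 1 := ⟨t * u - 1, by omega⟩
    have h2 : t * d = 1 + m * p := by
      rw [hm] at h1
      have : (m + 1) * p = m * p + p := by ring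
      omega
    rw [h2, Nat.add_mul_mod_self_right]
    exact Nat.mod_eq_of_lt (by omega)
  have hdvd : t * d ∣ (p - 1) * (1 + n * p) := by
    rw [← het, mul_assoc]
    exact Nat.mul_dvd_mul_left t hd
  have htd1 : t * d ≠ 1 := by
    intro h
    have := Nat.eq_one_of_mul_eq_one_left h
    exact hd1 this
  have h3 := arith_K1F hp (dvd_refl (p - 1)) hF hdvd hmod htd1
  refine ⟨h3, ?_⟩
  rw [h3] at h1
  have h4 : (n + 1) * p = t * u * p := by
    have : (n + 1) * p = n * p + p := by ring
    omega
  have := Nat.eq_of_mul_eq_mul_right hp0 h4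
  rw [mul_comm u t]
  exact this.symm

/-- K4F -/
theorem arith_K4F {p e t n d u : ℕ} (hp : p.Prime) (het : t * e = p - 1) (hF : NotF p n)
    (hd : d ∣ e * (1 + n * p)) (hdu : d + 1 = u * p) (hu : 2 ≤ u) :
    t = 1 ∧ d = e * (1 + n * p) := by
  have hp0 : 0 < p := hp.pos
  have hp2 := hp.two_le
  have ht0 : 0 < t := by
    rcases Nat.eq_zero_or_pos t with h | h
    · subst h; omega
    · exact h
  have he0 : 0 < e := by
    rcases Nat.eq_zero_or_pos e with h | h
    · subst h; omega
    · exact h
  have hep : e ≤ p - 1 := by rw [← het]; exact Nat.le_mul_of_pos_left e ht0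
  obtain ⟨c, hc⟩ := hd
  have hM0 : 0 < e * (1 + n * p) := Nat.mul_pos he0 (by omega)
  have hc0 : 0 < c := by
    rcases Nat.eq_zero_or_pos c with h | h
    · subst h; rw [mul_zero] at hc; omega
    · exact h
  have hdge : 2 * p ≤ d + 1 := by rw [hdu]; exact Nat.mul_le_mul_right p hu
  -- `c + e ≡ 0 (mod p)`
  have hce : p ∣ c + e := by
    have h1 : (d + 1) * c = e * (1 + n * p) + c := by rw [hc]; ring
    have h2 : p ∣ (d + 1) * c := by rw [hdu]; exact Dvd.dvd.mul_right (dvd_mul_left p u) c
    rw [h1] at h2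
    have h3 : e * (1 + n * p) + c = (c + e) + (e * n) * p := by ring
    rw [h3] at h2
    exact (Nat.dvd_add_left (dvd_mul_left p (e * n))).mp h2
  obtain ⟨w, hw⟩ := hce
  have hcd : c ∣ e * (1 + n * p) := ⟨d, by rw [hc]; ring⟩
  by_cases hc1 : c = 1
  · subst hc1
    rw [mul_one] at hc
    refine ⟨?_, hc.symm⟩
    -- `e + 1 = p w`, `e ≤ p - 1` so `e = p - 1`
    have hw0 : 0 < w := by
      rcases Nat.eq_zero_or_pos w with h | h
      · subst h; omega
      · exact h
    have : p ≤ p * w := Nat.le_mul_of_pos_right p hw0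
    have hee : e = p - 1 := by omega
    rw [hee] at het
    have : t * (p - 1) = 1 * (p - 1) := by rw [het, one_mul]
    exact Nat.eq_of_mul_eq_mul_right (by omega) this
  · exfalso
    have h1 := (arith_K3F hp het hF hcd (by rw [hw]; ring : c + e = w * p) hc1).1
    -- `d = e t = p - 1`
    have h2 : d * c = (e * t) * c := by
      rw [← hc, ← h1]; ring
    have h3 : d = e * t := Nat.eq_of_mul_eq_mul_right hc0 h2
    rw [mul_comm, het] at h3
    omega

/-- ARITHA -/
theorem formF_of_mul {p n nb k : ℕ} (hp : p.Prime) (h : 1 + n * p = (1 + nb * p) * k)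
    (hk : k % p = 1) (hk1 : k ≠ 1) (hnb : 1 ≤ nb) : ¬ NotF p n := by
  intro hF
  have hd : k ∣ 1 * (1 + n * p) := by rw [one_mul, h]; exact dvd_mul_left k _
  have h1 := arith_K1F hp (one_dvd _) hF hd hk hk1
  rw [h1] at h
  have hp0 := hp.pos
  have h2 : (1 + nb * p) * (1 + n * p) = 1 * (1 + n * p) := by rw [one_mul]; exact h.symm
  have h3 := Nat.eq_of_mul_eq_mul_right (by omega) h2
  have : 0 < nb * p := Nat.mul_pos (by omega) hp0
  omega

end Cfsg.Agent.S4700P
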