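-- Mechanical port of Cfsg/Agent/Helper8/S0996CNT.lean (by helper8) to the hypotheses `HypF`/`BasicF` of S4700
-- (`2 n < p + 3` replaced by `NotF p n`); see departures/helper27_s4700_pieces.md.
import Mathlib
import Cfsg.Agent.Helper27.S4700Defs

set_option autoImplicit false

/-! S0996, piece CNT: counting the `φ` with `a_φ(χ) = 1`. -/

namespace Cfsg.Agent.Helper27.S4700CNT

theorem card_filter_eq_sum {ι : Type*} [Fintype ι] (f : ι → ℕ) (hf : ∀ i, f i ≤ 1) :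
    (Finset.univ.filter (fun i => f i = 1)).card = ∑ i, f i := by
  rw [Finset.card_filter]
  refine Finset.sum_congr rfl fun i _ => ?_
  have := hf i
  split_ifs with h
  · exact h.symm
  · omega

end Cfsg.Agent.Helper27.S4700CNT

namespace Cfsg.Agent.S4700P

open Cfsg.Agent.S0996P Cfsg.Agent.S4700P
open Cfsg Cfsg.Agent.Helper24 Cfsg.Agent.Helper1.W2p

universe u

variable {G : Type u} [Group G]

section L4
variable [Fintype G] [Fintype (IrrCharacter G)] {p : ℕ} [Fact p.Prime] {P : Subgroup G} {n : ℕ}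
  [Fintype (Lin P)]

/-- CNT -/
theorem count_facts (B : BasicF p P n) (D : BrauerData p P) (T : Dict p P n D) (LF : LinFacts P)
    (hXp : ∀ χ ∈ D.X, D.δ χ = 1 → χ ≠ trivIrr G → irrDeg χ = 1 + n * p)
    (hform : ∀ φ : Lin P, φ ≠ 1 →
      (∃ χ ∈ D.X, D.δ χ = 1 ∧ χ ≠ trivIrr G ∧ mult P φ χ = 1 ∧
          ∀ χ' : IrrCharacter G, χ' ≠ χ → mult P φ χ' = 0) ∨
      (D.ε = -1 ∧ (∀ ψ ∈ D.Y, mult P φ ψ = 1) ∧
          ∀ χ' : IrrCharacter G, χ' ∉ D.Y → mult P φ χ' = 0))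
    (hpi : ∀ χ : IrrCharacter G, (χ ∈ D.X ∧ χ ≠ trivIrr G) ∨ χ ∈ D.Y →
      mult P (1 : Lin P) χ = 0) :
    (∀ χ ∈ D.X, D.δ χ = 1 → χ ≠ trivIrr G →
      (Finset.univ.filter (fun φ : Lin P => mult P φ χ = 1)).card = n + 1) ∧
    (D.ε = -1 → ∀ ψ ∈ D.Y,
      (Finset.univ.filter (fun φ : Lin P => mult P φ ψ = 1)).card = D.a ψ) ∧
    (D.ε = 1 → (n + 1) * (Xp D).card + 1 = eN P) ∧
    (D.ε = -1 → ∀ ψ ∈ D.Y, (n + 1) * (Xp D).card + D.a ψ + 1 = eN P) := by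
  classical
  have hp5 := B.five_le
  have hXY : ∀ χ : IrrCharacter G, χ ∈ D.X → χ ∉ D.Y :=
    fun χ hX hY => (Set.disjoint_left.mp D.disj) hX hY
  -- all multiplicities on `(X ∖ 1) ∪ Y` are at most one
  have hle : ∀ χ : IrrCharacter G, (χ ∈ D.X ∧ χ ≠ trivIrr G) ∨ χ ∈ D.Y →
      ∀ φ : Lin P, mult P φ χ ≤ 1 := by
    intro χ hχ φ
    by_cases hφ : φ = 1
    · rw [hφ, hpi χ hχ]
      exact Nat.zero_le _
    · rcases hform φ hφ with ⟨χ₀, -, -, -, h1, h0⟩ | ⟨-, h1, h0⟩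
      · by_cases hc : χ = χ₀
        · rw [hc, h1]
        · rw [h0 χ hc]
          exact Nat.zero_le _
      · by_cases hY : χ ∈ D.Y
        · rw [h1 χ hY]
        · rw [h0 χ hY]
          exact Nat.zero_le _
  -- the sum over `φ` for `χ ∈ X₊`
  have hsumX : ∀ χ ∈ D.X, D.δ χ = 1 → χ ≠ trivIrr G → ∑ φ : Lin P, mult P φ χ = n + 1 := by
    intro χ hχ hδ hne
    have h1 := T.sumX χ hχ
    rw [hXp χ hχ hδ hne, hδ] at h1
    have h2 : (p : ℤ) * ∑ φ : Lin P, (mult P φ χ : ℤ) = (p : ℤ) * ((n : ℤ) + 1) := by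
      rw [h1]
      push_cast
      ring
    have hp0 : (p : ℤ) ≠ 0 := by
      have : p ≠ 0 := by omega
      exact_mod_cast this
    have h3 := mul_left_cancel₀ hp0 h2
    exact_mod_cast h3
  have part1 : ∀ χ ∈ D.X, D.δ χ = 1 → χ ≠ trivIrr G →
      (Finset.univ.filter (fun φ : Lin P => mult P φ χ = 1)).card = n + 1 := by
    intro χ hχ hδ hne
    rw [Cfsg.Agent.Helper27.S4700CNT.card_filter_eq_sum (fun φ : Lin P => mult P φ χ)
      (hle χ (Or.inl ⟨hχ, hne⟩))]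
    exact hsumX χ hχ hδ hne
  have part2 : D.ε = -1 → ∀ ψ ∈ D.Y,
      (Finset.univ.filter (fun φ : Lin P => mult P φ ψ = 1)).card = D.a ψ := by
    intro _ ψ hψ
    rw [Cfsg.Agent.Helper27.S4700CNT.card_filter_eq_sum (fun φ : Lin P => mult P φ ψ)
      (hle ψ (Or.inr hψ))]
    exact T.sumY ψ hψ
  -- the number of `φ ≠ 1`
  have hcount : ∑ φ : Lin P, (if φ = 1 then 0 else 1) + 1 = eN P := by
    rw [← LF.card, ← Finset.card_univ, Finset.sum_ite, Finset.sum_const_zero, zero_add,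
      Finset.sum_const, smul_eq_mul, mul_one, Finset.filter_ne' Finset.univ (1 : Lin P),
      Finset.card_erase_of_mem (Finset.mem_univ _)]
    have : 0 < (Finset.univ : Finset (Lin P)).card :=
      Finset.card_pos.mpr ⟨1, Finset.mem_univ _⟩
    omega
  -- sums over `X₊` for the two kinds of `φ`
  have hXpsum1 : ∀ φ : Lin P, ∀ χ₀ ∈ D.X, D.δ χ₀ = 1 → χ₀ ≠ trivIrr G → mult P φ χ₀ = 1 →
      (∀ χ' : IrrCharacter G, χ' ≠ χ₀ → mult P φ χ' = 0) → ∑ χ ∈ Xp D, mult P φ χ = 1 := by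
    intro φ χ₀ hX hδ hne h1 h0
    rw [Finset.sum_eq_single χ₀ (fun χ _ hc => h0 χ hc)
      (fun h => absurd ((mem_Xp D χ₀).mpr ⟨hX, hδ, hne⟩) h), h1]
  have hXpsum0 : ∀ φ : Lin P, (∀ χ' : IrrCharacter G, χ' ∉ D.Y → mult P φ χ' = 0) →
      ∑ χ ∈ Xp D, mult P φ χ = 0 := by
    intro φ h0
    apply Finset.sum_eq_zero
    intro χ hχ
    exact h0 χ (hXY χ ((mem_Xp D χ).mp hχ).1)
  have hXpone : ∑ χ ∈ Xp D, mult P (1 : Lin P) χ = 0 := by
    apply Finset.sum_eq_zero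
    intro χ hχ
    rw [mem_Xp] at hχ
    exact hpi χ (Or.inl ⟨hχ.1, hχ.2.2⟩)
  have hswap : ∑ φ : Lin P, ∑ χ ∈ Xp D, mult P φ χ = (n + 1) * (Xp D).card := by
    rw [Finset.sum_comm]
    have : ∀ χ ∈ Xp D, ∑ φ : Lin P, mult P φ χ = n + 1 := by
      intro χ hχ
      rw [mem_Xp] at hχ
      exact hsumX χ hχ.1 hχ.2.1 hχ.2.2
    rw [Finset.sum_congr rfl this, Finset.sum_const, smul_eq_mul, mul_comm]
  refine ⟨part1, part2, ?_, ?_⟩
  · intro hε
    have hε' : D.ε ≠ -1 := by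
      rw [hε]
      norm_num
    have hterm : ∀ φ : Lin P, ∑ χ ∈ Xp D, mult P φ χ = if φ = 1 then 0 else 1 := by
      intro φ
      by_cases hφ : φ = 1
      · rw [if_pos hφ, hφ]
        exact hXpone
      · rw [if_neg hφ]
        rcases hform φ hφ with ⟨χ₀, hX, hδ, hne, h1, h0⟩ | ⟨h, -, -⟩
        · exact hXpsum1 φ χ₀ hX hδ hne h1 h0
        · exact absurd h hε'
    rw [← hswap, Finset.sum_congr rfl (fun φ _ => hterm φ)]
    exact hcount
  · intro _ ψ hψ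
    have hterm : ∀ φ : Lin P, ∑ χ ∈ Xp D, mult P φ χ + mult P φ ψ = if φ = 1 then 0 else 1 := by
      intro φ
      by_cases hφ : φ = 1
      · rw [if_pos hφ, hφ, hXpone, hpi ψ (Or.inr hψ)]
      · rw [if_neg hφ]
        rcases hform φ hφ with ⟨χ₀, hX, hδ, hne, h1, h0⟩ | ⟨-, h1, h0⟩
        · rw [hXpsum1 φ χ₀ hX hδ hne h1 h0, h0 ψ (fun h => hXY χ₀ hX (h ▸ hψ))]
        · rw [hXpsum0 φ h0, h1 ψ hψ]
    have h2 : ∑ φ : Lin P, (∑ χ ∈ Xp D, mult P φ χ + mult P φ ψ) =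
        (n + 1) * (Xp D).card + D.a ψ := by
      rw [Finset.sum_add_distrib, hswap, T.sumY ψ hψ]
    rw [← h2, Finset.sum_congr rfl (fun φ _ => hterm φ)]
    exact hcount

end L4

end Cfsg.Agent.S4700P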