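-- Mechanical port of Cfsg/Agent/Helper18/S0996RK.lean (by helper18) to the hypotheses `HypF`/`BasicF` of S4700
-- (`2 n < p + 3` replaced by `NotF p n`); see departures/helper27_s4700_pieces.md.
import Mathlib
import Cfsg.Agent.Helper27.S4700Defs
import Cfsg.Agent.Helper27.S4700CMP

set_option autoImplicit false

/-! # S4700 (ported from S0996) piece RK: `|N ∩ g N g⁻¹| = e` for `g ∉ N` by double counting -/

namespace Cfsg.Agent.Helper27.S4700RK

open Cfsg Cfsg.Agent.Helper24 Cfsg.Agent.Helper1.W2p Cfsg.Agent.S0996P Cfsg.Agent.S4700P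
  Cfsg.Agent.Helper27.S4700CMP

universe u

variable {G : Type u} [Group G]

theorem mem_cj_iff (g x : G) (K : Subgroup G) : x ∈ cj g K ↔ g⁻¹ * x * g ∈ K := by
  unfold cj
  rw [Subgroup.mem_map]
  constructor
  · rintro ⟨c, hc, rfl⟩
    simp only [MulEquiv.coe_toMonoidHom, MulAut.conj_apply]
    have : g⁻¹ * (g * c * g⁻¹) * g = c := by group
    rw [this]; exact hc
  · intro h
    refine ⟨g⁻¹ * x * g, h, ?_⟩
    simp only [MulEquiv.coe_toMonoidHom, MulAut.conj_apply]
    group

theorem mem_EE_iff (P : Subgroup G) (g x : G) : x ∈ EE P g ↔ x ∈ NP P ∧ g⁻¹ * x * g ∈ NP P := by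
  unfold EE
  rw [Subgroup.mem_inf, mem_cj_iff]

section
variable [Finite G] {p : ℕ} [Fact p.Prime] {P : Subgroup G} {n : ℕ}

theorem EE_disj (B : BasicF p P n) (g : G) (hg : g ∉ NP P) : EE P g ⊓ P = ⊥ := by
  rw [eq_bot_iff]
  intro y hy
  rw [Subgroup.mem_bot]
  obtain ⟨hyE, hyP⟩ := hy
  by_contra hne
  have hyE : y ∈ EE P g := hyE
  rw [mem_EE_iff] at hyE
  exact hg (B.conj_mem g y hyP hne hyE.2)

theorem card_EE_le (B : BasicF p P n) (g : G) (hg : g ∉ NP P) : Nat.card ↥(EE P g) ≤ eN P :=
  card_le_of_disj P (EE P g) inf_le_left (EE_disj B g hg)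

end

end Cfsg.Agent.Helper27.S4700RK

namespace Cfsg.Agent.S4700P

open Cfsg.Agent.S0996P Cfsg.Agent.S4700P
open Cfsg Cfsg.Agent.Helper24 Cfsg.Agent.Helper1.W2p Cfsg.Agent.Helper27.S4700CMP
  Cfsg.Agent.Helper27.S4700RK

universe u

variable {G : Type u} [Group G]

section L5b
variable [Finite G] {p : ℕ} [Fact p.Prime] {P : Subgroup G} {n : ℕ}

/-- RK -/
theorem rk_of (B : BasicF p P n)
    (hfix : ∀ h ∈ NP P, h ∉ P →
      Nat.card {x : G // x⁻¹ * h * x ∈ NP P} = (n + 1) * (p * eN P))
    (g : G) (hg : g ∉ NP P) : Nat.card ↥(EE P g) = eN P := by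
  classical
  have : Fintype G := Fintype.ofFinite G
  set e := eN P with he
  have he2 : 2 ≤ e := B.two_le_eN
  have hp5 : 5 ≤ p := B.five_le
  -- the finsets
  set S : Finset G := Finset.univ.filter (fun h => h ∈ NP P ∧ h ∉ P) with hS
  set NN : Finset G := Finset.univ.filter (fun x => x ∈ NP P) with hNN
  set PP : Finset G := Finset.univ.filter (fun x => x ∈ P) with hPP
  have cNN : NN.card = p * e := by
    rw [← B.card_NP, Nat.card_eq_fintype_card, Fintype.card_subtype]
  have cPP : PP.card = p := by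
    rw [← B.card_P, Nat.card_eq_fintype_card, Fintype.card_subtype]
  have cG : (Finset.univ : Finset G).card = p * e * (1 + n * p) := by
    rw [Finset.card_univ, ← Nat.card_eq_fintype_card, B.card_G]
  have hPN : PP ⊆ NN := by
    intro x hx
    rw [hPP, Finset.mem_filter] at hx
    rw [hNN, Finset.mem_filter]
    exact ⟨Finset.mem_univ _, P_le_NP P hx.2⟩
  have hSeq : S = NN \ PP := by
    ext x
    simp only [hS, hNN, hPP, Finset.mem_filter, Finset.mem_univ, true_and, Finset.mem_sdiff]
  have cS : S.card = p * e - p := by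
    rw [hSeq, Finset.card_sdiff_of_subset hPN, cNN, cPP]
  -- double counting
  have hdc := Finset.sum_card_bipartiteAbove_eq_sum_card_bipartiteBelow
    (s := S) (t := (Finset.univ : Finset G)) (fun h x => x⁻¹ * h * x ∈ NP P)
  unfold Finset.bipartiteAbove Finset.bipartiteBelow at hdc
  -- left side
  have hL : ∀ h ∈ S, (Finset.univ.filter (fun x : G => x⁻¹ * h * x ∈ NP P)).card
      = (n + 1) * (p * e) := by
    intro h hh
    rw [hS, Finset.mem_filter] at hh
    rw [← hfix h hh.2.1 hh.2.2, Nat.card_eq_fintype_card, Fintype.card_subtype]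
  rw [Finset.sum_congr rfl hL, Finset.sum_const, smul_eq_mul] at hdc
  -- right side: split into x ∈ N and x ∉ N
  have hsplit : (Finset.univ : Finset G) = NN ∪ (Finset.univ \ NN) := by
    rw [Finset.union_sdiff_of_subset (Finset.subset_univ _)]
  have hdisj : Disjoint NN (Finset.univ \ NN) := Finset.disjoint_sdiff
  rw [hsplit, Finset.sum_union hdisj] at hdc
  have hR1 : ∀ x ∈ NN, (S.filter (fun h => x⁻¹ * h * x ∈ NP P)).card = p * e - p := by
    intro x hx
    rw [hNN, Finset.mem_filter] at hx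
    rw [← cS]
    congr 1
    apply Finset.filter_true_of_mem
    intro h hh
    rw [hS, Finset.mem_filter] at hh
    exact (NP P).mul_mem ((NP P).mul_mem ((NP P).inv_mem hx.2) hh.2.1) hx.2
  have hR2 : ∀ x ∈ (Finset.univ \ NN : Finset G),
      (S.filter (fun h => x⁻¹ * h * x ∈ NP P)).card + 1 = Nat.card ↥(EE P x) := by
    intro x hx
    rw [Finset.mem_sdiff, hNN, Finset.mem_filter] at hx
    have hxN : x ∉ NP P := fun h => hx.2 ⟨Finset.mem_univ _, h⟩
    have hd := EE_disj B x hxN
    rw [Nat.card_eq_fintype_card, Fintype.card_subtype]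
    have h1 : (Finset.univ.filter (fun h : G => h ∈ EE P x)) =
        insert 1 (S.filter (fun h => x⁻¹ * h * x ∈ NP P)) := by
      ext h
      simp only [Finset.mem_filter, Finset.mem_univ, true_and, Finset.mem_insert, hS]
      rw [mem_EE_iff]
      constructor
      · rintro ⟨a, b⟩
        by_cases h1 : h = 1
        · left; exact h1
        · right
          refine ⟨⟨a, ?_⟩, b⟩
          intro hP
          have : h ∈ EE P x ⊓ P := ⟨(mem_EE_iff P x h).2 ⟨a, b⟩, hP⟩
          rw [hd, Subgroup.mem_bot] at this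
          exact h1 this
      · rintro (rfl | ⟨⟨a, -⟩, b⟩)
        · refine ⟨(NP P).one_mem, ?_⟩
          have : x⁻¹ * 1 * x = 1 := by group
          rw [this]; exact (NP P).one_mem
        · exact ⟨a, b⟩
    rw [h1, Finset.card_insert_of_notMem]
    intro h1S
    rw [Finset.mem_filter, hS, Finset.mem_filter] at h1S
    exact h1S.1.2.2 P.one_mem
  rw [Finset.sum_congr rfl hR1, Finset.sum_const, smul_eq_mul, cNN, cS] at hdc
  -- all terms for x ∉ N are ≤ e - 1
  have hle : ∀ x ∈ (Finset.univ \ NN : Finset G),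
      (S.filter (fun h => x⁻¹ * h * x ∈ NP P)).card ≤ e - 1 := by
    intro x hx
    have h2 := hR2 x hx
    rw [Finset.mem_sdiff, hNN, Finset.mem_filter] at hx
    have hxN : x ∉ NP P := fun h => hx.2 ⟨Finset.mem_univ _, h⟩
    have := card_EE_le B x hxN
    omega
  have cCompl : (Finset.univ \ NN : Finset G).card = p * e * (n * p) := by
    rw [Finset.card_sdiff_of_subset (Finset.subset_univ _), cG, cNN]
    have : p * e * (1 + n * p) = p * e + p * e * (n * p) := by ring
    rw [this]; omega
  -- sum over x ∉ N equals (e-1) * #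
  have hsum : ∑ x ∈ (Finset.univ \ NN : Finset G),
      (S.filter (fun h => x⁻¹ * h * x ∈ NP P)).card = (Finset.univ \ NN : Finset G).card * (e - 1) := by
    rw [cCompl]
    have hpe : p ≤ p * e := Nat.le_mul_of_pos_right p (by omega)
    obtain ⟨k, hk⟩ : ∃ k, e = k + 1 := ⟨e - 1, by omega⟩
    have e1 : p * e - p = p * k := by rw [hk]; simp [Nat.mul_succ]
    rw [e1] at hdc
    have e2 : e - 1 = k := by omega
    rw [e2]
    have : p * k * ((n + 1) * (p * e)) = p * e * (p * k) + p * e * (n * p) * k := by ring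
    rw [this] at hdc
    exact (Nat.add_left_cancel hdc).symm
  -- hence each term equals e - 1
  have hgmem : g ∈ (Finset.univ \ NN : Finset G) := by
    rw [Finset.mem_sdiff, hNN, Finset.mem_filter]
    exact ⟨Finset.mem_univ _, fun h => hg h.2⟩
  have hall : ∀ x ∈ (Finset.univ \ NN : Finset G),
      (S.filter (fun h => x⁻¹ * h * x ∈ NP P)).card = e - 1 := by
    have hsum' : ∑ x ∈ (Finset.univ \ NN : Finset G),
        (S.filter (fun h => x⁻¹ * h * x ∈ NP P)).card = ∑ _x ∈ (Finset.univ \ NN : Finset G), (e - 1) := by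
      rw [hsum, Finset.sum_const, smul_eq_mul]
    exact (Finset.sum_eq_sum_iff_of_le hle).1 hsum'
  have := hall g hgmem
  have h2 := hR2 g hgmem
  omega

end L5b

end Cfsg.Agent.S4700P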