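-- Mechanical port of Cfsg/Agent/Helper8/S0996FORM.lean (by helper8) to the hypotheses `HypF`/`BasicF` of S4700
-- (`2 n < p + 3` replaced by `NotF p n`); see departures/helper27_s4700_pieces.md.
import Mathlib
import Cfsg.Agent.Helper27.S4700Defs

set_option autoImplicit false

/-! S0996, piece FORM: for `φ ≠ 1` the induced character `Λ_φ` is either a single character of `X₊`
or the sum of all exceptional characters. -/

namespace Cfsg.Agent.Helper27.S4700FORM

/-- a combination `Σ a_i d_i = M` with `a ≥ 1` on a set `S` with `Σ_S d = M` is the indicator of `S` -/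
theorem eq_indicator_of_sum {ι : Type*} [Fintype ι] [DecidableEq ι] (a d : ι → ℕ) (M : ℕ)
    (S : Finset ι) (hd : ∀ i, 0 < d i) (hS : ∑ i ∈ S, d i = M) (ha : ∀ i ∈ S, 1 ≤ a i)
    (hsum : ∑ i, a i * d i = M) : (∀ i ∈ S, a i = 1) ∧ ∀ i, i ∉ S → a i = 0 := by
  have h1 : ∑ i ∈ S, a i * d i + ∑ i ∈ Sᶜ, a i * d i = M := by
    rw [Finset.sum_add_sum_compl]
    exact hsum
  have h2 : ∑ i ∈ S, a i * d i = ∑ i ∈ S, d i + ∑ i ∈ S, (a i - 1) * d i := by
    rw [← Finset.sum_add_distrib]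
    refine Finset.sum_congr rfl fun i hi => ?_
    have := ha i hi
    obtain ⟨k, hk⟩ : ∃ k, a i = k + 1 := ⟨a i - 1, by omega⟩
    rw [hk]
    simp only [Nat.add_sub_cancel]
    ring
  rw [h2, hS] at h1
  have h3 : ∑ i ∈ S, (a i - 1) * d i = 0 := by omega
  have h4 : ∑ i ∈ Sᶜ, a i * d i = 0 := by omega
  constructor
  · intro i hi
    have h5 := (Finset.sum_eq_zero_iff.mp h3) i hi
    have h6 : a i - 1 = 0 := by
      rcases Nat.mul_eq_zero.mp h5 with h | h
      · exact h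
      · exact absurd h (hd i).ne'
    have := ha i hi
    omega
  · intro i hi
    have h5 := (Finset.sum_eq_zero_iff.mp h4) i (Finset.mem_compl.mpr hi)
    rcases Nat.mul_eq_zero.mp h5 with h | h
    · exact h
    · exact absurd h (hd i).ne'

end Cfsg.Agent.Helper27.S4700FORM

namespace Cfsg.Agent.S4700P

open Cfsg.Agent.S0996P Cfsg.Agent.S4700P
open Cfsg Cfsg.Agent.Helper24 Cfsg.Agent.Helper1.W2p

universe u

variable {G : Type u} [Group G]

section L4
variable [Fintype G] [Fintype (IrrCharacter G)] {p : ℕ} [Fact p.Prime] {P : Subgroup G} {n : ℕ}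
  [Fintype (Lin P)]

/-- FORM -/
theorem form_of (B : BasicF p P n) (D : BrauerData p P) (T : Dict p P n D)
    (hXp : ∀ χ ∈ D.X, D.δ χ = 1 → χ ≠ trivIrr G → irrDeg χ = 1 + n * p)
    (hYn : D.ε = -1 → ∀ ψ ∈ D.Y, Nat.card D.Y * irrDeg ψ = 1 + n * p)
    (φ : Lin P) (hφ : φ ≠ 1) :
    (∃ χ ∈ D.X, D.δ χ = 1 ∧ χ ≠ trivIrr G ∧ mult P φ χ = 1 ∧
        ∀ χ' : IrrCharacter G, χ' ≠ χ → mult P φ χ' = 0) ∨
    (D.ε = -1 ∧ (∀ ψ ∈ D.Y, mult P φ ψ = 1) ∧
        ∀ χ' : IrrCharacter G, χ' ∉ D.Y → mult P φ χ' = 0) := by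
  classical
  have hdeg := T.deg φ
  have hdpos : ∀ χ : IrrCharacter G, 0 < irrDeg χ := fun χ => irrDeg_pos χ
  by_cases hcase : ∃ χ ∈ D.X, D.δ χ = 1 ∧ χ ≠ trivIrr G ∧ 1 ≤ mult P φ χ
  · left
    obtain ⟨χ₀, hχX, hχδ, hχne, hχa⟩ := hcase
    have hd0 := hXp χ₀ hχX hχδ hχne
    obtain ⟨h1, h2⟩ := Cfsg.Agent.Helper27.S4700FORM.eq_indicator_of_sum
      (fun χ => mult P φ χ) (fun χ => irrDeg χ) (1 + n * p) {χ₀} hdpos
      (by rw [Finset.sum_singleton]; exact hd0)
      (by intro i hi; rw [Finset.mem_singleton] at hi; rw [hi]; exact hχa) hdeg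
    refine ⟨χ₀, hχX, hχδ, hχne, h1 χ₀ (Finset.mem_singleton_self _), ?_⟩
    intro χ' hne
    exact h2 χ' (by rw [Finset.mem_singleton]; exact hne)
  · right
    push Not at hcase
    have hzero : ∀ χ ∈ D.X, D.δ χ = 1 → mult P φ χ = 0 := by
      intro χ hχ hδ
      by_cases ht : χ = trivIrr G
      · rw [ht]
        exact T.triv_ne φ hφ
      · have := hcase χ hχ hδ ht
        omega
    have hnonpos : ∑ χ ∈ XF D, D.δ χ * (mult P φ χ : ℤ) ≤ 0 := by
      apply Finset.sum_nonpos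
      intro χ hχ
      rw [mem_XF] at hχ
      rcases D.δ_pm χ hχ with h | h
      · rw [hzero χ hχ h]
        simp
      · rw [h]
        have : (0 : ℤ) ≤ (mult P φ χ : ℤ) := Int.natCast_nonneg _
        linarith
    -- `Y` is non-empty
    have hYpos : 0 < Nat.card D.Y := by
      have h1 := D.card_Y
      have h2 := B.five_le
      rcases Nat.eq_zero_or_pos (Nat.card D.Y) with h | h
      · rw [h, zero_mul] at h1
        omega
      · exact h
    obtain ⟨⟨ψ₀, hψ₀⟩⟩ : Nonempty D.Y := (Nat.card_pos_iff.mp hYpos).1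
    have hε : D.ε = -1 := by
      rcases D.ε_pm with h | h
      · exfalso
        have h1 := T.rel φ ψ₀ hψ₀
        rw [h] at h1
        have : (0 : ℤ) ≤ (mult P φ ψ₀ : ℤ) := Int.natCast_nonneg _
        linarith
      · exact h
    have hge : ∀ ψ ∈ D.Y, 1 ≤ mult P φ ψ := by
      intro ψ hψ
      have h1 := T.rel φ ψ hψ
      rw [hε] at h1
      have : (1 : ℤ) ≤ (mult P φ ψ : ℤ) := by linarith
      exact_mod_cast this
    have hYsum : ∑ ψ ∈ YF D, irrDeg ψ = 1 + n * p := by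
      have hconst : ∀ ψ ∈ YF D, irrDeg ψ = irrDeg ψ₀ := by
        intro ψ hψ
        rw [mem_YF] at hψ
        have h1 := hYn hε ψ hψ
        have h2 := hYn hε ψ₀ hψ₀
        exact Nat.eq_of_mul_eq_mul_left hYpos (h1.trans h2.symm)
      rw [Finset.sum_congr rfl hconst, Finset.sum_const, card_YF, smul_eq_mul]
      exact hYn hε ψ₀ hψ₀
    obtain ⟨h1, h2⟩ := Cfsg.Agent.Helper27.S4700FORM.eq_indicator_of_sum
      (fun χ => mult P φ χ) (fun χ => irrDeg χ) (1 + n * p) (YF D) hdpos hYsum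
      (by intro i hi; rw [mem_YF] at hi; exact hge i hi) hdeg
    refine ⟨hε, ?_, ?_⟩
    · intro ψ hψ
      exact h1 ψ ((mem_YF D ψ).mpr hψ)
    · intro χ' hχ'
      exact h2 χ' (by rw [mem_YF]; exact hχ')

end L4

end Cfsg.Agent.S4700P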