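-- Mechanical port of Cfsg/Agent/Helper15/S0996FR.lean (by helper15) to the hypotheses `HypF`/`BasicF` of S4700
-- (`2 n < p + 3` replaced by `NotF p n`); see departures/helper27_s4700_pieces.md.
import Mathlib
import Cfsg.Agent.Helper11.OrderP
import Cfsg.Agent.Helper27.S4700Defs

set_option autoImplicit false

/-! # S4700 (ported from S0996) piece FR: Frobenius-type facts on `N = N_G(P)` (helper15) -/

namespace Cfsg.Agent.Helper27.S4700FR

universe u

variable {G : Type u} [Group G]

/-- If `P` has prime order, `y ∈ P` is non-trivial and `h` commutes with `y`, then `h`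
centralizes `P`. -/
theorem mem_centralizer_of_commute {p : ℕ} [Fact p.Prime] {P : Subgroup G}
    (hP : Nat.card P = p) {y : G} (hy : y ∈ P) (hy1 : y ≠ 1) {h : G} (hc : h * y = y * h) :
    h ∈ Subgroup.centralizer (P : Set G) := by
  have hPz := Cfsg.Agent.Helper11.eq_zpowers_of_card_prime P hP y hy hy1
  rw [Subgroup.mem_centralizer_iff]
  intro u hu
  have hu' : u ∈ Subgroup.zpowers y := by rw [← hPz]; exact hu
  obtain ⟨k, rfl⟩ := Subgroup.mem_zpowers_iff.1 hu'
  have hcomm : Commute y h := hc.symm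
  exact (hcomm.zpow_left k).eq

/-- An element of order `p` normalizing a Sylow `p`-subgroup lies in it. -/
theorem mem_sylow_of_orderOf_eq {p : ℕ} [Fact p.Prime] (S : Sylow p G) {y : G}
    (hy : orderOf y = p) (hyN : y ∈ Subgroup.normalizer ((S : Subgroup G) : Set G)) :
    y ∈ (S : Subgroup G) := by
  have hpg : IsPGroup p ↥(Subgroup.zpowers y) := by
    apply IsPGroup.of_card (n := 1)
    rw [Nat.card_zpowers, hy, pow_one]
  have h := hpg.inf_normalizer_sylow S
  have hmem : y ∈ Subgroup.zpowers y ⊓ Subgroup.normalizer (S : Set G) :=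
    Subgroup.mem_inf.mpr ⟨Subgroup.mem_zpowers y, hyN⟩
  rw [h] at hmem
  exact (Subgroup.mem_inf.mp hmem).2

/-- A self-centralizing subgroup of prime order is a Sylow subgroup. -/
theorem exists_sylow_eq [Finite G] {p : ℕ} [Fact p.Prime] {P : Subgroup G}
    (hP : Nat.card P = p) (hC : Subgroup.centralizer (P : Set G) = P) :
    ∃ S : Sylow p G, (S : Subgroup G) = P := by
  have hp : p.Prime := Fact.out
  have hne : ∃ z ∈ P, z ≠ 1 := by
    by_contra hcon
    have hbot : P = ⊥ := by
      rw [Subgroup.eq_bot_iff_forall]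
      intro x hx
      by_contra hx1
      exact hcon ⟨x, hx, hx1⟩
    rw [hbot, Subgroup.card_bot] at hP
    exact hp.one_lt.ne hP
  obtain ⟨z, hzP, hz1⟩ := hne
  have hPz := Cfsg.Agent.Helper11.eq_zpowers_of_card_prime P hP z hzP hz1
  have hz : orderOf z = p := Cfsg.Agent.Helper11.orderOf_eq_prime_of_mem P hP z hzP hz1
  have hCz : Subgroup.centralizer ({z} : Set G) = Subgroup.zpowers z := by
    rw [← hPz]
    apply le_antisymm
    · intro h hh
      rw [← hC]
      rw [Subgroup.mem_centralizer_iff] at hh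
      have := hh z rfl
      exact mem_centralizer_of_commute hP hzP hz1 this.symm
    · intro h hh
      rw [← hC] at hh
      rw [Subgroup.mem_centralizer_iff] at hh ⊢
      intro w hw
      rw [Set.mem_singleton_iff] at hw
      subst hw
      exact hh w hzP
  obtain ⟨S, hS⟩ := Cfsg.Agent.Helper11.exists_sylow_eq_zpowers_of_centralizer z hz hCz
  exact ⟨S, by rw [hS, hPz]⟩

end Cfsg.Agent.Helper27.S4700FR

namespace Cfsg.Agent.S4700P

open Cfsg.Agent.S0996P Cfsg.Agent.S4700P
open Cfsg Cfsg.Agent.Helper24 Cfsg.Agent.Helper1.W2p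

universe u

variable {G : Type u} [Group G]

section L1
variable [Finite G] {p : ℕ} [Fact p.Prime] {P : Subgroup G} {n : ℕ}

/-- FR -/
theorem frobenius_facts (H : HypF p P n) :
    (∀ h ∈ NP P, h ∉ P → ¬ p ∣ orderOf h) ∧
    (∀ x y : G, y ∈ P → y ≠ 1 → x⁻¹ * y * x ∈ NP P → x ∈ NP P) ∧
    (∀ h ∈ NP P, h ∉ P → ∀ y ∈ P, ∃ u ∈ P, u * h * u⁻¹ = h * y) ∧
    (∀ h ∈ NP P, h ∉ P → ∀ y ∈ P, h * y = y * h → y = 1) := by
  have hp : p.Prime := Fact.out
  obtain ⟨S, hS⟩ := Cfsg.Agent.Helper27.S4700FR.exists_sylow_eq H.card_P H.cent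
  -- key: elements of order p in N lie in P
  have key : ∀ y : G, orderOf y = p → y ∈ NP P → y ∈ P := by
    intro y hy hyN
    have := Cfsg.Agent.Helper27.S4700FR.mem_sylow_of_orderOf_eq S hy (by rw [hS]; exact hyN)
    rw [hS] at this
    exact this
  -- (d)
  have hd : ∀ h ∈ NP P, h ∉ P → ∀ y ∈ P, h * y = y * h → y = 1 := by
    intro h _ hhP y hy hc
    by_contra hy1
    apply hhP
    have := Cfsg.Agent.Helper27.S4700FR.mem_centralizer_of_commute H.card_P hy hy1 hc
    rw [H.cent] at this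
    exact this
  refine ⟨?_, ?_, ?_, hd⟩
  · -- (a)
    intro h hhN hhP hdvd
    set y := h ^ (orderOf h / p) with hydef
    have hpos : 0 < orderOf h := orderOf_pos h
    have hy : orderOf y = p := orderOf_pow_orderOf_div hpos.ne' hdvd
    have hyN : y ∈ NP P := Subgroup.pow_mem _ hhN _
    have hyP : y ∈ P := key y hy hyN
    have hy1 : y ≠ 1 := by
      intro h1
      rw [h1, orderOf_one] at hy
      exact hp.one_lt.ne hy
    have hc : h * y = y * h := by
      rw [hydef]
      exact ((Commute.refl h).pow_right _).eq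
    exact hy1 (hd h hhN hhP y hyP hc)
  · -- (b)
    intro x y hy hy1 hxy
    have hyord : orderOf y = p := Cfsg.Agent.Helper11.orderOf_eq_prime_of_mem P H.card_P y hy hy1
    have hconj : orderOf (x⁻¹ * y * x) = p := by
      have : x⁻¹ * y * x = (MulAut.conj x⁻¹) y := by simp [MulAut.conj_apply]
      rw [this, MulEquiv.orderOf_eq]
      exact hyord
    have hy' : x⁻¹ * y * x ∈ P := key _ hconj hxy
    have hPz := Cfsg.Agent.Helper11.eq_zpowers_of_card_prime P H.card_P y hy hy1
    have hy'1 : x⁻¹ * y * x ≠ 1 := by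
      intro h1
      rw [h1, orderOf_one] at hconj
      exact hp.one_lt.ne hconj
    have hPz' := Cfsg.Agent.Helper11.eq_zpowers_of_card_prime P H.card_P _ hy' hy'1
    have : Finite ↥P := Nat.finite_of_card_ne_zero (by rw [H.card_P]; exact hp.ne_zero)
    have : Finite ((P : Subgroup G) : Set G) := this
    apply Subgroup.mem_normalizer_fintype
    intro u hu
    have hu' : u ∈ Subgroup.zpowers (x⁻¹ * y * x) := by rw [← hPz']; exact hu
    obtain ⟨k, rfl⟩ := Subgroup.mem_zpowers_iff.1 hu'
    have e : x * (x⁻¹ * y * x) ^ k * x⁻¹ = y ^ k := by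
      have : x⁻¹ * y * x = (MulAut.conj x⁻¹) y := by simp [MulAut.conj_apply]
      rw [this, ← map_zpow]
      simp [MulAut.conj_apply, mul_assoc]
    rw [e]
    exact Subgroup.zpow_mem _ hy k
  · -- (c)
    intro h hhN hhP y hy
    have : Finite ↥P := Nat.finite_of_card_ne_zero (by rw [H.card_P]; exact hp.ne_zero)
    have hinvN : h⁻¹ ∈ NP P := Subgroup.inv_mem _ hhN
    let f : ↥P → ↥P := fun u => ⟨h⁻¹ * (u : G) * h * (u : G)⁻¹, by
      have h1 : h⁻¹ * (u : G) * h⁻¹⁻¹ ∈ P := (Subgroup.mem_normalizer_iff.mp hinvN (u : G)).mp u.2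
      rw [inv_inv] at h1
      exact P.mul_mem h1 (P.inv_mem u.2)⟩
    have hinj : Function.Injective f := by
      intro u v huv
      have h1 : h⁻¹ * (u : G) * h * (u : G)⁻¹ = h⁻¹ * (v : G) * h * (v : G)⁻¹ :=
        congrArg Subtype.val huv
      have h2 : h * ((v : G)⁻¹ * (u : G)) = ((v : G)⁻¹ * (u : G)) * h := by
        have h3 : (u : G) * h * (u : G)⁻¹ = (v : G) * h * (v : G)⁻¹ := by
          have := congrArg (fun w => h * w) h1
          simpa [mul_assoc] using this
        calc h * ((v : G)⁻¹ * (u : G))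
            = (v : G)⁻¹ * ((v : G) * h * (v : G)⁻¹) * (u : G) := by group
          _ = (v : G)⁻¹ * ((u : G) * h * (u : G)⁻¹) * (u : G) := by rw [h3]
          _ = ((v : G)⁻¹ * (u : G)) * h := by group
      have h4 := hd h hhN hhP _ (P.mul_mem (P.inv_mem v.2) u.2) h2
      apply Subtype.ext
      have : (u : G) = (v : G) * ((v : G)⁻¹ * (u : G)) := by group
      rw [this, h4, mul_one]
    have hsurj : Function.Surjective f := Finite.surjective_of_injective hinj
    obtain ⟨u, hu⟩ := hsurj ⟨y, hy⟩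
    refine ⟨u, u.2, ?_⟩
    have h1 : h⁻¹ * (u : G) * h * (u : G)⁻¹ = y := congrArg Subtype.val hu
    rw [← h1]
    group

end L1

end Cfsg.Agent.S4700P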