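-- Mechanical port of Cfsg/Agent/Helper15/S0996GS3.lean (by helper15) to the hypotheses `HypF`/`BasicF` of S4700
-- (`2 n < p + 3` replaced by `NotF p n`); see departures/helper27_s4700_pieces.md.
import Mathlib
import Cfsg.Agent.Helper11.OrderP
import Cfsg.Agent.Helper27.S4700Defs
import Cfsg.Agent.Helper27.S4700FR

set_option autoImplicit false
open scoped commutatorElement

/-! # S4700 (ported from S0996) piece GS3: `2 ≤ e` and `1 ≤ n` (helper15) -/

namespace Cfsg.Agent.Helper27.S4700GS3

universe u

variable {G : Type u} [Group G]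

/-- Commutators of elements of the normalizer of a subgroup of prime order centralize it. -/
theorem commutator_mem_centralizer {p : ℕ} [Fact p.Prime] {P : Subgroup G}
    (hP : Nat.card P = p) {a b : G} (ha : a ∈ Subgroup.normalizer (P : Set G))
    (hb : b ∈ Subgroup.normalizer (P : Set G)) : ⁅a, b⁆ ∈ Subgroup.centralizer (P : Set G) := by
  have hcyc : IsCyclic ↥P := isCyclic_of_prime_card hP
  let f := P.normalizerMonoidHom
  let e := IsCyclic.mulAutMulEquiv ↥P
  have hcomm : ∀ φ ψ : MulAut ↥P, φ * ψ = ψ * φ := by
    intro φ ψ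
    apply e.injective
    rw [map_mul, map_mul, mul_comm]
  have h1 : f ⁅(⟨a, ha⟩ : ↥(Subgroup.normalizer (P : Set G))), ⟨b, hb⟩⁆ = 1 := by
    rw [map_commutatorElement, commutatorElement_eq_one_iff_commute]
    exact hcomm _ _
  have h2 : ⁅(⟨a, ha⟩ : ↥(Subgroup.normalizer (P : Set G))), ⟨b, hb⟩⁆ ∈ f.ker := h1
  rw [Subgroup.normalizerMonoidHom_ker] at h2
  exact h2

end Cfsg.Agent.Helper27.S4700GS3

namespace Cfsg.Agent.S4700P

open Cfsg.Agent.S0996P Cfsg.Agent.S4700P
open Cfsg Cfsg.Agent.Helper24 Cfsg.Agent.Helper1.W2p

universe u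

variable {G : Type u} [Group G]

section L1
variable [Finite G] {p : ℕ} [Fact p.Prime] {P : Subgroup G} {n : ℕ}

/-- GS3 -/
theorem two_le_eN_and_one_le_n (H : HypF p P n) : 2 ≤ eN P ∧ 1 ≤ n := by
  have hp : p.Prime := Fact.out
  obtain ⟨S, hS⟩ := Cfsg.Agent.Helper27.S4700FR.exists_sylow_eq H.card_P H.cent
  have hPne : ∃ z ∈ P, z ≠ 1 := by
    by_contra hcon
    have hbot : P = ⊥ := by
      rw [Subgroup.eq_bot_iff_forall]
      intro x hx
      by_contra hx1
      exact hcon ⟨x, hx, hx1⟩
    have hc := H.card_P
    rw [hbot, Subgroup.card_bot] at hc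
    exact hp.one_lt.ne hc
  obtain ⟨z, hzP, hz1⟩ := hPne
  constructor
  · by_contra hlt
    have h0 : eN P ≠ 0 := by
      unfold eN Subgroup.relIndex
      exact Subgroup.index_ne_zero_of_finite
    have h1 : eN P = 1 := by omega
    have hNP : NP P ≤ P := Subgroup.relIndex_eq_one.mp h1
    have hN : Subgroup.normalizer ((S : Subgroup G) : Set G) ≤
        Subgroup.centralizer ((S : Subgroup G) : Set G) := by
      rw [hS, H.cent]; exact hNP
    have hcompl := MonoidHom.ker_transferSylow_isComplement' S hN
    have hker : (MonoidHom.transferSylow S hN).ker = ⊤ := by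
      rw [eq_top_iff, ← H.perf, commutator_def, Subgroup.commutator_le]
      intro a _ b _
      rw [MonoidHom.mem_ker, map_commutatorElement, commutatorElement_eq_one_iff_commute]
      have hcen : ∀ s t : ↥(S : Subgroup G), s * t = t * s := by
        intro s t
        apply Subtype.ext
        have hs : (s : G) ∈ Subgroup.centralizer (P : Set G) := by
          rw [H.cent, ← hS]; exact s.2
        have ht : (t : G) ∈ P := by rw [← hS]; exact t.2
        rw [Subgroup.mem_centralizer_iff] at hs
        exact (hs _ ht).symm
      exact hcen _ _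
    rw [hker] at hcompl
    have hcard := hcompl.card_mul_card
    rw [Subgroup.card_top, hS, H.card_P] at hcard
    have hG : 0 < Nat.card G := Nat.card_pos
    have : p = 1 := by
      have := Nat.eq_of_mul_eq_mul_left hG (hcard.trans (mul_one _).symm)
      exact this
    exact hp.one_lt.ne' this
  · by_contra hlt
    have hn0 : n = 0 := by omega
    have hsyl := H.sylow
    rw [hn0, zero_mul, add_zero] at hsyl
    have hsub : Subsingleton (Sylow p G) := (Nat.card_eq_one_iff_unique.mp hsyl).1
    have hnorm : (S : Subgroup G).Normal := Sylow.normal_of_subsingleton S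
    rw [hS] at hnorm
    have hNtop : Subgroup.normalizer (P : Set G) = ⊤ := Subgroup.normalizer_eq_top_iff.mpr hnorm
    have hle : commutator G ≤ P := by
      rw [commutator_def, Subgroup.commutator_le]
      intro a _ b _
      have := Cfsg.Agent.Helper27.S4700GS3.commutator_mem_centralizer H.card_P
        (a := a) (b := b) (by rw [hNtop]; trivial) (by rw [hNtop]; trivial)
      rw [H.cent] at this
      exact this
    rw [H.perf] at hle
    have hbot : commutator G ≤ ⊥ := by
      rw [commutator_def, Subgroup.commutator_le]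
      intro a _ b _
      rw [Subgroup.mem_bot, commutatorElement_eq_one_iff_commute]
      have ha : a ∈ Subgroup.centralizer (P : Set G) := by
        rw [H.cent]; exact hle trivial
      have hb : b ∈ P := hle trivial
      rw [Subgroup.mem_centralizer_iff] at ha
      exact (ha b hb).symm
    rw [H.perf] at hbot
    have : z ∈ (⊥ : Subgroup G) := hbot trivial
    exact hz1 (Subgroup.mem_bot.mp this)

end L1

end Cfsg.Agent.S4700P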