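import Mathlib
import Cfsg.Agent.Helper27.S4700Defs
import Cfsg.Agent.Helper11.Transfer
import Cfsg.Agent.Helper15.S0996GS4
import Cfsg.Agent.Helper28.S4701CS2
import Cfsg.Agent.Helper24.Burnside

set_option autoImplicit false

/-! # S4700 piece GS4F: `5 ≤ p` under `HypF` (backup version by helper27) -/

namespace Cfsg.Agent.Helper27.S4700GS4

universe u

variable {G : Type u} [Group G]

/-- A perfect finite group has no Sylow `2`-subgroup of order `2`. -/
theorem false_of_perfect_of_sylow_two [Finite G] (hperf : commutator G = ⊤) (S : Sylow 2 G)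
    (hS : Nat.card S = 2) : False := by
  have hN : Subgroup.normalizer ((S : Subgroup G) : Set G) ≤
      Subgroup.centralizer ((S : Subgroup G) : Set G) := by
    have h1 := Cfsg.Agent.Helper11.relIndex_centralizer_normalizer_dvd_card_mulAut (S : Subgroup G)
    have : IsCyclic ↥(S : Subgroup G) := isCyclic_of_prime_card (p := 2) hS
    rw [IsCyclic.card_mulAut, hS, Nat.totient_prime Nat.prime_two] at h1
    have h2 : (Subgroup.centralizer ((S : Subgroup G) : Set G)).relIndex
        (Subgroup.normalizer ((S : Subgroup G) : Set G)) = 1 := Nat.dvd_one.mp h1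
    exact Subgroup.relIndex_eq_one.mp h2
  have hcomm : ∀ a b : (S : Subgroup G), a * b = b * a := by
    have : IsCyclic ↥(S : Subgroup G) := isCyclic_of_prime_card (p := 2) hS
    have hmc : IsMulCommutative ↥(S : Subgroup G) := IsCyclic.isMulCommutative
    intro a b
    exact hmc.is_comm.comm a b
  have hker : (MonoidHom.transferSylow S hN).ker = ⊤ :=
    Cfsg.Agent.Helper28.S4701CS2.ker_eq_top_of_perfect hcomm hperf _
  have hc := MonoidHom.ker_transferSylow_isComplement' S hN
  rw [hker] at hc
  have hbot : (S : Subgroup G) = ⊥ := Subgroup.isComplement'_top_left.1 hc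
  have : Nat.card (S : Subgroup G) = 1 := by rw [hbot]; exact Subgroup.card_bot
  have hS' : Nat.card (S : Subgroup G) = 2 := hS
  omega

/-- A perfect finite group does not have order `2 * odd`. -/
theorem false_of_perfect_of_card [Finite G] (hperf : commutator G = ⊤) (m : ℕ) (hm : Odd m)
    (hcard : Nat.card G = 2 * m) : False := by
  haveI : Fact (Nat.Prime 2) := ⟨Nat.prime_two⟩
  obtain ⟨S⟩ : Nonempty (Sylow 2 G) := inferInstance
  have h := S.card_eq_multiplicity
  have hfac : (Nat.card G).factorization 2 = 1 := by
    rw [hcard]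
    have hm0 : m ≠ 0 := by
      rintro rfl
      exact absurd hm (by decide)
    rw [Nat.factorization_mul (by norm_num) hm0]
    have h2 : (Nat.factorization 2) 2 = 1 := Nat.Prime.factorization_self Nat.prime_two
    have h3 : (Nat.factorization m) 2 = 0 := by
      apply Nat.factorization_eq_zero_of_not_dvd
      exact hm.not_two_dvd_nat
    simp [h2, h3]
  rw [hfac, pow_one] at h
  exact false_of_perfect_of_sylow_two hperf S h

end Cfsg.Agent.Helper27.S4700GS4

namespace Cfsg.Agent.S4700P

open Cfsg Cfsg.Agent.Helper24 Cfsg.Agent.Helper1.W2p Cfsg.Agent.S0996P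

universe u

variable {G : Type u} [Group G]

section L1
variable [Finite G] {p : ℕ} [Fact p.Prime] {P : Subgroup G} {n : ℕ}

/-- GS4F -/
theorem five_le_p (H : HypF p P n) (hcard : Nat.card G = p * eN P * (1 + n * p))
    (hdvd : eN P ∣ p - 1) (he : 2 ≤ eN P) (hn : 1 ≤ n) : 5 ≤ p := by
  have hp : p.Prime := Fact.out
  by_contra hlt
  have hp5 : p < 5 := by omega
  have hcases : p = 2 ∨ p = 3 := by
    interval_cases p
    · exact absurd hp (by norm_num)
    · exact absurd hp (by norm_num)
    · left; rfl
    · right; rfl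
    · exact absurd hp (by norm_num)
  rcases hcases with rfl | rfl
  · have : eN P ∣ 1 := hdvd
    have := Nat.le_of_dvd one_pos this
    omega
  · have h2 : eN P ∣ 2 := hdvd
    have hle := Nat.le_of_dvd (by norm_num) h2
    have heq : eN P = 2 := by omega
    rw [heq] at hcard
    rcases Nat.even_or_odd n with hev | hodd
    · -- `|G| = 2 * odd`
      obtain ⟨k, hk⟩ := hev
      refine Cfsg.Agent.Helper27.S4700GS4.false_of_perfect_of_card H.perf (3 * (1 + n * 3))
        ⟨9 * k + 1, by rw [hk]; ring⟩ ?_
      rw [hcard]; ring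
    · obtain ⟨k, hk⟩ := hodd
      rcases Nat.eq_zero_or_pos k with hk0 | hk0
      · -- `n = 1`, `|G| = 24`
        have hn1 : n = 1 := by omega
        clear hk
        rw [hn1] at hcard
        have hsolv : Group.IsSolvable G :=
          Cfsg.Agent.Helper24.isSolvable_of_card_eq_prime_pow_mul 2 3 3 1 (by norm_num)
            (by norm_num) (by rw [hcard]; norm_num)
        have h1 := Cfsg.Agent.Helper15.S0996GS4.card_eq_one_of_perfect_of_solvable H.perf hsolv
        rw [hcard] at h1
        omega
      · -- `n = 2 k + 1`, `k ≥ 1`: `n` is of the form `F(3, 1, k)`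
        exact H.notF ⟨k, 1, hk0, one_pos, by rw [hk]; ring⟩

end L1

end Cfsg.Agent.S4700P
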