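-- Mechanical port of Cfsg/Agent/Helper21/S0996IND2.lean (by helper21) to the hypotheses `HypF`/`BasicF` of S4700
-- (`2 n < p + 3` replaced by `NotF p n`); see departures/helper27_s4700_pieces.md.
import Mathlib
import Cfsg.Agent.Helper27.S4700Defs
import Cfsg.Agent.Helper24.Abelian
import Cfsg.Agent.Helper8.Ind

set_option autoImplicit false

/-!
# S0996, piece IND2: the values of `Λ_φ` at `1` and on `P ∖ 1`
-/

namespace Cfsg.Agent.S4700P

open Cfsg.Agent.S0996P Cfsg.Agent.S4700P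
open Cfsg Cfsg.Agent.Helper24 Cfsg.Agent.Helper1.W2p

universe u

variable {G : Type u} [Group G]

section L3
variable [Fintype G] [Fintype (IrrCharacter G)] {p : ℕ} [Fact p.Prime] {P : Subgroup G} {n : ℕ}
  [Fintype (Lin P)]

/-- IND2 -/
theorem indL_values (B : BasicF p P n) (T0 : Dict0 P) (φ : Lin P) :
    indL P φ 1 = ((1 + n * p : ℕ) : ℂ) ∧ (∀ y ∈ P, y ≠ 1 → indL P φ y = 1) ∧
      ∑ χ : IrrCharacter G, mult P φ χ * irrDeg χ = 1 + n * p := by
  classical
  have hNpos : (Nat.card ↥(NP P) : ℂ) ≠ 0 := Nat.cast_ne_zero.mpr Nat.card_pos.ne'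
  -- `lam φ = 1` on `P`
  have hlamP : ∀ (g : G) (hgN : g ∈ NP P), g ∈ P → lam P φ ⟨g, hgN⟩ = 1 := by
    intro g hgN hgP
    unfold lam
    have h1 : (QuotientGroup.mk (⟨g, hgN⟩ : ↥(NP P)) : QP P) = 1 := by
      rw [QuotientGroup.eq_one_iff]
      exact Subgroup.mem_subgroupOf.mpr hgP
    rw [h1, map_one, Units.val_one]
  have h1 : indL P φ 1 = ((1 + n * p : ℕ) : ℂ) := by
    unfold indL
    rw [Cfsg.Agent.Helper8.indFun_def]
    have h2 : ∀ x : G, Cfsg.extendByZero (NP P) (lam P φ) (x⁻¹ * 1 * x) = 1 := by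
      intro x
      have hx : x⁻¹ * 1 * x = 1 := by group
      rw [hx, Cfsg.Agent.Helper8.ebz_mem (NP P) _ (Subgroup.one_mem _)]
      exact hlamP 1 (Subgroup.one_mem _) (Subgroup.one_mem _)
    rw [Finset.sum_congr rfl (fun x _ => h2 x), Finset.sum_const, Finset.card_univ, nsmul_eq_mul,
      mul_one, ← Nat.card_eq_fintype_card, ← B.index_NP, ← (NP P).card_mul_index]
    push_cast
    field_simp
  refine ⟨h1, ?_, ?_⟩
  · intro y hyP hy1
    unfold indL
    rw [Cfsg.Agent.Helper8.indFun_def]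
    have h2 : ∀ x : G, Cfsg.extendByZero (NP P) (lam P φ) (x⁻¹ * y * x) =
        if x ∈ NP P then 1 else 0 := by
      intro x
      by_cases hx : x ∈ NP P
      · rw [if_pos hx]
        have hxP : x⁻¹ * y * x ∈ P := by
          have := (Subgroup.mem_normalizer_iff.mp (Subgroup.inv_mem _ hx) y).mp hyP
          simpa using this
        have hxN : x⁻¹ * y * x ∈ NP P := Subgroup.le_normalizer hxP
        rw [Cfsg.Agent.Helper8.ebz_mem (NP P) _ hxN]
        exact hlamP _ hxN hxP
      · rw [if_neg hx]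
        apply Cfsg.Agent.Helper8.ebz_not_mem
        intro hmem
        exact hx (B.conj_mem x y hyP hy1 hmem)
    rw [Finset.sum_congr rfl (fun x _ => h2 x), Finset.sum_ite, Finset.sum_const_zero, add_zero,
      Finset.sum_const, nsmul_eq_mul, mul_one]
    have hcard : (Finset.univ.filter (fun x : G => x ∈ NP P)).card = Nat.card ↥(NP P) := by
      rw [Nat.card_eq_fintype_card, Fintype.card_subtype]
    rw [hcard]
    exact inv_mul_cancel₀ hNpos
  · have h3 := congrFun (T0.expand φ) 1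
    rw [h1, Finset.sum_apply] at h3
    have h4 : ∀ χ : IrrCharacter G, ((mult P φ χ : ℂ) • (χ : G → ℂ)) 1 =
        ((mult P φ χ * irrDeg χ : ℕ) : ℂ) := by
      intro χ
      rw [Pi.smul_apply, smul_eq_mul, irrDeg_spec]
      push_cast
      rfl
    rw [Finset.sum_congr rfl (fun χ _ => h4 χ), ← Nat.cast_sum] at h3
    exact_mod_cast h3.symm

end L3

end Cfsg.Agent.S4700P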