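-- Mechanical port of Cfsg/Agent/Helper23/S0996IND4.lean (by helper23) to the hypotheses `HypF`/`BasicF` of S4700
-- (`2 n < p + 3` replaced by `NotF p n`); see departures/helper27_s4700_pieces.md.
import Mathlib
import Cfsg.Agent.Helper27.S4700Defs
import Cfsg.Agent.Helper8.Ind

set_option autoImplicit false
set_option linter.unusedSectionVars false
set_option linter.style.haveILetI false

/-! S0996 piece IND4: `p * Σ_φ a_φ(χ) = Σ_{y ∈ P} χ(y)`. -/

namespace Cfsg.Agent.Helper27.S4700IND4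

open Cfsg Cfsg.Agent.Helper24 Cfsg.Agent.Helper1.W2p Cfsg.Agent.S0996P Cfsg.Agent.S4700P

universe u

variable {G : Type u} [Group G] [Fintype G] [Fintype (IrrCharacter G)] {P : Subgroup G}
  [Fintype (Lin P)] [Fintype ↥(NP P)] [Fintype ↥P]

/-- `a_φ(χ) = ⟨λ_φ, χ|_N⟩_N` by Frobenius reciprocity. -/
theorem mult_eq (T0 : Dict0 P) (φ : Lin P) (χ : IrrCharacter G) :
    (mult P φ χ : ℂ) = (Nat.card (NP P) : ℂ)⁻¹ *
      ∑ k : ↥(NP P), lam P φ k * (starRingEnd ℂ) ((χ : G → ℂ) (k : G)) := by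
  rw [← T0.inner φ χ]
  unfold indL
  rw [Cfsg.Agent.Helper8.frobenius_reciprocity (NP P) (lam P φ) (χ : G → ℂ)
    (IsCharacter.isClassFunction (IsIrrCharacter.isCharacter χ.2))]
  rfl

open Classical in
/-- sum over `N` of a function supported on `P` -/
theorem sum_NP_ite (f : G → ℂ) (c : ℂ) :
    ∑ k : ↥(NP P), (if (k : G) ∈ P then c else 0) * f (k : G) = c * ∑ y : ↥P, f (y : G) := by
  classical
  have hPN : P ≤ NP P := Subgroup.le_normalizer
  rw [Finset.mul_sum]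
  have h1 : ∑ k : ↥(NP P), (if (k : G) ∈ P then c else 0) * f (k : G) =
      ∑ k ∈ Finset.univ.filter (fun k : ↥(NP P) => (k : G) ∈ P), c * f (k : G) := by
    rw [Finset.sum_filter]
    apply Finset.sum_congr rfl
    intro k _
    split_ifs <;> simp
  rw [h1]
  refine Finset.sum_bij' (fun k hk => (⟨(k : G), (Finset.mem_filter.mp hk).2⟩ : ↥P))
    (fun y _ => (⟨(y : G), hPN y.2⟩ : ↥(NP P))) ?_ ?_ ?_ ?_ ?_
  · intro k hk; exact Finset.mem_univ _
  · intro y _; exact Finset.mem_filter.mpr ⟨Finset.mem_univ _, y.2⟩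
  · intro k hk; rfl
  · intro y _; rfl
  · intro k hk; rfl

end Cfsg.Agent.Helper27.S4700IND4

namespace Cfsg.Agent.S4700P

open Cfsg.Agent.S0996P Cfsg.Agent.S4700P
open Cfsg Cfsg.Agent.Helper24 Cfsg.Agent.Helper1.W2p
open Cfsg.Agent.Helper27.S4700IND4

universe u

variable {G : Type u} [Group G]

section L3
variable [Fintype G] [Fintype (IrrCharacter G)] {p : ℕ} [Fact p.Prime] {P : Subgroup G} {n : ℕ}
  [Fintype (Lin P)]

/-- IND4 -/
theorem sum_mult (B : BasicF p P n) (LF : LinFacts P) (T0 : Dict0 P) (χ : IrrCharacter G) :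
    (p : ℂ) * ∑ φ : Lin P, (mult P φ χ : ℂ) = ∑ᶠ y : ↥P, (χ : G → ℂ) (y : G) := by
  classical
  haveI : Fintype ↥(NP P) := Fintype.ofFinite _
  haveI : Fintype ↥P := Fintype.ofFinite _
  have hp0 : (p : ℂ) ≠ 0 := Nat.cast_ne_zero.mpr (Fact.out : p.Prime).ne_zero
  have he0 : (eN P : ℂ) ≠ 0 := by
    have := B.two_le_eN
    exact Nat.cast_ne_zero.mpr (by omega)
  -- the sum over `φ` of the `λ_φ`
  have hlam : ∀ k : ↥(NP P), ∑ φ : Lin P, lam P φ k = if (k : G) ∈ P then (eN P : ℂ) else 0 := by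
    intro k
    split_ifs with hk
    · exact LF.sum_mem k hk
    · exact LF.sum_not_mem k hk
  have h1 : ∑ φ : Lin P, (mult P φ χ : ℂ) = (Nat.card (NP P) : ℂ)⁻¹ *
      ((eN P : ℂ) * ∑ y : ↥P, (starRingEnd ℂ) ((χ : G → ℂ) (y : G))) := by
    rw [← sum_NP_ite (P := P) (fun g => (starRingEnd ℂ) ((χ : G → ℂ) g)) (eN P : ℂ)]
    rw [Finset.sum_congr rfl (fun φ _ => mult_eq T0 φ χ), ← Finset.mul_sum, Finset.sum_comm]
    congr 1
    apply Finset.sum_congr rfl
    intro k _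
    rw [← Finset.sum_mul, hlam k]
  have h2 : (p : ℂ) * ∑ φ : Lin P, (mult P φ χ : ℂ) =
      ∑ y : ↥P, (starRingEnd ℂ) ((χ : G → ℂ) (y : G)) := by
    rw [h1, B.card_NP]
    push_cast
    field_simp
  -- the left side is real
  have h3 : (starRingEnd ℂ) ((p : ℂ) * ∑ φ : Lin P, (mult P φ χ : ℂ)) =
      (p : ℂ) * ∑ φ : Lin P, (mult P φ χ : ℂ) := by
    rw [map_mul, map_sum, Complex.conj_natCast]
    congr 1
    apply Finset.sum_congr rfl
    intro φ _
    exact Complex.conj_natCast _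
  rw [finsum_eq_sum_of_fintype, ← h3, h2, map_sum]
  apply Finset.sum_congr rfl
  intro y _
  exact Complex.conj_conj _

end L3

end Cfsg.Agent.S4700P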