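-- Mechanical port of Cfsg/Agent/Helper23/S0996IND5.lean (by helper23) to the hypotheses `HypF`/`BasicF` of S4700
-- (`2 n < p + 3` replaced by `NotF p n`); see departures/helper27_s4700_pieces.md.
import Mathlib
import Cfsg.Agent.Helper27.S4700Defs

set_option autoImplicit false
set_option linter.unusedSectionVars false
set_option linter.style.haveILetI false

/-! S0996 piece IND5: the sums `Σ_φ a_φ(χ)` for `χ` in `X`, in `Y`, and outside `X ∪ Y`. -/

namespace Cfsg.Agent.Helper27.S4700IND5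

open Cfsg Cfsg.Agent.Helper24 Cfsg.Agent.Helper1.W2p Cfsg.Agent.S0996P Cfsg.Agent.S4700P

universe u

variable {G : Type u} [Group G] [Fintype G] {P : Subgroup G} [Fintype ↥P]

open Classical in
theorem finsum_split (f : G → ℂ) :
    ∑ᶠ y : ↥P, f (y : G) = f 1 + ∑ y ∈ (Finset.univ : Finset ↥P).erase 1, f (y : G) := by
  rw [finsum_eq_sum_of_fintype, ← Finset.add_sum_erase _ _ (Finset.mem_univ (1 : ↥P))]
  rfl

open Classical in
theorem card_erase (p : ℕ) (hP : Nat.card P = p) :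
    ((Finset.univ : Finset ↥P).erase 1).card = p - 1 := by
  rw [Finset.card_erase_of_mem (Finset.mem_univ _), Finset.card_univ, ← Nat.card_eq_fintype_card, hP]

end Cfsg.Agent.Helper27.S4700IND5

namespace Cfsg.Agent.S4700P

open Cfsg.Agent.S0996P Cfsg.Agent.S4700P
open Cfsg Cfsg.Agent.Helper24 Cfsg.Agent.Helper1.W2p
open Cfsg.Agent.Helper27.S4700IND5

universe u

variable {G : Type u} [Group G]

section L3
variable [Fintype G] [Fintype (IrrCharacter G)] {p : ℕ} [Fact p.Prime] {P : Subgroup G} {n : ℕ}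
  [Fintype (Lin P)]

/-- IND5 -/
theorem sum_mult_XYO (B : BasicF p P n) (D : BrauerData p P)
    (hsum : ∀ χ : IrrCharacter G,
      (p : ℂ) * ∑ φ : Lin P, (mult P φ χ : ℂ) = ∑ᶠ y : ↥P, (χ : G → ℂ) (y : G)) :
    (∀ χ ∈ D.X,
      (p : ℤ) * ∑ φ : Lin P, (mult P φ χ : ℤ) = (irrDeg χ : ℤ) + ((p : ℤ) - 1) * D.δ χ) ∧
    (∀ ψ ∈ D.Y, ∑ φ : Lin P, mult P φ ψ = D.a ψ) ∧
    (∀ χ : IrrCharacter G, χ ∉ D.X → χ ∉ D.Y → p * ∑ φ : Lin P, mult P φ χ = irrDeg χ) := by
  classical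
  haveI : Fintype ↥P := Fintype.ofFinite _
  have hp : p.Prime := Fact.out
  have hp1 : 1 ≤ p := hp.one_le
  have hne : ∀ y ∈ (Finset.univ : Finset ↥P).erase 1, (y : G) ≠ 1 := by
    intro y hy h1
    exact (Finset.mem_erase.mp hy).1 (Subtype.ext h1)
  refine ⟨?_, ?_, ?_⟩
  · intro χ hχ
    have h1 := hsum χ
    rw [finsum_split (P := P) (χ : G → ℂ), irrDeg_spec,
      Finset.sum_congr rfl (fun (y : ↥P) hy => D.val_X χ hχ (y : G) y.2 (hne y hy)),
      Finset.sum_const, card_erase p B.card_P, nsmul_eq_mul] at h1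
    have h2 : (((p : ℤ) * ∑ φ : Lin P, (mult P φ χ : ℤ) : ℤ) : ℂ) =
        (((irrDeg χ : ℤ) + ((p : ℤ) - 1) * D.δ χ : ℤ) : ℂ) := by
      push_cast
      rw [h1]
      push_cast [Nat.cast_sub hp1]
      ring
    exact_mod_cast h2
  · intro ψ hψ
    have h1 := hsum ψ
    have hL := D.Lam_sum ψ hψ
    rw [finsum_split (P := P) (D.Lam ψ), D.Lam_one ψ hψ] at hL
    have hL' : ∑ y ∈ (Finset.univ : Finset ↥P).erase 1, D.Lam ψ (y : G) = -(eN P : ℂ) := by
      linear_combination hL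
    rw [finsum_split (P := P) (ψ : G → ℂ), irrDeg_spec,
      Finset.sum_congr rfl (fun (y : ↥P) hy => D.val_Y ψ hψ (y : G) y.2 (hne y hy)),
      ← Finset.mul_sum, hL'] at h1
    have hd := D.deg_Y ψ hψ
    have hd' : (irrDeg ψ : ℂ) = (D.a ψ : ℂ) * p + (D.ε : ℂ) * (eN P : ℂ) := by
      have : ((irrDeg ψ : ℤ) : ℂ) = ((D.a ψ * p + D.ε * eN P : ℤ) : ℂ) := by rw [hd]
      push_cast at this
      exact this
    have h2 : (p : ℂ) * ∑ φ : Lin P, (mult P φ ψ : ℂ) = (p : ℂ) * (D.a ψ : ℂ) := by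
      rw [h1, hd']
      ring
    have hp0 : (p : ℂ) ≠ 0 := Nat.cast_ne_zero.mpr hp.ne_zero
    have h3 := mul_left_cancel₀ hp0 h2
    exact_mod_cast h3
  · intro χ hX hY
    have h1 := hsum χ
    rw [finsum_split (P := P) (χ : G → ℂ), irrDeg_spec,
      Finset.sum_congr rfl (fun (y : ↥P) hy => D.val_other χ hX hY (y : G) y.2 (hne y hy)),
      Finset.sum_const_zero, add_zero] at h1
    exact_mod_cast h1

end L3

end Cfsg.Agent.S4700P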