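-- Mechanical port of Cfsg/Agent/Helper26/S0996Aux.lean (by helper26) to the hypotheses `HypF`/`BasicF` of S4700
-- (`2 n < p + 3` replaced by `NotF p n`); see departures/helper27_s4700_pieces.md.
import Mathlib
import Cfsg.Agent.Helper27.S4700Defs

set_option autoImplicit false

/-! S0996: auxiliary lemmas for the pieces NE, CX (helper26). -/

namespace Cfsg.Agent.Helper27.S4700Aux

open Cfsg Cfsg.Agent.S0996P Cfsg.Agent.S4700P

universe u

variable {G : Type u} [Group G]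

theorem mem_cj {x z : G} {K : Subgroup G} : z ∈ cj x K ↔ x⁻¹ * z * x ∈ K := by
  unfold cj
  rw [Subgroup.mem_map]
  constructor
  · rintro ⟨k, hk, rfl⟩
    have : x⁻¹ * (MulAut.conj x).toMonoidHom k * x = k := by
      show x⁻¹ * (x * k * x⁻¹) * x = k
      group
    rw [this]
    exact hk
  · intro h
    refine ⟨x⁻¹ * z * x, h, ?_⟩
    show x * (x⁻¹ * z * x) * x⁻¹ = z
    group

theorem card_cj (x : G) (K : Subgroup G) : Nat.card (cj x K) = Nat.card K := by
  unfold cj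
  exact Nat.card_congr (K.equivMapOfInjective _ (MulAut.conj x).injective).toEquiv.symm

/-- If `A = M · P` with `M ∩ P = 1` then `|A| = |M| · |P|`. -/
theorem card_mul_P (M P : Subgroup G) (A : Set G) (hMP : ∀ y ∈ P, y ∈ M → y = 1)
    (hsub : ∀ m ∈ M, ∀ y ∈ P, m * y ∈ A) (hsurj : ∀ x ∈ A, ∃ y ∈ P, x * y ∈ M) :
    Nat.card A = Nat.card M * Nat.card P := by
  rw [← Nat.card_prod]
  symm
  apply Nat.card_congr
  refine Equiv.ofBijective (fun q : M × P => ⟨(q.1 : G) * (q.2 : G), hsub _ q.1.2 _ q.2.2⟩) ⟨?_, ?_⟩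
  · rintro ⟨⟨m, hm⟩, ⟨y, hy⟩⟩ ⟨⟨m', hm'⟩, ⟨y', hy'⟩⟩ h
    have h' : m * y = m' * y' := congrArg Subtype.val h
    have h1 : y * y'⁻¹ = m⁻¹ * m' := by
      calc y * y'⁻¹ = m⁻¹ * (m * y) * y'⁻¹ := by group
        _ = m⁻¹ * (m' * y') * y'⁻¹ := by rw [h']
        _ = m⁻¹ * m' := by group
    have h2 : y * y'⁻¹ = 1 :=
      hMP _ (P.mul_mem hy (P.inv_mem hy')) (by rw [h1]; exact M.mul_mem (M.inv_mem hm) hm')
    have hy_eq : y = y' := by
      calc y = (y * y'⁻¹) * y' := by group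
        _ = y' := by rw [h2, one_mul]
    have hm_eq : m = m' := by
      subst hy_eq
      exact mul_right_cancel h'
    subst hy_eq
    subst hm_eq
    rfl
  · rintro ⟨x, hx⟩
    obtain ⟨y, hy, hxy⟩ := hsurj x hx
    refine ⟨(⟨x * y, hxy⟩, ⟨y⁻¹, P.inv_mem hy⟩), ?_⟩
    apply Subtype.ext
    show x * y * y⁻¹ = x
    group

end Cfsg.Agent.Helper27.S4700Aux
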