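-- Mechanical port of Cfsg/Agent/Helper23/S0996VL.lean (by helper23) to the hypotheses `HypF`/`BasicF` of S4700
-- (`2 n < p + 3` replaced by `NotF p n`); see departures/helper27_s4700_pieces.md.
import Mathlib
import Cfsg.Agent.Helper27.S4700Defs
import Cfsg.Agent.Helper8.Ind
import Cfsg.Agent.Helper8.DualGroup
import Cfsg.Agent.Helper27.S4700IND4

set_option autoImplicit false
set_option linter.unusedSectionVars false
set_option linter.style.haveILetI false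

/-! S0996 piece VL: `χ(h) = Σ_φ a_φ(χ) λ_φ(h)` for `h ∈ N ∖ P`. -/

namespace Cfsg.Agent.Helper27.S4700VL

open Cfsg Cfsg.Agent.Helper24 Cfsg.Agent.Helper1.W2p Cfsg.Agent.S0996P Cfsg.Agent.S4700P
open Cfsg.Agent.Helper27.S4700IND4

universe u

variable {G : Type u} [Group G] [Fintype G] [Fintype (IrrCharacter G)] {P : Subgroup G}
  [Fintype (Lin P)] [Fintype ↥(NP P)] [Fintype ↥P]

theorem lam_mul (φ : Lin P) (a b : ↥(NP P)) : lam P φ (a * b) = lam P φ a * lam P φ b := by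
  unfold lam
  rw [QuotientGroup.mk_mul, map_mul, Units.val_mul]

theorem conj_lam (φ : Lin P) (a : ↥(NP P)) : (starRingEnd ℂ) (lam P φ a) = lam P φ a⁻¹ := by
  unfold lam
  rw [Cfsg.Agent.Helper8.conj_hom_units φ (QuotientGroup.mk a)]
  rw [QuotientGroup.mk_inv, map_inv]
  rfl

/-- `a_φ(χ) = |N|⁻¹ Σ_k λ_φ(k⁻¹) χ(k)` -/
theorem mult_eq' (T0 : Dict0 P) (φ : Lin P) (χ : IrrCharacter G) :
    (mult P φ χ : ℂ) = (Nat.card (NP P) : ℂ)⁻¹ *
      ∑ k : ↥(NP P), lam P φ k⁻¹ * (χ : G → ℂ) (k : G) := by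
  have h1 := mult_eq T0 φ χ
  have h2 : (starRingEnd ℂ) (mult P φ χ : ℂ) = (mult P φ χ : ℂ) := Complex.conj_natCast _
  rw [← h2, h1, map_mul, map_inv₀, Complex.conj_natCast, map_sum]
  congr 1
  apply Finset.sum_congr rfl
  intro k _
  rw [map_mul, conj_lam, Complex.conj_conj]

end Cfsg.Agent.Helper27.S4700VL

namespace Cfsg.Agent.S4700P

open Cfsg.Agent.S0996P Cfsg.Agent.S4700P
open Cfsg Cfsg.Agent.Helper24 Cfsg.Agent.Helper1.W2p
open Cfsg.Agent.Helper27.S4700IND4 Cfsg.Agent.Helper27.S4700VL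

universe u

variable {G : Type u} [Group G]

section L3
variable [Fintype G] [Fintype (IrrCharacter G)] {p : ℕ} [Fact p.Prime] {P : Subgroup G} {n : ℕ}
  [Fintype (Lin P)]

/-- VL -/
theorem val_off_P (B : BasicF p P n) (LF : LinFacts P) (T0 : Dict0 P) (χ : IrrCharacter G)
    (h : ↥(NP P)) (hh : (h : G) ∉ P) :
    (χ : G → ℂ) (h : G) = ∑ φ : Lin P, (mult P φ χ : ℂ) * lam P φ h := by
  classical
  haveI : Fintype ↥(NP P) := Fintype.ofFinite _
  haveI : Fintype ↥P := Fintype.ofFinite _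
  have hp0 : (p : ℂ) ≠ 0 := Nat.cast_ne_zero.mpr (Fact.out : p.Prime).ne_zero
  have he0 : (eN P : ℂ) ≠ 0 := by
    have := B.two_le_eN
    exact Nat.cast_ne_zero.mpr (by omega)
  have hcf : IsClassFunction G (χ : G → ℂ) :=
    IsCharacter.isClassFunction (IsIrrCharacter.isCharacter χ.2)
  have hlam : ∀ k : ↥(NP P), ∑ φ : Lin P, lam P φ k = if (k : G) ∈ P then (eN P : ℂ) else 0 := by
    intro k
    split_ifs with hk
    · exact LF.sum_mem k hk
    · exact LF.sum_not_mem k hk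
  -- values on the coset `h P`
  have hcoset : ∀ y : ↥P, (χ : G → ℂ) ((h : G) * ((y : G))⁻¹) = (χ : G → ℂ) (h : G) := by
    intro y
    obtain ⟨u, hu, hu2⟩ := B.conj_mul (h : G) h.2 hh ((y : G))⁻¹ (P.inv_mem y.2)
    rw [← hu2]
    exact hcf (h : G) u
  have h1 : ∑ φ : Lin P, (mult P φ χ : ℂ) * lam P φ h = (Nat.card (NP P) : ℂ)⁻¹ *
      ∑ k : ↥(NP P), (if ((k⁻¹ * h : ↥(NP P)) : G) ∈ P then (eN P : ℂ) else 0) *
        (χ : G → ℂ) (k : G) := by
    have hφ : ∀ φ : Lin P, (mult P φ χ : ℂ) * lam P φ h = (Nat.card (NP P) : ℂ)⁻¹ *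
        ∑ k : ↥(NP P), lam P φ (k⁻¹ * h) * (χ : G → ℂ) (k : G) := by
      intro φ
      rw [mult_eq' T0 φ χ, mul_assoc, Finset.sum_mul]
      congr 1
      apply Finset.sum_congr rfl
      intro k _
      rw [lam_mul]
      ring
    rw [Finset.sum_congr rfl (fun φ _ => hφ φ), ← Finset.mul_sum, Finset.sum_comm]
    congr 1
    apply Finset.sum_congr rfl
    intro k _
    rw [← Finset.sum_mul, hlam (k⁻¹ * h)]
  -- reindex `k = h * k'⁻¹`
  have h2 : ∑ k : ↥(NP P), (if ((k⁻¹ * h : ↥(NP P)) : G) ∈ P then (eN P : ℂ) else 0) *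
        (χ : G → ℂ) (k : G) =
      ∑ k : ↥(NP P), (if (k : G) ∈ P then (eN P : ℂ) else 0) *
        (χ : G → ℂ) ((h : G) * ((k : G))⁻¹) := by
    rw [← Equiv.sum_comp ((Equiv.inv ↥(NP P)).trans (Equiv.mulLeft h))]
    apply Finset.sum_congr rfl
    intro k _
    have e1 : ((Equiv.inv ↥(NP P)).trans (Equiv.mulLeft h)) k = h * k⁻¹ := rfl
    rw [e1]
    have e2 : (h * k⁻¹)⁻¹ * h = k := by group
    rw [e2]
    rfl
  rw [h1, h2, sum_NP_ite (P := P) (fun g => (χ : G → ℂ) ((h : G) * g⁻¹)) (eN P : ℂ)]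
  rw [Finset.sum_congr rfl (fun y _ => hcoset y), Finset.sum_const, Finset.card_univ,
    ← Nat.card_eq_fintype_card, B.card_P, B.card_NP, nsmul_eq_mul]
  push_cast
  field_simp

end L3

end Cfsg.Agent.S4700P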