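import Mathlib
import Cfsg.Agent.Helper27.S4700Defs
import Cfsg.Agent.Helper27.S4700GS4
import Cfsg.Agent.Helper27.S4700GS
import Cfsg.Agent.Helper27.S4700FR
import Cfsg.Agent.Helper27.S4700GS3
import Cfsg.Agent.Helper27.S4700LN1
import Cfsg.Agent.Helper27.S4700IND2
import Cfsg.Agent.Helper27.S4700IND3
import Cfsg.Agent.Helper27.S4700IND4
import Cfsg.Agent.Helper27.S4700IND5
import Cfsg.Agent.Helper27.S4700REL
import Cfsg.Agent.Helper27.S4700VL
import Cfsg.Agent.Helper27.S4700FORM
import Cfsg.Agent.Helper27.S4700PI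
import Cfsg.Agent.Helper27.S4700CNT
import Cfsg.Agent.Helper27.S4700FIX
import Cfsg.Agent.Helper27.S4700CMP
import Cfsg.Agent.Helper27.S4700RK
import Cfsg.Agent.Helper27.S4700NE
import Cfsg.Agent.Helper27.S4700EVEN
import Cfsg.Agent.Helper27.S4700EVN2
import Cfsg.Agent.Helper27.S4700C2A
import Cfsg.Agent.Helper13.S0996LN2
import Cfsg.Agent.Helper13.S0996LN3
import Cfsg.Agent.Helper21.S0996IND1
import Cfsg.Agent.Helper27.S0996Main
import Cfsg.Agent.Helper24.SelfCentD
import Cfsg.Agent.Helper7.PPrimeCore
import Cfsg.Agent.Helper8.W2pT1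
import Cfsg.Agent.Helper28.S4700A
import Cfsg.Agent.Helper28.S4700C
import Cfsg.Agent.Helper26.S4700DEGF

set_option autoImplicit false

/-!
# S4700 (Brauer–Reynolds trichotomy): assembly of the pieces

See `departures/helper27_s4700_pieces.md` for the mathematical proof.
-/

namespace Cfsg.Agent.S4700P

open Cfsg Cfsg.Agent.Helper24 Cfsg.Agent.Helper1.W2p Cfsg.Agent.S0996P Cfsg.Agent.S4503P
  Cfsg.Agent.S0999P

universe u

variable {G : Type u} [Group G]

/-! ## Part C: `C_G(P) = P` and `NotF p n` give `2 n < p + 3` -/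

section
variable [Finite G] {p : ℕ} [Fact p.Prime] {P : Subgroup G} {n : ℕ}

theorem basicF_of_hypF (H : HypF p P n) : BasicF p P n := by
  obtain ⟨h1, h2, h3, h4⟩ := card_facts H
  obtain ⟨h5, h6⟩ := two_le_eN_and_one_le_n H
  obtain ⟨f1, f2, f3, f4⟩ := frobenius_facts H
  exact { H with
    card_NP := h1, index_NP := h2, card_G := h3, eN_dvd := h4, two_le_eN := h5, one_le_n := h6
    five_le := five_le_p H h3 h4 h5 h6
    regular := f1, conj_mem := f2, conj_mul := f3, cent_P := f4
    cyc := isCyclic_QP H }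

theorem perm_of [Fintype G] [Fintype (IrrCharacter G)] [Fintype (Lin P)] (B : BasicF p P n)
    (D : BrauerData p P) (T : Dict p P n D) (S : Struc p P n D) : Perm p P n := by
  have hfix := fun h hN hP => fixcount_of B D T S h hN hP
  exact
    { fixcount := hfix
      rk := fun g hg => rk_of B hfix g hg
      compl_inf := fun E hE hc => (compl_basic B E hE hc).1
      compl_cyc := fun E hE hc => (compl_basic B E hE hc).2.1
      compl_mul := fun E hE hc => (compl_basic B E hE hc).2.2
      compl_ti := compl_ti B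
      compl_conj := compl_conj B }

end

section
variable [Fintype G] [Fintype (IrrCharacter G)] {p : ℕ} [Fact p.Prime] {P : Subgroup G} {n : ℕ}
  [Fintype (Lin P)]

theorem dict_of (B : BasicF p P n) (D : BrauerData p P) (LF : LinFacts P) : Dict p P n D := by
  have T0 : Dict0 P := dict0 P
  have hsum := fun χ => sum_mult B LF T0 χ
  obtain ⟨hX, hY, hO⟩ := sum_mult_XYO B D hsum
  exact { T0 with
    val1 := fun φ => (indL_values B T0 φ).1
    valP := fun φ => (indL_values B T0 φ).2.1
    deg := fun φ => (indL_values B T0 φ).2.2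
    triv_one := (mult_triv B T0).1
    triv_ne := (mult_triv B T0).2
    sumP := hsum
    sumX := hX, sumY := hY, sumO := hO
    rel := fun φ ψ hψ => mult_rel B D T0 φ ψ hψ
    val := fun χ h hh => val_off_P B LF T0 χ h hh }

theorem struc_of (B : BasicF p P n) (D : BrauerData p P) (LF : LinFacts P) (T : Dict p P n D) :
    Struc p P n D := by
  obtain ⟨hXp, hYp, hYn⟩ := deg_facts B D
  have hYn' : D.ε = -1 → ∀ ψ ∈ D.Y, Nat.card D.Y * irrDeg ψ = 1 + n * p :=
    fun h ψ hψ => (hYn h ψ hψ).1
  have hform := fun φ hφ => form_of B D T hXp hYn' φ hφ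
  obtain ⟨hp0, hpn, hpo⟩ := pi_facts B D T hXp hYn' hform
  obtain ⟨c1, c2, c3, c4⟩ := count_facts B D T LF hXp hform hp0
  exact
    { degXp := hXp, posY := hYp, negY := hYn, form := hform, pi_zero := hp0, pi_norm := hpn
      other := hpo, countX := c1, countY := c2, star_pos := c3, star_neg := c4 }

end

section
variable [Finite G] {p : ℕ} [Fact p.Prime] {P : Subgroup G} {n : ℕ}

/-- BOUND: a posteriori, the hypothesis `2 n < p + 3` of S0996 holds. -/
theorem bound_of_hypF (H : HypF p P n) : 2 * n < p + 3 := by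
  classical
  have hp : p.Prime := Fact.out
  have B : BasicF p P n := basicF_of_hypF H
  let _ : Fintype G := Fintype.ofFinite G
  let _ : Fintype (IrrCharacter G) := Fintype.ofFinite _
  have : Finite (Lin P) := finite_Lin B.cyc
  let _ : Fintype (Lin P) := Fintype.ofFinite _
  have LF : LinFacts P := linFacts B.cyc
  obtain ⟨Sy, hSy⟩ := exists_sylow_eq H
  have hp2 : p ≠ 2 := by have := B.five_le; omega
  have hD : Nonempty (BrauerData p P) := by
    have := Cfsg.Agent.Helper8.W2p.exists_brauerData p hp2 Sy (by rw [hSy]; exact H.card_P)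
      (by rw [hSy]; exact H.cent)
    rwa [hSy] at this
  obtain ⟨D⟩ := hD
  have T : Dict p P n D := dict_of B D LF
  have S : Struc p P n D := struc_of B D LF T
  have Q : Perm p P n := perm_of B D T S
  have hEV := fun φ₀ h1 h2 => norm_indL_invol B Q T.toDict0 φ₀ h1 h2
  have hcY := D.card_Y
  have he2 := B.two_le_eN
  have h5 := B.five_le
  rcases D.ε_pm with hε | hε
  · -- ε = 1
    have hodd : Odd (eN P) := by
      rw [← Nat.not_even_iff_odd]
      intro heven
      have := (even_case B D S LF hEV heven).1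
      rw [hε] at this
      norm_num at this
    have hstar := S.star_pos hε
    -- `t` is even
    have hpodd : Odd p := hp.odd_of_ne_two hp2
    have hp1even : Even (p - 1) := by
      obtain ⟨k, hk⟩ := hpodd
      exact ⟨k, by omega⟩
    have hteven : Even (Nat.card D.Y) := by
      rw [← hcY, Nat.even_mul] at hp1even
      rcases hp1even with h | h
      · exact h
      · exact absurd h (Nat.not_even_iff_odd.mpr hodd)
    obtain ⟨k, hk⟩ := hteven
    have hk1 : 1 ≤ k := by
      rcases Nat.eq_zero_or_pos k with h | h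
      · rw [h] at hk; rw [hk] at hcY; omega
      · exact h
    have hXp1 : 1 ≤ (Xp D).card := by
      rcases Nat.eq_zero_or_pos (Xp D).card with h | h
      · rw [h] at hstar; omega
      · exact h
    have h1 : n + 1 + 1 ≤ eN P := by nlinarith
    have h2 : 2 * eN P ≤ p - 1 := by
      rw [← hcY, hk]; nlinarith
    omega
  · -- ε = -1
    have hNE := fun g hg => card_normalizer_EE B Q g hg
    have heven : Even (eN P) := neg_even B D T S LF hNE hε
    obtain ⟨-, ht, -, -⟩ := even_case B D S LF hEV heven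
    rw [ht] at hcY
    have : (n + 1) * 2 ≤ p - 1 := by rw [← hcY]; exact Nat.mul_le_mul_left _ he2
    omega

/-- Part C: the conclusion of S0996 holds under `HypF`. -/
theorem goal_of_hypF (H : HypF p P n) : Cfsg.Agent.S0996P.Goal G p :=
  Cfsg.Agent.S0996P.main_of_hyp
    ⟨H.card_P, H.cent, H.perf, H.sylow, bound_of_hypF H⟩

end

/-! ## Part B: `O_{p'}(G) = 1` and `NotF p n` give `C_G(P) = P`

This is `Cfsg.Agent.Helper28.S4700C.fform_of_centralizer_ne` (helper28: the principal block for a
Sylow subgroup of order `p` with arbitrary centralizer, `B0Master`, and the degree arithmetic). -/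

section
variable [Finite G]

/-- CENT -/
theorem centralizer_eq_of_notF (hperf : commutator G = ⊤) (p : ℕ) [Fact p.Prime] (P : Sylow p G)
    (hP : Nat.card P = p) (n : ℕ) (hn : Nat.card (Sylow p G) = 1 + n * p)
    (hcore : Cfsg.pPrimeCore p G = ⊥) (hF : NotF p n) :
    Subgroup.centralizer ((P : Subgroup G) : Set G) = P := by
  by_contra hne
  exact hF (Cfsg.Agent.Helper28.S4700C.fform_of_centralizer_ne hperf p hcore P hP n hn hne)

end

/-! ## The reduction to `O_{p'}(G) = 1` and the final assembly -/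

section
variable [Finite G]

theorem main (hperf : commutator G = ⊤) (p : ℕ) [Fact p.Prime] (P : Sylow p G)
    (hP : Nat.card P = p) (n : ℕ) (hn : Nat.card (Sylow p G) = 1 + n * p) (hF : NotF p n) :
    Cfsg.Agent.S0996P.Goal (G ⧸ Cfsg.pPrimeCore p G) p := by
  rcases Cfsg.Agent.Helper28.S4700A.reduce hperf p P hP n hn with hform | ⟨Q, hQ, hnb⟩
  · exact absurd hform hF
  · have hperf' : commutator (G ⧸ Cfsg.pPrimeCore p G) = ⊤ :=
      Cfsg.Agent.Helper28.S4700A.commutator_quotient_eq_top hperf _
    have hcore : Cfsg.pPrimeCore p (G ⧸ Cfsg.pPrimeCore p G) = ⊥ :=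
      Cfsg.Agent.Helper7.pPrimeCore_quotient_eq_bot p
    have hcent := centralizer_eq_of_notF hperf' p Q hQ n hnb hcore hF
    exact goal_of_hypF (P := (Q : Subgroup (G ⧸ Cfsg.pPrimeCore p G))) (n := n)
      ⟨hQ, hcent, hperf', hnb, hF⟩

end

end Cfsg.Agent.S4700P
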