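import Cfsg.Agent.Helper27.Syl21Min

/-!
# S1010: the end of the proof that no finite group has exactly 21 Sylow 5-subgroups

Part 2: in a minimal counterexample the Sylow 5-subgroups have order 5 and meet trivially;
the normaliser of one of them does not centralise it (Burnside's transfer theorem and an orbit
argument on a Sylow 7-subgroup); evaluating the sign character and the transfer into the
automorphism group of `P` on involutions and on a 2-element inverting `P` gives a contradiction.
-/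

set_option autoImplicit false
set_option linter.style.haveILetI false
open Subgroup MulAction MonoidHom

namespace Cfsg.Agent.Helper27.Syl21

universe u v

variable {G : Type u} [Group G] [Finite G]

theorem exists_ne_sylow (h21 : Nat.card (Sylow 5 G) = 21) (P : Sylow 5 G) :
    ∃ Q : Sylow 5 G, P ≠ Q := by
  by_contra h
  have h' : ∀ Q : Sylow 5 G, P = Q := fun Q => by
    by_contra hh
    exact h ⟨Q, hh⟩
  have : Subsingleton (Sylow 5 G) := ⟨fun a b => (h' a).symm.trans (h' b)⟩
  have h1 : Nat.card (Sylow 5 G) ≤ 1 := Finite.card_le_one_iff_subsingleton.mpr this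
  omega

/-- In a minimal counterexample distinct Sylow 5-subgroups meet trivially. -/
theorem inf_eq_bot (hG : MinCE G) (P Q : Sylow 5 G) (hPQ : P ≠ Q) :
    (P : Subgroup G) ⊓ Q = ⊥ := by
  rw [eq_bot_iff]
  intro d hd
  rw [Subgroup.mem_bot]
  apply faithful hG
  intro R
  rw [Sylow.smul_eq_iff_mem_normalizer]
  exact le_normalizer (inf_le_of_ne hG.1 P Q hPQ R hd)

theorem card_sylow_five (hG : MinCE G) (P : Sylow 5 G) : Nat.card (P : Subgroup G) = 5 := by
  obtain ⟨Q, hPQ⟩ := exists_ne_sylow hG.1 P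
  have h1 := card_eq_five_mul_card_inf hG.1 P Q hPQ
  rw [inf_eq_bot hG P Q hPQ] at h1
  simpa using h1


instance fact7 : Fact (Nat.Prime 7) := ⟨by norm_num⟩

omit [Finite G] in
theorem mem_normalizer_conj_iff {p : ℕ} (P : Sylow p G) (k y : G) :
    k⁻¹ * y * k ∈ normalizer (P : Set G) ↔ y • (k • P) = k • P := by
  rw [← Sylow.smul_eq_iff_mem_normalizer, mul_smul, mul_smul, inv_smul_eq_iff]

/-- A Sylow 7-subgroup normalised by `P` fixes `P`. -/
theorem sylow7_le_normalizer (hG : MinCE G) (P : Sylow 5 G) (R : Sylow 7 G)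
    (hPR : ∀ g ∈ (P : Subgroup G), g • R = R) :
    (R : Subgroup G) ≤ normalizer (P : Set G) := by
  -- the orbit of `P` under `R`
  let X : Set (Sylow 5 G) := orbit (R : Subgroup G) P
  have hPX : P ∈ X := mem_orbit_self P
  have hX : ∀ g ∈ (P : Subgroup G), ∀ ω ∈ X, g • ω ∈ X := by
    rintro g hg ω ⟨⟨r, hr⟩, rfl⟩
    have hgr : g * r * g⁻¹ ∈ (R : Subgroup G) := by
      have h1 : g • R = R := hPR g hg
      have h2 : g * r * g⁻¹ ∈ ((g • R : Sylow 7 G) : Subgroup G) := by
        rw [Sylow.coe_subgroup_smul]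
        exact ⟨r, hr, rfl⟩
      rwa [h1] at h2
    refine ⟨⟨g * r * g⁻¹, hgr⟩, ?_⟩
    show (g * r * g⁻¹) • P = g • (r • P)
    have hgP : g⁻¹ • P = P := by
      rw [Sylow.smul_eq_iff_mem_normalizer]
      exact le_normalizer (inv_mem hg)
    rw [mul_smul, mul_smul, hgP]
  have hmod := card_invariant_set_modEq_one P X hPX hX
  -- the orbit has size a power of 7 at most 21
  have h1 : Nat.card X * Nat.card (stabilizer (R : Subgroup G) P) = Nat.card (R : Subgroup G) := by
    rw [← Nat.card_prod]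
    exact (Nat.card_congr (orbitProdStabilizerEquivGroup (R : Subgroup G) P))
  obtain ⟨k, hk⟩ := R.2.exists_card_eq
  have hdvd : Nat.card X ∣ 7 ^ k := by
    rw [← hk]; exact Dvd.intro _ h1
  obtain ⟨j, hj, hj'⟩ := (Nat.dvd_prime_pow (by norm_num : Nat.Prime 7)).mp hdvd
  have hle : Nat.card X ≤ 21 := by
    rw [← hG.1]
    exact Nat.card_le_card_of_injective _ Subtype.val_injective
  have hX1 : Nat.card X = 1 := by
    rw [hj'] at hle hmod ⊢
    rcases j with _ | _ | j
    · rfl
    · exfalso; revert hmod; decide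
    · exfalso
      have : 7 ^ 2 ≤ 7 ^ (j + 1 + 1) := Nat.pow_le_pow_right (by norm_num) (by omega)
      omega
  intro r hr
  rw [← Sylow.smul_eq_iff_mem_normalizer]
  have hsub : Subsingleton X := (Nat.card_eq_one_iff_unique.mp hX1).1
  have : (⟨r • P, ⟨⟨r, hr⟩, rfl⟩⟩ : X) = ⟨P, hPX⟩ := Subsingleton.elim _ _
  exact congrArg Subtype.val this


/-- Counting: a Sylow 7-subgroup cannot lie in the normaliser of `P` (index 21). -/
theorem not_sylow7_le_normalizer (hG : MinCE G) (P : Sylow 5 G) (R : Sylow 7 G) :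
    ¬ (R : Subgroup G) ≤ normalizer (P : Set G) := by
  intro hle
  have h1 : Nat.card (normalizer (P : Set G)) * 21 = Nat.card G := by
    rw [← hG.1, P.card_eq_index_normalizer]
    exact Subgroup.card_mul_index _
  have h2 : Nat.card (R : Subgroup G) ∣ Nat.card (normalizer (P : Set G)) :=
    Subgroup.card_dvd_of_le hle
  rw [Sylow.card_eq_multiplicity] at h2
  have h3 : 7 ^ ((Nat.card G).factorization 7 + 1) ∣ Nat.card G := by
    have h5 : 7 ^ ((Nat.card G).factorization 7 + 1) ∣ Nat.card (normalizer (P : Set G)) * 21 := by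
      rw [pow_succ]
      exact Nat.mul_dvd_mul h2 (by norm_num)
    rwa [h1] at h5
  have h4 := (Nat.Prime.pow_dvd_iff_le_factorization (by norm_num : Nat.Prime 7)
    (Nat.card_pos.ne' : Nat.card G ≠ 0)).mp h3
  omega

theorem not_normalizer_le_centralizer (hG : MinCE G) (P : Sylow 5 G) :
    ¬ (normalizer (P : Set G) ≤ centralizer (P : Set G)) := by
  intro hNC
  have hP5 := card_sylow_five hG P
  set τ := transferSylow P hNC with hτ
  set L : Subgroup G := τ.ker with hL
  have h5L : ¬ 5 ∣ Nat.card L := not_dvd_card_ker_transferSylow P hNC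
  have hcompl : IsComplement' L P := ker_transferSylow_isComplement' P hNC
  have hcard : Nat.card L * 5 = Nat.card G := by
    rw [← hP5]; exact hcompl.card_mul_card
  -- elements of order prime to 5 lie in L
  have hmemL : ∀ g : G, (orderOf g).Coprime 5 → g ∈ L := by
    intro g hg
    rw [hL, MonoidHom.mem_ker]
    have h1 : orderOf (τ g) ∣ orderOf g := orderOf_map_dvd τ g
    have h2 : orderOf (τ g) ∣ 5 := by
      have := orderOf_dvd_natCard (τ g)
      rwa [hP5] at this
    have h3 : orderOf (τ g) = 1 := Nat.eq_one_of_dvd_coprimes hg h1 h2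
    exact orderOf_eq_one_iff.mp h3
  let R : Sylow 7 G := default
  have hRL : (R : Subgroup G) ≤ L := by
    intro r hr
    apply hmemL
    obtain ⟨k, hk⟩ := (R.2 ⟨r, hr⟩)
    have hk' : r ^ 7 ^ k = 1 := by simpa using congrArg Subtype.val hk
    have : orderOf r ∣ 7 ^ k := orderOf_dvd_of_pow_eq_one hk'
    exact Nat.Coprime.coprime_dvd_left this (Nat.Coprime.pow_left k (by norm_num))
  have hfrat : normalizer (R : Set G) ⊔ L = ⊤ := Sylow.normalizer_sup_eq_top' R hRL
  have h5N : 5 ∣ Nat.card (normalizer (R : Set G)) := by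
    by_contra h
    have hle : normalizer (R : Set G) ≤ L := by
      intro g hg
      apply hmemL
      have h1 : orderOf g ∣ Nat.card (normalizer (R : Set G)) := by
        have := orderOf_dvd_natCard (⟨g, hg⟩ : normalizer (R : Set G))
        rwa [Subgroup.orderOf_mk] at this
      have h2 : (Nat.card (normalizer (R : Set G))).Coprime 5 :=
        ((Nat.Prime.coprime_iff_not_dvd (by norm_num : Nat.Prime 5)).mpr h).symm
      exact Nat.Coprime.coprime_dvd_left h1 h2
    rw [sup_eq_right.mpr hle] at hfrat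
    rw [hfrat, Subgroup.card_top] at hcard
    have : 0 < Nat.card G := Nat.card_pos
    omega
  obtain ⟨⟨x, hxN⟩, hx⟩ := exists_prime_orderOf_dvd_card' 5 h5N
  rw [Subgroup.orderOf_mk] at hx
  -- the subgroup generated by x is a Sylow 5-subgroup
  have hzp : IsPGroup 5 (zpowers x) := by
    apply IsPGroup.of_card (n := 1)
    rw [Nat.card_zpowers, hx, pow_one]
  obtain ⟨P', hP'⟩ := hzp.exists_le_sylow
  have hP'eq : zpowers x = (P' : Subgroup G) := by
    apply Subgroup.eq_of_le_of_card_ge hP'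
    rw [card_sylow_five hG P', Nat.card_zpowers, hx]
  obtain ⟨g, hg⟩ := exists_smul_eq G P' P
  -- P normalizes g • R
  have hPR : ∀ y ∈ (P : Subgroup G), y • (g • R) = g • R := by
    intro y hy
    rw [← hg] at hy
    have hy' : g⁻¹ * y * g ∈ (P' : Subgroup G) := by
      rw [Sylow.coe_subgroup_smul] at hy
      obtain ⟨z, hz, rfl⟩ := hy
      have : g⁻¹ * (MulAut.conj g) z * g = z := by
        rw [MulAut.conj_apply]; group
      rw [MulDistribMulAction.toMonoidEnd_apply, MulDistribMulAction.toMonoidHom_apply] 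
      show g⁻¹ * (MulAut.conj g) z * g ∈ (P' : Subgroup G)
      rw [this]; exact hz
    have h1 : g⁻¹ * y * g ∈ normalizer (R : Set G) := by
      rw [← hP'eq] at hy'
      exact (zpowers_le.mpr hxN) hy'
    rw [← Sylow.smul_eq_iff_mem_normalizer, mul_smul, mul_smul, inv_smul_eq_iff] at h1
    exact h1
  exact not_sylow7_le_normalizer hG P (g • R) (sylow7_le_normalizer hG P (g • R) hPR)


/-- number of Sylow 5-subgroups fixed by `t` -/
noncomputable def fixN (t : G) : ℕ := Nat.card (fixedBy (Sylow 5 G) t)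

omit [Finite G] in
theorem fixN_conj (k t : G) : fixN (k⁻¹ * t * k) = fixN t := by
  unfold fixN
  refine Nat.card_congr ((MulAction.toPerm k).subtypeEquiv ?_)
  intro Q
  simp only [mem_fixedBy, MulAction.toPerm_apply]
  rw [mul_smul, mul_smul, inv_smul_eq_iff]

theorem fixN_le (h21 : Nat.card (Sylow 5 G) = 21) (t : G) : fixN t ≤ 21 := by
  rw [← h21]
  exact Nat.card_le_card_of_injective _ Subtype.val_injective

theorem eq_one_of_fixN (hG : MinCE G) (t : G) (h : fixN t = 21) : t = 1 := by
  apply faithful hG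
  intro Q
  by_contra hQ
  have h1 : Nat.card {x : Sylow 5 G // t • x = x} < Nat.card (Sylow 5 G) :=
    Finite.card_subtype_lt hQ
  rw [hG.1] at h1
  have h2 : fixN t = Nat.card {x : Sylow 5 G // t • x = x} := rfl
  omega

/-- involutions fix `1 mod 4` Sylow subgroups -/
theorem fixN_mod_four (hG : MinCE G) (t : G) (ht : t ^ 2 = 1) : fixN t % 4 = 1 := by
  classical
  letI : Fintype (Sylow 5 G) := Fintype.ofFinite _
  set π : Equiv.Perm (Sylow 5 G) := MulAction.toPermHom G (Sylow 5 G) t with hπ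
  have h2 : π ^ 2 = 1 := by rw [hπ, ← map_pow, ht, map_one]
  have hsign : Equiv.Perm.sign π = 1 := by
    have hA : (Nat.card ℤˣ).Coprime 5 := by
      rw [Nat.card_eq_fintype_card]; decide
    exact hom_trivial hG hA (Equiv.Perm.sign.comp (MulAction.toPermHom G (Sylow 5 G))) t
  have h4 := card_support_of_sq_eq_one π h2 hsign
  have h3 : fixN t = (π.supportᶜ).card := by
    unfold fixN
    refine Nat.subtype_card _ ?_
    intro Q
    rw [Finset.mem_compl, Equiv.Perm.mem_support, not_not]
    rfl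
  rw [h3, Finset.card_compl, ← Nat.card_eq_fintype_card, hG.1]
  have h5 : π.support.card ≤ 21 := by
    calc π.support.card ≤ Fintype.card (Sylow 5 G) := Finset.card_le_univ _
      _ = 21 := by rw [← Nat.card_eq_fintype_card, hG.1]
  omega

/-- an element of the normaliser centralising `P` fixes `1 mod 5` Sylow subgroups -/
theorem fixN_mod_five (P : Sylow 5 G) (t : G) (htN : t ∈ normalizer (P : Set G))
    (htC : t ∈ centralizer (P : Set G)) : fixN t % 5 = 1 := by
  have h := card_invariant_set_modEq_one P (fixedBy (Sylow 5 G) t)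
    (by rw [mem_fixedBy, Sylow.smul_eq_iff_mem_normalizer]; exact htN)
    (by
      intro g hg ω hω
      rw [mem_fixedBy] at hω ⊢
      rw [smul_smul, ← (mem_centralizer_iff.mp htC g hg), mul_smul, hω])
  exact h


omit [Finite G] in
theorem conj_sq_eq_one (k t : G) (ht : t ^ 2 = 1) : (k⁻¹ * t * k) ^ 2 = 1 := by
  have : (k⁻¹ * t * k) ^ 2 = k⁻¹ * t ^ 2 * k := by
    simp [pow_two, mul_assoc]
  rw [this, ht]; group

omit [Finite G] in
/-- if `t` fixes exactly one Sylow subgroup, namely `P`, then any fixed one is `P` -/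
theorem eq_of_fixN_eq_one (P Q : Sylow 5 G) (t : G) (h1 : fixN t = 1) (hP : t • P = P)
    (hQ : t • Q = Q) : Q = P := by
  have hsub : Subsingleton (fixedBy (Sylow 5 G) t) := (Nat.card_eq_one_iff_unique.mp h1).1
  have : (⟨Q, hQ⟩ : fixedBy (Sylow 5 G) t) = ⟨P, hP⟩ := Subsingleton.elim _ _
  exact congrArg Subtype.val this

section Endgame

variable {A : Type v} [CommGroup A] [Finite A]

/-- The data of the endgame. -/
structure EndData (G : Type u) [Group G] [Finite G] (A : Type v) [CommGroup A] [Finite A] where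
  hG : MinCE G
  P : Sylow 5 G
  hA : (Nat.card A).Coprime 5
  ϕ : ↥(normalizer (P : Set G)) →* A
  hker : ∀ x, ϕ x = 1 → (x : G) ∈ centralizer (P : Set G)
  ι : A
  hι : ι ^ 2 = 1
  hinv : ∀ a : A, a ^ 2 = 1 → a = 1 ∨ a = ι
  hι1 : ι ≠ 1
  hfour : ∀ a : A, a ^ 4 = 1

variable (E : EndData G A)

theorem EndData.transfer_trivial (g : G) : transfer E.ϕ g = 1 :=
  hom_trivial E.hG E.hA (transfer E.ϕ) g

/-- Claim A: involutions fix exactly one Sylow subgroup and centralise it. -/
theorem EndData.involution (t : G) (ht1 : t ≠ 1) (ht : t ^ 2 = 1) :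
    fixN t = 1 ∧ ∀ (k : G) (hk : k⁻¹ * t * k ∈ normalizer (E.P : Set G)), E.ϕ ⟨_, hk⟩ = 1 := by
  have hmod4 := fixN_mod_four E.hG t ht
  have hle := fixN_le E.hG.1 t
  have h21 : fixN t ≠ 21 := fun h => ht1 (eq_one_of_fixN E.hG t h)
  -- conjugates of `t` in the normaliser not centralising `P` are mapped to `ι`
  have hconj : ∀ (k : G) (hk : k⁻¹ * t * k ∈ normalizer (E.P : Set G)),
      fixN t ≠ 1 → E.ϕ ⟨_, hk⟩ = E.ι := by
    intro k hk hne
    have hsq : (E.ϕ ⟨_, hk⟩) ^ 2 = 1 := by
      rw [← map_pow]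
      have : (⟨k⁻¹ * t * k, hk⟩ : normalizer (E.P : Set G)) ^ 2 = 1 := by
        apply Subtype.ext
        show (k⁻¹ * t * k) ^ 2 = 1
        exact conj_sq_eq_one k t ht
      rw [this, map_one]
    rcases E.hinv _ hsq with h1 | h1
    · exfalso
      have hC := E.hker _ h1
      have h5 := fixN_mod_five E.P (k⁻¹ * t * k) hk hC
      rw [fixN_conj] at h5
      omega
    · exact h1
  have hfix1 : fixN t = 1 := by
    by_contra hne
    have h1 := transfer_involution (normalizer (E.P : Set G)) E.ϕ t ht E.ι E.hι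
      (fun k hk => hconj k hk hne)
    rw [E.transfer_trivial, ← E.P.card_eq_index_normalizer, E.hG.1] at h1
    have h2 : E.ι ^ 21 = E.ι := by
      have : E.ι ^ 21 = (E.ι ^ 2) ^ 10 * E.ι := by rw [← pow_mul, ← pow_succ]
      rw [this, E.hι, one_pow, one_mul]
    rw [h2] at h1
    exact E.hι1 h1.symm
  refine ⟨hfix1, ?_⟩
  intro k hk
  set t' : G := k⁻¹ * t * k with ht'
  have ht'2 : t' ^ 2 = 1 := conj_sq_eq_one k t ht
  have hfix' : fixN t' = 1 := by rw [ht', fixN_conj]; exact hfix1
  have hT := transfer_of_unique_fixed (normalizer (E.P : Set G)) E.ϕ t' hk (by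
    intro n k' hk'
    rcases Nat.even_or_odd n with ⟨m, hm⟩ | ⟨m, hm⟩
    · left
      rw [hm, ← two_mul, pow_mul, ht'2, one_pow]
    · right
      have hpow : t' ^ n = t' := by
        rw [hm, pow_succ, pow_mul, ht'2, one_pow, one_mul]
      rw [hpow, mem_normalizer_conj_iff] at hk'
      have hPfix : t' • E.P = E.P := Sylow.smul_eq_iff_mem_normalizer.mpr hk
      have := eq_of_fixN_eq_one E.P (k' • E.P) t' hfix' hPfix hk'
      exact Sylow.smul_eq_iff_mem_normalizer.mp this)
  rw [E.transfer_trivial] at hT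
  exact hT.symm

/-- a nontrivial 2-element fixing `P` and `Q` forces `Q = P` -/
theorem EndData.eq_of_two_element (y : G) (i : ℕ) (hy : orderOf y = 2 ^ i) (hy1 : y ≠ 1)
    (Q : Sylow 5 G) (hP : y • E.P = E.P) (hQ : y • Q = Q) : Q = E.P := by
  have hi : i ≠ 0 := by
    intro h0
    rw [h0, pow_zero, orderOf_eq_one_iff] at hy
    exact hy1 hy
  obtain ⟨j, rfl⟩ := Nat.exists_eq_succ_of_ne_zero hi
  set t : G := y ^ 2 ^ j with ht
  have ht2 : t ^ 2 = 1 := by
    rw [ht, ← pow_mul, ← pow_succ, ← hy, pow_orderOf_eq_one]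
  have ht1 : t ≠ 1 := by
    intro h
    have h1 : orderOf y ∣ 2 ^ j := orderOf_dvd_of_pow_eq_one h
    rw [hy] at h1
    have := Nat.le_of_dvd (by positivity) h1
    have h2 : 2 ^ j < 2 ^ (j + 1) := Nat.pow_lt_pow_right (by norm_num) (by omega)
    omega
  have hfix := (E.involution t ht1 ht2).1
  have hpowfix : ∀ (S : Sylow 5 G), y • S = S → t • S = S := by
    intro S hS
    rw [ht]
    generalize 2 ^ j = n
    induction n with
    | zero => simp
    | succ n ih => rw [pow_succ, mul_smul, hS, ih]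
  exact eq_of_fixN_eq_one E.P Q t hfix (hpowfix _ hP) (hpowfix _ hQ)

/-- Claim B: the final contradiction. -/
theorem EndData.false (E : EndData G A) : False := by
  -- an element of the normaliser not centralising `P`
  have hNC := not_normalizer_le_centralizer E.hG E.P
  rw [SetLike.not_le_iff_exists] at hNC
  obtain ⟨x, hxN, hxC⟩ := hNC
  have hϕx : E.ϕ ⟨x, hxN⟩ ≠ 1 := fun h => hxC (E.hker _ h)
  -- its 2-part
  obtain ⟨j, m, hm, hjm⟩ := Nat.exists_eq_two_pow_mul_odd (orderOf_pos x).ne'
  set u : G := x ^ m with hu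
  have huN : u ∈ normalizer (E.P : Set G) := pow_mem hxN m
  have hϕu : E.ϕ ⟨u, huN⟩ ≠ 1 := by
    intro h
    have h1 : (E.ϕ ⟨x, hxN⟩) ^ m = 1 := by
      rw [← map_pow]
      have : (⟨x, hxN⟩ : normalizer (E.P : Set G)) ^ m = ⟨u, huN⟩ := Subtype.ext rfl
      rw [this, h]
    have h2 : orderOf (E.ϕ ⟨x, hxN⟩) ∣ m := orderOf_dvd_of_pow_eq_one h1
    have h3 : orderOf (E.ϕ ⟨x, hxN⟩) ∣ 4 := orderOf_dvd_of_pow_eq_one (E.hfour _)
    have h4 : Nat.Coprime m 4 := by
      have : Nat.Coprime m 2 := hm.coprime_two_right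
      exact Nat.Coprime.pow_right 2 this
    have h5 : orderOf (E.ϕ ⟨x, hxN⟩) = 1 := Nat.eq_one_of_dvd_coprimes h4 h2 h3
    exact hϕx (orderOf_eq_one_iff.mp h5)
  have hu2 : u ^ 2 ^ j = 1 := by
    rw [hu, ← pow_mul, mul_comm, ← hjm, pow_orderOf_eq_one]
  -- every nontrivial power of `u` fixes only `P`
  have hT := transfer_of_unique_fixed (normalizer (E.P : Set G)) E.ϕ u huN (by
    intro n k hk
    by_cases h1 : u ^ n = 1
    · left; exact h1
    · right
      have hord : orderOf (u ^ n) ∣ 2 ^ j := by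
        apply orderOf_dvd_of_pow_eq_one
        rw [← pow_mul, mul_comm, pow_mul, hu2, one_pow]
      obtain ⟨i, _, hi⟩ := (Nat.dvd_prime_pow Nat.prime_two).mp hord
      rw [mem_normalizer_conj_iff] at hk
      have hPfix : (u ^ n) • E.P = E.P :=
        Sylow.smul_eq_iff_mem_normalizer.mpr (pow_mem huN n)
      have := E.eq_of_two_element (u ^ n) i hi h1 (k • E.P) hPfix hk
      exact Sylow.smul_eq_iff_mem_normalizer.mp this)
  rw [E.transfer_trivial] at hT
  exact hϕu hT.symm

end Endgame


theorem units_facts (n : ℕ) (hn : n = 5) :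
    ((-1 : (ZMod n)ˣ)) ^ 2 = 1 ∧ (∀ a : (ZMod n)ˣ, a ^ 2 = 1 → a = 1 ∨ a = -1) ∧
    (-1 : (ZMod n)ˣ) ≠ 1 ∧ ∀ a : (ZMod n)ˣ, a ^ 4 = 1 := by
  subst hn
  refine ⟨?_, ?_, ?_, ?_⟩ <;> decide

theorem units_card (n : ℕ) (hn : n = 5) [Finite (ZMod n)ˣ] : (Nat.card (ZMod n)ˣ).Coprime 5 := by
  subst hn
  rw [Nat.card_eq_fintype_card]
  decide

theorem minCE_false (hG : MinCE G) : False := by
  let P : Sylow 5 G := default
  have hP5 := card_sylow_five hG P
  haveI : IsCyclic (P : Subgroup G) := isCyclic_of_prime_card hP5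
  haveI : NeZero (Nat.card (P : Subgroup G)) := ⟨by rw [hP5]; norm_num⟩
  obtain ⟨h1, h2, h3, h4⟩ := units_facts (Nat.card (P : Subgroup G)) hP5
  exact EndData.false (A := (ZMod (Nat.card (P : Subgroup G)))ˣ)
    { hG := hG
      P := P
      hA := units_card _ hP5
      ϕ := (IsCyclic.mulAutMulEquiv (P : Subgroup G)).toMonoidHom.comp
        (P : Subgroup G).normalizerMonoidHom
      hker := by
        intro x hx
        have h5 : (P : Subgroup G).normalizerMonoidHom x = 1 := by
          apply (IsCyclic.mulAutMulEquiv (P : Subgroup G)).injective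
          rw [map_one]
          exact hx
        have h6 : x ∈ (P : Subgroup G).normalizerMonoidHom.ker := h5
        rw [normalizerMonoidHom_ker, mem_subgroupOf] at h6
        exact h6
      ι := -1
      hι := h1
      hinv := h2
      hι1 := h3
      hfour := h4 }


/-- **No finite group has exactly 21 Sylow 5-subgroups.** -/
theorem card_sylow5_ne_21 : ∀ (n : ℕ) (G : Type u) [Group G] [Finite G], Nat.card G = n →
    Nat.card (Sylow 5 G) ≠ 21 := by
  intro n
  induction n using Nat.strong_induction_on with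
  | _ n ih =>
    intro G _ _ hn h21
    exact minCE_false ⟨h21, fun H _ _ hlt => ih (Nat.card H) (hn ▸ hlt) H rfl⟩

end Cfsg.Agent.Helper27.Syl21
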