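import Mathlib
import Cfsg.Agent.Helper14.S2863Defs
import Cfsg.Agent.Helper12.BorelUnip

/-!
# Board `s2863pieces`, row SL2POW (`SL2_pow`)

Elements of trace `2` of `SL₂(F)`, `char F = p`, have order dividing `p`.
-/

set_option autoImplicit false

namespace Cfsg.Agent.S2863P

open Cfsg Subgroup
open Cfsg.Agent.Helper14 (cj)

section SL2
open Cfsg.Agent.Helper12 Matrix
variable {F : Type*} [Field F]

local notation "S2" => Matrix.SpecialLinearGroup (Fin 2) F
local notation "M2" => Matrix (Fin 2) (Fin 2) F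

/-- `(t - 1)² = 0` for a matrix of determinant `1` and trace `2`. -/
theorem SL2POW_aux_sq (t : S2) (htr : (t : M2) 0 0 + (t : M2) 1 1 = 2) :
    ((t : M2) - 1) * ((t : M2) - 1) = 0 := by
  have hdet := t.2
  rw [Matrix.det_fin_two] at hdet
  ext i j
  fin_cases i <;> fin_cases j
  · simp only [Fin.zero_eta, Fin.isValue, Matrix.mul_apply, Fin.sum_univ_two, Matrix.sub_apply,
      Matrix.one_apply_eq, Matrix.one_apply_ne, ne_eq, one_ne_zero, not_false_eq_true, zero_ne_one,
      sub_zero, Matrix.zero_apply]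
    linear_combination (t : M2) 0 0 * htr - hdet
  · simp only [Fin.zero_eta, Fin.isValue, Fin.mk_one, Matrix.mul_apply, Fin.sum_univ_two, Matrix.sub_apply,
      Matrix.one_apply_eq, Matrix.one_apply_ne, ne_eq, one_ne_zero, not_false_eq_true, zero_ne_one,
      sub_zero, Matrix.zero_apply]
    linear_combination (t : M2) 0 1 * htr
  · simp only [Fin.zero_eta, Fin.isValue, Fin.mk_one, Matrix.mul_apply, Fin.sum_univ_two, Matrix.sub_apply,
      Matrix.one_apply_eq, Matrix.one_apply_ne, ne_eq, one_ne_zero, not_false_eq_true, zero_ne_one,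
      sub_zero, Matrix.zero_apply]
    linear_combination (t : M2) 1 0 * htr
  · simp only [Fin.isValue, Fin.mk_one, Matrix.mul_apply, Fin.sum_univ_two, Matrix.sub_apply,
      Matrix.one_apply_eq, Matrix.one_apply_ne, ne_eq, one_ne_zero, not_false_eq_true, zero_ne_one,
      sub_zero, Matrix.zero_apply]
    linear_combination (t : M2) 1 1 * htr - hdet

/-- SL2POW : trace `2` elements have order dividing `p` (Cayley–Hamilton: `(t - 1)² = 0`; `add_pow_char`). -/
theorem SL2_pow (p : ℕ) [Fact p.Prime] [CharP F p] (t : S2) (htr : (t : M2) 0 0 + (t : M2) 1 1 = 2) :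
    t ^ p = 1 := by
  have hp : p.Prime := Fact.out
  have hsq := SL2POW_aux_sq t htr
  have hNp : ((t : M2) - 1) ^ p = 0 := by
    obtain ⟨k, hk⟩ : ∃ k, p = k + 2 := ⟨p - 2, by have := hp.two_le; omega⟩
    rw [hk, pow_add, pow_two, hsq, mul_zero]
  have hcomm : Commute ((t : M2) - 1) (1 : M2) := Commute.one_right _
  have h1 : (t : M2) ^ p = 1 := by
    have h2 : (t : M2) = ((t : M2) - 1) + 1 := by abel
    rw [h2, add_pow_char_of_commute p hcomm, hNp, one_pow, zero_add]
  apply Subtype.ext
  rw [Matrix.SpecialLinearGroup.coe_pow, h1, Matrix.SpecialLinearGroup.coe_one]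

end SL2

end Cfsg.Agent.S2863P
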