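import Mathlib
import Cfsg.Agent.Helper14.S2863Defs
import Cfsg.Agent.Helper12.BorelUnip
import Cfsg.Agent.Helper27.S2863SL2POW

/-!
# Board `s2863pieces`, row SL2CONJ (`SL2_unip_conj`)

Elements of trace `2` of `SL₂(F)` lie in a conjugate of the unitriangular subgroup.
-/

set_option autoImplicit false

namespace Cfsg.Agent.S2863P

open Cfsg Subgroup
open Cfsg.Agent.Helper14 (cj)

section SL2
open Cfsg.Agent.Helper12 Matrix
variable {F : Type*} [Field F]

local notation "S2" => Matrix.SpecialLinearGroup (Fin 2) F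
local notation "M2" => Matrix (Fin 2) (Fin 2) F

/-- SL2CONJ : trace `2` elements lie in a conjugate of `unipSL F` (SL2POW, Sylow, `exists_conj_sylow_eq_unipSL`). -/
theorem SL2_unip_conj [Fintype F] (p : ℕ) [Fact p.Prime] [CharP F p] (t : S2)
    (htr : (t : M2) 0 0 + (t : M2) 1 1 = 2) : ∃ x : S2, t ∈ (unipSL F).map (cj x) := by
  have htp : t ^ p = 1 := SL2_pow p t htr
  have hpg : IsPGroup p ↥(zpowers t) := by
    rintro ⟨g, hg⟩
    obtain ⟨n, rfl⟩ := mem_zpowers_iff.mp hg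
    refine ⟨1, ?_⟩
    apply Subtype.ext
    show (t ^ n) ^ (p ^ 1) = 1
    rw [pow_one, ← zpow_natCast, ← _root_.zpow_mul, mul_comm, _root_.zpow_mul, zpow_natCast, htp, _root_.one_zpow]
  obtain ⟨P, hP⟩ := hpg.exists_le_sylow
  obtain ⟨g, hg⟩ := exists_conj_sylow_eq_unipSL p P
  refine ⟨g⁻¹, ?_⟩
  rw [Cfsg.Agent.Helper14.mem_map_cj, inv_inv, ← hg]
  exact ⟨t, hP (mem_zpowers t), rfl⟩

end SL2

end Cfsg.Agent.S2863P
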