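import Mathlib
import Cfsg.Agent.Helper14.S2863Defs
import Cfsg.Agent.Helper12.BorelUnip

/-!
# Board `s2863pieces`, row SL2NEG (`SL2_neg`)

The scalar `-1` of `SL₂(F)` (characteristic `≠ 2`) is central and is the square of a product of two nontrivial elements of two different
conjugates of the unitriangular subgroup.
-/

set_option autoImplicit false

namespace Cfsg.Agent.S2863P

open Cfsg Subgroup
open Cfsg.Agent.Helper14 (cj)

section SL2
open Cfsg.Agent.Helper12 Matrix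
variable {F : Type*} [Field F]

local notation "S2" => Matrix.SpecialLinearGroup (Fin 2) F
local notation "M2" => Matrix (Fin 2) (Fin 2) F

/-- the Weyl element. -/
def SL2NEG_aux_w (F : Type*) [Field F] : Matrix.SpecialLinearGroup (Fin 2) F :=
  ⟨!![0, 1; -1, 0], by simp [Matrix.det_fin_two_of]⟩

/-- the lower unitriangular element `[[1,0],[-2,1]]`. -/
def SL2NEG_aux_s (F : Type*) [Field F] : Matrix.SpecialLinearGroup (Fin 2) F :=
  ⟨!![1, 0; -2, 1], by simp [Matrix.det_fin_two_of]⟩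

theorem SL2NEG_aux_s_eq : SL2NEG_aux_s F = SL2NEG_aux_w F * uMat 2 * (SL2NEG_aux_w F)⁻¹ := by
  apply Subtype.ext
  show (!![1, 0; -2, 1] : M2) = (!![0, 1; -1, 0] : M2) * ((uMat 2 : S2) : M2) *
    (((SL2NEG_aux_w F)⁻¹ : S2) : M2)
  rw [Matrix.SpecialLinearGroup.coe_inv, uMat_coe]
  show (!![1, 0; -2, 1] : M2) = (!![0, 1; -1, 0] : M2) * !![1, 2; 0, 1] *
    Matrix.adjugate (!![0, 1; -1, 0] : M2)
  rw [Matrix.adjugate_fin_two_of, Matrix.mul_fin_two, Matrix.mul_fin_two]
  ext i j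
  fin_cases i <;> fin_cases j <;> simp

theorem SL2NEG_aux_sq : ((uMat 1 * SL2NEG_aux_s F : S2) : M2) * ((uMat 1 * SL2NEG_aux_s F : S2) : M2)
    = !![-1, 0; 0, -1] := by
  rw [Matrix.SpecialLinearGroup.coe_mul, uMat_coe]
  show ((!![1, 1; 0, 1] : M2) * !![1, 0; -2, 1]) * ((!![1, 1; 0, 1] : M2) * !![1, 0; -2, 1]) = _
  rw [Matrix.mul_fin_two, Matrix.mul_fin_two]
  ext i j
  fin_cases i <;> fin_cases j <;> simp <;> ring

/-- SL2NEG : the scalar `-1` (characteristic `≠ 2`): `t = uMat 1`, `s = [[1,0],[-2,1]] = w (uMat 2) w⁻¹`, `w = [[0,1],[-1,0]]`,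
`(t s)² = -1`. -/
theorem SL2_neg (h2 : (2 : F) ≠ 0) (z : S2) (hz10 : (z : M2) 1 0 = 0) (hz01 : (z : M2) 0 1 = 0)
    (hz : (z : M2) 0 0 = (z : M2) 1 1) (hz1 : z ≠ 1) :
    z ∈ center S2 ∧ ∃ x2 t s : S2, t ∈ unipSL F ∧ s ∈ (unipSL F).map (cj x2) ∧ t ≠ 1 ∧ s ≠ 1 ∧
      unipSL F ≠ (unipSL F).map (cj x2) ∧ z = (t * s) ^ 2 := by
  have hdet := z.2
  rw [Matrix.det_fin_two, hz10, hz01, ← hz] at hdet
  have ha : (z : M2) 0 0 = -1 := by
    have h3 : ((z : M2) 0 0 - 1) * ((z : M2) 0 0 + 1) = 0 := by linear_combination hdet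
    rcases mul_eq_zero.mp h3 with h4 | h4
    · exfalso
      apply hz1
      have h5 : (z : M2) 0 0 = 1 := by linear_combination h4
      apply Subtype.ext
      ext i j
      fin_cases i <;> fin_cases j
      · simpa using h5
      · simpa using hz01
      · simpa using hz10
      · simpa using (hz ▸ h5 : (z : M2) 1 1 = 1)
    · linear_combination h4
  have ha' : (z : M2) 1 1 = -1 := by rw [← hz]; exact ha
  have hs10 : ((SL2NEG_aux_s F : S2) : M2) 1 0 = -2 := by
    show (!![1, 0; -2, 1] : M2) 1 0 = -2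
    simp
  have hs_not : SL2NEG_aux_s F ∉ unipSL F := by
    intro hmem
    rw [mem_unipSL_iff, hs10] at hmem
    apply h2
    have := hmem.1
    linear_combination -this
  have hs_mem : SL2NEG_aux_s F ∈ (unipSL F).map (cj (SL2NEG_aux_w F)) :=
    ⟨uMat 2, uMat_mem 2, SL2NEG_aux_s_eq.symm⟩
  refine ⟨?_, SL2NEG_aux_w F, uMat 1, SL2NEG_aux_s F, uMat_mem 1, hs_mem, ?_, ?_, ?_, ?_⟩
  · rw [Subgroup.mem_center_iff]
    intro g
    apply Subtype.ext
    rw [Matrix.SpecialLinearGroup.coe_mul, Matrix.SpecialLinearGroup.coe_mul]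
    ext i j
    fin_cases i <;> fin_cases j <;>
      simp [Matrix.mul_apply, Fin.sum_univ_two, hz10, hz01, ha, ha']
  · intro h1
    have := congrArg (fun m : S2 => (m : M2) 0 1) h1
    simp [uMat] at this
  · intro h1
    apply hs_not
    rw [h1]
    exact (unipSL F).one_mem
  · intro heq
    apply hs_not
    rw [heq]
    exact hs_mem
  · apply Subtype.ext
    rw [pow_two, Matrix.SpecialLinearGroup.coe_mul, SL2NEG_aux_sq]
    ext i j
    fin_cases i <;> fin_cases j
    · simpa using ha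
    · simpa using hz01
    · simpa using hz10
    · simpa using ha'

end SL2

end Cfsg.Agent.S2863P
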