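import Mathlib
import Cfsg.Agent.Helper14.S2863Defs
import Cfsg.Agent.Helper12.BorelUnip

/-!
# Board `s2863pieces`, row SL2SR (`SL2_sr`)

A nontrivial upper unitriangular matrix normalises `U^x` only for `x` in the Borel subgroup.
-/

set_option autoImplicit false

namespace Cfsg.Agent.S2863P

open Cfsg Subgroup
open Cfsg.Agent.Helper14 (cj)

section SL2
open Cfsg.Agent.Helper12 Matrix
variable {F : Type*} [Field F]

local notation "S2" => Matrix.SpecialLinearGroup (Fin 2) F
local notation "M2" => Matrix (Fin 2) (Fin 2) F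

/-- SL2SR : a nontrivial upper unitriangular matrix normalises `U^x` only for `x` in the Borel subgroup
(the `(1,0)`-entry of `x⁻¹ (uMat r) x` is `- r (x 1 0)^2`; `normalizer_unipSL`). -/
theorem SL2_sr {r : F} (hr : r ≠ 0) (x : S2)
    (h : uMat r ∈ normalizer (((unipSL F).map (cj x) : Subgroup S2) : Set S2)) : x ∈ borelSL F := by
  rw [← Cfsg.Agent.Helper14.map_cj_normalizer, Cfsg.Agent.Helper14.mem_map_cj, normalizer_unipSL,
    mem_borelSL_iff] at h
  rw [Matrix.SpecialLinearGroup.coe_mul, Matrix.SpecialLinearGroup.coe_mul,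
    Matrix.SpecialLinearGroup.coe_inv, uMat_coe, Matrix.adjugate_fin_two] at h
  simp only [Matrix.mul_apply, Fin.sum_univ_two, Matrix.of_apply,
    Matrix.cons_val', Matrix.cons_val_zero, Matrix.cons_val_one, Matrix.cons_val_fin_one] at h
  rw [mem_borelSL_iff]
  have h2 : r * ((x : M2) 1 0 * (x : M2) 1 0) = 0 := by
    linear_combination -h
  rcases mul_eq_zero.mp h2 with h3 | h3
  · exact absurd h3 hr
  · exact mul_self_eq_zero.mp h3

end SL2

end Cfsg.Agent.S2863P
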