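import Mathlib
import Cfsg.Agent.Helper14.S2863Defs
import Cfsg.Agent.Helper12.BorelUnip
import Cfsg.Agent.Helper27.S2863SL2SR
import Cfsg.Agent.Helper27.S2863SL2POW
import Cfsg.Agent.Helper27.S2863SL2CONJ
import Cfsg.Agent.Helper27.S2863SL2NEG

/-!
# Board `s2863pieces`, row SL2CORE: the core, with the statement of row SL2UNI as a hypothesis
-/

set_option autoImplicit false

namespace Cfsg.Agent.S2863P

open Cfsg Subgroup
open Cfsg.Agent.Helper14 (cj)
open Cfsg.Agent.S2861P (Hyp)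

section SL2
open Cfsg.Agent.Helper12 Matrix
variable {F : Type*} [Field F]

local notation "S2" => Matrix.SpecialLinearGroup (Fin 2) F
local notation "M2" => Matrix (Fin 2) (Fin 2) F

theorem SL2CORE_aux_uMat_zero : (uMat (0 : F) : S2) = 1 := by
  apply Subtype.ext
  ext i j
  fin_cases i <;> fin_cases j <;> simp [uMat]

theorem SL2CORE_aux_pow_of_mem (p : ℕ) [Fact p.Prime] [CharP F p] {u : S2} (hu : u ∈ unipSL F) :
    u ^ p = 1 := by
  rw [eq_uMat_of_mem hu]
  apply SL2_pow
  rw [uMat_coe]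
  simp
  norm_num

theorem SL2CORE_aux_ppow (p : ℕ) [hp : Fact p.Prime] {X : Type*} [Group X] {g : X} (h : g ^ p = 1) :
    ∃ k : ℕ, orderOf g = p ^ k := by
  have h1 : orderOf g ∣ p := orderOf_dvd_of_pow_eq_one h
  rcases (Nat.dvd_prime hp.out).mp h1 with h2 | h2
  · exact ⟨0, by rw [h2, pow_zero]⟩
  · exact ⟨1, by rw [h2, pow_one]⟩

theorem SL2CORE_aux_pow_of_mem_conj (p : ℕ) [Fact p.Prime] [CharP F p] {g x : S2}
    (hg : g ∈ (unipSL F).map (cj x)) : g ^ p = 1 := by
  rw [Cfsg.Agent.Helper14.mem_map_cj] at hg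
  have h1 := SL2CORE_aux_pow_of_mem p hg
  have h2 : (x⁻¹ * g * x) ^ p = x⁻¹ * g ^ p * x := by
    have := conj_pow (a := x⁻¹) (b := g) (i := p)
    rw [inv_inv] at this
    exact this
  rw [h2] at h1
  have h3 : g ^ p = x * (x⁻¹ * g ^ p * x) * x⁻¹ := by group
  rw [h3, h1]
  group

/-- SL2CORE, with the statement of SL2UNI as a hypothesis. -/
theorem SL2CORE_aux_core [Fintype F] (p : ℕ) [Fact p.Prime] [CharP F p] (Nb : Subgroup S2)
    (h : Hyp (unipSL F) Nb)
    (huni : ∀ h : S2, (h : M2) 0 0 + (h : M2) 1 1 ≠ 2 →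
      ((h : M2) 1 0 ≠ 0 ∨ (h : M2) 0 1 ≠ 0 ∨ (h : M2) 0 0 ≠ (h : M2) 1 1) →
      ∃ t s : S2, t ≠ 1 ∧ s ≠ 1 ∧ h = t * s ∧ (t : M2) 0 0 + (t : M2) 1 1 = 2 ∧
        (s : M2) 0 0 + (s : M2) 1 1 = 2) : XFacts p (unipSL F) Nb := by
  classical
  have hp : p.Prime := Fact.out
  have hBne : borelSL F ≠ ⊤ := by
    intro htop
    have hidx := index_borelSL (F := F)
    rw [htop, Subgroup.index_top] at hidx
    have : 1 < Fintype.card F := Fintype.one_lt_card
    omega
  have hNB : Nb = borelSL F := by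
    apply le_antisymm
    · have := h.norm
      rwa [normalizer_unipSL] at this
    · exact h.max _ unipSL_le_borelSL hBne
  constructor
  · intro t ht ht1 x hx
    rw [hNB]
    have htr : t = uMat ((t : M2) 0 1) := eq_uMat_of_mem ht
    have hr : (t : M2) 0 1 ≠ 0 := by
      intro h0
      apply ht1
      rw [htr, h0]
      exact SL2CORE_aux_uMat_zero
    rw [htr] at hx
    exact SL2_sr hr x hx
  · intro g hg
    have hgp : ¬ g ^ p = 1 := fun h1 => hg (SL2CORE_aux_ppow p h1)
    have hg1 : g ≠ 1 := by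
      intro h1
      apply hgp
      rw [h1, one_pow]
    by_cases hsc : (g : M2) 1 0 = 0 ∧ (g : M2) 0 1 = 0 ∧ (g : M2) 0 0 = (g : M2) 1 1
    · obtain ⟨h10, h01, h00⟩ := hsc
      have h2 : (2 : F) ≠ 0 := by
        intro h2
        apply hg1
        have hdet := g.2
        rw [Matrix.det_fin_two, h10, h01, ← h00] at hdet
        have h3 : ((g : M2) 0 0 - 1) * ((g : M2) 0 0 - 1) = 0 := by
          linear_combination hdet - ((g : M2) 0 0 - 1) * h2
        have h4 : (g : M2) 0 0 = 1 := by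
          have := mul_self_eq_zero.mp h3
          linear_combination this
        apply Subtype.ext
        ext i j
        fin_cases i <;> fin_cases j
        · simpa using h4
        · simpa using h01
        · simpa using h10
        · simpa using (h00 ▸ h4 : (g : M2) 1 1 = 1)
      have hp2 : p ≠ 2 := by
        intro hp2
        apply h2
        have := CharP.cast_eq_zero F p
        rw [hp2] at this
        exact_mod_cast this
      obtain ⟨hcen, x2, t, s, ht, hs, ht1, hs1, hne, hz⟩ := SL2_neg h2 g h10 h01 h00 hg1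
      refine ⟨1, x2, t, s, ?_, hs, ht1, hs1, ?_, Or.inr ⟨hp2, hcen, hz⟩⟩
      · rw [Cfsg.Agent.Helper14.map_cj_one]
        exact ht
      · rw [Cfsg.Agent.Helper14.map_cj_one]
        exact hne
    · have hns : (g : M2) 1 0 ≠ 0 ∨ (g : M2) 0 1 ≠ 0 ∨ (g : M2) 0 0 ≠ (g : M2) 1 1 := by
        by_contra hcon
        push Not at hcon
        exact hsc hcon
      have htr : (g : M2) 0 0 + (g : M2) 1 1 ≠ 2 := fun htr => hgp (SL2_pow p g htr)
      obtain ⟨t, s, ht1, hs1, hgts, httr, hstr⟩ := huni g htr hns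
      obtain ⟨x1, hx1⟩ := SL2_unip_conj p t httr
      obtain ⟨x2, hx2⟩ := SL2_unip_conj p s hstr
      refine ⟨x1, x2, t, s, hx1, hx2, ht1, hs1, ?_, Or.inl hgts⟩
      intro heq
      apply hgp
      apply SL2CORE_aux_pow_of_mem_conj p (x := x1)
      rw [hgts]
      rw [← heq] at hx2
      exact mul_mem hx1 hx2

end SL2

end Cfsg.Agent.S2863P
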