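import Mathlib
import Cfsg.Agent.Helper14.S2863Defs
import Cfsg.Agent.Helper14.S2863XFTR
import Cfsg.Agent.Helper12.BorelUnip
import Cfsg.Agent.Helper23.S2861SL2
import Cfsg.Agent.Helper27.S2863SL2COREc

/-!
# Board `s2863pieces`, row SL2: the core, with the statement of row SL2UNI as a hypothesis
-/

set_option autoImplicit false

namespace Cfsg.Agent.S2863P

open Cfsg Subgroup
open Cfsg.Agent.Helper14 (cj)
open Cfsg.Agent.S2861P (Hyp)

section SL2
open Cfsg.Agent.Helper12 Matrix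
variable {F : Type*} [Field F]

local notation "S2" => Matrix.SpecialLinearGroup (Fin 2) F
local notation "M2" => Matrix (Fin 2) (Fin 2) F

/-- SL2, with the statement of SL2UNI as a hypothesis. -/
theorem SL2_aux_core [Fintype F] (p : ℕ) [Fact p.Prime] (Yb Nb : Subgroup S2) (h : Hyp Yb Nb)
    (hY : IsPGroup p ↥Yb) (hcard : Nat.card Yb = Fintype.card F)
    (huni : ∀ h : S2, (h : M2) 0 0 + (h : M2) 1 1 ≠ 2 →
      ((h : M2) 1 0 ≠ 0 ∨ (h : M2) 0 1 ≠ 0 ∨ (h : M2) 0 0 ≠ (h : M2) 1 1) →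
      ∃ t s : S2, t ≠ 1 ∧ s ≠ 1 ∧ h = t * s ∧ (t : M2) 0 0 + (t : M2) 1 1 = 2 ∧
        (s : M2) 0 0 + (s : M2) 1 1 = 2) : XFacts p Yb Nb := by
  classical
  have : CharP F p := Cfsg.Agent.S2861P.SL2.charP p Yb hY hcard
  obtain ⟨P, hYP⟩ := hY.exists_le_sylow
  obtain ⟨g, hg⟩ := exists_conj_sylow_eq_unipSL p P
  have hPcard : Nat.card (P : Subgroup S2) = Fintype.card F := by
    rw [← card_unipSL (F := F), ← hg]
    exact (Nat.card_congr (Subgroup.equivMapOfInjective _ _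
      (MulAut.conj g).injective).toEquiv)
  have hYeq : Yb = (P : Subgroup S2) :=
    Subgroup.eq_of_le_of_card_ge hYP (by rw [hPcard, hcard])
  have hT := Cfsg.Agent.S2861P.TRANSPORT (MulAut.conj g) p Yb Nb
  have hmap : Yb.map (MulAut.conj g).toMonoidHom = unipSL F := by rw [hYeq]; exact hg
  have hH := hT.1 h
  rw [hmap] at hH
  have hC := SL2CORE_aux_core p _ hH huni
  rw [← hmap] at hC
  exact XFacts.of_equiv (MulAut.conj g) p Yb Nb hC

end SL2

end Cfsg.Agent.S2863P
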