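import Mathlib
import Cfsg.Agent.Helper14.S2863Defs
import Cfsg.Agent.Helper12.BorelUnip
import Cfsg.Agent.Helper27.S2863SL2COREc
import Cfsg.Agent.Helper27.S2863SL2c
import Cfsg.Agent.Helper22.S2863SL2UNI

/-!
# Board `s2863pieces`, rows SL2CORE (`XF_SL2_core`) and SL2 (`XF_SL2`)
-/

set_option autoImplicit false

namespace Cfsg.Agent.S2863P

open Cfsg Subgroup
open Cfsg.Agent.Helper14 (cj)
open Cfsg.Agent.S2861P (Hyp)

section SL2
open Cfsg.Agent.Helper12 Matrix
variable {F : Type*} [Field F]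

local notation "S2" => Matrix.SpecialLinearGroup (Fin 2) F
local notation "M2" => Matrix (Fin 2) (Fin 2) F

/-- SL2CORE : the case `Yb = unipSL F` (`Nb = borelSL F` as in `Cfsg.Agent.S2861P.SL2.core`). -/
theorem XF_SL2_core [Fintype F] (p : ℕ) [Fact p.Prime] [CharP F p] (Nb : Subgroup S2)
    (h : Hyp (unipSL F) Nb) : XFacts p (unipSL F) Nb :=
  SL2CORE_aux_core p Nb h (fun g htr hns => SL2_uni g htr hns)

/-- SL2 : as `Cfsg.Agent.S2861P.SL2`. -/
theorem XF_SL2 [Fintype F] (p : ℕ) [Fact p.Prime] (Yb Nb : Subgroup S2) (h : Hyp Yb Nb)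
    (hY : IsPGroup p ↥Yb) (hcard : Nat.card Yb = Fintype.card F) : XFacts p Yb Nb :=
  SL2_aux_core p Yb Nb h hY hcard (fun g htr hns => SL2_uni g htr hns)

end SL2

end Cfsg.Agent.S2863P
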