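import Mathlib
import Cfsg.Agent.S4700
import Cfsg.Agent.S2301
import Cfsg.Agent.Helper11.S0996ZB
import Cfsg.Agent.Helper11.O504A

set_option autoImplicit false

/-! S4274 piece BRFILTER: the Brauer–Reynolds alternative (S4700) for a nonabelian simple group. -/

namespace Cfsg.Agent.S4274P

namespace BRFILTER

/-- In a simple group whose order is divisible by `r`, `O_{r'}` is trivial. -/
theorem pPrimeCore_eq_bot {H : Type*} [Group H] [Finite H] [IsSimpleGroup H] (r : ℕ)
    [Fact r.Prime] (hr : r ∣ Nat.card H) : Cfsg.pPrimeCore r H = ⊥ := by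
  have hp : r.Prime := Fact.out
  unfold Cfsg.pPrimeCore
  rw [eq_bot_iff]
  apply sSup_le
  rintro N ⟨hN, hcop⟩
  rcases hN.eq_bot_or_eq_top with h | h
  · rw [h]
  · exfalso
    rw [h, Subgroup.card_top] at hcop
    have := Nat.Coprime.eq_one_of_dvd hcop.symm hr
    exact hp.one_lt.ne' this

/-- The quotient by the trivial `O_{r'}` has the same order. -/
theorem card_quot {H : Type*} [Group H] [Finite H] [IsSimpleGroup H] (r : ℕ)
    [Fact r.Prime] (hr : r ∣ Nat.card H) : Nat.card (H ⧸ Cfsg.pPrimeCore r H) = Nat.card H := by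
  have h1 : Nat.card (H ⧸ Cfsg.pPrimeCore r H) = (Cfsg.pPrimeCore r H).index := rfl
  rw [h1, pPrimeCore_eq_bot r hr, Subgroup.index_bot]

end BRFILTER

/-- BRFILTER: the Brauer–Reynolds alternative (S4700) for a nonabelian simple group. -/
theorem br_filter {H : Type*} [Group H] [Finite H] [IsSimpleGroup H] (hnc : ¬ IsMulCommutative H)
    (r : ℕ) [Fact r.Prime] (R : Sylow r H) (hR : Nat.card (R : Subgroup H) = r) (n : ℕ)
    (hn : Nat.card (Sylow r H) = 1 + n * r) :
    (3 < r ∧ 2 * Nat.card H = (r - 1) * r * (r + 1)) ∨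
    (∃ m : ℕ, r = 2 ^ m + 1 ∧ 3 < r ∧ Nat.card H = (2 ^ m + 1) * ((2 ^ m - 1) * 2 ^ m)) ∨
    ∃ h u : ℕ, 0 < h ∧ 0 < u ∧ n * (u + 1) = h * u * r + u ^ 2 + u + h := by
  classical
  have hp : r.Prime := Fact.out
  have hperf : commutator H = ⊤ := Cfsg.Agent.Helper11.O504.commutator_eq_top hnc
  have hr : r ∣ Nat.card H := by
    rw [← hR]; exact Subgroup.card_subgroup_dvd_card _
  rcases Cfsg.Agent.S4700.result hperf r R hR n hn with
    ⟨F, _, _, hF, h3, ⟨e⟩⟩ | ⟨m, F, _, _, hF, hrm, h3, ⟨e⟩⟩ | h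
  · left
    refine ⟨h3, ?_⟩
    have hc : Nat.card H = Nat.card (Matrix.ProjectiveSpecialLinearGroup (Fin 2) F) := by
      rw [← BRFILTER.card_quot r hr]; exact Nat.card_congr e.toEquiv
    have hchar : ringChar F ≠ 2 := by
      intro h2
      obtain ⟨k, hpk, hcard⟩ := FiniteField.card F (ringChar F)
      rw [hF, h2] at hcard
      have h2r : 2 ∣ r := by
        rw [hcard]; exact dvd_pow_self 2 (PNat.ne_zero k)
      have := (Nat.prime_dvd_prime_iff_eq Nat.prime_two hp).1 h2r
      omega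
    have := Cfsg.Agent.Helper11.S0996ZB.two_mul_card_psl2 (K := F) hchar
    rw [hc, this, hF]
  · right; left
    refine ⟨m, hrm, h3, ?_⟩
    have hc : Nat.card H = Nat.card (Matrix.SpecialLinearGroup (Fin 2) F) := by
      rw [← BRFILTER.card_quot r hr]; exact Nat.card_congr e.toEquiv
    rw [hc, Cfsg.Agent.S2301.card_sl2, hF]
  · right; right; exact h

end Cfsg.Agent.S4274P
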