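import Mathlib
import Cfsg.Agent.Helper27.S5989Defs

/-! S5991 (driver helper27): extra definitions for the unipotent derangements of `Ω⁻_{2d}(q)`:
the 3-dimensional quadratic space `x₀ x₂ + c x₁²` with its regular unipotent isometry, and the
product of two quadratic spaces. -/

set_option autoImplicit false

namespace Cfsg.Agent.S5989P

section j3

variable (F : Type*) [Field F]

/-- the quadratic form `v₀ v₂ + c v₁²` on `F³` -/
def j3Q (c : F) : QuadraticForm F (Fin 3 → F) :=
  QuadraticMap.linMulLin (LinearMap.proj 0) (LinearMap.proj 2) +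
    c • QuadraticMap.linMulLin (LinearMap.proj 1) (LinearMap.proj 1)

theorem j3Q_apply (c : F) (v : Fin 3 → F) : j3Q F c v = v 0 * v 2 + c * (v 1 * v 1) := by
  simp [j3Q]

/-- the regular unipotent isometry `v ↦ (v₀ - 2c v₁ - c v₂, v₁ + v₂, v₂)` of `j3Q c` -/
def j3X (c : F) : Module.End F (Fin 3 → F) :=
  Matrix.toLin' (!![1, -2 * c, -c; 0, 1, 1; 0, 0, 1] : Matrix (Fin 3) (Fin 3) F)

theorem j3X_apply (c : F) (v : Fin 3 → F) :
    j3X F c v = ![v 0 - 2 * c * v 1 - c * v 2, v 1 + v 2, v 2] := by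
  ext i
  fin_cases i <;> simp [j3X, Matrix.toLin'_apply, Matrix.mulVec, dotProduct, Fin.sum_univ_three] <;>
    ring

/-- the quadratic form `c t²` on `F¹` -/
def lineQ (c : F) : QuadraticForm F (Fin 1 → F) :=
  c • QuadraticMap.linMulLin (LinearMap.proj 0) (LinearMap.proj 0)

theorem lineQ_apply (c : F) (v : Fin 1 → F) : lineQ F c v = c * (v 0 * v 0) := by
  simp [lineQ]

end j3

end Cfsg.Agent.S5989P
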