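import Cfsg.Agent.Helper27.M24Trans
import Cfsg.Prelude.Def_Spor_Mathieu

/-!
The two-point stabiliser `Cfsg.Spor.M22` has index 2 in the stabiliser of the pair of points, and an element
interchanging the two points induces an automorphism that is not inner.
-/

set_option autoImplicit false

namespace Cfsg.Agent.Helper27

open Cfsg
open scoped Pointwise

theorem mem_spor_M22 (x : Equiv.Perm GolayPt) :
    x ∈ Spor.M22 ↔ x ∈ M24 ∧ x none = none ∧ x (some 0) = some 0 := by
  unfold Spor.M22 Spor.M23
  rw [Subgroup.mem_inf, Subgroup.mem_inf, MulAction.mem_stabilizer_iff, MulAction.mem_stabilizer_iff, and_assoc]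
  rfl

theorem mem_smul_perm_iff (σ : Equiv.Perm GolayPt) (s : Finset GolayPt) (p : GolayPt) : p ∈ σ • s ↔ σ⁻¹ p ∈ s := by
  have := mem_smul_finset_perm σ s (σ⁻¹ p)
  simpa using this

theorem injective_vec5 {α : Type*} {a b c d e : α} (hab : a ≠ b) (hac : a ≠ c) (had : a ≠ d) (hae : a ≠ e)
    (hbc : b ≠ c) (hbd : b ≠ d) (hbe : b ≠ e) (hcd : c ≠ d) (hce : c ≠ e) (hde : d ≠ e) :
    Function.Injective ![a, b, c, d, e] := by
  rw [← List.nodup_ofFn]
  simp [List.ofFn_succ, hab, hac, had, hae, hbc, hbd, hbe, hcd, hce, hde]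

/-- an octad containing the extra point but not the residue 0 -/
def octNone : ℕ := 13938692

theorem octNone_isOct : isOct octNone = true := by decide +kernel

theorem none_mem_octNone : (none : GolayPt) ∈ maskSet octNone := by
  rw [mem_maskSet]
  decide +kernel

theorem zero_not_mem_octNone : (some 0 : GolayPt) ∉ maskSet octNone := by
  rw [mem_maskSet]
  decide +kernel

/-- `M24` contains no element fixing all points but the two special ones and interchanging these -/
theorem no_swap_in_M24 {c : Equiv.Perm GolayPt} (hc : c ∈ M24) (h1 : c none = some 0)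
    (hfix : ∀ p, p ≠ none → p ≠ some 0 → c p = p) : False := by
  have hO := maskSet_mem_octads octNone_isOct
  have hcO := smul_octad_mem hc hO
  have hsub : (maskSet octNone).erase none ⊆ maskSet octNone ∩ c • maskSet octNone := by
    intro p hp
    rw [Finset.mem_erase] at hp
    rw [Finset.mem_inter]
    refine ⟨hp.2, ?_⟩
    have hp0 : p ≠ some 0 := fun h => zero_not_mem_octNone (h ▸ hp.2)
    have h3 : c p = p := hfix p hp.1 hp0
    have h4 : c p ∈ c • maskSet octNone := (mem_smul_finset_perm c _ p).mpr hp.2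
    rwa [h3] at h4
  have hcard : 5 ≤ (maskSet octNone ∩ c • maskSet octNone).card := by
    refine le_trans ?_ (Finset.card_le_card hsub)
    rw [Finset.card_erase_of_mem none_mem_octNone, hO.2]
    norm_num
  have heq := octad_eq_of_inter hO hcO hcard
  apply zero_not_mem_octNone
  rw [heq, ← h1]
  exact (mem_smul_finset_perm c _ none).mpr none_mem_octNone

theorem M22_outer (g : Equiv.Perm GolayPt) (hg : g ∈ M24) (h₁ : g none = some 0) (h₂ : g (some 0) = none) :
    Spor.M22.relIndex (M24 ⊓ MulAction.stabilizer (Equiv.Perm GolayPt) ({none, some 0} : Finset GolayPt)) = 2 ∧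
    (∀ x ∈ Spor.M22, g * x * g⁻¹ ∈ Spor.M22) ∧
    ¬ ∃ h ∈ Spor.M22, ∀ x ∈ Spor.M22, g * x * g⁻¹ = h * x * h⁻¹ := by
  have hginv1 : g⁻¹ none = some 0 := by rw [Equiv.Perm.inv_eq_iff_eq, h₂]
  have hginv2 : g⁻¹ (some 0) = none := by rw [Equiv.Perm.inv_eq_iff_eq, h₁]
  have hne : (none : GolayPt) ≠ some 0 := by decide
  -- membership in the pair stabiliser
  have hpair : ∀ b : Equiv.Perm GolayPt, b • ({none, some 0} : Finset GolayPt) = {none, some 0} ↔
      (b none = none ∧ b (some 0) = some 0) ∨ (b none = some 0 ∧ b (some 0) = none) := by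
    intro b
    constructor
    · intro hb
      have ha : b none ∈ ({none, some 0} : Finset GolayPt) := by
        rw [← hb]
        exact (mem_smul_finset_perm b _ none).mpr (by simp)
      have hb' : b (some 0) ∈ ({none, some 0} : Finset GolayPt) := by
        rw [← hb]
        exact (mem_smul_finset_perm b _ (some 0)).mpr (by simp)
      have hinj : b none ≠ b (some 0) := fun h => hne (b.injective h)
      simp only [Finset.mem_insert, Finset.mem_singleton] at ha hb'
      rcases ha with ha | ha <;> rcases hb' with hb' | hb'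
      · exact absurd (ha.trans hb'.symm) hinj
      · exact Or.inl ⟨ha, hb'⟩
      · exact Or.inr ⟨ha, hb'⟩
      · exact absurd (ha.trans hb'.symm) hinj
    · intro hb
      ext p
      rw [mem_smul_perm_iff]
      simp only [Finset.mem_insert, Finset.mem_singleton, Equiv.Perm.inv_eq_iff_eq]
      rcases hb with ⟨ha, hb⟩ | ⟨ha, hb⟩
      · rw [ha, hb]
      · rw [ha, hb]
        exact or_comm
  refine ⟨?_, ?_, ?_⟩
  · rw [Subgroup.relIndex_eq_two_iff]
    refine ⟨g, ?_, ?_⟩
    · rw [Subgroup.mem_inf]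
      refine ⟨hg, ?_⟩
      rw [MulAction.mem_stabilizer_iff, hpair]
      exact Or.inr ⟨h₁, h₂⟩
    · intro b hb
      rw [Subgroup.mem_inf] at hb
      obtain ⟨hb24, hb'⟩ := hb
      rw [MulAction.mem_stabilizer_iff, hpair] at hb'
      rw [mem_spor_M22, mem_spor_M22]
      simp only [Equiv.Perm.mul_apply, h₁, h₂]
      rcases hb' with ⟨ha, hb'⟩ | ⟨ha, hb'⟩
      · refine Or.inr ⟨⟨hb24, ha, hb'⟩, ?_⟩
        rintro ⟨-, h, -⟩
        rw [hb'] at h
        exact hne h.symm
      · refine Or.inl ⟨⟨M24.mul_mem hb24 hg, hb', ha⟩, ?_⟩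
        rintro ⟨-, h, -⟩
        rw [ha] at h
        exact hne h.symm
  · intro x hx
    rw [mem_spor_M22] at hx ⊢
    refine ⟨M24.mul_mem (M24.mul_mem hg hx.1) (M24.inv_mem hg), ?_, ?_⟩
    · rw [Equiv.Perm.mul_apply, Equiv.Perm.mul_apply, hginv1, hx.2.2, h₂]
    · rw [Equiv.Perm.mul_apply, Equiv.Perm.mul_apply, hginv2, hx.2.1, h₁]
  · rintro ⟨h, hh, hconj⟩
    rw [mem_spor_M22] at hh
    set c : Equiv.Perm GolayPt := h⁻¹ * g with hc
    have hc24 : c ∈ M24 := M24.mul_mem (M24.inv_mem hh.1) hg
    have hhinv1 : h⁻¹ none = none := by rw [Equiv.Perm.inv_eq_iff_eq, hh.2.1]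
    have hhinv2 : h⁻¹ (some 0) = some 0 := by rw [Equiv.Perm.inv_eq_iff_eq, hh.2.2]
    have hc1 : c none = some 0 := by rw [hc, Equiv.Perm.mul_apply, h₁, hhinv2]
    have hc2 : c (some 0) = none := by rw [hc, Equiv.Perm.mul_apply, h₂, hhinv1]
    have hcomm : ∀ x ∈ Spor.M22, c * x = x * c := by
      intro x hx
      have := hconj x hx
      rw [hc]
      have h3 : g * x = h * x * h⁻¹ * g := by rw [← this]; group
      calc h⁻¹ * g * x = h⁻¹ * (g * x) := by group
        _ = h⁻¹ * (h * x * h⁻¹ * g) := by rw [h3]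
        _ = x * (h⁻¹ * g) := by group
    apply no_swap_in_M24 hc24 hc1
    intro p hp1 hp2
    by_contra hcp
    -- `c p` is a further point
    have hcp1 : c p ≠ none := fun h => hp2 (c.injective (h.trans hc2.symm))
    have hcp2 : c p ≠ some 0 := fun h => hp1 (c.injective (h.trans hc1.symm))
    have hcard : 0 < (Finset.univ \ ({none, some 0, p, c p} : Finset GolayPt)).card := by
      rw [Finset.card_sdiff_of_subset (Finset.subset_univ _)]
      have h1 : ({none, some 0, p, c p} : Finset GolayPt).card ≤ 4 := Finset.card_le_four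
      have h2 : (Finset.univ : Finset GolayPt).card = 24 := by decide
      omega
    obtain ⟨r, hr⟩ := Finset.card_pos.mp hcard
    simp only [Finset.mem_sdiff, Finset.mem_univ, Finset.mem_insert, Finset.mem_singleton, true_and, not_or] at hr
    obtain ⟨hr1, hr2, hr3, hr4⟩ := hr
    have hx : Function.Injective ![none, some 0, p, c p, r] :=
      injective_vec5 hne (Ne.symm hp1) (Ne.symm hcp1) (Ne.symm hr1) (Ne.symm hp2) (Ne.symm hcp2) (Ne.symm hr2)
        (Ne.symm hcp) (Ne.symm hr3) (Ne.symm hr4)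
    have hy : Function.Injective ![none, some 0, p, r, c p] :=
      injective_vec5 hne (Ne.symm hp1) (Ne.symm hr1) (Ne.symm hcp1) (Ne.symm hp2) (Ne.symm hr2) (Ne.symm hcp2)
        (Ne.symm hr3) (Ne.symm hcp) hr4
    obtain ⟨x, hx24, hxmap⟩ := exists_M24_map_five _ _ hx hy
    have e0 := hxmap 0
    have e1 := hxmap 1
    have e2 := hxmap 2
    have e3 := hxmap 3
    simp at e0 e1 e2 e3
    have hxM22 : x ∈ Spor.M22 := (mem_spor_M22 x).mpr ⟨hx24, e0, e1⟩
    have := congrArg (fun f : Equiv.Perm GolayPt => f p) (hcomm x hxM22)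
    simp only [Equiv.Perm.mul_apply] at this
    rw [e2, e3] at this
    exact hr4 this.symm

end Cfsg.Agent.Helper27
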