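import Mathlib

/-!
Abstract criteria for all automorphisms of a finite group to be inner: a generating pair `x`, `y` which is rigid,
with `x` of prime order `p` generating a Sylow subgroup.
-/

set_option autoImplicit false

namespace Cfsg.Agent.Helper27

/-- an automorphism fixing `x` and sending `y` to its conjugate under an element commuting with `x` is that
conjugation, if `x` and `y` generate the group -/
theorem aut_eq_conj_of_fix {G : Type*} [Group G] (x y : G)
    (hgen : Subgroup.closure ({x, y} : Set G) = ⊤)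
    (β : MulAut G) (hβx : β x = x) (c : G) (hcx : c * x = x * c) (hcy : β y = c * y * c⁻¹) :
    β = MulAut.conj c := by
  have hγx : (MulAut.conj c⁻¹ * β) x = x := by
    rw [MulAut.mul_apply, hβx, MulAut.conj_apply, inv_inv, mul_assoc, ← hcx, inv_mul_cancel_left]
  have hγy : (MulAut.conj c⁻¹ * β) y = y := by
    rw [MulAut.mul_apply, hcy, MulAut.conj_apply, inv_inv]
    group
  have hγ : MulAut.conj c⁻¹ * β = 1 := by
    apply MulEquiv.toMonoidHom_injective
    apply MonoidHom.eq_of_eqOn_dense hgen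
    intro z hz
    rw [Set.mem_insert_iff, Set.mem_singleton_iff] at hz
    rcases hz with rfl | rfl
    · exact hγx
    · exact hγy
  rw [map_inv, inv_mul_eq_one] at hγ
  exact hγ.symm

/-- the criterion, allowing the image of `x` to be conjugate to `x` or to its inverse -/
theorem aut_inner_of_rigid2 {G : Type*} [Group G] (x y : G)
    (hgen : Subgroup.closure ({x, y} : Set G) = ⊤)
    (hx : ∀ α : MulAut G, ∃ g : G, g * α x * g⁻¹ = x ∨ g * α x * g⁻¹ = x⁻¹)
    (hy : ∀ α : MulAut G, α x = x → ∃ c : G, c * x = x * c ∧ α y = c * y * c⁻¹)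
    (hy' : ∀ α : MulAut G, α x = x⁻¹ → False)
    (α : MulAut G) : ∃ g : G, α = MulAut.conj g := by
  obtain ⟨g, hg⟩ := hx α
  have hβ : (MulAut.conj g * α) x = g * α x * g⁻¹ := by
    rw [MulAut.mul_apply, MulAut.conj_apply]
  rcases hg with hg | hg
  · obtain ⟨c, hcx, hcy⟩ := hy (MulAut.conj g * α) (by rw [hβ, hg])
    have h := aut_eq_conj_of_fix x y hgen (MulAut.conj g * α) (by rw [hβ, hg]) c hcx hcy
    refine ⟨g⁻¹ * c, ?_⟩
    rw [map_mul, map_inv, eq_inv_mul_iff_mul_eq]
    exact h
  · exact (hy' (MulAut.conj g * α) (by rw [hβ, hg])).elim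

theorem conj_pow_of_conj {G : Type*} [Group G] {n x : G} {r : ℕ} (hn : n * x * n⁻¹ = x ^ r) (j k : ℕ) :
    n ^ j * x ^ k * (n ^ j)⁻¹ = x ^ (k * r ^ j) := by
  induction j generalizing k with
  | zero => simp
  | succ j ih =>
    have h1 : n ^ (j + 1) * x ^ k * (n ^ (j + 1))⁻¹ = n * (n ^ j * x ^ k * (n ^ j)⁻¹) * n⁻¹ := by
      rw [pow_succ']
      group
    have h2 : ∀ m : ℕ, n * x ^ m * n⁻¹ = x ^ (m * r) := by
      intro m
      have : n * x ^ m * n⁻¹ = (n * x * n⁻¹) ^ m := by
        rw [conj_pow]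
      rw [this, hn, ← pow_mul, mul_comm]
    rw [h1, ih, h2, pow_succ, mul_assoc]

/-- an element of prime order `p` generating a Sylow subgroup, normalised by an element acting on it as the `r`-th
power, where `r` and `-1` generate the units modulo `p`: every element of order `p` is conjugate to it or to its
inverse -/
theorem exists_conj_pm {G : Type*} [Group G] [Finite G] (p : ℕ) [hp : Fact p.Prime] (m : ℕ)
    (hcard : Nat.card G = p * m) (hm : ¬ p ∣ m) (x n : G) (r : ℕ) (hxo : orderOf x = p)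
    (hn : n * x * n⁻¹ = x ^ r)
    (hr : ∀ k : ℕ, ¬ p ∣ k → ∃ j : ℕ, (k * r ^ j) % p = 1 ∨ (k * r ^ j) % p = p - 1)
    (z : G) (hz : orderOf z = p) : ∃ g : G, g * z * g⁻¹ = x ∨ g * z * g⁻¹ = x⁻¹ := by
  have hm0 : m ≠ 0 := by
    rintro rfl
    exact hm (dvd_zero p)
  have hfac : (Nat.card G).factorization p = 1 := by
    rw [hcard, Nat.factorization_mul hp.out.ne_zero hm0, Finsupp.add_apply, hp.out.factorization_self,
      Nat.factorization_eq_zero_of_not_dvd hm]
  have hcx : Nat.card (Subgroup.zpowers x) = p ^ (Nat.card G).factorization p := by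
    rw [Nat.card_zpowers, hxo, hfac, pow_one]
  have hcz : Nat.card (Subgroup.zpowers z) = p ^ (Nat.card G).factorization p := by
    rw [Nat.card_zpowers, hz, hfac, pow_one]
  obtain ⟨g, hg⟩ := MulAction.exists_smul_eq G (Sylow.ofCard (Subgroup.zpowers z) hcz)
    (Sylow.ofCard (Subgroup.zpowers x) hcx)
  have hmem : g * z * g⁻¹ ∈ Subgroup.zpowers x := by
    have h1 : g * z * g⁻¹ ∈ ((g • Sylow.ofCard (Subgroup.zpowers z) hcz : Sylow p G) : Subgroup G) := by
      rw [Sylow.coe_subgroup_smul, Subgroup.mem_pointwise_smul_iff_inv_smul_mem, MulAut.smul_def, ← map_inv,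
        MulAut.conj_apply, Sylow.coe_ofCard]
      have : g⁻¹ * (g * z * g⁻¹) * g⁻¹⁻¹ = z := by group
      rw [this]
      exact Subgroup.mem_zpowers z
    rw [hg, Sylow.coe_ofCard] at h1
    exact h1
  rw [← mem_powers_iff_mem_zpowers, Submonoid.mem_powers_iff] at hmem
  obtain ⟨k, hk⟩ := hmem
  have hkp : ¬ p ∣ k := by
    intro hdvd
    have h1 : x ^ k = 1 := by
      rw [← hxo] at hdvd
      exact orderOf_dvd_iff_pow_eq_one.mp hdvd
    rw [h1] at hk
    have h2 : z = 1 := by
      have : z = g⁻¹ * (g * z * g⁻¹) * g := by group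
      rw [this, ← hk]
      group
    rw [h2, orderOf_one] at hz
    exact hp.out.one_lt.ne hz
  obtain ⟨j, hj⟩ := hr k hkp
  refine ⟨n ^ j * g, ?_⟩
  have h3 : n ^ j * g * z * (n ^ j * g)⁻¹ = n ^ j * (g * z * g⁻¹) * (n ^ j)⁻¹ := by group
  rw [h3, ← hk, conj_pow_of_conj hn, ← pow_mod_orderOf, hxo]
  rcases hj with hj | hj
  · left
    rw [hj, pow_one]
  · right
    rw [hj, eq_inv_iff_mul_eq_one, ← pow_succ, Nat.sub_add_cancel hp.out.one_le, ← hxo, pow_orderOf_eq_one]

/-- a set closed under conjugation by the members of a set is closed under conjugation by the subgroup they generate,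
in a finite group -/
theorem conj_closed_of_gens {G : Type*} [Group G] [Finite G] (S R : Set G)
    (h : ∀ s ∈ S, ∀ t ∈ R, s * t * s⁻¹ ∈ R) : ∀ g ∈ Subgroup.closure S, ∀ t ∈ R, g * t * g⁻¹ ∈ R := by
  intro g hg
  induction hg using Subgroup.closure_induction with
  | mem s hs => exact h s hs
  | one => intro t ht; simpa using ht
  | mul a b _ _ iha ihb =>
    intro t ht
    have : a * b * t * (a * b)⁻¹ = a * (b * t * b⁻¹) * a⁻¹ := by group
    rw [this]
    exact iha _ (ihb t ht)
  | inv a _ iha =>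
    have hpow : ∀ n : ℕ, ∀ t ∈ R, a ^ n * t * (a ^ n)⁻¹ ∈ R := by
      intro n
      induction n with
      | zero => intro t ht; simpa using ht
      | succ n ihn =>
        intro t ht
        have : a ^ (n + 1) * t * (a ^ (n + 1))⁻¹ = a * (a ^ n * t * (a ^ n)⁻¹) * a⁻¹ := by
          rw [pow_succ']
          group
        rw [this]
        exact iha _ (ihn t ht)
    have hinv : a⁻¹ = a ^ (orderOf a - 1) := by
      rw [inv_eq_iff_mul_eq_one, ← pow_succ', Nat.sub_add_cancel (orderOf_pos a), pow_orderOf_eq_one]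
    rw [hinv]
    exact hpow _

/-- the isomorphism between conjugate subgroups -/
def conjSubgroupEquiv {G : Type*} [Group G] {A B : Subgroup G} (g : G)
    (h : ∀ k, k ∈ B ↔ g⁻¹ * k * g ∈ A) : ↥B ≃* ↥A where
  toFun := fun k => ⟨g⁻¹ * k.1 * g, (h k.1).mp k.2⟩
  invFun := fun k => ⟨g * k.1 * g⁻¹, by
    rw [h]
    have : g⁻¹ * (g * k.1 * g⁻¹) * g = k.1 := by group
    rw [this]
    exact k.2⟩
  left_inv := fun k => by
    apply Subtype.ext
    show g * (g⁻¹ * k.1 * g) * g⁻¹ = k.1
    group
  right_inv := fun k => by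
    apply Subtype.ext
    show g⁻¹ * (g * k.1 * g⁻¹) * g = k.1
    group
  map_mul' := fun k k' => by
    apply Subtype.ext
    show g⁻¹ * (k.1 * k'.1) * g = (g⁻¹ * k.1 * g) * (g⁻¹ * k'.1 * g)
    group

end Cfsg.Agent.Helper27
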