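import Cfsg.Agent.Helper27.M23OutCheck

/-!
The kernel computation for the stabiliser of the first point in `M24`: the involutions satisfying the relation with the
element of order 23.
-/

set_option autoImplicit false

namespace Cfsg.Agent.Helper27

open Cfsg

theorem m23_fp_c0 : (((m23Inv).drop (0 * 256)).take 256).all
    (fun t => !(powId (compT m23X t) 7 && powId (w124T m23X t) 3) || m23Conj.contains t) = true := by
  decide +kernel

theorem m23_fp_c1 : (((m23Inv).drop (1 * 256)).take 256).all
    (fun t => !(powId (compT m23X t) 7 && powId (w124T m23X t) 3) || m23Conj.contains t) = true := by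
  decide +kernel

theorem m23_fp_c2 : (((m23Inv).drop (2 * 256)).take 256).all
    (fun t => !(powId (compT m23X t) 7 && powId (w124T m23X t) 3) || m23Conj.contains t) = true := by
  decide +kernel

theorem m23_fp_c3 : (((m23Inv).drop (3 * 256)).take 256).all
    (fun t => !(powId (compT m23X t) 7 && powId (w124T m23X t) 3) || m23Conj.contains t) = true := by
  decide +kernel

theorem m23_fp_c4 : (((m23Inv).drop (4 * 256)).take 256).all
    (fun t => !(powId (compT m23X t) 7 && powId (w124T m23X t) 3) || m23Conj.contains t) = true := by
  decide +kernel

theorem m23_fp_c5 : (((m23Inv).drop (5 * 256)).take 256).all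
    (fun t => !(powId (compT m23X t) 7 && powId (w124T m23X t) 3) || m23Conj.contains t) = true := by
  decide +kernel

theorem m23_fp_c6 : (((m23Inv).drop (6 * 256)).take 256).all
    (fun t => !(powId (compT m23X t) 7 && powId (w124T m23X t) 3) || m23Conj.contains t) = true := by
  decide +kernel

theorem m23_fp_c7 : (((m23Inv).drop (7 * 256)).take 256).all
    (fun t => !(powId (compT m23X t) 7 && powId (w124T m23X t) 3) || m23Conj.contains t) = true := by
  decide +kernel

theorem m23_fp_c8 : (((m23Inv).drop (8 * 256)).take 256).all
    (fun t => !(powId (compT m23X t) 7 && powId (w124T m23X t) 3) || m23Conj.contains t) = true := by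
  decide +kernel

theorem m23_fp_c9 : (((m23Inv).drop (9 * 256)).take 256).all
    (fun t => !(powId (compT m23X t) 7 && powId (w124T m23X t) 3) || m23Conj.contains t) = true := by
  decide +kernel

theorem m23_fp_c10 : (((m23Inv).drop (10 * 256)).take 256).all
    (fun t => !(powId (compT m23X t) 7 && powId (w124T m23X t) 3) || m23Conj.contains t) = true := by
  decide +kernel

theorem m23_fp_c11 : (((m23Inv).drop (11 * 256)).take 256).all
    (fun t => !(powId (compT m23X t) 7 && powId (w124T m23X t) 3) || m23Conj.contains t) = true := by
  decide +kernel

theorem m23_fp_c12 : (((m23Inv).drop (12 * 256)).take 256).all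
    (fun t => !(powId (compT m23X t) 7 && powId (w124T m23X t) 3) || m23Conj.contains t) = true := by
  decide +kernel

theorem m23_fp_c13 : (((m23Inv).drop (13 * 256)).take 256).all
    (fun t => !(powId (compT m23X t) 7 && powId (w124T m23X t) 3) || m23Conj.contains t) = true := by
  decide +kernel

theorem m23_fp_c14 : (((m23Inv).drop (14 * 256)).take 256).all
    (fun t => !(powId (compT m23X t) 7 && powId (w124T m23X t) 3) || m23Conj.contains t) = true := by
  decide +kernel

/-- the involutions `t` with `(x t x² t x⁴ t)³ = 1` are the 23 conjugates of `y` under the powers of `x` -/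
theorem m23_fp : (m23Inv).all
    (fun t => !(powId (compT m23X t) 7 && powId (w124T m23X t) 3) || m23Conj.contains t) = true :=
  all_of_chunks _ _ 256 15 (by norm_num) (by rw [m23Inv_length]; norm_num) (by
    intro i hi
    interval_cases i
    · exact m23_fp_c0
    · exact m23_fp_c1
    · exact m23_fp_c2
    · exact m23_fp_c3
    · exact m23_fp_c4
    · exact m23_fp_c5
    · exact m23_fp_c6
    · exact m23_fp_c7
    · exact m23_fp_c8
    · exact m23_fp_c9
    · exact m23_fp_c10
    · exact m23_fp_c11
    · exact m23_fp_c12
    · exact m23_fp_c13
    · exact m23_fp_c14)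

end Cfsg.Agent.Helper27
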