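import Cfsg.Agent.Helper27.SimpleM11

/-!
The stabiliser of a dodecad in `Cfsg.M24` is simple.
-/

set_option autoImplicit false

namespace Cfsg.Agent.Helper27

open Cfsg
open scoped Pointwise commutatorElement

/-- commutator leaves for the perfectness certificate -/
def p12Leaves : List (List ℕ × List ℕ × List ℕ × List ℕ) := [
  ([2,21,10,11,7,23,8,9,13,4,0,14,18,6,3,20,5,1,22,15,19,17,12,16],
   [2,5,10,9,7,1,3,8,14,13,4,0,20,6,11,19,21,17,18,23,22,15,16,12],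
   [10,17,0,14,9,16,13,4,6,7,2,3,22,8,11,19,23,21,12,20,15,1,18,5],
   [11,5,0,6,10,1,13,4,7,3,2,14,23,9,8,21,22,17,18,15,12,16,20,19]),
  ([2,5,10,9,7,1,3,8,14,13,4,0,20,6,11,19,21,17,18,23,22,15,16,12],
   [2,21,10,11,7,23,8,9,13,4,0,14,18,6,3,20,5,1,22,15,19,17,12,16],
   [11,5,0,6,10,1,13,4,7,3,2,14,23,9,8,21,22,17,18,15,12,16,20,19],
   [10,17,0,14,9,16,13,4,6,7,2,3,22,8,11,19,23,21,12,20,15,1,18,5]),
  ([2,21,11,3,9,5,7,14,10,4,13,6,17,8,0,23,1,12,22,16,18,15,20,19],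
   [9,21,7,14,8,1,4,2,11,10,6,3,22,0,13,20,5,18,23,12,15,17,16,19],
   [14,16,0,3,9,5,11,6,13,4,8,2,17,10,7,21,19,12,20,23,22,1,18,15],
   [13,5,7,11,6,16,10,2,4,0,9,8,19,14,3,20,22,21,17,23,15,1,12,18]),
  ([9,21,7,14,8,1,4,2,11,10,6,3,22,0,13,20,5,18,23,12,15,17,16,19],
   [2,21,11,3,9,5,7,14,10,4,13,6,17,8,0,23,1,12,22,16,18,15,20,19],
   [13,5,7,11,6,16,10,2,4,0,9,8,19,14,3,20,22,21,17,23,15,1,12,18],
   [14,16,0,3,9,5,11,6,13,4,8,2,17,10,7,21,19,12,20,23,22,1,18,15]),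
  ([8,21,4,14,6,19,10,3,0,2,13,11,18,9,7,22,16,23,5,15,17,1,12,20],
   [2,19,0,7,14,15,11,3,13,4,9,8,20,6,10,18,16,17,23,12,1,21,22,5],
   [8,21,9,7,2,18,4,14,0,13,6,11,22,10,3,19,16,20,12,5,23,1,15,17],
   [2,20,0,7,9,23,13,3,11,10,14,6,19,8,4,5,16,17,15,1,12,21,22,18]),
  ([2,19,0,7,14,15,11,3,13,4,9,8,20,6,10,18,16,17,23,12,1,21,22,5],
   [8,21,4,14,6,19,10,3,0,2,13,11,18,9,7,22,16,23,5,15,17,1,12,20],
   [2,20,0,7,9,23,13,3,11,10,14,6,19,8,4,5,16,17,15,1,12,21,22,18],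
   [8,21,9,7,2,18,4,14,0,13,6,11,22,10,3,19,16,20,12,5,23,1,15,17]),
  ([3,1,2,7,10,15,14,4,8,13,0,6,12,11,9,20,23,5,17,22,18,19,16,21],
   [10,17,14,3,7,15,11,13,8,6,0,4,18,2,9,23,21,5,16,22,19,12,1,20],
   [10,1,2,0,7,17,11,3,8,14,4,13,12,9,6,5,22,18,20,21,15,23,19,16],
   [10,22,13,3,11,17,9,4,8,14,0,6,21,7,2,5,18,1,12,20,23,16,19,15]),
  ([10,17,14,3,7,15,11,13,8,6,0,4,18,2,9,23,21,5,16,22,19,12,1,20],
   [3,1,2,7,10,15,14,4,8,13,0,6,12,11,9,20,23,5,17,22,18,19,16,21],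
   [10,22,13,3,11,17,9,4,8,14,0,6,21,7,2,5,18,1,12,20,23,16,19,15],
   [10,1,2,0,7,17,11,3,8,14,4,13,12,9,6,5,22,18,20,21,15,23,19,16])]

/-- the straight-line program producing the transversal elements from the commutators -/
def p12Prog : List (ℕ × ℕ) := [
  (0,2),(3,1),(2,4),(5,3),(4,6),(7,5),(6,0),(1,7),(6,4),(5,7),(0,17),(18,1),(9,0),(1,10),
  (2,15),(16,3),(21,6),(7,22),(23,2),(3,24),(13,9),(10,14),(27,11),(12,28),(23,25),(26,24),(29,19),(20,30),
  (6,35),(36,7),(19,33),(34,20),(9,11),(12,10),(35,41),(42,36),(43,33),(34,44),(25,37),(38,26),(31,45),(46,32),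
  (39,47),(48,40),(41,39),(40,42),(49,39),(40,50),(55,45),(46,56),(55,39),(40,56),(51,59),(60,52),(39,43),(44,40),
  (53,61),(62,54),(25,43),(44,26),(51,53),(54,52),(63,53),(54,64),(69,65),(66,70),(73,67),(68,74),(25,71),(72,26),
  (25,57),(58,26),(79,75),(76,80),(63,11),(12,64),(69,75),(76,70),(77,57),(58,78),(57,83),(84,58),(11,81),(82,12),
  (91,87),(88,92),(89,69),(70,90),(95,95),(96,96),(93,95),(96,94),(97,95),(96,98),(99,95),(99,97),(95,99),(97,99),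
  (100,98),(101,99),(100,102),(106,99),(101,106),(81,85),(86,82),(100,112),(113,99),(114,114),(115,115),(116,114),(116,116),(117,117),
  (119,114),(115,120),(95,81),(82,96),(109,123),(124,108),(125,114),(115,126),(125,119),(127,125),(126,128),(114,127),(128,115),(123,91),
  (92,124),(107,134),(135,106),(115,136),(137,114),(138,93),(94,139),(93,138),(139,94),(142,93),(140,138),(139,141),(138,140),(142,142),
  (145,142),(143,146),(83,93),(94,84),(100,151),(152,99),(131,153),(154,130),(146,155),(156,145),(157,157),(158,158),(159,157),(158,160),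
  (69,112),(113,70),(102,163),(164,101),(115,165),(166,114),(146,167),(168,145),(169,157),(169,159),(157,169),(159,169),(81,134),(109,175),
  (133,176),(150,177),(162,178),(91,112),(109,180),(122,181),(141,182),(170,183),(184,179),(112,175),(96,186),(122,187),(146,188),(160,189),
  (190,179),(190,184),(190,185)]

/-- transversal at level 0, all elements products of commutators -/
def p12L0 : List (List ℕ) := [
  [0,1,2,3,4,5,6,7,8,9,10,11,12,13,14,15,16,17,18,19,20,21,22,23],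
  [2,12,4,11,13,19,8,0,7,10,9,14,20,3,6,18,15,1,22,5,23,17,21,16],
  [3,19,7,14,13,15,2,4,8,9,11,0,12,6,10,22,18,1,17,16,21,5,20,23],
  [4,23,10,6,0,1,9,2,13,14,11,8,5,3,7,22,17,20,21,18,19,12,15,16],
  [6,22,7,10,9,15,2,11,8,13,4,0,12,3,14,19,5,17,1,23,21,18,20,16],
  [7,21,13,14,11,17,4,6,9,0,10,2,23,3,8,1,18,12,20,19,15,22,5,16],
  [8,21,9,3,11,17,4,10,13,0,6,2,5,14,7,1,16,20,12,22,15,19,23,18],
  [9,22,0,14,2,12,11,10,3,7,4,13,17,8,6,21,18,15,23,5,1,19,16,20],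
  [10,19,14,7,2,20,11,4,0,8,6,9,18,3,13,21,12,5,15,22,1,23,17,16],
  [11,18,3,14,0,17,9,2,13,6,4,7,16,10,8,22,1,12,21,23,19,20,15,5],
  [13,19,0,3,2,20,11,6,14,8,4,9,17,7,10,21,16,15,5,23,1,22,18,12],
  [14,22,8,3,9,15,2,4,7,13,11,0,20,10,6,19,16,1,17,18,21,23,12,5]]

/-- transversal at level 1, all elements products of commutators -/
def p12L1 : List (List ℕ) := [
  [0,1,2,3,4,5,6,7,8,9,10,11,12,13,14,15,16,17,18,19,20,21,22,23],
  [0,15,3,9,13,20,7,14,2,10,4,8,1,6,11,17,18,21,19,12,23,5,22,16],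
  [0,22,4,11,2,15,10,7,14,3,8,13,19,6,9,1,12,23,20,5,17,16,21,18],
  [0,1,6,13,4,21,8,11,2,3,7,10,18,9,14,15,12,22,16,5,20,19,23,17],
  [0,15,7,13,14,12,11,8,10,3,6,2,19,9,4,1,21,22,5,16,20,18,23,17],
  [0,1,8,9,4,19,2,10,6,13,11,7,16,3,14,15,18,23,12,21,20,5,17,22],
  [0,23,9,10,13,22,14,4,2,3,7,11,19,8,6,1,15,21,17,20,18,5,12,16],
  [0,15,10,3,14,16,7,6,11,9,2,8,21,13,4,1,5,17,19,18,20,12,22,23],
  [0,15,11,9,14,18,10,2,7,13,8,6,5,3,4,1,19,23,21,12,20,16,17,22],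
  [0,1,13,3,9,20,8,4,7,6,14,10,15,11,2,22,5,18,16,19,17,12,23,21],
  [0,22,14,3,2,5,4,8,10,6,13,7,12,11,9,1,20,18,19,16,17,15,23,21]]

/-- transversal at level 2, all elements products of commutators -/
def p12L2 : List (List ℕ) := [
  [0,1,2,3,4,5,6,7,8,9,10,11,12,13,14,15,16,17,18,19,20,21,22,23],
  [0,16,2,4,9,19,3,6,13,11,7,14,15,8,10,1,22,21,17,23,5,12,18,20],
  [0,21,2,6,10,1,11,3,9,8,14,13,15,4,7,17,20,23,22,5,18,12,16,19],
  [0,21,2,7,10,19,14,9,3,4,11,13,18,8,6,17,22,23,20,16,15,12,5,1],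
  [0,21,2,8,6,22,3,13,14,4,11,9,16,7,10,17,19,5,12,18,15,20,23,1],
  [0,12,2,9,11,16,6,4,7,10,13,8,20,3,14,23,5,1,15,22,17,18,19,21],
  [0,21,2,10,6,1,11,14,13,7,3,9,15,4,8,17,12,5,19,23,16,20,18,22],
  [0,20,2,11,3,21,9,10,7,13,8,4,17,6,14,5,16,22,18,1,19,15,12,23],
  [0,20,2,13,11,18,10,4,8,6,9,7,12,14,3,5,23,1,15,19,17,16,22,21],
  [0,1,2,14,4,23,10,8,7,13,6,11,20,9,3,15,18,17,16,22,12,21,19,5]]

/-- transversal at level 3, all elements products of commutators -/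
def p12L3 : List (List ℕ) := [
  [0,1,2,3,4,5,6,7,8,9,10,11,12,13,14,15,16,17,18,19,20,21,22,23],
  [0,17,2,3,6,23,11,13,7,8,4,10,19,9,14,16,21,1,15,22,12,18,20,5],
  [0,12,2,3,7,16,14,4,11,13,10,8,1,9,6,21,5,20,18,19,17,15,22,23],
  [0,20,2,3,8,15,14,10,6,7,11,9,17,13,4,16,23,22,21,12,1,18,19,5],
  [0,22,2,3,9,18,14,11,4,8,6,13,1,7,10,15,5,19,16,20,17,21,12,23],
  [0,17,2,3,10,23,4,8,9,13,11,6,20,7,14,18,15,1,21,12,22,16,19,5],
  [0,1,2,3,11,5,10,9,13,7,6,4,22,8,14,21,18,17,16,20,19,15,12,23],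
  [0,22,2,3,13,18,6,8,7,11,14,9,12,4,10,21,16,19,5,17,20,15,1,23],
  [0,19,2,3,14,23,13,7,11,4,9,6,20,8,10,5,21,22,15,12,1,16,17,18]]

/-- transversal at level 4, all elements products of commutators -/
def p12L4 : List (List ℕ) := [
  [0,1,2,3,4,5,6,7,8,9,10,11,12,13,14,15,16,17,18,19,20,21,22,23],
  [0,19,2,3,4,15,7,13,11,14,6,9,17,10,8,5,21,1,23,12,22,18,20,16],
  [0,18,2,3,4,22,8,14,13,6,11,7,16,9,10,20,1,23,12,21,15,17,5,19],
  [0,16,2,3,4,22,9,11,6,13,14,10,18,8,7,20,12,21,1,23,15,19,5,17],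
  [0,17,2,3,4,15,10,6,14,11,13,8,19,7,9,5,23,12,21,1,22,16,20,18],
  [0,23,2,3,4,20,11,8,10,7,9,13,21,14,6,22,19,16,17,18,5,1,15,12],
  [0,12,2,3,4,5,13,10,9,8,7,14,1,6,11,15,18,19,16,17,20,23,22,21],
  [0,21,2,3,4,20,14,9,7,10,8,6,23,11,13,22,17,18,19,16,5,12,15,1]]

theorem p12_leavesOK : leavesOK (certFix cert12 []) p12Leaves = true := by decide +kernel

theorem p12_cover : checkCover (slpRun (leafTables p12Leaves) p12Prog)
    (p12L0 ++ p12L1 ++ p12L2 ++ p12L3 ++ p12L4) = true := by decide +kernel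

theorem p12_inK : ∀ T ∈ p12L0 ++ p12L1 ++ p12L2 ++ p12L3 ++ p12L4,
    InK ⁅fixH H12 (ptsOf []), fixH H12 (ptsOf [])⁆ T :=
  tables_inK (certSound_fix certSound12 (fixed_lt_24 (by decide))) p12_leavesOK p12Prog _ p12_cover

theorem p12OK0 : transOKH cert12 [] p12L0 = true := by decide +kernel
theorem p12OK1 : transOKH cert12 [0] p12L1 = true := by decide +kernel
theorem p12OK2 : transOKH cert12 [2, 0] p12L2 = true := by decide +kernel
theorem p12OK3 : transOKH cert12 [3, 2, 0] p12L3 = true := by decide +kernel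
theorem p12OK4 : transOKH cert12 [4, 3, 2, 0] p12L4 = true := by decide +kernel

/-- the group is perfect -/
theorem p12_perfect : fixH H12 (ptsOf []) ≤ ⁅fixH H12 (ptsOf []), fixH H12 (ptsOf [])⁆ := by
  have hb : fixH H12 (ptsOf (6 :: [4, 3, 2, 0])) ≤ ⁅fixH H12 (ptsOf []), fixH H12 (ptsOf [])⁆ := by
    have : fixH H12 (ptsOf (6 :: [4, 3, 2, 0])) = ⊥ := fixH12_base_eq_bot
    rw [this]
    exact bot_le
  have h4 : fixH H12 (ptsOf (4 :: [3, 2, 0])) ≤ ⁅fixH H12 (ptsOf []), fixH H12 (ptsOf [])⁆ :=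
    fixH_le_of_trans certSound12 (fixed_lt_24 (by decide)) (by norm_num) p12OK4
      (fun T hT => p12_inK T (by simp [hT])) hb (fun g hg => by
        have h := apply_mem_of_orbit_eq orbit12_eq4 hg
        have e : transImg 6 p12L4 = dod0 ^^^ (dod0 &&& tblMask [4, 3, 2, 0]) := by decide +kernel
        rw [e]; exact h)
  have h3 : fixH H12 (ptsOf (3 :: [2, 0])) ≤ ⁅fixH H12 (ptsOf []), fixH H12 (ptsOf [])⁆ :=
    fixH_le_of_trans certSound12 (fixed_lt_24 (by decide)) (by norm_num) p12OK3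
      (fun T hT => p12_inK T (by simp [hT])) h4 (fun g hg => by
        have h := apply_mem_of_orbit_eq orbit12_eq3 hg
        have e : transImg 4 p12L3 = dod0 ^^^ (dod0 &&& tblMask [3, 2, 0]) := by decide +kernel
        rw [e]; exact h)
  have h2 : fixH H12 (ptsOf (2 :: [0])) ≤ ⁅fixH H12 (ptsOf []), fixH H12 (ptsOf [])⁆ :=
    fixH_le_of_trans certSound12 (fixed_lt_24 (by decide)) (by norm_num) p12OK2
      (fun T hT => p12_inK T (by simp [hT])) h3 (fun g hg => by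
        have h := apply_mem_of_orbit_eq orbit12_eq2 hg
        have e : transImg 3 p12L2 = dod0 ^^^ (dod0 &&& tblMask [2, 0]) := by decide +kernel
        rw [e]; exact h)
  have h1 : fixH H12 (ptsOf (0 :: [])) ≤ ⁅fixH H12 (ptsOf []), fixH H12 (ptsOf [])⁆ :=
    fixH_le_of_trans certSound12 (fixed_lt_24 (by decide)) (by norm_num) p12OK1
      (fun T hT => p12_inK T (by simp [hT])) h2 (fun g hg => by
        have h := apply_mem_of_orbit_eq orbit12_eq1 hg
        have e : transImg 2 p12L1 = dod0 ^^^ (dod0 &&& tblMask [0]) := by decide +kernel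
        rw [e]; exact h)
  have h0 : fixH H12 (ptsOf []) ≤ ⁅fixH H12 (ptsOf []), fixH H12 (ptsOf [])⁆ :=
    fixH_le_of_trans certSound12 (fixed_lt_24 (by decide)) (by norm_num) p12OK0
      (fun T hT => p12_inK T (by simp [hT])) h1 (fun g hg => by
        have h := apply_mem_of_orbit_eq orbit12_eq0 hg
        have e : transImg 0 p12L0 = dod0 ^^^ (dod0 &&& tblMask []) := by decide +kernel
        rw [e]; exact h)
  exact h0

theorem p12_x_mem : tblPerm y11T y11_valid ∈ fixH H12 (ptsOf []) :=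
  certSound_fix certSound12 (fixed_lt_24 (by decide)) y11T y11_valid (by decide +kernel)

/-- the order of a non-trivial normal subgroup is divisible by 11 -/
theorem p12_normal_dvd : ∀ N, NormalIn N (fixH H12 (ptsOf [])) → N ≠ ⊥ → 11 ∣ Nat.card N := by
  intro N hN hne
  have hfix : ∀ f ∈ ([] : List ℕ), f < 24 := fixed_lt_24 (by decide)
  have hinv := orbit_invariant orbit12_eq0
  have h2 := two_trans_of_orbits (H := H12) (fixed := []) (a := 0) (b := 2)
    (D := maskSet (dod0 ^^^ (dod0 &&& tblMask [])))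
    (fun q hq => mem_orbit_of_eq orbit12_eq0 hq)
    (fun q hq hne' => mem_orbit_of_eq orbit12_eq1 (mask_step (by decide +kernel) hq hne'))
    hinv
  have ha : pt 0 ∈ maskSet (dod0 ^^^ (dod0 &&& tblMask [])) := by
    rw [mem_maskSet, idx_pt (by norm_num)]; decide +kernel
  refine normal_card_dvd_typeB 11 hN hne h2 hinv (faithful12 hfix) ha (by rw [card_maskSet]; decide +kernel)
    (tblPerm y11T y11_valid) p12_x_mem ?_ ?_ ?_
  · rw [tblPerm_pt _ _ (by norm_num)]; rfl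
  · intro u hu v hv hua hva
    exact pow_transitive_of_orbit y11_valid (by norm_num) (tblPerm_pow_eq_one y11_valid (by decide +kernel))
      (by decide +kernel : orbitOK y11T 11 2 28636 = true)
      (mask_step (m' := 28636) (by decide +kernel) hu hua) (mask_step (m' := 28636) (by decide +kernel) hv hva)
  · intro N' hN' hne'
    rw [fixH_fixH_pt] at hN'
    exact p11_normal_dvd N' hN' hne'

theorem p12_simple : IsSimpleGroup (fixH H12 (ptsOf [])) :=
  haveI := fact_prime_11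
  simple_of_normal_dvd 11 (fixH H12 (ptsOf [])) p12_perfect (tblPerm y11T y11_valid) p12_x_mem y11_order
    (by rw [card_fix12_0]; norm_num) (by norm_num) p12_normal_dvd (pt 2) (y11_semireg ((fixH_le _ _).trans inf_le_left))

end Cfsg.Agent.Helper27
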