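import Cfsg.Agent.Helper27.SimpleChain

/-!
The stabiliser of two points in `Cfsg.M24` is simple.
-/

set_option autoImplicit false

namespace Cfsg.Agent.Helper27

open Cfsg
open scoped Pointwise commutatorElement

/-- commutator leaves for the perfectness certificate -/
def p22Leaves : List (List ℕ × List ℕ × List ℕ × List ℕ) := [
  ([0,1,18,17,6,14,22,16,23,3,10,8,2,7,20,15,13,9,12,19,5,21,4,11],
   [0,1,16,13,8,23,6,5,7,20,18,19,14,11,22,15,10,2,17,21,12,3,9,4],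
   [0,1,12,9,22,20,4,13,11,17,10,23,18,16,5,15,7,3,2,19,14,21,6,8],
   [0,1,17,21,23,7,6,8,4,22,16,13,20,3,12,15,2,18,10,11,9,19,14,5]),
  ([0,1,16,13,8,23,6,5,7,20,18,19,14,11,22,15,10,2,17,21,12,3,9,4],
   [0,1,18,17,6,14,22,16,23,3,10,8,2,7,20,15,13,9,12,19,5,21,4,11],
   [0,1,17,21,23,7,6,8,4,22,16,13,20,3,12,15,2,18,10,11,9,19,14,5],
   [0,1,12,9,22,20,4,13,11,17,10,23,18,16,5,15,7,3,2,19,14,21,6,8]),
  ([0,1,4,10,23,20,15,14,7,19,21,6,18,16,5,12,2,17,11,3,8,9,22,13],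
   [0,1,7,3,4,18,22,12,20,13,10,5,2,14,9,15,17,23,11,6,21,8,19,16],
   [0,1,16,19,2,14,11,8,20,21,3,18,15,23,7,6,13,17,12,9,5,10,22,4],
   [0,1,12,3,4,11,19,2,21,14,10,18,7,9,13,15,23,16,5,22,8,20,6,17]),
  ([0,1,7,3,4,18,22,12,20,13,10,5,2,14,9,15,17,23,11,6,21,8,19,16],
   [0,1,4,10,23,20,15,14,7,19,21,6,18,16,5,12,2,17,11,3,8,9,22,13],
   [0,1,12,3,4,11,19,2,21,14,10,18,7,9,13,15,23,16,5,22,8,20,6,17],
   [0,1,16,19,2,14,11,8,20,21,3,18,15,23,7,6,13,17,12,9,5,10,22,4]),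
  ([0,1,13,14,5,20,21,8,9,17,16,22,18,2,23,3,15,7,10,4,11,19,6,12],
   [0,1,5,16,21,9,14,4,20,13,3,18,6,10,15,7,2,17,23,11,19,12,8,22],
   [0,1,13,15,19,4,22,17,7,8,18,20,23,2,3,16,10,9,12,21,5,6,11,14],
   [0,1,16,10,7,2,12,15,22,5,13,19,21,9,6,14,3,17,11,20,8,4,23,18]),
  ([0,1,5,16,21,9,14,4,20,13,3,18,6,10,15,7,2,17,23,11,19,12,8,22],
   [0,1,13,14,5,20,21,8,9,17,16,22,18,2,23,3,15,7,10,4,11,19,6,12],
   [0,1,16,10,7,2,12,15,22,5,13,19,21,9,6,14,3,17,11,20,8,4,23,18],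
   [0,1,13,15,19,4,22,17,7,8,18,20,23,2,3,16,10,9,12,21,5,6,11,14]),
  ([0,1,6,16,7,13,10,12,14,18,22,2,8,3,9,23,15,19,4,11,5,21,17,20],
   [0,1,16,14,17,9,11,7,13,15,19,23,4,10,12,8,18,21,22,5,3,20,6,2],
   [0,1,11,13,18,20,2,4,12,14,6,19,7,5,8,16,3,22,9,17,23,21,10,15],
   [0,1,23,20,12,19,22,7,15,5,13,6,14,8,3,9,2,4,16,10,21,17,18,11]),
  ([0,1,16,14,17,9,11,7,13,15,19,23,4,10,12,8,18,21,22,5,3,20,6,2],
   [0,1,6,16,7,13,10,12,14,18,22,2,8,3,9,23,15,19,4,11,5,21,17,20],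
   [0,1,23,20,12,19,22,7,15,5,13,6,14,8,3,9,2,4,16,10,21,17,18,11],
   [0,1,11,13,18,20,2,4,12,14,6,19,7,5,8,16,3,22,9,17,23,21,10,15])]

/-- the straight-line program producing the transversal elements from the commutators -/
def p22Prog : List (ℕ × ℕ) := [
  (0,2),(3,1),(2,4),(5,3),(4,6),(7,5),(6,0),(1,7),(9,0),(1,10),(13,11),(12,14),(4,15),(16,5),
  (17,19),(20,18),(13,23),(24,14),(25,15),(16,26),(0,6),(7,1),(2,27),(28,3),(21,29),(30,22),(23,21),(22,24),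
  (31,21),(22,32),(37,27),(28,38),(37,21),(22,38),(33,41),(42,34),(21,25),(26,22),(35,43),(44,36),(0,25),(26,1),
  (33,35),(36,34),(45,35),(36,46),(51,47),(48,52),(55,49),(50,56),(0,53),(54,1),(0,39),(40,1),(61,57),(58,62),
  (49,57),(58,50),(45,19),(20,46),(51,57),(58,52),(39,65),(66,40),(59,39),(40,60),(39,67),(68,40),(19,63),(64,20),
  (77,73),(74,78),(75,51),(52,76),(63,69),(70,64),(81,63),(64,82),(85,77),(78,86),(67,79),(51,83),(84,52),(63,79),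
  (80,64),(63,87),(88,64),(77,83),(84,78),(96,96),(97,97),(98,96),(97,99),(98,98),(99,99),(102,96),(97,103),(102,98),
  (99,103),(92,63),(64,93),(108,96),(108,98),(108,100),(101,109),(108,102),(108,106),(107,109),(96,108),(98,108),(109,99),(100,108),
  (109,101),(108,108),(109,109),(117,96),(120,96),(97,121),(122,96),(118,98),(122,100),(101,123),(71,96),(97,72),(103,131),(132,102),
  (133,133),(134,134),(135,133),(134,136),(135,135),(136,136),(108,83),(84,109),(113,141),(142,112),(143,133),(143,135),(136,144),(143,137),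
  (143,139),(135,143),(144,136),(137,143),(139,143),(144,140),(143,143),(144,144),(150,133),(134,151),(155,133),(134,156),(150,135),(152,137),
  (153,137),(138,154),(155,137),(145,145),(83,94),(95,84),(116,167),(168,115),(147,169),(170,146),(90,94),(95,91),(119,173),(174,118),
  (156,175),(176,155),(177,177),(178,178),(167,131),(132,168),(130,181),(182,129),(138,183),(184,137),(185,171),(177,171),(179,171),(172,180),
  (171,185),(186,172),(185,185),(186,186),(179,185),(186,180),(193,171),(195,171),(172,196),(191,185),(191,187),(195,187),(171,188),(193,188),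
  (195,188),(185,189),(191,189),(190,192),(203,185),(89,63),(105,210),(164,211),(199,212),(131,173),(105,214),(158,215),(194,216),(180,217),
  (218,218),(210,89),(126,220),(160,221),(208,222),(223,177),(223,179),(223,213),(177,223),(179,223),(213,223),(223,223),(218,223),(228,177),
  (229,177),(231,177)]

/-- transversal at level 0, all elements products of commutators -/
def p22L0 : List (List ℕ) := [
  [0,1,2,3,4,5,6,7,8,9,10,11,12,13,14,15,16,17,18,19,20,21,22,23],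
  [0,1,3,23,12,8,2,21,4,5,22,14,15,16,10,19,11,6,9,20,7,18,17,13],
  [0,1,4,20,10,23,9,5,16,21,13,7,17,6,11,12,15,3,14,18,8,2,22,19],
  [0,1,5,9,10,15,23,6,19,11,14,13,7,8,16,4,2,17,3,18,12,20,21,22],
  [0,1,6,15,9,14,4,18,17,10,21,19,8,2,23,20,3,16,5,7,12,13,22,11],
  [0,1,7,6,4,16,5,13,23,14,18,10,11,20,8,2,21,12,17,19,15,3,9,22],
  [0,1,8,2,23,3,5,18,7,10,11,22,12,20,15,9,17,19,6,13,4,14,21,16],
  [0,1,9,12,21,11,10,14,3,13,2,18,16,4,19,8,20,15,23,5,17,6,22,7],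
  [0,1,10,8,13,19,21,23,15,2,6,5,3,9,7,17,12,20,11,14,16,4,22,18],
  [0,1,11,9,19,3,21,15,16,23,12,5,7,14,22,8,10,6,20,4,18,17,13,2],
  [0,1,12,16,14,4,17,2,8,11,21,3,9,23,15,6,7,18,5,22,10,19,13,20],
  [0,1,13,16,6,18,2,19,12,4,9,23,20,21,5,3,17,8,7,11,15,10,22,14],
  [0,1,14,10,21,20,11,4,7,19,23,2,18,17,3,9,6,16,15,5,8,12,13,22],
  [0,1,15,8,18,2,12,21,20,14,9,17,6,5,16,13,11,19,7,22,4,23,10,3],
  [0,1,16,11,2,9,3,20,15,12,5,13,7,18,8,23,6,4,21,14,19,22,17,10],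
  [0,1,17,6,11,15,14,5,18,21,19,22,8,12,20,10,16,7,4,2,9,23,13,3],
  [0,1,18,4,9,3,14,2,11,23,5,21,19,12,17,6,13,8,16,7,20,15,10,22],
  [0,1,19,18,12,2,23,3,10,17,14,15,6,21,5,7,8,9,22,20,16,11,13,4],
  [0,1,20,21,5,17,7,19,11,4,14,22,15,3,16,6,12,23,13,10,2,18,9,8],
  [0,1,21,17,2,7,13,11,20,6,4,14,15,10,18,16,8,12,19,23,3,9,22,5],
  [0,1,22,4,16,20,18,13,19,3,2,8,23,5,21,6,15,7,14,10,11,12,17,9],
  [0,1,23,7,17,5,12,22,9,14,11,20,10,19,4,16,18,8,2,3,6,21,13,15]]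

/-- transversal at level 1, all elements products of commutators -/
def p22L1 : List (List ℕ) := [
  [0,1,2,3,4,5,6,7,8,9,10,11,12,13,14,15,16,17,18,19,20,21,22,23],
  [0,1,2,4,12,9,17,10,22,21,3,15,7,8,19,13,23,5,14,16,20,6,11,18],
  [0,1,2,5,11,15,3,20,22,17,7,23,16,19,6,8,10,12,4,21,9,18,14,13],
  [0,1,2,6,21,14,17,7,11,16,19,18,23,5,4,3,22,20,12,9,15,13,10,8],
  [0,1,2,7,5,12,18,16,19,15,20,14,11,8,4,23,21,3,13,6,9,17,22,10],
  [0,1,2,8,20,13,22,14,12,21,6,10,4,16,17,23,11,9,3,18,19,15,5,7],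
  [0,1,2,9,17,20,18,8,16,19,7,4,13,3,10,21,14,15,22,12,6,11,5,23],
  [0,1,2,10,9,7,14,23,16,13,20,19,15,22,12,18,6,4,8,17,21,5,11,3],
  [0,1,2,11,4,10,16,15,22,7,21,20,17,18,13,6,9,14,12,3,23,8,5,19],
  [0,1,2,12,14,23,7,9,22,3,16,10,21,6,18,19,20,11,5,17,15,13,4,8],
  [0,1,2,13,10,18,22,11,5,16,19,23,14,7,21,15,12,20,17,6,8,9,4,3],
  [0,1,2,14,13,4,3,11,18,23,19,17,10,12,20,7,15,8,16,22,21,9,5,6],
  [0,1,2,15,10,17,12,9,3,6,23,13,20,22,4,19,8,11,18,16,7,14,5,21],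
  [0,1,2,16,12,11,13,21,6,23,9,4,14,19,5,10,17,7,8,18,15,3,22,20],
  [0,1,2,17,14,4,19,3,13,20,23,12,5,18,11,9,7,21,6,8,10,16,22,15],
  [0,1,2,18,23,6,22,12,4,7,8,15,11,3,16,9,5,10,21,19,13,20,14,17],
  [0,1,2,19,23,11,20,6,15,12,21,22,7,5,10,16,3,13,18,8,9,4,17,14],
  [0,1,2,20,4,21,9,6,5,15,8,23,14,12,18,16,7,13,17,11,19,22,10,3],
  [0,1,2,21,11,14,8,17,18,10,15,5,4,6,12,20,3,16,19,13,23,7,22,9],
  [0,1,2,22,23,18,5,13,17,8,16,21,4,9,14,19,20,7,11,12,3,6,10,15],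
  [0,1,2,23,7,15,8,6,17,18,21,12,19,16,9,3,5,10,22,14,13,4,11,20]]

/-- transversal at level 2, all elements products of commutators -/
def p22L2 : List (List ℕ) := [
  [0,1,2,3,4,5,6,7,8,9,10,11,12,13,14,15,16,17,18,19,20,21,22,23],
  [0,1,2,3,5,15,18,17,9,13,23,21,14,7,19,22,11,8,12,6,4,10,20,16],
  [0,1,2,3,6,8,23,9,21,14,22,17,11,12,19,18,13,16,4,20,7,10,5,15],
  [0,1,2,3,7,16,9,10,13,11,4,6,12,14,8,21,18,19,5,20,17,23,22,15],
  [0,1,2,3,8,13,23,15,11,17,19,5,16,4,18,22,6,21,7,9,12,10,14,20],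
  [0,1,2,3,9,12,5,11,19,14,22,23,6,13,4,15,8,10,21,16,18,20,17,7],
  [0,1,2,3,10,18,11,4,14,6,7,9,12,8,13,23,5,20,16,17,19,15,22,21],
  [0,1,2,3,11,7,14,9,19,5,6,17,22,18,10,15,8,4,20,16,13,21,23,12],
  [0,1,2,3,12,13,11,7,23,6,4,9,10,19,18,14,17,21,15,5,8,16,22,20],
  [0,1,2,3,13,7,19,20,14,8,18,16,21,6,10,23,5,4,9,17,11,22,15,12],
  [0,1,2,3,14,8,21,23,9,20,17,18,5,10,16,22,11,15,4,6,12,7,13,19],
  [0,1,2,3,15,20,17,8,11,23,16,14,19,12,21,22,6,18,10,9,4,7,5,13],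
  [0,1,2,3,16,21,5,19,11,14,15,23,8,10,20,22,6,13,12,9,7,4,17,18],
  [0,1,2,3,17,16,13,5,9,18,14,20,23,4,8,22,11,19,10,6,7,12,21,15],
  [0,1,2,3,18,9,16,13,10,19,20,8,21,14,6,12,7,11,5,4,17,23,15,22],
  [0,1,2,3,19,18,14,16,11,5,8,17,15,7,13,22,6,20,4,9,10,12,23,21],
  [0,1,2,3,20,5,8,18,6,16,13,19,21,10,14,22,9,17,7,11,4,12,15,23],
  [0,1,2,3,21,17,19,13,6,15,18,8,20,12,23,22,9,5,4,11,7,10,16,14],
  [0,1,2,3,22,4,17,6,19,23,9,14,11,21,12,15,8,7,13,16,20,18,5,10],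
  [0,1,2,3,23,19,20,14,9,21,5,13,17,12,15,22,11,16,7,6,10,4,18,8]]

/-- transversal at level 3, all elements products of commutators -/
def p22L3 : List (List ℕ) := [
  [0,1,2,3,4,5,6,7,8,9,10,11,12,13,14,15,16,17,18,19,20,21,22,23],
  [0,1,2,3,4,6,21,10,15,20,12,18,7,23,11,19,16,9,14,8,17,5,13,22],
  [0,1,2,3,4,8,17,10,11,14,12,5,7,13,15,9,22,19,20,6,21,18,23,16],
  [0,1,2,3,4,9,15,12,17,19,7,16,10,20,11,23,14,22,18,5,21,13,8,6],
  [0,1,2,3,4,11,23,7,13,17,10,5,12,8,22,18,20,9,15,21,16,19,14,6],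
  [0,1,2,3,4,13,15,7,11,16,10,8,12,5,21,6,9,20,23,22,17,14,19,18],
  [0,1,2,3,4,14,15,10,21,8,12,19,7,22,17,18,13,5,6,20,11,9,16,23],
  [0,1,2,3,4,15,9,12,18,11,7,6,10,23,19,20,13,8,17,21,5,14,22,16],
  [0,1,2,3,4,16,5,10,9,23,12,17,7,20,19,11,6,15,13,22,18,21,14,8],
  [0,1,2,3,4,17,18,12,9,21,7,20,10,16,5,6,22,14,15,11,19,8,13,23],
  [0,1,2,3,4,18,8,7,6,19,10,15,12,23,20,11,22,21,5,9,14,17,16,13],
  [0,1,2,3,4,19,20,7,14,18,10,21,12,22,8,17,23,15,9,5,6,11,13,16],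
  [0,1,2,3,4,20,11,10,17,6,12,9,7,16,21,5,23,18,8,14,15,19,22,13],
  [0,1,2,3,4,21,5,12,19,17,7,14,10,22,18,8,16,20,11,15,9,6,23,13],
  [0,1,2,3,4,22,18,10,19,13,12,21,7,14,9,15,8,11,23,16,5,17,20,6],
  [0,1,2,3,4,23,19,10,18,16,12,15,7,6,5,21,20,17,22,13,9,11,8,14]]

/-- transversal at level 4, all elements products of commutators -/
def p22L4 : List (List ℕ) := [
  [0,1,2,3,4,5,6,7,8,9,10,11,12,13,14,15,16,17,18,19,20,21,22,23],
  [0,1,2,3,4,5,16,10,13,19,12,8,7,11,23,20,21,14,9,18,22,6,15,17],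
  [0,1,2,3,4,5,21,12,11,18,7,13,10,8,17,22,6,23,19,9,15,16,20,14]]

theorem p22_leavesOK : leavesOK (certFix tblInCode [1, 0]) p22Leaves = true := by decide +kernel

theorem p22_cover : checkCover (slpRun (leafTables p22Leaves) p22Prog)
    (p22L0 ++ p22L1 ++ p22L2 ++ p22L3 ++ p22L4) = true := by decide +kernel

theorem p22_inK : ∀ T ∈ p22L0 ++ p22L1 ++ p22L2 ++ p22L3 ++ p22L4,
    InK ⁅fixH M24 (ptsOf [1, 0]), fixH M24 (ptsOf [1, 0])⁆ T :=
  tables_inK (certSound_fix certSound_M24 (fixed_lt_24 (by decide))) p22_leavesOK p22Prog _ p22_cover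

theorem p22OK0 : transOKH tblInCode [1, 0] p22L0 = true := by decide +kernel
theorem p22OK1 : transOKH tblInCode [2, 1, 0] p22L1 = true := by decide +kernel
theorem p22OK2 : transOKH tblInCode [3, 2, 1, 0] p22L2 = true := by decide +kernel
theorem p22OK3 : transOKH tblInCode [4, 3, 2, 1, 0] p22L3 = true := by decide +kernel
theorem p22OK4 : transOKH tblInCode [5, 4, 3, 2, 1, 0] p22L4 = true := by decide +kernel

/-- the group is perfect -/
theorem p22_perfect : fixH M24 (ptsOf [1, 0]) ≤ ⁅fixH M24 (ptsOf [1, 0]), fixH M24 (ptsOf [1, 0])⁆ := by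
  have hb : fixH M24 (ptsOf (7 :: [5, 4, 3, 2, 1, 0])) ≤ ⁅fixH M24 (ptsOf [1, 0]), fixH M24 (ptsOf [1, 0])⁆ := by
    have : fixH M24 (ptsOf (7 :: [5, 4, 3, 2, 1, 0])) = ⊥ := fixG_base_eq_bot
    rw [this]
    exact bot_le
  have h4 : fixH M24 (ptsOf (5 :: [4, 3, 2, 1, 0])) ≤ ⁅fixH M24 (ptsOf [1, 0]), fixH M24 (ptsOf [1, 0])⁆ :=
    fixH_le_of_trans certSound_M24 (fixed_lt_24 (by decide)) (by norm_num) p22OK4
      (fun T hT => p22_inK T (by simp [hT])) hb (fun g hg => by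
        have h := apply_mem_of_orbit_eq orbit_eq6 hg
        have e : transImg 7 p22L4 = oct5 ^^^ (oct5 &&& 63) := by decide +kernel
        rw [e]; exact h)
  have h3 : fixH M24 (ptsOf (4 :: [3, 2, 1, 0])) ≤ ⁅fixH M24 (ptsOf [1, 0]), fixH M24 (ptsOf [1, 0])⁆ :=
    fixH_le_of_trans certSound_M24 (fixed_lt_24 (by decide)) (by norm_num) p22OK3
      (fun T hT => p22_inK T (by simp [hT])) h4 (fun g hg => by
        have h := apply_mem_of_orbit_eq orbit_eq5 hg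
        have e : transImg 5 p22L3 = onesMask ^^^ oct5 := by decide +kernel
        rw [e]; exact h)
  have h2 : fixH M24 (ptsOf (3 :: [2, 1, 0])) ≤ ⁅fixH M24 (ptsOf [1, 0]), fixH M24 (ptsOf [1, 0])⁆ :=
    fixH_le_of_trans certSound_M24 (fixed_lt_24 (by decide)) (by norm_num) p22OK2
      (fun T hT => p22_inK T (by simp [hT])) h3 (fun g hg => by
        have h := apply_mem_of_orbit_eq orbit_eq4 hg
        have e : transImg 4 p22L2 = onesMask ^^^ tblMask [3, 2, 1, 0] := by decide +kernel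
        rw [e]; exact h)
  have h1 : fixH M24 (ptsOf (2 :: [1, 0])) ≤ ⁅fixH M24 (ptsOf [1, 0]), fixH M24 (ptsOf [1, 0])⁆ :=
    fixH_le_of_trans certSound_M24 (fixed_lt_24 (by decide)) (by norm_num) p22OK1
      (fun T hT => p22_inK T (by simp [hT])) h2 (fun g hg => by
        have h := apply_mem_of_orbit_eq orbit_eq3 hg
        have e : transImg 3 p22L1 = onesMask ^^^ tblMask [2, 1, 0] := by decide +kernel
        rw [e]; exact h)
  have h0 : fixH M24 (ptsOf [1, 0]) ≤ ⁅fixH M24 (ptsOf [1, 0]), fixH M24 (ptsOf [1, 0])⁆ :=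
    fixH_le_of_trans certSound_M24 (fixed_lt_24 (by decide)) (by norm_num) p22OK0
      (fun T hT => p22_inK T (by simp [hT])) h1 (fun g hg => by
        have h := apply_mem_of_orbit_eq orbit_eq2 hg
        have e : transImg 2 p22L0 = onesMask ^^^ tblMask [1, 0] := by decide +kernel
        rw [e]; exact h)
  exact h0

theorem p22_x_mem : tblPerm x11T x11_valid ∈ fixH M24 (ptsOf [1, 0]) :=
  certSound_fix certSound_M24 (fixed_lt_24 (by decide)) x11T x11_valid (by decide +kernel)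

/-- the order of a non-trivial normal subgroup is divisible by 11 -/
theorem p22_normal_dvd : ∀ N, NormalIn N (fixH M24 (ptsOf [1, 0])) → N ≠ ⊥ → 11 ∣ Nat.card N := by
  intro N hN hne
  have hfix : ∀ f ∈ ([1, 0] : List ℕ), f < 24 := fixed_lt_24 (by decide)
  have hinv := orbit_invariant orbit_eq2
  have h2 := two_trans_of_orbits (H := M24) (fixed := [1, 0]) (a := 2) (b := 3)
    (D := maskSet (onesMask ^^^ tblMask [1, 0]))
    (fun q hq => mem_orbit_of_eq orbit_eq2 hq)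
    (fun q hq hne' => mem_orbit_of_eq orbit_eq3 (mask_step (by decide +kernel) hq hne'))
    hinv
  have ha : pt 2 ∈ maskSet (onesMask ^^^ tblMask [1, 0]) := by
    rw [mem_maskSet, idx_pt (by norm_num)]; decide +kernel
  exact normal_card_dvd_typeA hN hne h2 hinv (faithful_compl hfix) ha (by rw [card_maskSet]; decide +kernel)

theorem p22_simple : IsSimpleGroup (fixH M24 (ptsOf [1, 0])) :=
  haveI := fact_prime_11
  simple_of_normal_dvd 11 (fixH M24 (ptsOf [1, 0])) p22_perfect (tblPerm x11T x11_valid) p22_x_mem x11_order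
    (by rw [card_fix24_2]; norm_num) (by norm_num) p22_normal_dvd (pt 2) (x11_semireg (fixH_le _ _))

end Cfsg.Agent.Helper27
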