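import Cfsg.Agent.Helper27.SimpleM24
import Cfsg.Agent.Helper27.SimpleM22
import Cfsg.Agent.Helper27.SimpleM12

/-!
Simplicity of `M24`, of its one- and two-point stabilisers, of the stabiliser of a dodecad and of the stabiliser of a
dodecad and one of its points, in the form of the statements.
-/

set_option autoImplicit false

namespace Cfsg.Agent.Helper27

open Cfsg
open scoped Pointwise

/-- simplicity passes to a conjugate subgroup -/
theorem isSimpleGroup_of_conj {G : Type*} [Group G] {A B : Subgroup G} (g : G)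
    (h : ∀ k, k ∈ B ↔ g⁻¹ * k * g ∈ A) [IsSimpleGroup A] : IsSimpleGroup B := by
  let e : B ≃* A :=
    { toFun := fun k => ⟨g⁻¹ * k.1 * g, (h k.1).mp k.2⟩
      invFun := fun k => ⟨g * k.1 * g⁻¹, by
        rw [h]
        have : g⁻¹ * (g * k.1 * g⁻¹) * g = k.1 := by group
        rw [this]
        exact k.2⟩
      left_inv := fun k => by
        apply Subtype.ext
        show g * (g⁻¹ * k.1 * g) * g⁻¹ = k.1
        group
      right_inv := fun k => by
        apply Subtype.ext
        show g⁻¹ * (g * k.1 * g⁻¹) * g = k.1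
        group
      map_mul' := fun k k' => by
        apply Subtype.ext
        show g⁻¹ * (k.1 * k'.1) * g = (g⁻¹ * k.1 * g) * (g⁻¹ * k'.1 * g)
        group }
  exact e.isSimpleGroup

/-- simplicity of a subgroup of `M24` from that of its image in the group of all permutations -/
theorem isSimpleGroup_of_map {A : Subgroup M24} {B : Subgroup (Equiv.Perm GolayPt)} (h : A.map M24.subtype = B)
    [IsSimpleGroup B] : IsSimpleGroup A := by
  subst h
  exact (Subgroup.equivMapOfInjective A M24.subtype M24.subtype_injective).isSimpleGroup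

theorem M24_simple : IsSimpleGroup M24 := by
  have h : fixH M24 (ptsOf []) = M24 := by rw [ptsOf_nil, fixH_empty]
  have := p24_simple
  rwa [h] at this

theorem map_stabilizer_pt (p : GolayPt) : (MulAction.stabilizer M24 p).map M24.subtype = fixH M24 {p} := by
  ext g
  rw [Subgroup.mem_map, mem_fixH]
  constructor
  · rintro ⟨k, hk, rfl⟩
    refine ⟨k.2, ?_⟩
    intro q hq
    rw [Finset.mem_singleton] at hq
    rw [hq]
    exact hk
  · rintro ⟨h1, h2⟩
    exact ⟨⟨g, h1⟩, h2 p (Finset.mem_singleton_self p), rfl⟩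

theorem map_stabilizer_pt2 (p q : GolayPt) :
    (MulAction.stabilizer M24 p ⊓ MulAction.stabilizer M24 q).map M24.subtype = fixH M24 {p, q} := by
  ext g
  rw [Subgroup.mem_map, mem_fixH]
  constructor
  · rintro ⟨k, hk, rfl⟩
    rw [Subgroup.mem_inf] at hk
    refine ⟨k.2, ?_⟩
    intro r hr
    rw [Finset.mem_insert, Finset.mem_singleton] at hr
    rcases hr with rfl | rfl
    · exact hk.1
    · exact hk.2
  · rintro ⟨h1, h2⟩
    refine ⟨⟨g, h1⟩, ?_, rfl⟩
    rw [Subgroup.mem_inf]
    exact ⟨h2 p (by simp), h2 q (by simp)⟩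

theorem mem_fixH_M24_smul {g : Equiv.Perm GolayPt} (hg : g ∈ M24) (F : Finset GolayPt) (h : Equiv.Perm GolayPt) :
    h ∈ fixH M24 (g • F) ↔ g⁻¹ * h * g ∈ fixH M24 F :=
  mem_fixG_smul hg F h

theorem stabilizer_pt_simple (p : GolayPt) : IsSimpleGroup (MulAction.stabilizer M24 p) := by
  have := M24_isPretransitive
  obtain ⟨g, hg⟩ := MulAction.exists_smul_eq M24 p (pt 0)
  have hF : (g : Equiv.Perm GolayPt) • ({p} : Finset GolayPt) = ptsOf [0] := by
    rw [Finset.smul_finset_singleton]
    have : (g : Equiv.Perm GolayPt) • p = pt 0 := hg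
    rw [this]
    simp [ptsOf]
  haveI : IsSimpleGroup (fixH M24 (ptsOf [0])) := p23_simple
  haveI : IsSimpleGroup (fixH M24 {p}) := by
    apply isSimpleGroup_of_conj (A := fixH M24 (ptsOf [0])) (g : Equiv.Perm GolayPt)⁻¹
    intro k
    rw [← hF, mem_fixH_M24_smul g.2, inv_inv]
    have : (g : Equiv.Perm GolayPt)⁻¹ * ((g : Equiv.Perm GolayPt) * k * (g : Equiv.Perm GolayPt)⁻¹) *
        (g : Equiv.Perm GolayPt) = k := by group
    rw [this]
  exact isSimpleGroup_of_map (map_stabilizer_pt p)

theorem stabilizer_pt2_simple (p q : GolayPt) (hpq : p ≠ q) :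
    IsSimpleGroup ↥(MulAction.stabilizer M24 p ⊓ MulAction.stabilizer M24 q) := by
  have h2 : MulAction.IsMultiplyPretransitive M24 GolayPt 2 := M24_isMultiplyPretransitive_of_le (by norm_num)
  rw [MulAction.is_two_pretransitive_iff] at h2
  have h01 : pt 0 ≠ pt 1 := by
    intro h
    have := congrArg idx h
    rw [idx_pt (by norm_num), idx_pt (by norm_num)] at this
    exact absurd this (by norm_num)
  obtain ⟨g, hgp, hgq⟩ := h2 hpq h01
  have hF : (g : Equiv.Perm GolayPt) • ({p, q} : Finset GolayPt) = ptsOf [1, 0] := by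
    have e1 : (g : Equiv.Perm GolayPt) • p = pt 0 := hgp
    have e2 : (g : Equiv.Perm GolayPt) • q = pt 1 := hgq
    ext r
    rw [Finset.mem_smul_finset]
    simp only [Finset.mem_insert, Finset.mem_singleton, mem_ptsOf, List.mem_cons, List.not_mem_nil, or_false]
    constructor
    · rintro ⟨y, rfl | rfl, rfl⟩
      · exact ⟨0, Or.inr rfl, e1.symm⟩
      · exact ⟨1, Or.inl rfl, e2.symm⟩
    · rintro ⟨f, rfl | rfl, rfl⟩
      · exact ⟨q, Or.inr rfl, e2⟩
      · exact ⟨p, Or.inl rfl, e1⟩
  haveI : IsSimpleGroup (fixH M24 (ptsOf [1, 0])) := p22_simple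
  haveI : IsSimpleGroup (fixH M24 {p, q}) := by
    apply isSimpleGroup_of_conj (A := fixH M24 (ptsOf [1, 0])) (g : Equiv.Perm GolayPt)⁻¹
    intro k
    rw [← hF, mem_fixH_M24_smul g.2, inv_inv]
    have : (g : Equiv.Perm GolayPt)⁻¹ * ((g : Equiv.Perm GolayPt) * k * (g : Equiv.Perm GolayPt)⁻¹) *
        (g : Equiv.Perm GolayPt) = k := by group
    rw [this]
  exact isSimpleGroup_of_map (map_stabilizer_pt2 p q)

theorem stabilizer_dodecad_simple {d : Finset GolayPt} (hd : d ∈ dodecads) :
    IsSimpleGroup (MulAction.stabilizer M24 d) := by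
  obtain ⟨g, hg, hgd⟩ := exists_smul_eq_dod0 hd
  have hH : fixH H12 (ptsOf []) = H12 := by rw [ptsOf_nil, fixH_empty]
  haveI : IsSimpleGroup H12 := by
    have := p12_simple
    rwa [hH] at this
  haveI : IsSimpleGroup (stabP d) := by
    apply isSimpleGroup_of_conj (A := H12) g⁻¹
    intro k
    rw [inv_inv]
    show k ∈ stabP d ↔ g * k * g⁻¹ ∈ stabP (maskSet dod0)
    rw [← hgd, mem_stabP_smul hg]
    have : g⁻¹ * (g * k * g⁻¹) * g = k := by group
    rw [this]
  exact isSimpleGroup_of_map (map_stabilizer_eq_stabP d)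

theorem stabilizer_dodecad_pt_simple {d : Finset GolayPt} (hd : d ∈ dodecads) {p : GolayPt} (hp : p ∈ d) :
    IsSimpleGroup ↥(MulAction.stabilizer M24 d ⊓ MulAction.stabilizer M24 p) := by
  obtain ⟨g, hg, hgd, hgp⟩ := exists_smul_eq_dod0_pt hd hp
  haveI : IsSimpleGroup (fixH H12 (ptsOf [0])) := p11_simple
  haveI : IsSimpleGroup (fixH (stabP d) {p}) := by
    apply isSimpleGroup_of_conj (A := fixH H12 (ptsOf [0])) g⁻¹
    intro k
    rw [inv_inv, mem_fixH, mem_fixH]
    have hconj : k ∈ stabP d ↔ g * k * g⁻¹ ∈ H12 := by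
      show k ∈ stabP d ↔ g * k * g⁻¹ ∈ stabP (maskSet dod0)
      rw [← hgd, mem_stabP_smul hg]
      have : g⁻¹ * (g * k * g⁻¹) * g = k := by group
      rw [this]
    rw [hconj]
    apply and_congr_right
    intro _
    constructor
    · intro h q hq
      obtain ⟨f, hf, rfl⟩ := (mem_ptsOf _ q).mp hq
      simp only [List.mem_cons, List.not_mem_nil, or_false] at hf
      subst hf
      rw [Equiv.Perm.mul_apply, Equiv.Perm.mul_apply]
      have h1 : g⁻¹ (pt 0) = p := by rw [Equiv.Perm.inv_eq_iff_eq, hgp]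
      rw [h1, h p (Finset.mem_singleton_self p), hgp]
    · intro h q hq
      rw [Finset.mem_singleton] at hq
      subst hq
      have h0 := h (pt 0) ((mem_ptsOf _ _).mpr ⟨0, by simp, rfl⟩)
      rw [Equiv.Perm.mul_apply, Equiv.Perm.mul_apply] at h0
      have h1 : g⁻¹ (pt 0) = q := by rw [Equiv.Perm.inv_eq_iff_eq, hgp]
      rw [h1, ← hgp] at h0
      exact g.injective h0
  exact isSimpleGroup_of_map (map_stabilizer_inf_eq d p)

end Cfsg.Agent.Helper27
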