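import Cfsg.Agent.Helper27.M23OutCheckX
import Cfsg.Agent.Helper27.M23OutCheckY
import Cfsg.Agent.Helper27.M23OutCheckF
import Cfsg.Agent.Helper27.M23OutCheckG
import Cfsg.Agent.Helper27.AutRigid
import Cfsg.Agent.Helper27.M11Out
import Cfsg.Agent.Helper27.SimpleFinal

/-!
Every automorphism of the Mathieu group of degree 23 is inner.
-/

set_option autoImplicit false

namespace Cfsg.Agent.Helper27

open Cfsg
open scoped Pointwise

/-- the word `x t x² t x⁴ t` -/
def w124G {G : Type*} [Group G] (x t : G) : G := x * t * (x * x) * t * ((x * x) * (x * x)) * t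

theorem map_w124G {G H : Type*} [Group G] [Group H] (f : G →* H) (x t : G) :
    f (w124G x t) = w124G (f x) (f t) := by
  simp only [w124G, map_mul]

theorem represents_w124 {x t : Equiv.Perm GolayPt} {X T : List ℕ} (hX : Represents x X) (hT : Represents t T) :
    Represents (w124G (G := Equiv.Perm GolayPt) x t) (w124T X T) :=
  represents_compT (represents_compT (represents_compT (represents_compT (represents_compT hX hT)
    (represents_compT hX hX)) hT) (represents_compT (represents_compT hX hX) (represents_compT hX hX))) hT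

/-- the stabiliser of the first point -/
abbrev G1 : Subgroup (Equiv.Perm GolayPt) := fixH M24 (ptsOf [0])

/-! ### The generators -/

/-- the element of order 23 -/
noncomputable def m23xP : Equiv.Perm GolayPt := tblPerm m23X m23X_valid

/-- the element normalising it -/
noncomputable def m23nP : Equiv.Perm GolayPt := tblPerm m23N m23N_valid

/-- the involution -/
noncomputable def m23yP : Equiv.Perm GolayPt := tblPerm m23Y m23Y_valid

theorem m23xP_rep : Represents m23xP m23X := tblPerm_represents _ _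
theorem m23nP_rep : Represents m23nP m23N := tblPerm_represents _ _
theorem m23yP_rep : Represents m23yP m23Y := tblPerm_represents _ _

theorem m23xP_mem : m23xP ∈ G1 :=
  certSound_fix certSound_M24 (fixed_lt_24 (by decide)) m23X m23X_valid m23X_cert

theorem m23nP_mem : m23nP ∈ G1 :=
  certSound_fix certSound_M24 (fixed_lt_24 (by decide)) m23N m23N_valid m23N_cert

theorem m23yP_mem : m23yP ∈ G1 :=
  certSound_fix certSound_M24 (fixed_lt_24 (by decide)) m23Y m23Y_valid m23Y_cert

theorem m23xP_order : orderOf m23xP = 23 :=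
  haveI := fact_prime_23
  tblPerm_orderOf m23X_valid m23X_order

theorem m23yP_order : orderOf m23yP = 2 :=
  haveI : Fact (Nat.Prime 2) := ⟨Nat.prime_two⟩
  tblPerm_orderOf m23Y_valid m23Y_order

theorem m23xP_inv_rep : Represents (m23xP⁻¹ : Equiv.Perm GolayPt) m23Xi := by
  have h1 := represents_compT m23xP_rep (tblPerm_represents m23Xi m23Xi_valid)
  rw [m23X_inv] at h1
  have h2 : m23xP * tblPerm m23Xi m23Xi_valid = 1 := represents_inj h1 represents_one
  have h3 : m23xP⁻¹ = tblPerm m23Xi m23Xi_valid := inv_eq_of_mul_eq_one_right h2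
  rw [h3]
  exact tblPerm_represents _ _

theorem m23nP_norm : m23nP * m23xP * m23nP⁻¹ = m23xP ^ 2 := by
  have h1 := represents_compT m23nP_rep m23xP_rep
  have h2 := represents_compT (represents_compT m23xP_rep m23xP_rep) m23nP_rep
  rw [m23N_norm] at h1
  have h3 : m23nP * m23xP = m23xP * m23xP * m23nP := represents_inj h1 h2
  rw [h3, pow_two]
  group

theorem m23_words : (m23xP * m23yP) ^ 7 = 1 ∧ (w124G m23xP m23yP) ^ 3 = 1 := by
  have h := m23Y_word
  simp only [Bool.and_eq_true] at h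
  exact ⟨pow_eq_one_of_powId (represents_compT m23xP_rep m23yP_rep) h.1,
    pow_eq_one_of_powId (represents_w124 m23xP_rep m23yP_rep) h.2⟩

/-! ### Generation -/

theorem G1_le_closure :
    fixH M24 (ptsOf [0]) ≤ Subgroup.closure ({m23xP, m23yP} : Set (Equiv.Perm GolayPt)) := by
  have hleaf : ∀ T ∈ [m23X, m23Y, idT],
      InK (Subgroup.closure ({m23xP, m23yP} : Set (Equiv.Perm GolayPt))) T := by
    intro T hT
    simp only [List.mem_cons, List.not_mem_nil, or_false] at hT
    rcases hT with rfl | rfl | rfl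
    · exact ⟨m23xP, Subgroup.subset_closure (by simp), m23xP_rep⟩
    · exact ⟨m23yP, Subgroup.subset_closure (by simp), m23yP_rep⟩
    · exact inK_idT _
  have hinK : ∀ T ∈ m23L0 ++ m23L1 ++ m23L2 ++ m23L3 ++ m23L4 ++ m23L5,
      InK (Subgroup.closure ({m23xP, m23yP} : Set (Equiv.Perm GolayPt))) T := fun T hT =>
    slpRun_inK m23Prog _ hleaf T (checkCover_sound _ _ m23_cover T hT)
  have hb : fixH M24 (ptsOf (7 :: [5, 4, 3, 2, 1, 0])) ≤
      Subgroup.closure ({m23xP, m23yP} : Set (Equiv.Perm GolayPt)) := by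
    have : fixH M24 (ptsOf (7 :: [5, 4, 3, 2, 1, 0])) = ⊥ := fixG_base_eq_bot
    rw [this]
    exact bot_le
  have h5 : fixH M24 (ptsOf (5 :: [4, 3, 2, 1, 0])) ≤
      Subgroup.closure ({m23xP, m23yP} : Set (Equiv.Perm GolayPt)) :=
    fixH_le_of_trans certSound_M24 (fixed_lt_24 (by decide)) (by norm_num) m23OK5
      (fun T hT => hinK T (by simp [hT])) hb (fun g hg => by
        have h := apply_mem_of_orbit_eq orbit_eq6 hg
        rw [m23Img5]; exact h)
  have h4 : fixH M24 (ptsOf (4 :: [3, 2, 1, 0])) ≤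
      Subgroup.closure ({m23xP, m23yP} : Set (Equiv.Perm GolayPt)) :=
    fixH_le_of_trans certSound_M24 (fixed_lt_24 (by decide)) (by norm_num) m23OK4
      (fun T hT => hinK T (by simp [hT])) h5 (fun g hg => by
        have h := apply_mem_of_orbit_eq orbit_eq5 hg
        rw [m23Img4]; exact h)
  have h3 : fixH M24 (ptsOf (3 :: [2, 1, 0])) ≤
      Subgroup.closure ({m23xP, m23yP} : Set (Equiv.Perm GolayPt)) :=
    fixH_le_of_trans certSound_M24 (fixed_lt_24 (by decide)) (by norm_num) m23OK3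
      (fun T hT => hinK T (by simp [hT])) h4 (fun g hg => by
        have h := apply_mem_of_orbit_eq orbit_eq4 hg
        rw [m23Img3]; exact h)
  have h2 : fixH M24 (ptsOf (2 :: [1, 0])) ≤
      Subgroup.closure ({m23xP, m23yP} : Set (Equiv.Perm GolayPt)) :=
    fixH_le_of_trans certSound_M24 (fixed_lt_24 (by decide)) (by norm_num) m23OK2
      (fun T hT => hinK T (by simp [hT])) h3 (fun g hg => by
        have h := apply_mem_of_orbit_eq orbit_eq3 hg
        rw [m23Img2]; exact h)
  have h1 : fixH M24 (ptsOf (1 :: [0])) ≤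
      Subgroup.closure ({m23xP, m23yP} : Set (Equiv.Perm GolayPt)) :=
    fixH_le_of_trans certSound_M24 (fixed_lt_24 (by decide)) (by norm_num) m23OK1
      (fun T hT => hinK T (by simp [hT])) h2 (fun g hg => by
        have h := apply_mem_of_orbit_eq orbit_eq2 hg
        rw [m23Img1]; exact h)
  exact fixH_le_of_trans certSound_M24 (fixed_lt_24 (by decide)) (by norm_num) m23OK0
      (fun T hT => hinK T (by simp [hT])) h1 (fun g hg => by
        have h := apply_mem_of_orbit_eq orbit_eq1 hg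
        rw [m23Img0]; exact h)

/-! ### The involutions -/

theorem mem_G1 (g : Equiv.Perm GolayPt) : g ∈ G1 ↔ g ∈ M24 ∧ g (pt 0) = pt 0 := by
  rw [mem_fixH, ptsOf_zero]
  simp only [Finset.mem_singleton, forall_eq]

/-- the members of the list of elements of the centraliser of `y` -/
theorem m23C_elem {q : GolayPt} (hq : m23yP q = q) :
    ∃ γ ∈ M24, γ * m23yP = m23yP * γ ∧ γ q = pt 0 := by
  have h1 : m23Y.getD (idx q) 0 = idx q := by
    rw [← m23yP_rep.2 q, hq]
  have h2 : idx q ∈ m23Fix := by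
    rw [← m23Y_fix, List.mem_filter, List.mem_range]
    exact ⟨idx_lt q, by rw [h1]; exact beq_self_eq_true _⟩
  obtain ⟨i, hi, hiq⟩ := List.mem_iff_getElem.mp h2
  have hi8 : i < 8 := by rwa [m23Fix_length] at hi
  have hic : i < m23C.length := by rw [m23C_length]; exact hi8
  have hz : i < (m23Fix.zip m23C).length := by rw [List.length_zip]; exact lt_min hi hic
  have hzip := List.all_eq_true.mp m23C_ok ((m23Fix.zip m23C)[i]) (List.getElem_mem hz)
  have hp1 : ((m23Fix.zip m23C)[i]).1 = idx q := by rw [List.getElem_zip]; exact hiq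
  simp only [Bool.and_eq_true, beq_iff_eq] at hzip
  obtain ⟨⟨⟨hv, hcode⟩, hcomm⟩, h0⟩ := hzip
  rw [hp1] at h0
  generalize ((m23Fix.zip m23C)[i]).2 = c at hv hcode hcomm h0
  refine ⟨tblPerm c hv, tblPerm_mem_M24 _ hv hcode, ?_, ?_⟩
  · have r1 := represents_compT (tblPerm_represents c hv) m23yP_rep
    have r2 := represents_compT m23yP_rep (tblPerm_represents c hv)
    rw [hcomm] at r1
    exact represents_inj r1 r2
  · have h3 := (tblPerm_represents c hv).2 q
    rw [h0] at h3
    rw [← pt_idx (tblPerm c hv q), h3]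

theorem perm_conj_apply (k g : Equiv.Perm GolayPt) (p : GolayPt) : (k * g * k⁻¹) (k p) = k (g p) := by
  rw [Equiv.Perm.mul_apply, Equiv.Perm.mul_apply, perm_inv_apply_self]

/-- the involutions of the stabiliser of the first point are conjugate in it -/
theorem G1_invol_conj {t : Equiv.Perm GolayPt} (ht : t ∈ G1) (hord : orderOf t = 2) :
    ∃ g ∈ G1, g * t * g⁻¹ = m23yP := by
  have htm := (mem_G1 t).mp ht
  have hym := (mem_G1 m23yP).mp m23yP_mem
  have key : ∀ {s : Equiv.Perm GolayPt}, s ∈ M24 → s (pt 0) = pt 0 → orderOf s = 2 →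
      ∃ k ∈ M24, k * s * k⁻¹ = zA := by
    intro s hs hs0 hso
    rcases invol_class hs hso with ⟨h1, -⟩ | ⟨-, h2⟩
    · exact absurd hs0 (h1 (pt 0))
    · exact h2
  obtain ⟨k, hk, hkt⟩ := key htm.1 htm.2 hord
  obtain ⟨k', hk', hky⟩ := key hym.1 hym.2 m23yP_order
  have hconj : (k'⁻¹ * k) * t * (k'⁻¹ * k)⁻¹ = m23yP := by
    have : (k'⁻¹ * k) * t * (k'⁻¹ * k)⁻¹ = k'⁻¹ * (k * t * k⁻¹) * k' := by group
    rw [this, hkt, ← hky]
    group
  have hhm : k'⁻¹ * k ∈ M24 := M24.mul_mem (M24.inv_mem hk') hk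
  have hfix : m23yP ((k'⁻¹ * k) (pt 0)) = (k'⁻¹ * k) (pt 0) := by
    rw [← hconj, perm_conj_apply, htm.2]
  obtain ⟨γ, hγ, hγy, hγq⟩ := m23C_elem hfix
  refine ⟨γ * (k'⁻¹ * k), (mem_G1 _).mpr ⟨M24.mul_mem hγ hhm, ?_⟩, ?_⟩
  · rw [Equiv.Perm.mul_apply, hγq]
  · have : γ * (k'⁻¹ * k) * t * (γ * (k'⁻¹ * k))⁻¹ = γ * ((k'⁻¹ * k) * t * (k'⁻¹ * k)⁻¹) * γ⁻¹ := by group
    rw [this, hconj, hγy]
    group

/-- the set of permutations represented by a member of a list of tables -/
def repSet (L : List (List ℕ)) : Set (Equiv.Perm GolayPt) := {t | ∃ T ∈ L, Represents t T}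

theorem repSet_closed {X : List ℕ} {x : Equiv.Perm GolayPt} (hX : Represents x X) {π : List ℕ}
    (hlen : π.length = 3795)
    (h : (m23Inv.zip π).all
      (fun tj => decide (tj.2 < 3795) && (compT X tj.1 == compT (m23Inv.getD tj.2 []) X)) = true) :
    ∀ t ∈ repSet m23Inv, x * t * x⁻¹ ∈ repSet m23Inv := by
  rintro t ⟨T, hT, hTr⟩
  obtain ⟨j, hj, rfl⟩ := List.mem_iff_getElem.mp hT
  have hjπ : j < π.length := by rw [hlen, ← m23Inv_length]; exact hj
  have hz : j < (m23Inv.zip π).length := by rw [List.length_zip]; exact lt_min hj hjπ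
  have hzip := List.all_eq_true.mp h ((m23Inv.zip π)[j]) (List.getElem_mem hz)
  rw [List.getElem_zip] at hzip
  simp only [Bool.and_eq_true, decide_eq_true_eq, beq_iff_eq] at hzip
  obtain ⟨hlt, hcomp⟩ := hzip
  have hlt' : π[j] < m23Inv.length := by rw [m23Inv_length]; exact hlt
  rw [List.getD_eq_getElem _ _ hlt'] at hcomp
  have hv : validTbl m23Inv[π[j]] = true := List.all_eq_true.mp m23Inv_valid _ (List.getElem_mem hlt')
  refine ⟨m23Inv[π[j]], List.getElem_mem hlt', ?_⟩
  have r1 := represents_compT hX hTr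
  have r2 := represents_compT (tblPerm_represents _ hv) hX
  rw [hcomp] at r1
  have h3 : x * t = tblPerm _ hv * x := represents_inj r1 r2
  have h4 : x * t * x⁻¹ = tblPerm _ hv := by rw [h3]; group
  rw [h4]
  exact tblPerm_represents _ hv

/-- every involution of the stabiliser of the first point is in the list -/
theorem G1_invol_mem_list {t : Equiv.Perm GolayPt} (ht : t ∈ G1) (hord : orderOf t = 2) :
    t ∈ repSet m23Inv := by
  obtain ⟨g, hg, hgt⟩ := G1_invol_conj ht hord
  have hy : m23yP ∈ repSet m23Inv := by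
    refine ⟨m23Y, ?_, m23yP_rep⟩
    have := m23Inv_y
    simpa using this
  have hcl := conj_closed_of_gens ({m23xP, m23yP} : Set (Equiv.Perm GolayPt)) (repSet m23Inv) (by
    intro s hs
    rw [Set.mem_insert_iff, Set.mem_singleton_iff] at hs
    rcases hs with rfl | rfl
    · exact repSet_closed m23xP_rep m23PiX_length m23Inv_closed_x
    · exact repSet_closed m23yP_rep m23PiY_length m23Inv_closed_y)
  have h1 := hcl g⁻¹ (G1_le_closure (G1.inv_mem hg)) m23yP hy
  have h2 : g⁻¹ * m23yP * g⁻¹⁻¹ = t := by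
    rw [← hgt]
    group
  rwa [h2] at h1

/-! ### Rigidity -/

/-- the element of order 23 -/
noncomputable def m23xG : ↥G1 := ⟨m23xP, m23xP_mem⟩

/-- the element normalising it -/
noncomputable def m23nG : ↥G1 := ⟨m23nP, m23nP_mem⟩

/-- the involution -/
noncomputable def m23yG : ↥G1 := ⟨m23yP, m23yP_mem⟩

theorem G1_closure : Subgroup.closure ({m23xG, m23yG} : Set ↥G1) = ⊤ := by
  rw [eq_top_iff]
  intro g _
  have h1 : (g : Equiv.Perm GolayPt) ∈ Subgroup.closure ({m23xP, m23yP} : Set (Equiv.Perm GolayPt)) :=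
    G1_le_closure g.2
  have h2 : (Subgroup.closure ({m23xG, m23yG} : Set ↥G1)).map G1.subtype =
      Subgroup.closure ({m23xP, m23yP} : Set (Equiv.Perm GolayPt)) := by
    rw [MonoidHom.map_closure]
    congr 1
    rw [Set.image_insert_eq, Set.image_singleton]
    rfl
  rw [← h2] at h1
  obtain ⟨h, hh, hhg⟩ := h1
  have : h = g := Subtype.ext hhg
  rw [← this]
  exact hh

theorem orderOf_m23xG : orderOf m23xG = 23 := by
  rw [← m23xP_order]
  exact (Subgroup.orderOf_coe m23xG).symm

theorem orderOf_m23yG : orderOf m23yG = 2 := by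
  rw [← m23yP_order]
  exact (Subgroup.orderOf_coe m23yG).symm

theorem m23_units (k : ℕ) (hk : ¬ 23 ∣ k) : ∃ j : ℕ, (k * 2 ^ j) % 23 = 1 ∨ (k * 2 ^ j) % 23 = 23 - 1 := by
  have h : ∀ a : Fin 23, a.val ≠ 0 → ∃ j : Fin 11, (a.val * 2 ^ j.val) % 23 = 1 ∨ (a.val * 2 ^ j.val) % 23 = 22 := by
    decide
  have hk0 : k % 23 ≠ 0 := fun h0 => hk (Nat.dvd_of_mod_eq_zero h0)
  obtain ⟨j, hj⟩ := h ⟨k % 23, Nat.mod_lt _ (by norm_num)⟩ hk0
  refine ⟨j.val, ?_⟩
  rw [Nat.mul_mod]
  rw [Nat.mul_mod] at hj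
  simpa using hj

theorem G1_conj_x (α : MulAut ↥G1) :
    ∃ g : ↥G1, g * α m23xG * g⁻¹ = m23xG ∨ g * α m23xG * g⁻¹ = m23xG⁻¹ := by
  haveI := fact_prime_23
  have hcard : Nat.card ↥G1 = 23 * 443520 := by
    rw [card_fix24_1]
  have hn : m23nG * m23xG * m23nG⁻¹ = m23xG ^ 2 := by
    apply Subtype.ext
    rw [Subgroup.coe_pow]
    exact m23nP_norm
  exact exists_conj_pm 23 443520 hcard (by norm_num) m23xG m23nG 2 orderOf_m23xG hn m23_units (α m23xG)
    (by rw [MulEquiv.orderOf_eq]; exact orderOf_m23xG)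

/-- the table of the image of the involution under an automorphism -/
theorem G1_image_table (α : MulAut ↥G1) :
    ∃ T ∈ m23Inv, Represents ((α m23yG : ↥G1) : Equiv.Perm GolayPt) T := by
  have ho : orderOf ((α m23yG : ↥G1) : Equiv.Perm GolayPt) = 2 := by
    rw [Subgroup.orderOf_coe, MulEquiv.orderOf_eq]
    exact orderOf_m23yG
  exact G1_invol_mem_list (α m23yG).2 ho

theorem G1_words (α : MulAut ↥G1) :
    (((α m23xG : ↥G1) : Equiv.Perm GolayPt) * ((α m23yG : ↥G1) : Equiv.Perm GolayPt)) ^ 7 = 1 ∧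
    (w124G ((α m23xG : ↥G1) : Equiv.Perm GolayPt) ((α m23yG : ↥G1) : Equiv.Perm GolayPt)) ^ 3 = 1 := by
  obtain ⟨w1, w2⟩ := m23_words
  have e1 : (m23xG * m23yG) ^ 7 = 1 := by
    apply Subtype.ext
    rw [Subgroup.coe_pow]
    exact w1
  have e2 : (w124G m23xG m23yG) ^ 3 = 1 := by
    apply Subtype.ext
    rw [Subgroup.coe_pow]
    exact w2
  have f1 : (α m23xG * α m23yG) ^ 7 = 1 := by
    have := congrArg α e1
    rwa [map_pow, map_mul, map_one] at this
  have f2 : (w124G (α m23xG) (α m23yG)) ^ 3 = 1 := by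
    have := congrArg α e2
    rwa [map_pow, ← MulEquiv.coe_toMonoidHom, map_w124G, MulEquiv.coe_toMonoidHom, map_one] at this
  constructor
  · have := congrArg Subtype.val f1
    rwa [Subgroup.coe_pow] at this
  · have := congrArg Subtype.val f2
    rwa [Subgroup.coe_pow] at this

theorem G1_rigid (α : MulAut ↥G1) (hα : α m23xG = m23xG) :
    ∃ c : ↥G1, c * m23xG = m23xG * c ∧ α m23yG = c * m23yG * c⁻¹ := by
  obtain ⟨T, hTmem, hT⟩ := G1_image_table α
  obtain ⟨w1, w2⟩ := G1_words α
  rw [hα] at w1 w2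
  have q1 := powId_of_pow_eq_one (represents_compT m23xP_rep hT) w1
  have q3 := powId_of_pow_eq_one (represents_w124 m23xP_rep hT) w2
  have hfp := List.all_eq_true.mp m23_fp T hTmem
  rw [q1, q3] at hfp
  have hcont : m23Conj.contains T = true := by simpa using hfp
  have hTc : T ∈ m23Conj := by simpa using hcont
  obtain ⟨k, hk, rfl⟩ := List.mem_iff_getElem.mp hTc
  have hk23 : k < 23 := by rwa [m23Conj_length] at hk
  have hkc : k < m23XPow.length := by rw [m23XPow_length]; exact hk23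
  have hz : k < (m23XPow.zip m23Conj).length := by rw [List.length_zip]; exact lt_min hkc hk
  have hzip := List.all_eq_true.mp m23Conj_ok ((m23XPow.zip m23Conj)[k]) (List.getElem_mem hz)
  have hp2 : ((m23XPow.zip m23Conj)[k]).2 = m23Conj[k] := by
    rw [List.getElem_zip]
    rfl
  simp only [Bool.and_eq_true, beq_iff_eq] at hzip
  obtain ⟨⟨⟨hv, hcert⟩, hcx⟩, hcy⟩ := hzip
  rw [hp2] at hcy
  generalize ((m23XPow.zip m23Conj)[k]).1 = c at hv hcert hcx hcy
  have hmem : tblPerm c hv ∈ G1 :=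
    certSound_fix certSound_M24 (fixed_lt_24 (by decide)) _ hv hcert
  have hγr := tblPerm_represents c hv
  refine ⟨⟨tblPerm c hv, hmem⟩, ?_, ?_⟩
  · apply Subtype.ext
    show tblPerm c hv * m23xP = m23xP * tblPerm c hv
    have r1 := represents_compT hγr m23xP_rep
    have r2 := represents_compT m23xP_rep hγr
    rw [hcx] at r1
    exact represents_inj r1 r2
  · rw [eq_mul_inv_iff_mul_eq]
    apply Subtype.ext
    show ((α m23yG : ↥G1) : Equiv.Perm GolayPt) * tblPerm c hv = tblPerm c hv * m23yP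
    have r1 := represents_compT hT hγr
    have r2 := represents_compT hγr m23yP_rep
    have r1' : Represents (⇑(((α m23yG : ↥G1) : Equiv.Perm GolayPt) * tblPerm c hv)) (compT c m23Y) := by
      rw [← hcy]
      exact r1
    exact represents_inj r1' r2

theorem G1_no_inversion (α : MulAut ↥G1) (hα : α m23xG = m23xG⁻¹) : False := by
  obtain ⟨T, hTmem, hT⟩ := G1_image_table α
  obtain ⟨w1, w2⟩ := G1_words α
  rw [hα] at w1 w2
  have hinv : ((m23xG⁻¹ : ↥G1) : Equiv.Perm GolayPt) = m23xP⁻¹ := rfl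
  rw [hinv] at w1 w2
  have q1 := powId_of_pow_eq_one (represents_compT m23xP_inv_rep hT) w1
  have q3 := powId_of_pow_eq_one (represents_w124 m23xP_inv_rep hT) w2
  have hfp := List.all_eq_true.mp m23_fp_inv T hTmem
  rw [q1, q3] at hfp
  exact absurd hfp (by decide)

theorem G1_aut_inner (α : MulAut ↥G1) : ∃ g : ↥G1, α = MulAut.conj g :=
  aut_inner_of_rigid2 m23xG m23yG G1_closure G1_conj_x G1_rigid G1_no_inversion α

/-! ### The Mathieu group of degree 23 -/

theorem nonempty_sporM23_equiv_G1 : Nonempty (↥Spor.M23 ≃* ↥G1) := by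
  have := M24_isPretransitive
  obtain ⟨γ, hγ⟩ := MulAction.exists_smul_eq M24 (none : GolayPt) (pt 0)
  have hγ' : (γ : Equiv.Perm GolayPt) (none : GolayPt) = pt 0 := hγ
  have h1 : ∀ k : Equiv.Perm GolayPt, k ∈ Spor.M23 ↔ k ∈ fixH M24 {none} := by
    intro k
    rw [mem_fixH, Spor.M23, Subgroup.mem_inf, MulAction.mem_stabilizer_iff]
    simp only [Finset.mem_singleton, forall_eq]
    rfl
  have hF : (γ : Equiv.Perm GolayPt) • ({none} : Finset GolayPt) = ptsOf [0] := by
    rw [Finset.smul_finset_singleton, ptsOf_zero]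
    congr 1
  have h2 : ∀ k : Equiv.Perm GolayPt, k ∈ G1 ↔ (γ : Equiv.Perm GolayPt)⁻¹ * k * (γ : Equiv.Perm GolayPt) ∈ Spor.M23 := by
    intro k
    rw [h1, ← mem_fixH_M24_smul γ.2, hF]
  exact ⟨(conjSubgroupEquiv (γ : Equiv.Perm GolayPt) h2).symm⟩

/-- the outer automorphism group of the Mathieu group of degree 23 is trivial -/
theorem card_out_spor_M23 : Nat.card (Cfsg.Out ↥Spor.M23) = 1 := by
  obtain ⟨e⟩ := nonempty_sporM23_equiv_G1
  exact card_out_eq_one (inner_of_equiv e G1_aut_inner)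

end Cfsg.Agent.Helper27
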