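import Cfsg.Agent.Helper27.AutRigid
import Cfsg.Prelude.Def_KGroupFacts

/-!
An abstract criterion for the outer automorphism group to have order two, and the invariance of the order of the outer
automorphism group under isomorphisms.
-/

set_option autoImplicit false

namespace Cfsg.Agent.Helper27

open Cfsg

theorem mem_inn_iff {G : Type*} [Group G] (α : MulAut G) : α ∈ Cfsg.Inn G ↔ ∃ g : G, α = MulAut.conj g := by
  constructor
  · rintro ⟨g, rfl⟩
    exact ⟨g, rfl⟩
  · rintro ⟨g, rfl⟩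
    exact ⟨g, rfl⟩

/-- a rigid generating pair `x`, `y` and an automorphism inverting `x` which is not inner: the outer automorphism
group has order two -/
theorem card_out_eq_two {G : Type*} [Group G] (x y : G)
    (hgen : Subgroup.closure ({x, y} : Set G) = ⊤)
    (σ : MulAut G) (hσx : σ x = x⁻¹) (hσ : ¬ ∃ g : G, σ = MulAut.conj g)
    (hx : ∀ α : MulAut G, ∃ g : G, g * α x * g⁻¹ = x ∨ g * α x * g⁻¹ = x⁻¹)
    (hy : ∀ α : MulAut G, α x = x → ∃ c : G, c * x = x * c ∧ α y = c * y * c⁻¹) :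
    Nat.card (Cfsg.Out G) = 2 := by
  have hfix : ∀ β : MulAut G, β x = x → β ∈ Cfsg.Inn G := by
    intro β hβ
    obtain ⟨c, hcx, hcy⟩ := hy β hβ
    rw [mem_inn_iff]
    exact ⟨c, aut_eq_conj_of_fix x y hgen β hβ c hcx hcy⟩
  have key : ∀ α : MulAut G, α ∈ Cfsg.Inn G ∨ σ * α ∈ Cfsg.Inn G := by
    intro α
    obtain ⟨g, hg⟩ := hx α
    have hβ : (MulAut.conj g * α) x = g * α x * g⁻¹ := by
      rw [MulAut.mul_apply, MulAut.conj_apply]
    have hcg : MulAut.conj g ∈ Cfsg.Inn G := ⟨g, rfl⟩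
    rcases hg with hg | hg
    · left
      have h1 := hfix (MulAut.conj g * α) (by rw [hβ, hg])
      have h2 : α = (MulAut.conj g)⁻¹ * (MulAut.conj g * α) := by group
      rw [h2]
      exact (Cfsg.Inn G).mul_mem ((Cfsg.Inn G).inv_mem hcg) h1
    · right
      have h1 := hfix (σ * (MulAut.conj g * α)) (by
        rw [MulAut.mul_apply, hβ, hg, map_inv, hσx, inv_inv])
      have h2 : σ * α = (σ * (MulAut.conj g)⁻¹ * σ⁻¹) * (σ * (MulAut.conj g * α)) := by group
      rw [h2]
      exact (Cfsg.Inn G).mul_mem ((Cfsg.innNormal G).conj_mem _ ((Cfsg.Inn G).inv_mem hcg) σ) h1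
  have hσ' : σ ∉ Cfsg.Inn G := by
    rw [mem_inn_iff]
    exact hσ
  show (Cfsg.Inn G).index = 2
  rw [Subgroup.index_eq_two_iff]
  refine ⟨σ, ?_⟩
  intro b
  by_cases hb : b ∈ Cfsg.Inn G
  · right
    refine ⟨hb, ?_⟩
    intro hbσ
    apply hσ'
    have : σ = b⁻¹ * (b * σ) := by group
    rw [this]
    exact (Cfsg.Inn G).mul_mem ((Cfsg.Inn G).inv_mem hb) hbσ
  · left
    refine ⟨?_, hb⟩
    rcases key b with h | h
    · exact absurd h hb
    · have : b * σ = σ⁻¹ * (σ * b) * σ⁻¹⁻¹ := by group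
      rw [this]
      exact (Cfsg.innNormal G).conj_mem _ h σ⁻¹

/-- the order of the outer automorphism group is invariant under isomorphisms -/
theorem card_out_congr {G G' : Type*} [Group G] [Group G'] (e : G ≃* G') :
    Nat.card (Cfsg.Out G) = Nat.card (Cfsg.Out G') := by
  show (Cfsg.Inn G).index = (Cfsg.Inn G').index
  have hmap : (Cfsg.Inn G).map (MulAut.congr e).toMonoidHom = Cfsg.Inn G' := by
    ext β
    rw [Subgroup.mem_map]
    constructor
    · rintro ⟨α, ⟨g, rfl⟩, rfl⟩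
      refine ⟨e g, ?_⟩
      apply MulEquiv.ext
      intro z
      simp [MulAut.congr, MulAut.conj_apply]
    · rintro ⟨g', rfl⟩
      refine ⟨MulAut.conj (e.symm g'), ⟨e.symm g', rfl⟩, ?_⟩
      apply MulEquiv.ext
      intro z
      simp [MulAut.congr, MulAut.conj_apply]
  rw [← hmap]
  exact (Subgroup.index_map_of_bijective (MulAut.congr e).bijective (Cfsg.Inn G)).symm

end Cfsg.Agent.Helper27
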