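import Cfsg.Agent.Helper27.M22OutCheck
import Cfsg.Agent.Helper27.M23Out
import Cfsg.Agent.Helper27.OutTwo
import Cfsg.Agent.Helper27.M22Outer

/-!
The outer automorphism group of the Mathieu group of degree 22 has order two.
-/

set_option autoImplicit false

namespace Cfsg.Agent.Helper27

open Cfsg
open scoped Pointwise

/-- the word `x t x³ t` -/
def w13G {G : Type*} [Group G] (x t : G) : G := x * t * (x * x * x) * t

theorem map_w13G {G H : Type*} [Group G] [Group H] (f : G →* H) (x t : G) :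
    f (w13G x t) = w13G (f x) (f t) := by
  simp only [w13G, map_mul]

theorem represents_w13 {x t : Equiv.Perm GolayPt} {X T : List ℕ} (hX : Represents x X) (hT : Represents t T) :
    Represents (w13G (G := Equiv.Perm GolayPt) x t) (w13T X T) :=
  represents_compT (represents_compT (represents_compT hX hT)
    (represents_compT (represents_compT hX hX) hX)) hT

/-- a list of tables closed under conjugation by a table, as a set of permutations -/
theorem repSet_closed_of_check {L : List (List ℕ)} {N : ℕ} (hL : L.length = N) (hval : L.all validTbl = true)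
    {X : List ℕ} {x : Equiv.Perm GolayPt} (hX : Represents x X) {π : List ℕ} (hlen : π.length = N)
    (h : (L.zip π).all (fun tj => decide (tj.2 < N) && (compT X tj.1 == compT (L.getD tj.2 []) X)) = true) :
    ∀ t ∈ repSet L, x * t * x⁻¹ ∈ repSet L := by
  rintro t ⟨T, hT, hTr⟩
  obtain ⟨j, hj, rfl⟩ := List.mem_iff_getElem.mp hT
  have hjπ : j < π.length := by rw [hlen, ← hL]; exact hj
  have hz : j < (L.zip π).length := by rw [List.length_zip]; exact lt_min hj hjπ
  have hzip := List.all_eq_true.mp h ((L.zip π)[j]) (List.getElem_mem hz)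
  rw [List.getElem_zip] at hzip
  simp only [Bool.and_eq_true, decide_eq_true_eq, beq_iff_eq] at hzip
  obtain ⟨hlt, hcomp⟩ := hzip
  have hlt' : π[j] < L.length := by rw [hL]; exact hlt
  rw [List.getD_eq_getElem _ _ hlt'] at hcomp
  have hv : validTbl L[π[j]] = true := List.all_eq_true.mp hval _ (List.getElem_mem hlt')
  refine ⟨L[π[j]], List.getElem_mem hlt', ?_⟩
  have r1 := represents_compT hX hTr
  have r2 := represents_compT (tblPerm_represents _ hv) hX
  rw [hcomp] at r1
  have h3 : x * t = tblPerm _ hv * x := represents_inj r1 r2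
  have h4 : x * t * x⁻¹ = tblPerm _ hv := by rw [h3]; group
  rw [h4]
  exact tblPerm_represents _ hv

theorem fixed_iff_table {g : Equiv.Perm GolayPt} {T : List ℕ} (h : Represents g T) (q : GolayPt) :
    g q = q ↔ T.getD (idx q) 0 = idx q := by
  rw [← h.2 q]
  constructor
  · intro hq; rw [hq]
  · intro hq
    rw [← pt_idx (g q), hq, pt_idx]

theorem idx_mem_fixed_filter {g : Equiv.Perm GolayPt} {T : List ℕ} (h : Represents g T) {q : GolayPt}
    (hq : g q = q) : idx q ∈ (List.range 24).filter (fun i => T.getD i 0 == i) := by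
  rw [List.mem_filter, List.mem_range]
  exact ⟨idx_lt q, by rw [(fixed_iff_table h q).mp hq]; exact beq_self_eq_true _⟩

/-- an element commuting with `h` permutes the fixed points of `h` -/
theorem fixed_of_commute {c h : Equiv.Perm GolayPt} (hc : c * h = h * c) {q : GolayPt} (hq : h q = q) :
    h (c q) = c q := by
  have := congrArg (fun f : Equiv.Perm GolayPt => f q) hc
  simp only [Equiv.Perm.mul_apply, hq] at this
  exact this.symm

/-- the stabiliser of the first two points -/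
abbrev G2 : Subgroup (Equiv.Perm GolayPt) := fixH M24 (ptsOf [1, 0])

/-! ### The generators -/

/-- the element of order 11 -/
noncomputable def m22xP : Equiv.Perm GolayPt := tblPerm x11T x11_valid

/-- the element normalising it -/
noncomputable def m22nP : Equiv.Perm GolayPt := tblPerm m22N m22N_valid

/-- the involution inverting it -/
noncomputable def m22sP : Equiv.Perm GolayPt := tblPerm m22S m22S_valid

/-- the involution -/
noncomputable def m22yP : Equiv.Perm GolayPt := tblPerm m22Y m22Y_valid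

/-- the element fixing exactly the first three points -/
noncomputable def m22hP : Equiv.Perm GolayPt := tblPerm m22H m22H_valid

theorem m22xP_rep : Represents m22xP x11T := tblPerm_represents _ _
theorem m22nP_rep : Represents m22nP m22N := tblPerm_represents _ _
theorem m22sP_rep : Represents m22sP m22S := tblPerm_represents _ _
theorem m22yP_rep : Represents m22yP m22Y := tblPerm_represents _ _
theorem m22hP_rep : Represents m22hP m22H := tblPerm_represents _ _

theorem m22xP_mem : m22xP ∈ G2 :=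
  certSound_fix certSound_M24 (fixed_lt_24 (by decide)) x11T x11_valid m22X_cert

theorem m22nP_mem : m22nP ∈ G2 :=
  certSound_fix certSound_M24 (fixed_lt_24 (by decide)) m22N m22N_valid m22N_cert

theorem m22yP_mem : m22yP ∈ G2 :=
  certSound_fix certSound_M24 (fixed_lt_24 (by decide)) m22Y m22Y_valid m22Y_cert

theorem m22hP_mem : m22hP ∈ G2 :=
  certSound_fix certSound_M24 (fixed_lt_24 (by decide)) m22H m22H_valid m22H_cert

theorem m22sP_mem : m22sP ∈ M24 := tblPerm_mem_M24 _ _ m22S_code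

theorem m22xP_order : orderOf m22xP = 11 := x11_order

theorem m22yP_order : orderOf m22yP = 2 :=
  haveI : Fact (Nat.Prime 2) := ⟨Nat.prime_two⟩
  tblPerm_orderOf m22Y_valid m22Y_order

theorem m22xP_inv_rep : Represents (m22xP⁻¹ : Equiv.Perm GolayPt) m22Xi := by
  have h1 := represents_compT m22xP_rep (tblPerm_represents m22Xi m22Xi_valid)
  rw [m22X_inv] at h1
  have h2 : m22xP * tblPerm m22Xi m22Xi_valid = 1 := represents_inj h1 represents_one
  have h3 : m22xP⁻¹ = tblPerm m22Xi m22Xi_valid := inv_eq_of_mul_eq_one_right h2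
  rw [h3]
  exact tblPerm_represents _ _

theorem m22nP_norm : m22nP * m22xP * m22nP⁻¹ = m22xP ^ 3 := by
  have h1 := represents_compT m22nP_rep m22xP_rep
  have h2 := represents_compT (represents_compT (represents_compT m22xP_rep m22xP_rep) m22xP_rep) m22nP_rep
  rw [m22N_norm] at h1
  have h3 : m22nP * m22xP = m22xP * m22xP * m22xP * m22nP := represents_inj h1 h2
  rw [h3, pow_succ, pow_two]
  group

theorem m22sP_conj : m22sP * m22xP = m22xP⁻¹ * m22sP := by
  have h1 := represents_compT m22sP_rep m22xP_rep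
  have h2 := represents_compT m22xP_inv_rep m22sP_rep
  rw [m22S_inv] at h1
  exact represents_inj h1 h2

theorem m22sP_swap : m22sP (pt 0) = pt 1 ∧ m22sP (pt 1) = pt 0 := by
  constructor
  · have h := m22sP_rep.2 (pt 0)
    rw [idx_pt (by norm_num), m22S_swap.1] at h
    rw [← pt_idx (m22sP (pt 0)), h]
  · have h := m22sP_rep.2 (pt 1)
    rw [idx_pt (by norm_num), m22S_swap.2] at h
    rw [← pt_idx (m22sP (pt 1)), h]

theorem m22_words : (m22xP * m22yP) ^ 6 = 1 ∧ (w13G m22xP m22yP) ^ 4 = 1 := by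
  have h := m22Y_word
  simp only [Bool.and_eq_true] at h
  exact ⟨pow_eq_one_of_powId (represents_compT m22xP_rep m22yP_rep) h.1,
    pow_eq_one_of_powId (represents_w13 m22xP_rep m22yP_rep) h.2⟩

/-! ### Generation -/

theorem G2_le_closure :
    fixH M24 (ptsOf [1, 0]) ≤ Subgroup.closure ({m22xP, m22yP} : Set (Equiv.Perm GolayPt)) := by
  have hleaf : ∀ T ∈ [x11T, m22Y, idT],
      InK (Subgroup.closure ({m22xP, m22yP} : Set (Equiv.Perm GolayPt))) T := by
    intro T hT
    simp only [List.mem_cons, List.not_mem_nil, or_false] at hT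
    rcases hT with rfl | rfl | rfl
    · exact ⟨m22xP, Subgroup.subset_closure (by simp), m22xP_rep⟩
    · exact ⟨m22yP, Subgroup.subset_closure (by simp), m22yP_rep⟩
    · exact inK_idT _
  have hinK : ∀ T ∈ m22L0 ++ m22L1 ++ m22L2 ++ m22L3 ++ m22L4,
      InK (Subgroup.closure ({m22xP, m22yP} : Set (Equiv.Perm GolayPt))) T := fun T hT =>
    slpRun_inK m22Prog _ hleaf T (checkCover_sound _ _ m22_cover T hT)
  have hb : fixH M24 (ptsOf (7 :: [5, 4, 3, 2, 1, 0])) ≤
      Subgroup.closure ({m22xP, m22yP} : Set (Equiv.Perm GolayPt)) := by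
    have : fixH M24 (ptsOf (7 :: [5, 4, 3, 2, 1, 0])) = ⊥ := fixG_base_eq_bot
    rw [this]
    exact bot_le
  have h5 : fixH M24 (ptsOf (5 :: [4, 3, 2, 1, 0])) ≤
      Subgroup.closure ({m22xP, m22yP} : Set (Equiv.Perm GolayPt)) :=
    fixH_le_of_trans certSound_M24 (fixed_lt_24 (by decide)) (by norm_num) m22OK4
      (fun T hT => hinK T (by simp [hT])) hb (fun g hg => by
        have h := apply_mem_of_orbit_eq orbit_eq6 hg
        rw [m22Img4]; exact h)
  have h4 : fixH M24 (ptsOf (4 :: [3, 2, 1, 0])) ≤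
      Subgroup.closure ({m22xP, m22yP} : Set (Equiv.Perm GolayPt)) :=
    fixH_le_of_trans certSound_M24 (fixed_lt_24 (by decide)) (by norm_num) m22OK3
      (fun T hT => hinK T (by simp [hT])) h5 (fun g hg => by
        have h := apply_mem_of_orbit_eq orbit_eq5 hg
        rw [m22Img3]; exact h)
  have h3 : fixH M24 (ptsOf (3 :: [2, 1, 0])) ≤
      Subgroup.closure ({m22xP, m22yP} : Set (Equiv.Perm GolayPt)) :=
    fixH_le_of_trans certSound_M24 (fixed_lt_24 (by decide)) (by norm_num) m22OK2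
      (fun T hT => hinK T (by simp [hT])) h4 (fun g hg => by
        have h := apply_mem_of_orbit_eq orbit_eq4 hg
        rw [m22Img2]; exact h)
  have h2 : fixH M24 (ptsOf (2 :: [1, 0])) ≤
      Subgroup.closure ({m22xP, m22yP} : Set (Equiv.Perm GolayPt)) :=
    fixH_le_of_trans certSound_M24 (fixed_lt_24 (by decide)) (by norm_num) m22OK1
      (fun T hT => hinK T (by simp [hT])) h3 (fun g hg => by
        have h := apply_mem_of_orbit_eq orbit_eq3 hg
        rw [m22Img1]; exact h)
  exact fixH_le_of_trans certSound_M24 (fixed_lt_24 (by decide)) (by norm_num) m22OK0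
      (fun T hT => hinK T (by simp [hT])) h2 (fun g hg => by
        have h := apply_mem_of_orbit_eq orbit_eq2 hg
        rw [m22Img0]; exact h)

/-! ### The involutions -/

theorem ptsOf_one_zero : ptsOf [1, 0] = {pt 1, pt 0} := by simp [ptsOf]

theorem mem_G2 (g : Equiv.Perm GolayPt) : g ∈ G2 ↔ g ∈ M24 ∧ g (pt 0) = pt 0 ∧ g (pt 1) = pt 1 := by
  rw [mem_fixH, ptsOf_one_zero]
  simp only [Finset.mem_insert, Finset.mem_singleton, forall_eq_or_imp, forall_eq]
  tauto

theorem pt_zero_ne_one : pt 0 ≠ pt 1 := by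
  intro h
  have := congrArg idx h
  rw [idx_pt (by norm_num), idx_pt (by norm_num)] at this
  exact absurd this (by norm_num)

/-- the members of the first list of elements of the centraliser of `y` -/
theorem m22C_elem {q : GolayPt} (hq : m22yP q = q) :
    ∃ γ ∈ M24, γ * m22yP = m22yP * γ ∧ γ q = pt 0 := by
  have h2 : idx q ∈ m22Fix := by
    rw [← m22Y_fix]
    exact idx_mem_fixed_filter m22yP_rep hq
  obtain ⟨i, hi, hiq⟩ := List.mem_iff_getElem.mp h2
  have hi8 : i < 8 := by rwa [m22Fix_length] at hi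
  have hic : i < m22C.length := by rw [m22C_length]; exact hi8
  have hz : i < (m22Fix.zip m22C).length := by rw [List.length_zip]; exact lt_min hi hic
  have hzip := List.all_eq_true.mp m22C_ok ((m22Fix.zip m22C)[i]) (List.getElem_mem hz)
  have hp1 : ((m22Fix.zip m22C)[i]).1 = idx q := by rw [List.getElem_zip]; exact hiq
  simp only [Bool.and_eq_true, beq_iff_eq] at hzip
  obtain ⟨⟨⟨hv, hcode⟩, hcomm⟩, h0⟩ := hzip
  rw [hp1] at h0
  generalize ((m22Fix.zip m22C)[i]).2 = c at hv hcode hcomm h0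
  refine ⟨tblPerm c hv, tblPerm_mem_M24 _ hv hcode, ?_, ?_⟩
  · have r1 := represents_compT (tblPerm_represents c hv) m22yP_rep
    have r2 := represents_compT m22yP_rep (tblPerm_represents c hv)
    rw [hcomm] at r1
    exact represents_inj r1 r2
  · have h3 := (tblPerm_represents c hv).2 q
    rw [h0] at h3
    rw [← pt_idx (tblPerm c hv q), h3]

/-- the members of the second list of elements of the centraliser of `y` -/
theorem m22D_elem {q : GolayPt} (hq : m22yP q = q) (hq0 : q ≠ pt 0) :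
    ∃ δ ∈ M24, δ * m22yP = m22yP * δ ∧ δ (pt 0) = pt 0 ∧ δ q = pt 1 := by
  have h2 : idx q ∈ m22Fix1 := by
    rw [← m22Y_fix1, List.mem_filter, ← m22Y_fix]
    refine ⟨idx_mem_fixed_filter m22yP_rep hq, ?_⟩
    rw [Bool.not_eq_true', beq_eq_false_iff_ne]
    intro h
    apply hq0
    rw [← pt_idx q, h]
  obtain ⟨i, hi, hiq⟩ := List.mem_iff_getElem.mp h2
  have hi7 : i < 7 := by rwa [m22Fix1_length] at hi
  have hic : i < m22D.length := by rw [m22D_length]; exact hi7
  have hz : i < (m22Fix1.zip m22D).length := by rw [List.length_zip]; exact lt_min hi hic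
  have hzip := List.all_eq_true.mp m22D_ok ((m22Fix1.zip m22D)[i]) (List.getElem_mem hz)
  have hp1 : ((m22Fix1.zip m22D)[i]).1 = idx q := by rw [List.getElem_zip]; exact hiq
  simp only [Bool.and_eq_true, beq_iff_eq] at hzip
  obtain ⟨⟨⟨⟨hv, hcode⟩, hcomm⟩, h0⟩, h1⟩ := hzip
  rw [hp1] at h1
  generalize ((m22Fix1.zip m22D)[i]).2 = c at hv hcode hcomm h0 h1
  refine ⟨tblPerm c hv, tblPerm_mem_M24 _ hv hcode, ?_, ?_, ?_⟩
  · have r1 := represents_compT (tblPerm_represents c hv) m22yP_rep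
    have r2 := represents_compT m22yP_rep (tblPerm_represents c hv)
    rw [hcomm] at r1
    exact represents_inj r1 r2
  · rw [tblPerm_pt c hv (by norm_num), h0]
  · have h3 := (tblPerm_represents c hv).2 q
    rw [h1] at h3
    rw [← pt_idx (tblPerm c hv q), h3]

/-- the involutions of the stabiliser of the first two points are conjugate in it -/
theorem G2_invol_conj {t : Equiv.Perm GolayPt} (ht : t ∈ G2) (hord : orderOf t = 2) :
    ∃ g ∈ G2, g * t * g⁻¹ = m22yP := by
  have htm := (mem_G2 t).mp ht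
  have hym := (mem_G2 m22yP).mp m22yP_mem
  have key : ∀ {s : Equiv.Perm GolayPt}, s ∈ M24 → s (pt 0) = pt 0 → orderOf s = 2 →
      ∃ k ∈ M24, k * s * k⁻¹ = zA := by
    intro s hs hs0 hso
    rcases invol_class hs hso with ⟨h1, -⟩ | ⟨-, h2⟩
    · exact absurd hs0 (h1 (pt 0))
    · exact h2
  obtain ⟨k, hk, hkt⟩ := key htm.1 htm.2.1 hord
  obtain ⟨k', hk', hky⟩ := key hym.1 hym.2.1 m22yP_order
  have hconj : (k'⁻¹ * k) * t * (k'⁻¹ * k)⁻¹ = m22yP := by
    have : (k'⁻¹ * k) * t * (k'⁻¹ * k)⁻¹ = k'⁻¹ * (k * t * k⁻¹) * k' := by group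
    rw [this, hkt, ← hky]
    group
  have hhm : k'⁻¹ * k ∈ M24 := M24.mul_mem (M24.inv_mem hk') hk
  have hfix0 : m22yP ((k'⁻¹ * k) (pt 0)) = (k'⁻¹ * k) (pt 0) := by
    rw [← hconj, perm_conj_apply, htm.2.1]
  have hfix1 : m22yP ((k'⁻¹ * k) (pt 1)) = (k'⁻¹ * k) (pt 1) := by
    rw [← hconj, perm_conj_apply, htm.2.2]
  obtain ⟨γ, hγ, hγy, hγq⟩ := m22C_elem hfix0
  have hfix1' : m22yP (γ ((k'⁻¹ * k) (pt 1))) = γ ((k'⁻¹ * k) (pt 1)) := fixed_of_commute hγy hfix1
  have hne : γ ((k'⁻¹ * k) (pt 1)) ≠ pt 0 := by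
    rw [← hγq]
    intro h
    exact pt_zero_ne_one ((k'⁻¹ * k).injective (γ.injective h)).symm
  obtain ⟨δ, hδ, hδy, hδ0, hδq⟩ := m22D_elem hfix1' hne
  refine ⟨δ * (γ * (k'⁻¹ * k)), (mem_G2 _).mpr ⟨M24.mul_mem hδ (M24.mul_mem hγ hhm), ?_, ?_⟩, ?_⟩
  · rw [Equiv.Perm.mul_apply, Equiv.Perm.mul_apply, hγq, hδ0]
  · rw [Equiv.Perm.mul_apply, Equiv.Perm.mul_apply, hδq]
  · have : δ * (γ * (k'⁻¹ * k)) * t * (δ * (γ * (k'⁻¹ * k)))⁻¹ =
        δ * (γ * ((k'⁻¹ * k) * t * (k'⁻¹ * k)⁻¹) * γ⁻¹) * δ⁻¹ := by group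
    rw [this, hconj, hγy]
    have : δ * (m22yP * γ * γ⁻¹) * δ⁻¹ = δ * m22yP * δ⁻¹ := by group
    rw [this, hδy]
    group

/-- every involution of the stabiliser of the first two points is in the list -/
theorem G2_invol_mem_list {t : Equiv.Perm GolayPt} (ht : t ∈ G2) (hord : orderOf t = 2) :
    t ∈ repSet m22Inv := by
  obtain ⟨g, hg, hgt⟩ := G2_invol_conj ht hord
  have hy : m22yP ∈ repSet m22Inv := by
    refine ⟨m22Y, ?_, m22yP_rep⟩
    have := m22Inv_y
    simpa using this
  have hcl := conj_closed_of_gens ({m22xP, m22yP} : Set (Equiv.Perm GolayPt)) (repSet m22Inv) (by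
    intro s hs
    rw [Set.mem_insert_iff, Set.mem_singleton_iff] at hs
    rcases hs with rfl | rfl
    · exact repSet_closed_of_check m22Inv_length m22Inv_valid m22xP_rep m22PiX_length m22Inv_closed_x
    · exact repSet_closed_of_check m22Inv_length m22Inv_valid m22yP_rep m22PiY_length m22Inv_closed_y)
  have h1 := hcl g⁻¹ (G2_le_closure (G2.inv_mem hg)) m22yP hy
  have h2 : g⁻¹ * m22yP * g⁻¹⁻¹ = t := by
    rw [← hgt]
    group
  rwa [h2] at h1

/-! ### Rigidity -/

/-- the element of order 11 -/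
noncomputable def m22xG : ↥G2 := ⟨m22xP, m22xP_mem⟩

/-- the element normalising it -/
noncomputable def m22nG : ↥G2 := ⟨m22nP, m22nP_mem⟩

/-- the involution -/
noncomputable def m22yG : ↥G2 := ⟨m22yP, m22yP_mem⟩

theorem G2_closure : Subgroup.closure ({m22xG, m22yG} : Set ↥G2) = ⊤ := by
  rw [eq_top_iff]
  intro g _
  have h1 : (g : Equiv.Perm GolayPt) ∈ Subgroup.closure ({m22xP, m22yP} : Set (Equiv.Perm GolayPt)) :=
    G2_le_closure g.2
  have h2 : (Subgroup.closure ({m22xG, m22yG} : Set ↥G2)).map G2.subtype =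
      Subgroup.closure ({m22xP, m22yP} : Set (Equiv.Perm GolayPt)) := by
    rw [MonoidHom.map_closure]
    congr 1
    rw [Set.image_insert_eq, Set.image_singleton]
    rfl
  rw [← h2] at h1
  obtain ⟨h, hh, hhg⟩ := h1
  have : h = g := Subtype.ext hhg
  rw [← this]
  exact hh

theorem orderOf_m22xG : orderOf m22xG = 11 := by
  rw [← m22xP_order]
  exact (Subgroup.orderOf_coe m22xG).symm

theorem orderOf_m22yG : orderOf m22yG = 2 := by
  rw [← m22yP_order]
  exact (Subgroup.orderOf_coe m22yG).symm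

theorem m22_units (k : ℕ) (hk : ¬ 11 ∣ k) : ∃ j : ℕ, (k * 3 ^ j) % 11 = 1 ∨ (k * 3 ^ j) % 11 = 11 - 1 := by
  have h : ∀ a : Fin 11, a.val ≠ 0 → ∃ j : Fin 5, (a.val * 3 ^ j.val) % 11 = 1 ∨ (a.val * 3 ^ j.val) % 11 = 10 := by
    decide
  have hk0 : k % 11 ≠ 0 := fun h0 => hk (Nat.dvd_of_mod_eq_zero h0)
  obtain ⟨j, hj⟩ := h ⟨k % 11, Nat.mod_lt _ (by norm_num)⟩ hk0
  refine ⟨j.val, ?_⟩
  rw [Nat.mul_mod]
  rw [Nat.mul_mod] at hj
  simpa using hj

theorem G2_conj_x (α : MulAut ↥G2) :
    ∃ g : ↥G2, g * α m22xG * g⁻¹ = m22xG ∨ g * α m22xG * g⁻¹ = m22xG⁻¹ := by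
  haveI := fact_prime_11
  have hcard : Nat.card ↥G2 = 11 * 40320 := by
    rw [card_fix24_2]
  have hn : m22nG * m22xG * m22nG⁻¹ = m22xG ^ 3 := by
    apply Subtype.ext
    rw [Subgroup.coe_pow]
    exact m22nP_norm
  exact exists_conj_pm 11 40320 hcard (by norm_num) m22xG m22nG 3 orderOf_m22xG hn m22_units (α m22xG)
    (by rw [MulEquiv.orderOf_eq]; exact orderOf_m22xG)

/-- the table of the image of the involution under an automorphism -/
theorem G2_image_table (α : MulAut ↥G2) :
    ∃ T ∈ m22Inv, Represents ((α m22yG : ↥G2) : Equiv.Perm GolayPt) T := by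
  have ho : orderOf ((α m22yG : ↥G2) : Equiv.Perm GolayPt) = 2 := by
    rw [Subgroup.orderOf_coe, MulEquiv.orderOf_eq]
    exact orderOf_m22yG
  exact G2_invol_mem_list (α m22yG).2 ho

theorem G2_words (α : MulAut ↥G2) :
    (((α m22xG : ↥G2) : Equiv.Perm GolayPt) * ((α m22yG : ↥G2) : Equiv.Perm GolayPt)) ^ 6 = 1 ∧
    (w13G ((α m22xG : ↥G2) : Equiv.Perm GolayPt) ((α m22yG : ↥G2) : Equiv.Perm GolayPt)) ^ 4 = 1 := by
  obtain ⟨w1, w2⟩ := m22_words
  have e1 : (m22xG * m22yG) ^ 6 = 1 := by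
    apply Subtype.ext
    rw [Subgroup.coe_pow]
    exact w1
  have e2 : (w13G m22xG m22yG) ^ 4 = 1 := by
    apply Subtype.ext
    rw [Subgroup.coe_pow]
    exact w2
  have f1 : (α m22xG * α m22yG) ^ 6 = 1 := by
    have := congrArg α e1
    rwa [map_pow, map_mul, map_one] at this
  have f2 : (w13G (α m22xG) (α m22yG)) ^ 4 = 1 := by
    have := congrArg α e2
    rwa [map_pow, ← MulEquiv.coe_toMonoidHom, map_w13G, MulEquiv.coe_toMonoidHom, map_one] at this
  constructor
  · have := congrArg Subtype.val f1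
    rwa [Subgroup.coe_pow] at this
  · have := congrArg Subtype.val f2
    rwa [Subgroup.coe_pow] at this

theorem G2_rigid (α : MulAut ↥G2) (hα : α m22xG = m22xG) :
    ∃ c : ↥G2, c * m22xG = m22xG * c ∧ α m22yG = c * m22yG * c⁻¹ := by
  obtain ⟨T, hTmem, hT⟩ := G2_image_table α
  obtain ⟨w1, w2⟩ := G2_words α
  rw [hα] at w1 w2
  have q1 := powId_of_pow_eq_one (represents_compT m22xP_rep hT) w1
  have q2 := powId_of_pow_eq_one (represents_w13 m22xP_rep hT) w2
  have hfp := List.all_eq_true.mp m22_fp T hTmem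
  rw [q1, q2] at hfp
  have hcont : m22Conj.contains T = true := by simpa using hfp
  have hTc : T ∈ m22Conj := by simpa using hcont
  obtain ⟨k, hk, rfl⟩ := List.mem_iff_getElem.mp hTc
  have hk11 : k < 11 := by rwa [m22Conj_length] at hk
  have hkc : k < m22XPow.length := by rw [m22XPow_length]; exact hk11
  have hz : k < (m22XPow.zip m22Conj).length := by rw [List.length_zip]; exact lt_min hkc hk
  have hzip := List.all_eq_true.mp m22Conj_ok ((m22XPow.zip m22Conj)[k]) (List.getElem_mem hz)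
  have hp2 : ((m22XPow.zip m22Conj)[k]).2 = m22Conj[k] := by
    rw [List.getElem_zip]
    rfl
  simp only [Bool.and_eq_true, beq_iff_eq] at hzip
  obtain ⟨⟨⟨hv, hcert⟩, hcx⟩, hcy⟩ := hzip
  rw [hp2] at hcy
  generalize ((m22XPow.zip m22Conj)[k]).1 = c at hv hcert hcx hcy
  have hmem : tblPerm c hv ∈ G2 :=
    certSound_fix certSound_M24 (fixed_lt_24 (by decide)) _ hv hcert
  have hγr := tblPerm_represents c hv
  refine ⟨⟨tblPerm c hv, hmem⟩, ?_, ?_⟩
  · apply Subtype.ext
    show tblPerm c hv * m22xP = m22xP * tblPerm c hv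
    have r1 := represents_compT hγr m22xP_rep
    have r2 := represents_compT m22xP_rep hγr
    rw [hcx] at r1
    exact represents_inj r1 r2
  · rw [eq_mul_inv_iff_mul_eq]
    apply Subtype.ext
    show ((α m22yG : ↥G2) : Equiv.Perm GolayPt) * tblPerm c hv = tblPerm c hv * m22yP
    have r1 := represents_compT hT hγr
    have r2 := represents_compT hγr m22yP_rep
    have r1' : Represents (⇑(((α m22yG : ↥G2) : Equiv.Perm GolayPt) * tblPerm c hv)) (compT c m22Y) := by
      rw [← hcy]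
      exact r1
    exact represents_inj r1' r2

/-! ### The outer automorphism -/

theorem m22sP_normalizes (k : Equiv.Perm GolayPt) : k ∈ G2 ↔ m22sP⁻¹ * k * m22sP ∈ G2 := by
  obtain ⟨s0, s1⟩ := m22sP_swap
  have i0 : m22sP⁻¹ (pt 1) = pt 0 := by rw [Equiv.Perm.inv_eq_iff_eq, s0]
  have i1 : m22sP⁻¹ (pt 0) = pt 1 := by rw [Equiv.Perm.inv_eq_iff_eq, s1]
  rw [mem_G2, mem_G2]
  constructor
  · rintro ⟨hk, h0, h1⟩
    refine ⟨M24.mul_mem (M24.mul_mem (M24.inv_mem m22sP_mem) hk) m22sP_mem, ?_, ?_⟩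
    · rw [Equiv.Perm.mul_apply, Equiv.Perm.mul_apply, s0, h1, i0]
    · rw [Equiv.Perm.mul_apply, Equiv.Perm.mul_apply, s1, h0, i1]
  · rintro ⟨hk, h0, h1⟩
    have hk' : k = m22sP * (m22sP⁻¹ * k * m22sP) * m22sP⁻¹ := by group
    refine ⟨?_, ?_, ?_⟩
    · rw [hk']
      exact M24.mul_mem (M24.mul_mem m22sP_mem hk) (M24.inv_mem m22sP_mem)
    · rw [hk', Equiv.Perm.mul_apply, Equiv.Perm.mul_apply, i1, h1, s1]
    · rw [hk', Equiv.Perm.mul_apply, Equiv.Perm.mul_apply, i0, h0, s0]

/-- the automorphism induced by the involution interchanging the two points -/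
noncomputable def m22σ : MulAut ↥G2 := conjSubgroupEquiv m22sP m22sP_normalizes

theorem m22σ_apply (k : ↥G2) : ((m22σ k : ↥G2) : Equiv.Perm GolayPt) = m22sP⁻¹ * k * m22sP := rfl

theorem m22σ_x : m22σ m22xG = m22xG⁻¹ := by
  apply Subtype.ext
  rw [m22σ_apply]
  show m22sP⁻¹ * m22xP * m22sP = m22xP⁻¹
  have h := m22sP_conj
  have h2 : m22xP * m22sP = m22sP * m22xP⁻¹ := by
    have : m22sP * m22xP⁻¹ = m22xP * (m22xP⁻¹ * m22sP) * m22xP⁻¹ := by group
    rw [this, ← h]
    group
  rw [mul_assoc, h2]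
  group

theorem m22σ_not_inner : ¬ ∃ g : ↥G2, m22σ = MulAut.conj g := by
  rintro ⟨g, hg⟩
  have hcomm : ∀ k ∈ G2, (m22sP * (g : Equiv.Perm GolayPt)) * k = k * (m22sP * (g : Equiv.Perm GolayPt)) := by
    intro k hk
    have h1 := congrArg (fun β : MulAut ↥G2 => ((β ⟨k, hk⟩ : ↥G2) : Equiv.Perm GolayPt)) hg
    simp only [m22σ_apply, MulAut.conj_apply, Subgroup.coe_mul, Subgroup.coe_inv] at h1
    have h2 : k * m22sP = m22sP * ((g : Equiv.Perm GolayPt) * k * (g : Equiv.Perm GolayPt)⁻¹) := by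
      rw [← h1]
      group
    have h3 : k * (m22sP * (g : Equiv.Perm GolayPt)) = (k * m22sP) * (g : Equiv.Perm GolayPt) := by group
    rw [h3, h2]
    group
  have hg2 := (mem_G2 _).mp g.2
  obtain ⟨s0, s1⟩ := m22sP_swap
  have hc0 : (m22sP * (g : Equiv.Perm GolayPt)) (pt 0) = pt 1 := by
    rw [Equiv.Perm.mul_apply, hg2.2.1, s0]
  have hc1 : (m22sP * (g : Equiv.Perm GolayPt)) (pt 1) = pt 0 := by
    rw [Equiv.Perm.mul_apply, hg2.2.2, s1]
  -- the fixed points of `h` are preserved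
  have hh2 : m22hP (pt 2) = pt 2 := by
    rw [m22hP, tblPerm_pt _ _ (by norm_num)]
    have : m22H.getD 2 0 = 2 := by decide
    rw [this]
  have hfix := fixed_of_commute (hcomm m22hP m22hP_mem) hh2
  have hmem := idx_mem_fixed_filter m22hP_rep hfix
  rw [m22H_fix] at hmem
  have hc2 : (m22sP * (g : Equiv.Perm GolayPt)) (pt 2) = pt 2 := by
    have hcases : idx ((m22sP * (g : Equiv.Perm GolayPt)) (pt 2)) = 0 ∨
        idx ((m22sP * (g : Equiv.Perm GolayPt)) (pt 2)) = 1 ∨
        idx ((m22sP * (g : Equiv.Perm GolayPt)) (pt 2)) = 2 := by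
      simpa using hmem
    rcases hcases with h | h | h
    · exfalso
      have : (m22sP * (g : Equiv.Perm GolayPt)) (pt 2) = (m22sP * (g : Equiv.Perm GolayPt)) (pt 1) := by
        rw [hc1, ← pt_idx ((m22sP * (g : Equiv.Perm GolayPt)) (pt 2)), h]
      have := congrArg idx ((m22sP * (g : Equiv.Perm GolayPt)).injective this)
      rw [idx_pt (by norm_num), idx_pt (by norm_num)] at this
      exact absurd this (by norm_num)
    · exfalso
      have : (m22sP * (g : Equiv.Perm GolayPt)) (pt 2) = (m22sP * (g : Equiv.Perm GolayPt)) (pt 0) := by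
        rw [hc0, ← pt_idx ((m22sP * (g : Equiv.Perm GolayPt)) (pt 2)), h]
      have := congrArg idx ((m22sP * (g : Equiv.Perm GolayPt)).injective this)
      rw [idx_pt (by norm_num), idx_pt (by norm_num)] at this
      exact absurd this (by norm_num)
    · rw [← pt_idx ((m22sP * (g : Equiv.Perm GolayPt)) (pt 2)), h]
  have hcM : m22sP * (g : Equiv.Perm GolayPt) ∈ M24 := M24.mul_mem m22sP_mem hg2.1
  have hone := x11_semireg (le_refl M24) _ hcM (hcomm m22xP m22xP_mem) hc2
  rw [hone, Equiv.Perm.one_apply] at hc0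
  exact pt_zero_ne_one hc0

/-- the outer automorphism group of the stabiliser of the first two points has order two -/
theorem card_out_G2 : Nat.card (Cfsg.Out ↥G2) = 2 :=
  card_out_eq_two m22xG m22yG G2_closure m22σ m22σ_x m22σ_not_inner G2_conj_x G2_rigid

/-! ### The Mathieu group of degree 22 -/

theorem nonempty_sporM22_equiv_G2 : Nonempty (↥Spor.M22 ≃* ↥G2) := by
  have h2 : MulAction.IsMultiplyPretransitive M24 GolayPt 2 := M24_isMultiplyPretransitive_of_le (by norm_num)
  rw [MulAction.is_two_pretransitive_iff] at h2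
  have hne : (none : GolayPt) ≠ some 0 := by decide
  obtain ⟨γ, hγ0, hγ1⟩ := h2 hne pt_zero_ne_one
  have e0 : (γ : Equiv.Perm GolayPt) none = pt 0 := hγ0
  have e1 : (γ : Equiv.Perm GolayPt) (some 0) = pt 1 := hγ1
  have i0 : (γ : Equiv.Perm GolayPt)⁻¹ (pt 0) = none := by rw [Equiv.Perm.inv_eq_iff_eq, e0]
  have i1 : (γ : Equiv.Perm GolayPt)⁻¹ (pt 1) = some 0 := by rw [Equiv.Perm.inv_eq_iff_eq, e1]
  have hmem : ∀ k : Equiv.Perm GolayPt, k ∈ G2 ↔
      (γ : Equiv.Perm GolayPt)⁻¹ * k * (γ : Equiv.Perm GolayPt) ∈ Spor.M22 := by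
    intro k
    rw [mem_G2, mem_spor_M22]
    constructor
    · rintro ⟨hk, h0, h1⟩
      refine ⟨M24.mul_mem (M24.mul_mem (M24.inv_mem γ.2) hk) γ.2, ?_, ?_⟩
      · rw [Equiv.Perm.mul_apply, Equiv.Perm.mul_apply, e0, h0, i0]
      · rw [Equiv.Perm.mul_apply, Equiv.Perm.mul_apply, e1, h1, i1]
    · rintro ⟨hk, h0, h1⟩
      have hk' : k = (γ : Equiv.Perm GolayPt) * ((γ : Equiv.Perm GolayPt)⁻¹ * k * (γ : Equiv.Perm GolayPt)) *
          (γ : Equiv.Perm GolayPt)⁻¹ := by group
      refine ⟨?_, ?_, ?_⟩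
      · rw [hk']
        exact M24.mul_mem (M24.mul_mem γ.2 hk) (M24.inv_mem γ.2)
      · rw [hk', Equiv.Perm.mul_apply, Equiv.Perm.mul_apply, i0, h0, e0]
      · rw [hk', Equiv.Perm.mul_apply, Equiv.Perm.mul_apply, i1, h1, e1]
  exact ⟨(conjSubgroupEquiv (γ : Equiv.Perm GolayPt) hmem).symm⟩

/-- the outer automorphism group of the Mathieu group of degree 22 has order two -/
theorem card_out_spor_M22 : Nat.card (Cfsg.Out ↥Spor.M22) = 2 := by
  obtain ⟨e⟩ := nonempty_sporM22_equiv_G2
  rw [card_out_congr e]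
  exact card_out_G2

end Cfsg.Agent.Helper27
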