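import Cfsg.Agent.Helper27.M12OutEnumAll
import Cfsg.Agent.Helper27.M22Out

/-!
The outer automorphism group of the Mathieu group of degree 12 has order two.
-/

set_option autoImplicit false

namespace Cfsg.Agent.Helper27

open Cfsg
open scoped Pointwise

/-- the word `x t x² t` -/
def w12G {G : Type*} [Group G] (x t : G) : G := x * t * (x * x) * t

theorem map_w12G {G H : Type*} [Group G] [Group H] (f : G →* H) (x t : G) :
    f (w12G x t) = w12G (f x) (f t) := by
  simp only [w12G, map_mul]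

theorem represents_w12 {x t : Equiv.Perm GolayPt} {X T : List ℕ} (hX : Represents x X) (hT : Represents t T) :
    Represents (w12G (G := Equiv.Perm GolayPt) x t) (w12T X T) :=
  represents_compT (represents_compT (represents_compT hX hT) (represents_compT hX hX)) hT

theorem smul_eq_of_forall {k : Equiv.Perm GolayPt} {X : Finset GolayPt} (h : ∀ q, k q ∈ X ↔ q ∈ X) :
    k • X = X := by
  ext p
  rw [mem_smul_perm_iff]
  have := h (k⁻¹ p)
  rw [perm_apply_inv_self] at this
  exact this.symm

/-! ### The generators -/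

/-- the element of order 11 -/
noncomputable def m12xP : Equiv.Perm GolayPt := tblPerm y11T y11_valid

/-- the element normalising it -/
noncomputable def m12nP : Equiv.Perm GolayPt := tblPerm m12N m12N_valid

/-- the involution inverting it -/
noncomputable def m12sP : Equiv.Perm GolayPt := tblPerm m12S m12S_valid

/-- the involution -/
noncomputable def m12yP : Equiv.Perm GolayPt := tblPerm m12Y m12Y_valid

/-- the element whose fixed points are four points of the dodecad -/
noncomputable def m12hP : Equiv.Perm GolayPt := tblPerm m12H m12H_valid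

theorem m12xP_rep : Represents m12xP y11T := tblPerm_represents _ _
theorem m12nP_rep : Represents m12nP m12N := tblPerm_represents _ _
theorem m12sP_rep : Represents m12sP m12S := tblPerm_represents _ _
theorem m12yP_rep : Represents m12yP m12Y := tblPerm_represents _ _
theorem m12hP_rep : Represents m12hP m12H := tblPerm_represents _ _

theorem m12xP_mem : m12xP ∈ H12 := certSound12 y11T y11_valid m12X_cert
theorem m12nP_mem : m12nP ∈ H12 := certSound12 m12N m12N_valid m12N_cert
theorem m12yP_mem : m12yP ∈ H12 := certSound12 m12Y m12Y_valid m12Y_cert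
theorem m12hP_mem : m12hP ∈ H12 := certSound12 m12H m12H_valid m12H_cert
theorem m12sP_mem : m12sP ∈ M24 := tblPerm_mem_M24 _ _ m12S_code

theorem m12xP_order : orderOf m12xP = 11 := y11_order

theorem m12yP_order : orderOf m12yP = 2 :=
  haveI : Fact (Nat.Prime 2) := ⟨Nat.prime_two⟩
  tblPerm_orderOf m12Y_valid m12Y_order

theorem m12xP_inv_rep : Represents (m12xP⁻¹ : Equiv.Perm GolayPt) m12Xi := by
  have h1 := represents_compT m12xP_rep (tblPerm_represents m12Xi m12Xi_valid)
  rw [m12X_inv] at h1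
  have h2 : m12xP * tblPerm m12Xi m12Xi_valid = 1 := represents_inj h1 represents_one
  have h3 : m12xP⁻¹ = tblPerm m12Xi m12Xi_valid := inv_eq_of_mul_eq_one_right h2
  rw [h3]
  exact tblPerm_represents _ _

theorem m12nP_norm : m12nP * m12xP * m12nP⁻¹ = m12xP ^ 3 := by
  have h1 := represents_compT m12nP_rep m12xP_rep
  have h2 := represents_compT (represents_compT (represents_compT m12xP_rep m12xP_rep) m12xP_rep) m12nP_rep
  rw [m12N_norm] at h1
  have h3 : m12nP * m12xP = m12xP * m12xP * m12xP * m12nP := represents_inj h1 h2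
  rw [h3, pow_succ, pow_two]
  group

theorem m12sP_conj : m12sP * m12xP = m12xP⁻¹ * m12sP := by
  have h1 := represents_compT m12sP_rep m12xP_rep
  have h2 := represents_compT m12xP_inv_rep m12sP_rep
  rw [m12S_inv] at h1
  exact represents_inj h1 h2

/-- `s` interchanges the standard dodecad and its complement -/
theorem m12sP_compl (q : GolayPt) : m12sP q ∈ maskSet dod0 ↔ q ∉ maskSet dod0 := by
  rw [mem_maskSet, mem_maskSet, m12sP_rep.2 q]
  have h := List.all_eq_true.mp m12S_compl (idx q) (List.mem_range.mpr (idx_lt q))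
  rw [beq_iff_eq] at h
  rw [h]
  cases dod0.testBit (idx q) <;> simp

theorem m12_words : (m12xP * m12yP) ^ 6 = 1 ∧ (w12G m12xP m12yP) ^ 3 = 1 := by
  have h := m12Y_word
  simp only [Bool.and_eq_true] at h
  exact ⟨pow_eq_one_of_powId (represents_compT m12xP_rep m12yP_rep) h.1,
    pow_eq_one_of_powId (represents_w12 m12xP_rep m12yP_rep) h.2⟩

/-! ### Generation -/

theorem H12_le_closure : H12 ≤ Subgroup.closure ({m12xP, m12yP} : Set (Equiv.Perm GolayPt)) := by
  have hleaf : ∀ T ∈ [y11T, m12Y, idT],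
      InK (Subgroup.closure ({m12xP, m12yP} : Set (Equiv.Perm GolayPt))) T := by
    intro T hT
    simp only [List.mem_cons, List.not_mem_nil, or_false] at hT
    rcases hT with rfl | rfl | rfl
    · exact ⟨m12xP, Subgroup.subset_closure (by simp), m12xP_rep⟩
    · exact ⟨m12yP, Subgroup.subset_closure (by simp), m12yP_rep⟩
    · exact inK_idT _
  have hinK : ∀ T ∈ m12gL0 ++ m12gL1 ++ m12gL2 ++ m12gL3 ++ m12gL4,
      InK (Subgroup.closure ({m12xP, m12yP} : Set (Equiv.Perm GolayPt))) T := fun T hT =>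
    slpRun_inK m12Prog _ hleaf T (checkCover_sound _ _ m12_cover T hT)
  have hb : fixH H12 (ptsOf (6 :: [4, 3, 2, 0])) ≤
      Subgroup.closure ({m12xP, m12yP} : Set (Equiv.Perm GolayPt)) := by
    have : fixH H12 (ptsOf (6 :: [4, 3, 2, 0])) = ⊥ := fixH12_base_eq_bot
    rw [this]
    exact bot_le
  have h4 : fixH H12 (ptsOf (4 :: [3, 2, 0])) ≤
      Subgroup.closure ({m12xP, m12yP} : Set (Equiv.Perm GolayPt)) :=
    fixH_le_of_trans certSound12 (fixed_lt_24 (by decide)) (by norm_num) m12gOK4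
      (fun T hT => hinK T (by simp [hT])) hb (fun g hg => by
        have h := apply_mem_of_orbit_eq orbit12_eq4 hg
        rw [m12gImg4]; exact h)
  have h3 : fixH H12 (ptsOf (3 :: [2, 0])) ≤
      Subgroup.closure ({m12xP, m12yP} : Set (Equiv.Perm GolayPt)) :=
    fixH_le_of_trans certSound12 (fixed_lt_24 (by decide)) (by norm_num) m12gOK3
      (fun T hT => hinK T (by simp [hT])) h4 (fun g hg => by
        have h := apply_mem_of_orbit_eq orbit12_eq3 hg
        rw [m12gImg3]; exact h)
  have h2 : fixH H12 (ptsOf (2 :: [0])) ≤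
      Subgroup.closure ({m12xP, m12yP} : Set (Equiv.Perm GolayPt)) :=
    fixH_le_of_trans certSound12 (fixed_lt_24 (by decide)) (by norm_num) m12gOK2
      (fun T hT => hinK T (by simp [hT])) h3 (fun g hg => by
        have h := apply_mem_of_orbit_eq orbit12_eq2 hg
        rw [m12gImg2]; exact h)
  have h1 : fixH H12 (ptsOf (0 :: [])) ≤
      Subgroup.closure ({m12xP, m12yP} : Set (Equiv.Perm GolayPt)) :=
    fixH_le_of_trans certSound12 (fixed_lt_24 (by decide)) (by norm_num) m12gOK1
      (fun T hT => hinK T (by simp [hT])) h2 (fun g hg => by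
        have h := apply_mem_of_orbit_eq orbit12_eq1 hg
        rw [m12gImg1]; exact h)
  have h0 : fixH H12 (ptsOf []) ≤
      Subgroup.closure ({m12xP, m12yP} : Set (Equiv.Perm GolayPt)) :=
    fixH_le_of_trans certSound12 (fixed_lt_24 (by decide)) (by norm_num) m12gOK0
      (fun T hT => hinK T (by simp [hT])) h1 (fun g hg => by
        have h := apply_mem_of_orbit_eq orbit12_eq0 hg
        rw [m12gImg0]; exact h)
  rw [ptsOf_nil, fixH_empty] at h0
  exact h0

/-! ### Rigidity -/

/-- the element of order 11 -/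
noncomputable def m12xG : ↥H12 := ⟨m12xP, m12xP_mem⟩

/-- the element normalising it -/
noncomputable def m12nG : ↥H12 := ⟨m12nP, m12nP_mem⟩

/-- the involution -/
noncomputable def m12yG : ↥H12 := ⟨m12yP, m12yP_mem⟩

theorem H12_closure : Subgroup.closure ({m12xG, m12yG} : Set ↥H12) = ⊤ := by
  rw [eq_top_iff]
  intro g _
  have h1 : (g : Equiv.Perm GolayPt) ∈ Subgroup.closure ({m12xP, m12yP} : Set (Equiv.Perm GolayPt)) :=
    H12_le_closure g.2
  have h2 : (Subgroup.closure ({m12xG, m12yG} : Set ↥H12)).map H12.subtype =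
      Subgroup.closure ({m12xP, m12yP} : Set (Equiv.Perm GolayPt)) := by
    rw [MonoidHom.map_closure]
    congr 1
    rw [Set.image_insert_eq, Set.image_singleton]
    rfl
  rw [← h2] at h1
  obtain ⟨h, hh, hhg⟩ := h1
  have : h = g := Subtype.ext hhg
  rw [← this]
  exact hh

theorem orderOf_m12xG : orderOf m12xG = 11 := by
  rw [← m12xP_order]
  exact (Subgroup.orderOf_coe m12xG).symm

theorem orderOf_m12yG : orderOf m12yG = 2 := by
  rw [← m12yP_order]
  exact (Subgroup.orderOf_coe m12yG).symm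

theorem card_H12 : Nat.card ↥H12 = 95040 := by
  have h := card_fix12_0
  rwa [ptsOf_nil, fixH_empty] at h

theorem H12_conj_x (α : MulAut ↥H12) :
    ∃ g : ↥H12, g * α m12xG * g⁻¹ = m12xG ∨ g * α m12xG * g⁻¹ = m12xG⁻¹ := by
  haveI := fact_prime_11
  have hcard : Nat.card ↥H12 = 11 * 8640 := by
    rw [card_H12]
  have hn : m12nG * m12xG * m12nG⁻¹ = m12xG ^ 3 := by
    apply Subtype.ext
    rw [Subgroup.coe_pow]
    exact m12nP_norm
  exact exists_conj_pm 11 8640 hcard (by norm_num) m12xG m12nG 3 orderOf_m12xG hn m22_units (α m12xG)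
    (by rw [MulEquiv.orderOf_eq]; exact orderOf_m12xG)

theorem H12_words (α : MulAut ↥H12) :
    (((α m12xG : ↥H12) : Equiv.Perm GolayPt) * ((α m12yG : ↥H12) : Equiv.Perm GolayPt)) ^ 6 = 1 ∧
    (w12G ((α m12xG : ↥H12) : Equiv.Perm GolayPt) ((α m12yG : ↥H12) : Equiv.Perm GolayPt)) ^ 3 = 1 := by
  obtain ⟨w1, w2⟩ := m12_words
  have e1 : (m12xG * m12yG) ^ 6 = 1 := by
    apply Subtype.ext
    rw [Subgroup.coe_pow]
    exact w1
  have e2 : (w12G m12xG m12yG) ^ 3 = 1 := by
    apply Subtype.ext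
    rw [Subgroup.coe_pow]
    exact w2
  have f1 : (α m12xG * α m12yG) ^ 6 = 1 := by
    have := congrArg α e1
    rwa [map_pow, map_mul, map_one] at this
  have f2 : (w12G (α m12xG) (α m12yG)) ^ 3 = 1 := by
    have := congrArg α e2
    rwa [map_pow, ← MulEquiv.coe_toMonoidHom, map_w12G, MulEquiv.coe_toMonoidHom, map_one] at this
  constructor
  · have := congrArg Subtype.val f1
    rwa [Subgroup.coe_pow] at this
  · have := congrArg Subtype.val f2
    rwa [Subgroup.coe_pow] at this

theorem H12_rigid (α : MulAut ↥H12) (hα : α m12xG = m12xG) :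
    ∃ c : ↥H12, c * m12xG = m12xG * c ∧ α m12yG = c * m12yG * c⁻¹ := by
  obtain ⟨T, hT, hP⟩ := m12_enum m12P m12_enum_check (α m12yG).2
  obtain ⟨w1, w2⟩ := H12_words α
  rw [hα] at w1 w2
  have hsq : ((α m12yG : ↥H12) : Equiv.Perm GolayPt) * ((α m12yG : ↥H12) : Equiv.Perm GolayPt) = 1 := by
    have ho : orderOf ((α m12yG : ↥H12) : Equiv.Perm GolayPt) = 2 := by
      rw [Subgroup.orderOf_coe, MulEquiv.orderOf_eq]
      exact orderOf_m12yG
    exact sq_eq_one_of_orderOf ho
  have q0 := tblInvol_of_sq hT hsq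
  have q1 := powId_of_pow_eq_one (represents_compT m12xP_rep hT) w1
  have q2 := powId_of_pow_eq_one (represents_w12 m12xP_rep hT) w2
  rw [m12P, q0, q1, q2] at hP
  have hcont : m12Conj.contains T = true := by simpa using hP
  have hTc : T ∈ m12Conj := by simpa using hcont
  obtain ⟨k, hk, rfl⟩ := List.mem_iff_getElem.mp hTc
  have hk11 : k < 11 := by rwa [m12Conj_length] at hk
  have hkc : k < m12XPow.length := by rw [m12XPow_length]; exact hk11
  have hz : k < (m12XPow.zip m12Conj).length := by rw [List.length_zip]; exact lt_min hkc hk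
  have hzip := List.all_eq_true.mp m12Conj_ok ((m12XPow.zip m12Conj)[k]) (List.getElem_mem hz)
  have hp2 : ((m12XPow.zip m12Conj)[k]).2 = m12Conj[k] := by
    rw [List.getElem_zip]
    rfl
  simp only [Bool.and_eq_true, beq_iff_eq] at hzip
  obtain ⟨⟨⟨hv, hcert⟩, hcx⟩, hcy⟩ := hzip
  rw [hp2] at hcy
  generalize ((m12XPow.zip m12Conj)[k]).1 = c at hv hcert hcx hcy
  have hmem : tblPerm c hv ∈ H12 := certSound12 _ hv hcert
  have hγr := tblPerm_represents c hv
  refine ⟨⟨tblPerm c hv, hmem⟩, ?_, ?_⟩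
  · apply Subtype.ext
    show tblPerm c hv * m12xP = m12xP * tblPerm c hv
    have r1 := represents_compT hγr m12xP_rep
    have r2 := represents_compT m12xP_rep hγr
    rw [hcx] at r1
    exact represents_inj r1 r2
  · rw [eq_mul_inv_iff_mul_eq]
    apply Subtype.ext
    show ((α m12yG : ↥H12) : Equiv.Perm GolayPt) * tblPerm c hv = tblPerm c hv * m12yP
    have r1 := represents_compT hT hγr
    have r2 := represents_compT hγr m12yP_rep
    have r1' : Represents (⇑(((α m12yG : ↥H12) : Equiv.Perm GolayPt) * tblPerm c hv)) (compT c m12Y) := by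
      rw [← hcy]
      exact r1
    exact represents_inj r1' r2

/-! ### The outer automorphism -/

theorem mem_H12_iff (k : Equiv.Perm GolayPt) :
    k ∈ H12 ↔ k ∈ M24 ∧ ∀ q, k q ∈ maskSet dod0 ↔ q ∈ maskSet dod0 := by
  rw [mem_stabP]
  constructor
  · rintro ⟨h1, h2⟩
    exact ⟨h1, invSet_apply_mem_iff h2⟩
  · rintro ⟨h1, h2⟩
    exact ⟨h1, smul_eq_of_forall h2⟩

theorem m12sP_inv_compl (q : GolayPt) : m12sP⁻¹ q ∈ maskSet dod0 ↔ q ∉ maskSet dod0 := by
  have h := m12sP_compl (m12sP⁻¹ q)
  rw [perm_apply_inv_self] at h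
  constructor
  · intro h1 h2
    exact (h.mp h2) h1
  · intro h1
    by_contra h2
    exact h1 (h.mpr h2)

theorem m12sP_normalizes (k : Equiv.Perm GolayPt) : k ∈ H12 ↔ m12sP⁻¹ * k * m12sP ∈ H12 := by
  rw [mem_H12_iff, mem_H12_iff]
  constructor
  · rintro ⟨hk, hq⟩
    refine ⟨M24.mul_mem (M24.mul_mem (M24.inv_mem m12sP_mem) hk) m12sP_mem, ?_⟩
    intro q
    rw [Equiv.Perm.mul_apply, Equiv.Perm.mul_apply, m12sP_inv_compl, hq, m12sP_compl, not_not]
  · rintro ⟨hk, hq⟩
    have hk' : k = m12sP * (m12sP⁻¹ * k * m12sP) * m12sP⁻¹ := by group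
    refine ⟨?_, ?_⟩
    · rw [hk']
      exact M24.mul_mem (M24.mul_mem m12sP_mem hk) (M24.inv_mem m12sP_mem)
    · intro q
      rw [hk', Equiv.Perm.mul_apply, Equiv.Perm.mul_apply, m12sP_compl, hq, m12sP_inv_compl, not_not]

/-- the automorphism induced by the involution interchanging the dodecad and its complement -/
noncomputable def m12σ : MulAut ↥H12 := conjSubgroupEquiv m12sP m12sP_normalizes

theorem m12σ_apply (k : ↥H12) : ((m12σ k : ↥H12) : Equiv.Perm GolayPt) = m12sP⁻¹ * k * m12sP := rfl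

theorem m12σ_x : m12σ m12xG = m12xG⁻¹ := by
  apply Subtype.ext
  rw [m12σ_apply]
  show m12sP⁻¹ * m12xP * m12sP = m12xP⁻¹
  have h := m12sP_conj
  have h2 : m12xP * m12sP = m12sP * m12xP⁻¹ := by
    have : m12sP * m12xP⁻¹ = m12xP * (m12xP⁻¹ * m12sP) * m12xP⁻¹ := by group
    rw [this, ← h]
    group
  rw [mul_assoc, h2]
  group

theorem m12σ_not_inner : ¬ ∃ g : ↥H12, m12σ = MulAut.conj g := by
  rintro ⟨g, hg⟩
  have hcomm : ∀ k ∈ H12, (m12sP * (g : Equiv.Perm GolayPt)) * k = k * (m12sP * (g : Equiv.Perm GolayPt)) := by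
    intro k hk
    have h1 := congrArg (fun β : MulAut ↥H12 => ((β ⟨k, hk⟩ : ↥H12) : Equiv.Perm GolayPt)) hg
    simp only [m12σ_apply, MulAut.conj_apply, Subgroup.coe_mul, Subgroup.coe_inv] at h1
    have h2 : k * m12sP = m12sP * ((g : Equiv.Perm GolayPt) * k * (g : Equiv.Perm GolayPt)⁻¹) := by
      rw [← h1]
      group
    have h3 : k * (m12sP * (g : Equiv.Perm GolayPt)) = (k * m12sP) * (g : Equiv.Perm GolayPt) := by group
    rw [h3, h2]
    group
  have hg2 := (mem_H12_iff _).mp g.2
  have h0D : pt 0 ∈ maskSet dod0 := by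
    rw [mem_maskSet, idx_pt (by norm_num)]
    decide
  have hh0 : m12hP (pt 0) = pt 0 := by
    rw [m12hP, tblPerm_pt _ _ (by norm_num)]
    have : m12H.getD 0 0 = 0 := by decide
    rw [this]
  have hfix := fixed_of_commute (hcomm m12hP m12hP_mem) hh0
  have hmem := idx_mem_fixed_filter m12hP_rep hfix
  rw [m12H_fix] at hmem
  have hin : (m12sP * (g : Equiv.Perm GolayPt)) (pt 0) ∈ maskSet dod0 := by
    rw [mem_maskSet]
    exact List.all_eq_true.mp m12H_fix_dod _ hmem
  rw [Equiv.Perm.mul_apply, m12sP_compl] at hin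
  exact hin ((hg2.2 (pt 0)).mpr h0D)

/-- the outer automorphism group of the stabiliser of the standard dodecad has order two -/
theorem card_out_H12 : Nat.card (Cfsg.Out ↥H12) = 2 :=
  card_out_eq_two m12xG m12yG H12_closure m12σ m12σ_x m12σ_not_inner H12_conj_x H12_rigid

/-! ### The Mathieu group of degree 12 -/

theorem nonempty_sporM12_equiv_H12 : Nonempty (↥Spor.M12 ≃* ↥H12) := by
  obtain ⟨γ, hγ, hγd⟩ := exists_smul_eq_dod0 sqDod_mem_dodecads
  have hmem : ∀ k : Equiv.Perm GolayPt, k ∈ H12 ↔ γ⁻¹ * k * γ ∈ Spor.M12 := by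
    intro k
    show k ∈ stabP (maskSet dod0) ↔ γ⁻¹ * k * γ ∈ stabP Spor.squareDodecad
    rw [← hγd, mem_stabP_smul hγ]
  exact ⟨(conjSubgroupEquiv γ hmem).symm⟩

/-- the outer automorphism group of the Mathieu group of degree 12 has order two -/
theorem card_out_spor_M12 : Nat.card (Cfsg.Out ↥Spor.M12) = 2 := by
  obtain ⟨e⟩ := nonempty_sporM12_equiv_H12
  rw [card_out_congr e]
  exact card_out_H12

end Cfsg.Agent.Helper27
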