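import Mathlib

/-!
Conjugacy of subgroups of Sylow order, and transfer of normalisers and centralisers along conjugation.
-/

set_option autoImplicit false

namespace Cfsg.Agent.Helper27

open scoped Pointwise

/-- two subgroups of order `p ^ k`, where `p ^ (k + 1)` does not divide the order of the group, are conjugate -/
theorem exists_conj_of_card_eq {G : Type*} [Group G] [Finite G] {p k : ℕ} [hp : Fact p.Prime] (S S0 : Subgroup G)
    (hS : Nat.card S = p ^ k) (hS0 : Nat.card S0 = p ^ k) (hG : ¬ p ^ (k + 1) ∣ Nat.card G) :
    ∃ g : G, S = S0.map (MulAut.conj g).toMonoidHom := by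
  have hidx : ∀ X : Subgroup G, Nat.card X = p ^ k → ¬ p ∣ X.index := by
    intro X hX hd
    apply hG
    rw [← Subgroup.card_mul_index X, hX, pow_succ]
    exact Nat.mul_dvd_mul_left _ hd
  let P : Sylow p G := (IsPGroup.of_card hS).toSylow (hidx S hS)
  let P0 : Sylow p G := (IsPGroup.of_card hS0).toSylow (hidx S0 hS0)
  obtain ⟨g, hg⟩ := MulAction.exists_smul_eq G P0 P
  refine ⟨g, ?_⟩
  have h1 : ((g • P0 : Sylow p G) : Subgroup G) = (P : Subgroup G) := by rw [hg]
  rw [Sylow.coe_subgroup_smul, Subgroup.pointwise_smul_def] at h1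
  exact h1.symm

/-- the image of a centraliser under an isomorphism -/
theorem map_equiv_centralizer_eq' {G N : Type*} [Group G] [Group N] (H : Subgroup G) (f : G ≃* N) :
    (Subgroup.centralizer (H : Set G)).map f.toMonoidHom =
      Subgroup.centralizer ((H.map f.toMonoidHom : Subgroup N) : Set N) := by
  ext x
  rw [Subgroup.mem_map_equiv, Subgroup.mem_centralizer_iff, Subgroup.mem_centralizer_iff]
  constructor
  · intro h y hy
    obtain ⟨z, hz, rfl⟩ := Subgroup.mem_map.mp hy
    have := h z hz
    have h2 := congrArg f this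
    simpa using h2
  · intro h z hz
    have := h (f z) (Subgroup.mem_map_of_mem _ hz)
    apply f.injective
    simpa using this

theorem card_normalizer_map_conj {G : Type*} [Group G] (S0 : Subgroup G) (g : G) :
    Nat.card (Subgroup.normalizer ((S0.map (MulAut.conj g).toMonoidHom : Subgroup G) : Set G)) =
      Nat.card (Subgroup.normalizer (S0 : Set G)) := by
  rw [← Subgroup.map_equiv_normalizer_eq, Subgroup.card_map_of_injective (MulAut.conj g).injective]

theorem card_centralizer_map_conj {G : Type*} [Group G] (S0 : Subgroup G) (g : G) :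
    Nat.card (Subgroup.centralizer ((S0.map (MulAut.conj g).toMonoidHom : Subgroup G) : Set G)) =
      Nat.card (Subgroup.centralizer (S0 : Set G)) := by
  rw [← map_equiv_centralizer_eq', Subgroup.card_map_of_injective (MulAut.conj g).injective]

theorem mem_normalizer_map_conj {G : Type*} [Group G] (S0 : Subgroup G) (g n : G) :
    n ∈ Subgroup.normalizer ((S0.map (MulAut.conj g).toMonoidHom : Subgroup G) : Set G) ↔
      g⁻¹ * n * g ∈ Subgroup.normalizer (S0 : Set G) := by
  rw [← Subgroup.map_equiv_normalizer_eq, Subgroup.mem_map_equiv]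
  simp [MulAut.conj_symm_apply]

theorem mem_centralizer_map_conj {G : Type*} [Group G] (S0 : Subgroup G) (g n : G) :
    n ∈ Subgroup.centralizer ((S0.map (MulAut.conj g).toMonoidHom : Subgroup G) : Set G) ↔
      g⁻¹ * n * g ∈ Subgroup.centralizer (S0 : Set G) := by
  rw [← map_equiv_centralizer_eq', Subgroup.mem_map_equiv]
  simp [MulAut.conj_symm_apply]

end Cfsg.Agent.Helper27
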