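import Cfsg.Agent.Helper27.M24Gen
import Cfsg.Agent.Helper27.SylowConj

/-!
Groups represented faithfully by a list of permutation tables, and Sylow subgroups read off from tables.
-/

set_option autoImplicit false

namespace Cfsg.Agent.Helper27

open scoped Pointwise

/-- the powers of a table -/
def powT (T : List ℕ) : ℕ → List ℕ
  | 0 => idT
  | k + 1 => compT (powT T k) T

/-- `τ` is a faithful multiplicative bijection from the group onto the list of tables -/
structure IsTblRep {G : Type*} [Group G] (τ : G → List ℕ) (L : List (List ℕ)) : Prop where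
  inj : Function.Injective τ
  mem : ∀ x, τ x ∈ L
  surj : ∀ T ∈ L, ∃ x, τ x = T
  mul : ∀ x y, τ (x * y) = compT (τ x) (τ y)
  one : τ 1 = idT

namespace IsTblRep

variable {G : Type*} [Group G] {τ : G → List ℕ} {L : List (List ℕ)}

theorem pow (h : IsTblRep τ L) (x : G) (k : ℕ) : τ (x ^ k) = powT (τ x) k := by
  induction k with
  | zero => rw [pow_zero, h.one]; rfl
  | succ k ih => rw [pow_succ, h.mul, ih]; rfl

theorem pow_eq_one_iff (h : IsTblRep τ L) (x : G) (k : ℕ) : x ^ k = 1 ↔ powT (τ x) k = idT := by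
  rw [← h.pow, ← h.one]
  exact h.inj.eq_iff.symm

theorem finite (h : IsTblRep τ L) : Finite G :=
  Finite.of_injective (fun x => (⟨τ x, h.mem x⟩ : {T // T ∈ L})) (fun _ _ hxy => h.inj (Subtype.ext_iff.mp hxy))

theorem card (h : IsTblRep τ L) (hnd : L.Nodup) : Nat.card G = L.length := by
  have e : G ≃ {T // T ∈ L} := Equiv.ofBijective (fun x => (⟨τ x, h.mem x⟩ : {T // T ∈ L}))
    ⟨fun _ _ hxy => h.inj (Subtype.ext_iff.mp hxy), fun T => by
      obtain ⟨x, hx⟩ := h.surj T.1 T.2
      exact ⟨x, Subtype.ext hx⟩⟩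
  rw [Nat.card_congr e, Nat.card_eq_fintype_card, Fintype.card_of_subtype L.toFinset (fun T => List.mem_toFinset),
    List.toFinset_card_of_nodup hnd]

/-- the number of elements satisfying a property that can be read off from the tables -/
theorem ncard_le (h : IsTblRep τ L) (P : G → Prop) (B : List ℕ → Bool) (hPB : ∀ x, P x → B (τ x) = true) :
    {x : G | P x}.ncard ≤ (L.filter B).toFinset.card := by
  have : Finite G := h.finite
  have hfin : Set.Finite {x : G | P x} := Set.toFinite _
  rw [Set.ncard_eq_toFinset_card _ hfin]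
  apply Finset.card_le_card_of_injOn τ
  · intro x hx
    rw [Finset.mem_coe, Set.Finite.mem_toFinset] at hx
    rw [Finset.mem_coe, List.mem_toFinset, List.mem_filter]
    exact ⟨h.mem x, hPB x hx⟩
  · exact h.inj.injOn

/-- an embedding of a group given by tables -/
theorem exists_embedding (h : IsTblRep τ L) {K : Type*} [Group K] (f : K → List ℕ) (hfL : ∀ k, f k ∈ L)
    (hf1 : f 1 = idT) (hfm : ∀ a b, f (a * b) = compT (f a) (f b)) (hfi : Function.Injective f) :
    ∃ φ : K →* G, Function.Injective φ := by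
  choose g hg using fun k => h.surj (f k) (hfL k)
  refine ⟨⟨⟨g, ?_⟩, ?_⟩, ?_⟩
  · apply h.inj
    rw [hg, hf1, h.one]
  · intro a b
    apply h.inj
    rw [hg, h.mul, hg, hg, hfm]
  · intro a b hab
    apply hfi
    have : g a = g b := hab
    rw [← hg a, ← hg b, this]

end IsTblRep

/-- the order of a Sylow subgroup, when the order of the group is given with its `p`-part -/
theorem sylow_card_of_card {G : Type*} [Group G] [Finite G] {p n m : ℕ} [hp : Fact p.Prime]
    (hcard : Nat.card G = p ^ n * m) (hm : ¬ p ∣ m) (Q : Sylow p G) : Nat.card Q = p ^ n := by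
  rw [Sylow.card_eq_multiplicity, hcard]
  have hm0 : m ≠ 0 := fun h => hm (h ▸ dvd_zero p)
  have hp0 : p ^ n ≠ 0 := pow_ne_zero _ hp.out.ne_zero
  rw [Nat.factorization_mul hp0 hm0, Nat.Prime.factorization_pow hp.out, Finsupp.add_apply,
    Nat.factorization_eq_zero_of_not_dvd hm]
  simp

/-- if the elements of order dividing `p` are no more than the order of a Sylow `p`-subgroup, and they include all
`p`-elements, then the Sylow `p`-subgroup is normal of exponent `p` -/
theorem sylow_normal_of_roots {G : Type*} [Group G] [Finite G] {p n m : ℕ} [hp : Fact p.Prime]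
    (hcard : Nat.card G = p ^ n * m) (hm : ¬ p ∣ m) (hS : {x : G | x ^ p = 1}.ncard ≤ p ^ n)
    (hexp : ∀ x : G, x ^ (p ^ n) = 1 → x ^ p = 1) (Q : Sylow p G) :
    (Q : Subgroup G).Normal ∧ Nat.card Q = p ^ n ∧ ∀ x ∈ (Q : Subgroup G), x ^ p = 1 := by
  have hQ := sylow_card_of_card hcard hm Q
  have hsub : ∀ x ∈ (Q : Subgroup G), x ^ p = 1 := by
    intro x hx
    apply hexp
    have h1 : (⟨x, hx⟩ : (Q : Subgroup G)) ^ (p ^ n) = 1 := by
      rw [← hQ]
      exact pow_card_eq_one'
    have := congrArg Subtype.val h1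
    simpa using this
  have heq : ((Q : Subgroup G) : Set G) = {x : G | x ^ p = 1} := by
    apply Set.eq_of_subset_of_ncard_le
    · intro x hx
      exact hsub x hx
    · have : ((Q : Subgroup G) : Set G).ncard = p ^ n := by
        rw [← hQ]
        rfl
      rw [this]
      exact hS
    · exact Set.toFinite _
  refine ⟨⟨fun x hx g => ?_⟩, hQ, hsub⟩
  have hx' : x ^ p = 1 := hsub x hx
  have : g * x * g⁻¹ ∈ ((Q : Subgroup G) : Set G) := by
    rw [heq]
    show (g * x * g⁻¹) ^ p = 1
    rw [conj_pow, hx']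
    group
  exact this

/-- Sylow subgroups are isomorphic to any subgroup of the right order -/
theorem sylow_iso_of_embedding {G K : Type*} [Group G] [Finite G] [Group K] {p n m : ℕ} [hp : Fact p.Prime]
    (hcard : Nat.card G = p ^ n * m) (hm : ¬ p ∣ m) (hK : Nat.card K = p ^ n) (φ : K →* G)
    (hφ : Function.Injective φ) (P : Sylow p G) : Nonempty (↥P ≃* K) := by
  have e : K ≃* φ.range := MonoidHom.ofInjective hφ
  have hc : Nat.card φ.range = p ^ n := by rw [← Nat.card_congr e.toEquiv, hK]
  have hidx : ¬ p ∣ φ.range.index := by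
    intro hd
    have h1 := Subgroup.card_mul_index φ.range
    rw [hc, hcard] at h1
    have hp0 : 0 < p ^ n := pow_pos hp.out.pos _
    have : φ.range.index = m := Nat.eq_of_mul_eq_mul_left hp0 h1
    exact hm (this ▸ hd)
  let P0 : Sylow p G := (IsPGroup.of_card hc).toSylow hidx
  obtain ⟨g, hg⟩ := MulAction.exists_smul_eq G P0 P
  have e2 : ↥P0 ≃* ↥(g • P0 : Sylow p G) := Sylow.equivSMul P0 g
  rw [hg] at e2
  exact ⟨e2.symm.trans e.symm⟩

end Cfsg.Agent.Helper27
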