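import Cfsg.Agent.Helper27.M23GenTriple
import Cfsg.Agent.Helper27.TblRep

/-!
Affine maps of the projective line over the field with 23 elements, as permutations of the 24 points and as tables.
-/

set_option autoImplicit false

namespace Cfsg.Agent.Helper27

open Cfsg
open scoped Pointwise

/-- the table of the map `t ↦ a t + b` -/
def affT (a b : ℕ) : List ℕ := (List.range 23).map (fun i => (a * i + b) % 23) ++ [23]

theorem affT_length (a b : ℕ) : (affT a b).length = 24 := by simp [affT]

theorem affT_getD_lt (a b : ℕ) {i : ℕ} (hi : i < 23) : (affT a b).getD i 0 = (a * i + b) % 23 := by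
  unfold affT
  rw [List.getD_append _ _ _ _ (by simpa using hi), List.getD_eq_getElem _ _ (by simpa using hi)]
  simp

theorem affT_getD_last (a b : ℕ) : (affT a b).getD 23 0 = 23 := by
  unfold affT
  rw [List.getD_append_right _ _ _ _ (by simp)]
  simp

/-- the nonzero squares modulo 23 -/
def qrL : List ℕ := [1, 2, 3, 4, 6, 8, 9, 12, 13, 16, 18]

/-- the shift `t ↦ t + 1` -/
abbrev sP : Equiv.Perm GolayPt := Equiv.optionCongr (Equiv.addRight (1 : ZMod 23))

/-- the multiplication by a unit -/
abbrev mP (u : (ZMod 23)ˣ) : Equiv.Perm GolayPt := Equiv.optionCongr (Units.mulLeft u)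

theorem sP_some (x : ZMod 23) : sP (some x) = some (x + 1) := rfl

theorem sP_none : sP none = none := rfl

theorem mP_some (u : (ZMod 23)ˣ) (x : ZMod 23) : mP u (some x) = some ((u : ZMod 23) * x) := rfl

theorem mP_none (u : (ZMod 23)ˣ) : mP u none = none := rfl

theorem sP_pow_some (n : ℕ) (x : ZMod 23) : (sP ^ n) (some x) = some (x + n) := by
  induction n generalizing x with
  | zero => simp
  | succ n ih =>
    rw [pow_succ, Equiv.Perm.mul_apply, sP_some, ih]
    congr 1
    push_cast
    ring

theorem sP_pow_none (n : ℕ) : (sP ^ n) none = none := by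
  induction n with
  | zero => simp
  | succ n ih => rw [pow_succ, Equiv.Perm.mul_apply, sP_none, ih]

theorem sP_zpow_some (k : ℤ) (x : ZMod 23) : (sP ^ k) (some x) = some (x + (k : ZMod 23)) := by
  cases k with
  | ofNat n =>
    rw [Int.ofNat_eq_natCast, zpow_natCast, sP_pow_some]
    simp
  | negSucc n =>
    rw [zpow_negSucc, Equiv.Perm.inv_eq_iff_eq, sP_pow_some]
    congr 1
    rw [Int.cast_negSucc]
    push_cast
    ring

theorem mP_pow_some (u : (ZMod 23)ˣ) (n : ℕ) (x : ZMod 23) : (mP u ^ n) (some x) = some ((u : ZMod 23) ^ n * x) := by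
  induction n generalizing x with
  | zero => simp
  | succ n ih =>
    rw [pow_succ, Equiv.Perm.mul_apply, mP_some, ih]
    congr 1
    ring

theorem mP_pow_none (u : (ZMod 23)ˣ) (n : ℕ) : (mP u ^ n) none = none := by
  induction n with
  | zero => simp
  | succ n ih => rw [pow_succ, Equiv.Perm.mul_apply, mP_none, ih]

/-- a permutation acting as an affine map is represented by the affine table -/
theorem represents_aff {g : Equiv.Perm GolayPt} (hnone : g none = none) (a b : ZMod 23)
    (h : ∀ t, g (some t) = some (a * t + b)) : Represents g (affT a.val b.val) := by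
  refine ⟨affT_length _ _, ?_⟩
  intro p
  cases p with
  | none =>
    rw [hnone]
    show 23 = (affT a.val b.val).getD 23 0
    rw [affT_getD_last]
  | some t =>
    rw [h t]
    show (a * t + b).val = (affT a.val b.val).getD t.val 0
    rw [affT_getD_lt _ _ (ZMod.val_lt t), ZMod.val_add, ZMod.val_mul, Nat.mod_add_mod]

/-- a permutation fixing the extra point acts on the residues -/
theorem exists_fun_of_fix_none {g : Equiv.Perm GolayPt} (h : g none = none) :
    ∃ f : ZMod 23 → ZMod 23, ∀ t, g (some t) = some (f t) := by
  have h1 : ∀ t : ZMod 23, ∃ y, g (some t) = some y := by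
    intro t
    rw [← Option.ne_none_iff_exists']
    intro hn
    have := g.injective (hn.trans h.symm)
    exact absurd this (by simp)
  choose f hf using h1
  exact ⟨f, hf⟩

/-- members of `M24` have tables passing the code test -/
theorem tblInCode_of_mem_M24 {σ : Equiv.Perm GolayPt} {T : List ℕ} (h : Represents σ T) (hσ : σ ∈ M24) :
    tblInCode T = true := by
  simp only [tblInCode, List.all_eq_true, beq_iff_eq]
  intro a ha
  have h1 : (fun p => decW a (σ p)) ∈ golayCode := comp_mem_of_mem_M24 hσ (decW_gens_mem a ha)
  rw [decW_comp h a] at h1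
  have hlt : applyTbl T a < 2 ^ 24 := by
    have := applyTbl_lt T a
    rwa [h.1] at this
  exact (decW_mem_iff hlt).mp h1

theorem represents_powT {g : Equiv.Perm GolayPt} {T : List ℕ} (h : Represents g T) (k : ℕ) :
    Represents ((g ^ k : Equiv.Perm GolayPt)) (powT T k) := by
  induction k with
  | zero => rw [pow_zero]; exact represents_one
  | succ k ih => rw [pow_succ]; exact represents_compT ih h

end Cfsg.Agent.Helper27
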