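import Cfsg.Agent.Helper27.M22DC
import Cfsg.Agent.Helper27.L23Tables
import Cfsg.Agent.Helper27.SylowConj

/-!
A subgroup of the Mathieu group of degree 22 whose order is divisible by 11 and greater than 660 is the whole group.
-/

set_option autoImplicit false

namespace Cfsg.Agent.Helper27

open Cfsg
open scoped Pointwise

/-! ### The checks -/

/-- the representatives of all double cosets -/
def dcRA : List (List ℕ) := idT :: dcR1 :: dcRL

theorem dcNL_valid : dcNL.all validTbl = true := by decide +kernel

theorem dcRA_valid : dcRA.all validTbl = true := by decide +kernel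

theorem dcT_valid : validTbl dcT = true := by decide +kernel

theorem dcNL_length : dcNL.length = 55 := by decide +kernel

theorem dcNL_mul : mulClosedOK dcNL = true := by decide +kernel

theorem dc_tConj : tConjOK dcNL dcT dcTN = true := by decide +kernel

theorem dc_stepT1 : stepTOKr dcNL dcRA dcT dcWitT (List.range' 0 30) = true := by decide +kernel

theorem dc_stepT2 : stepTOKr dcNL dcRA dcT dcWitT (List.range' 30 30) = true := by decide +kernel

theorem dc_stepT3 : stepTOKr dcNL dcRA dcT dcWitT (List.range' 60 30) = true := by decide +kernel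

theorem dc_stepT4 : stepTOKr dcNL dcRA dcT dcWitT (List.range' 90 30) = true := by decide +kernel

theorem dc_stepT5 : stepTOKr dcNL dcRA dcT dcWitT (List.range' 120 30) = true := by decide +kernel

theorem dc_stepT : stepTOK dcNL dcRA dcT dcWitT = true := by
  have e : List.range dcRA.length = List.range' 0 30 ++ (List.range' 30 30 ++ (List.range' 60 30 ++
      (List.range' 90 30 ++ List.range' 120 30))) := by decide +kernel
  unfold stepTOK
  rw [e, stepTOKr_append, stepTOKr_append, stepTOKr_append, stepTOKr_append, dc_stepT1, dc_stepT2, dc_stepT3,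
    dc_stepT4, dc_stepT5]
  rfl

/-- the elements of the subgroup `11:5` normalise the subgroup of order 11 -/
def dcNormOK : Bool :=
  (List.range dcNL.length).all fun i =>
    eqT (compT (dcNL.getD i []) x11T) (compT (powT x11T (dcNExp.getD i 0)) (dcNL.getD i []))

theorem dcNorm_ok : dcNormOK = true := by decide +kernel

/-- the involution `y` is a word in `x` and its conjugate under a representative of the other double cosets -/
def dcGoodOK : Bool :=
  (List.range dcRL.length).all fun ri =>
    forceL (invT (dcRL.getD ri [])) fun Ri =>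
      validTbl Ri && eqT (compT (dcRL.getD ri []) Ri) idT &&
        forceL (compT (compT (dcRL.getD ri []) x11T) Ri) fun X' =>
          forceL (compT (compT (dcRL.getD ri []) m22Xi) Ri) fun X'i =>
            eqT (wordTL [x11T, m22Xi, X', X'i] (dcWL.getD ri [])) m22Y

theorem dcGood_ok : dcGoodOK = true := by decide +kernel

/-- the products of `r₁` with the elements of the subgroup `11:5` -/
def dcBadOK : Bool :=
  (List.range dcNL.length).all fun j =>
    decide (dcBI.getD j 0 < 55) && decide (dcBA.getD j 0 < 11) &&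
      eqT (compT dcR1 (dcNL.getD j []))
        (compT (dcNL.getD (dcBI.getD j 0) []) (compT dcR1 (dcNL.getD (5 * dcBA.getD j 0) [])))

theorem dcBad_ok : dcBadOK = true := by decide +kernel

theorem dcWY_ok : eqT (wordTL [x11T, m22Xi, m22N, dcHi, dcT, dcTi] dcWY) m22Y = true := by decide +kernel

theorem dcHi_ok : validTbl dcHi = true ∧ compT m22N dcHi = idT := by decide +kernel

theorem dcTi_ok : validTbl dcTi = true ∧ compT dcT dcTi = idT := by decide +kernel

theorem dcNL_x : dcNL.getD 5 [] = x11T := by decide +kernel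

theorem dcNL_h : dcNL.getD 1 [] = m22N := by decide +kernel

theorem dcNL_one : dcNL.getD 0 [] = idT := by decide +kernel

/-! ### Consequences -/

/-- the element `t` of order 4 -/
noncomputable def dcTP : Equiv.Perm GolayPt := tblPerm dcT dcT_valid

theorem dcTP_rep : Represents dcTP dcT := tblPerm_represents _ _

theorem represents_inv_of_comp {r : Equiv.Perm GolayPt} {R Ri : List ℕ} (hr : Represents r R)
    (hv : validTbl Ri = true) (hinv : compT R Ri = idT) : Represents (r⁻¹ : Equiv.Perm GolayPt) Ri := by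
  have h2 : r * tblPerm _ hv = 1 :=
    represents_inj (represents_compT hr (tblPerm_represents _ hv)) (hinv ▸ represents_one)
  have h3 : tblPerm _ hv = r⁻¹ := eq_inv_of_mul_eq_one_right h2
  rw [← h3]
  exact tblPerm_represents _ hv

theorem inL_dcNL_x : InL dcNL m22xP := ⟨5, by rw [dcNL_length]; norm_num, by rw [dcNL_x]; exact m22xP_rep⟩

theorem inL_dcNL_h : InL dcNL m22nP := ⟨1, by rw [dcNL_length]; norm_num, by rw [dcNL_h]; exact m22nP_rep⟩

theorem inL_dcNL_one : InL dcNL 1 := ⟨0, by rw [dcNL_length]; norm_num, by rw [dcNL_one]; exact represents_one⟩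

theorem inD_one : InD dcNL dcRA 1 :=
  ⟨1, 1, 1, inL_dcNL_one, ⟨0, by simp [dcRA], by simpa [dcRA] using represents_one⟩, inL_dcNL_one, by simp⟩

/-- the involution `y` lies in the subgroup generated by `x`, `h` and `t` -/
theorem m22yP_mem_closure :
    m22yP ∈ Subgroup.closure ({m22xP, m22nP, dcTP} : Set (Equiv.Perm GolayPt)) := by
  set gs : List (Equiv.Perm GolayPt) := [m22xP, m22xP⁻¹, m22nP, m22nP⁻¹, dcTP, dcTP⁻¹] with hgs
  have hrep := represents_wordTL (gs := gs) (Ts := [x11T, m22Xi, m22N, dcHi, dcT, dcTi]) (by simp [hgs]) (by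
      intro i hi
      have hi6 : i < 6 := by simpa [hgs] using hi
      interval_cases i
      · exact m22xP_rep
      · exact m22xP_inv_rep
      · exact m22nP_rep
      · exact represents_inv_of_comp m22nP_rep dcHi_ok.1 dcHi_ok.2
      · exact dcTP_rep
      · exact represents_inv_of_comp dcTP_rep dcTi_ok.1 dcTi_ok.2) dcWY
  rw [(eqT_iff _ _).mp dcWY_ok] at hrep
  have h4 : wordGL gs dcWY = m22yP := represents_inj hrep m22yP_rep
  rw [← h4]
  apply wordGL_mem
  intro g hg
  have hx : m22xP ∈ Subgroup.closure ({m22xP, m22nP, dcTP} : Set (Equiv.Perm GolayPt)) :=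
    Subgroup.subset_closure (by simp)
  have hh : m22nP ∈ Subgroup.closure ({m22xP, m22nP, dcTP} : Set (Equiv.Perm GolayPt)) :=
    Subgroup.subset_closure (by simp)
  have ht : dcTP ∈ Subgroup.closure ({m22xP, m22nP, dcTP} : Set (Equiv.Perm GolayPt)) :=
    Subgroup.subset_closure (by simp)
  simp only [hgs, List.mem_cons, List.not_mem_nil, or_false] at hg
  rcases hg with rfl | rfl | rfl | rfl | rfl | rfl
  · exact hx
  · exact Subgroup.inv_mem _ hx
  · exact hh
  · exact Subgroup.inv_mem _ hh
  · exact ht
  · exact Subgroup.inv_mem _ ht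

/-- the double coset decomposition of the Mathieu group of degree 22 -/
theorem inD_of_mem_G2 {g : Equiv.Perm GolayPt} (hg : g ∈ G2) : InD dcNL dcRA g := by
  have h1 : g ∈ Subgroup.closure ({m22xP, m22nP, dcTP} : Set (Equiv.Perm GolayPt)) := by
    have h2 : Subgroup.closure ({m22xP, m22yP} : Set (Equiv.Perm GolayPt)) ≤
        Subgroup.closure ({m22xP, m22nP, dcTP} : Set (Equiv.Perm GolayPt)) := by
      rw [Subgroup.closure_le]
      intro s hs
      rcases hs with rfl | hs
      · exact Subgroup.subset_closure (by simp)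
      · rw [Set.mem_singleton_iff] at hs
        rw [hs]
        exact m22yP_mem_closure
    exact h2 (G2_le_closure hg)
  refine inD_of_mem_closure dcNL_valid dcRA_valid dcNL_length dcNL_mul dc_tConj dc_stepT inD_one ?_ h1
  intro s hs
  rcases hs with rfl | rfl | hs
  · exact Or.inl inL_dcNL_x
  · exact Or.inl inL_dcNL_h
  · rw [Set.mem_singleton_iff] at hs
    rw [hs]
    exact Or.inr dcTP_rep

/-- an element conjugating an element of finite order to a power of itself normalises the subgroup it generates -/
theorem mem_normalizer_zpowers_of_conj {G : Type*} [Group G] [Finite G] {n x : G} {e : ℕ}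
    (h : n * x * n⁻¹ = x ^ e) : n ∈ Subgroup.normalizer ((Subgroup.zpowers x : Subgroup G) : Set G) := by
  have hle : Subgroup.zpowers x ≤ (Subgroup.zpowers x).comap (MulAut.conj n).toMonoidHom := by
    rw [Subgroup.zpowers_le, Subgroup.mem_comap]
    show n * x * n⁻¹ ∈ Subgroup.zpowers x
    rw [h]
    exact Subgroup.pow_mem _ (Subgroup.mem_zpowers x) _
  rw [Subgroup.mem_normalizer_iff]
  intro g
  constructor
  · intro hg
    exact hle hg
  · intro hg
    have hinj : Function.Injective (fun z : Subgroup.zpowers x =>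
        (⟨n * z.1 * n⁻¹, hle z.2⟩ : Subgroup.zpowers x)) := by
      intro a b hab
      have := congrArg Subtype.val hab
      simp only at this
      apply Subtype.ext
      have h2 : n * a.1 = n * b.1 := mul_right_cancel this
      exact mul_left_cancel h2
    have hsurj := Finite.surjective_of_injective hinj
    obtain ⟨z, hz⟩ := hsurj ⟨n * g * n⁻¹, hg⟩
    have h3 : n * z.1 * n⁻¹ = n * g * n⁻¹ := congrArg Subtype.val hz
    have h4 : z.1 = g := mul_left_cancel (mul_right_cancel h3)
    rw [← h4]
    exact z.2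

theorem inL_dcNL_normalizer {n : Equiv.Perm GolayPt} (hn : InL dcNL n) :
    n ∈ Subgroup.normalizer ((Subgroup.zpowers m22xP : Subgroup (Equiv.Perm GolayPt)) : Set (Equiv.Perm GolayPt)) := by
  obtain ⟨i, hi, hr⟩ := hn
  have h1 := List.all_eq_true.mp dcNorm_ok i (List.mem_range.mpr hi)
  rw [eqT_iff] at h1
  have h2 : n * m22xP = m22xP ^ (dcNExp.getD i 0) * n :=
    represents_inj (represents_compT hr m22xP_rep) (h1 ▸ represents_compT (represents_powT m22xP_rep _) hr)
  apply mem_normalizer_zpowers_of_conj (e := dcNExp.getD i 0)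
  rw [h2]
  group

theorem inL_dcRL_closure {r : Equiv.Perm GolayPt} (hr : InL dcRL r) :
    m22yP ∈ Subgroup.closure ({m22xP, r * m22xP * r⁻¹} : Set (Equiv.Perm GolayPt)) := by
  obtain ⟨ri, hri, hrr⟩ := hr
  have h1 := List.all_eq_true.mp dcGood_ok ri (List.mem_range.mpr hri)
  rw [forceL_eq, Bool.and_eq_true, Bool.and_eq_true, forceL_eq, forceL_eq, eqT_iff, eqT_iff] at h1
  obtain ⟨⟨hv, hinv⟩, hw⟩ := h1
  -- the inverse
  have hri' : Represents (r⁻¹ : Equiv.Perm GolayPt) (invT (dcRL.getD ri [])) := by
    have h2 : r * tblPerm _ hv = 1 :=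
      represents_inj (represents_compT hrr (tblPerm_represents _ hv)) (hinv ▸ represents_one)
    have h3 : tblPerm _ hv = r⁻¹ := eq_inv_of_mul_eq_one_right h2
    rw [← h3]
    exact tblPerm_represents _ hv
  set gs : List (Equiv.Perm GolayPt) := [m22xP, m22xP⁻¹, r * m22xP * r⁻¹, r * m22xP⁻¹ * r⁻¹] with hgs
  have hrep := represents_wordTL (gs := gs)
    (Ts := [x11T, m22Xi, compT (compT (dcRL.getD ri []) x11T) (invT (dcRL.getD ri [])),
      compT (compT (dcRL.getD ri []) m22Xi) (invT (dcRL.getD ri []))]) (by simp [hgs]) (by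
      intro i hi
      have hi4 : i < 4 := by simpa [hgs] using hi
      interval_cases i
      · exact m22xP_rep
      · exact m22xP_inv_rep
      · exact represents_compT (represents_compT hrr m22xP_rep) hri'
      · exact represents_compT (represents_compT hrr m22xP_inv_rep) hri') (dcWL.getD ri [])
  rw [hw] at hrep
  have h4 : wordGL gs (dcWL.getD ri []) = m22yP := represents_inj hrep m22yP_rep
  rw [← h4]
  apply wordGL_mem
  intro g hg
  have hxm : m22xP ∈ Subgroup.closure ({m22xP, r * m22xP * r⁻¹} : Set (Equiv.Perm GolayPt)) :=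
    Subgroup.subset_closure (by simp)
  have hcm : r * m22xP * r⁻¹ ∈ Subgroup.closure ({m22xP, r * m22xP * r⁻¹} : Set (Equiv.Perm GolayPt)) :=
    Subgroup.subset_closure (by simp)
  simp only [hgs, List.mem_cons, List.not_mem_nil, or_false] at hg
  rcases hg with rfl | rfl | rfl | rfl
  · exact hxm
  · exact Subgroup.inv_mem _ hxm
  · exact hcm
  · have e : r * m22xP⁻¹ * r⁻¹ = (r * m22xP * r⁻¹)⁻¹ := by group
    rw [e]
    exact Subgroup.inv_mem _ hcm

/-- the table of a coset representative of the subgroup `11:5` in the subgroup of order 660 -/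
def dcBrT (b : ℕ) : List ℕ := if b = 0 then idT else compT dcR1 (dcNL.getD (5 * (b - 1)) [])

theorem compT_idT_right {X : List ℕ} (hX : X.length = 24) : compT X idT = X := by
  apply List.ext_getElem
  · simp [compT, idT, hX]
  · intro i h1 h2
    simp only [compT, idT, List.getElem_map, List.getElem_range]
    exact List.getD_eq_getElem _ _ h2

theorem inL_dcRA_cases {r : Equiv.Perm GolayPt} (hr : InL dcRA r) :
    r = 1 ∨ Represents r dcR1 ∨ InL dcRL r := by
  obtain ⟨ri, hri, hrr⟩ := hr
  rcases ri with _ | _ | ri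
  · left
    exact represents_inj (by simpa [dcRA] using hrr) represents_one
  · right; left
    simpa [dcRA] using hrr
  · right; right
    refine ⟨ri, by simpa [dcRA] using hri, ?_⟩
    simpa [dcRA] using hrr

/-- the elements of the first two double cosets lie in 660 cosets -/
theorem exists_brT {k n r m : Equiv.Perm GolayPt} (hn : InL dcNL n) (hm : InL dcNL m)
    (hr : r = 1 ∨ Represents r dcR1) (hk : k = n * r * m) :
    ∃ p : Fin 55 × Fin 12, Represents k (compT (dcNL.getD p.1 []) (dcBrT p.2)) := by
  rcases hr with rfl | hr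
  · obtain ⟨i, hi, hnm⟩ := inL_mul dcNL_mul hn hm
    rw [dcNL_length] at hi
    refine ⟨(⟨i, hi⟩, ⟨0, by norm_num⟩), ?_⟩
    rw [hk, mul_one]
    show Represents (n * m : Equiv.Perm GolayPt) (compT (dcNL.getD i []) (dcBrT 0))
    rw [dcBrT, if_pos rfl, compT_idT_right hnm.1]
    exact hnm
  · obtain ⟨j, hj, hmj⟩ := hm
    have h1 := List.all_eq_true.mp dcBad_ok j (List.mem_range.mpr hj)
    rw [Bool.and_eq_true, Bool.and_eq_true, decide_eq_true_eq, decide_eq_true_eq, eqT_iff] at h1
    obtain ⟨⟨hbi, hba⟩, he⟩ := h1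
    obtain ⟨n', hn'⟩ := exists_inL_of_all dcNL_valid (i := dcBI.getD j 0) (by rw [dcNL_length]; exact hbi)
    obtain ⟨p, hp⟩ := exists_inL_of_all dcNL_valid (i := 5 * dcBA.getD j 0) (by rw [dcNL_length]; omega)
    have h2 : r * m = n' * (r * p) :=
      represents_inj (represents_compT hr hmj) (he ▸ represents_compT hn' (represents_compT hr hp))
    obtain ⟨i, hi, hnn⟩ := inL_mul dcNL_mul hn ⟨_, by rw [dcNL_length]; exact hbi, hn'⟩
    rw [dcNL_length] at hi
    refine ⟨(⟨i, hi⟩, ⟨dcBA.getD j 0 + 1, by omega⟩), ?_⟩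
    have e : k = (n * n') * (r * p) := by
      rw [hk, mul_assoc n r m, h2]
      simp only [mul_assoc]
    rw [e]
    show Represents (n * n' * (r * p) : Equiv.Perm GolayPt)
      (compT (dcNL.getD i []) (dcBrT (dcBA.getD j 0 + 1)))
    rw [dcBrT, if_neg (by omega), Nat.add_sub_cancel]
    exact represents_compT hnn (represents_compT hr hp)

/-- a proper subgroup containing the element of order 11 has at most 660 elements -/
theorem card_le_of_ne_G2 (K : Subgroup (Equiv.Perm GolayPt)) (hK : K ≤ G2) (hx : m22xP ∈ K) (hne : K ≠ G2) :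
    Nat.card K ≤ 660 := by
  have hP : Subgroup.zpowers m22xP ≤ K := by
    rw [Subgroup.zpowers_le]; exact hx
  by_cases hB : ∃ k ∈ K, ∃ n r m, InL dcNL n ∧ InL dcRL r ∧ InL dcNL m ∧ k = n * r * m
  · exfalso
    obtain ⟨k, hk, n, r, m, hn, hr, hm, rfl⟩ := hB
    have hnn := inL_dcNL_normalizer hn
    have hmn := inL_dcNL_normalizer hm
    -- the conjugate of `x` under `r` lies in a conjugate of `K`
    have h1 : m⁻¹ * m22xP * m ∈ Subgroup.zpowers m22xP := by
      have := (Subgroup.mem_normalizer_iff.mp (Subgroup.inv_mem _ hmn) m22xP).mp (Subgroup.mem_zpowers _)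
      rwa [inv_inv] at this
    have h2 : (n * r * m) * (m⁻¹ * m22xP * m) * (n * r * m)⁻¹ ∈ K :=
      K.mul_mem (K.mul_mem hk (hP h1)) (K.inv_mem hk)
    have h3 : (n * r * m) * (m⁻¹ * m22xP * m) * (n * r * m)⁻¹ = n * (r * m22xP * r⁻¹) * n⁻¹ := by group
    rw [h3] at h2
    have h4 : n * m22xP * n⁻¹ ∈ K :=
      hP ((Subgroup.mem_normalizer_iff.mp hnn m22xP).mp (Subgroup.mem_zpowers _))
    have h5 : Subgroup.closure ({m22xP, r * m22xP * r⁻¹} : Set (Equiv.Perm GolayPt)) ≤ conjH n⁻¹ K := by
      rw [Subgroup.closure_le]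
      intro g hg
      rcases hg with rfl | hg
      · rw [SetLike.mem_coe, mem_conjH, inv_inv]
        exact h4
      · rw [Set.mem_singleton_iff] at hg
        rw [hg, SetLike.mem_coe, mem_conjH, inv_inv]
        exact h2
    have h6 : G2 ≤ conjH n⁻¹ K := by
      refine le_trans G2_le_closure ?_
      rw [Subgroup.closure_le]
      intro g hg
      rcases hg with rfl | hg
      · exact h5 (Subgroup.subset_closure (by simp))
      · rw [Set.mem_singleton_iff] at hg
        rw [hg]
        exact h5 (inL_dcRL_closure hr)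
    have h7 : Nat.card G2 ≤ Nat.card K := by
      rw [← card_conjH n⁻¹ K]
      exact Subgroup.card_le_of_le h6
    exact hne (Subgroup.eq_of_le_of_card_ge hK h7)
  · -- all elements lie in the 660 cosets
    have hA : ∀ k : K, ∃ p : Fin 55 × Fin 12, Represents (k : Equiv.Perm GolayPt)
        (compT (dcNL.getD p.1 []) (dcBrT p.2)) := by
      intro k
      obtain ⟨n, r, m, hn, hr, hm, hkn⟩ := inD_of_mem_G2 (hK k.2)
      rcases inL_dcRA_cases hr with h | h | h
      · exact exists_brT hn hm (Or.inl h) hkn
      · exact exists_brT hn hm (Or.inr h) hkn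
      · exact absurd ⟨k.1, k.2, n, r, m, hn, h, hm, hkn⟩ hB
    choose f hf using hA
    have hinj : Function.Injective f := by
      intro k k' hkk
      apply Subtype.ext
      have h1 := hf k
      rw [hkk] at h1
      exact represents_inj h1 (hf k')
    have := Nat.card_le_card_of_injective f hinj
    simpa using this

theorem card_G2 : Nat.card G2 = 443520 := card_fix24_2

/-- a subgroup of the Mathieu group of degree 22 whose order is divisible by 11 and greater than 660 is the whole
group -/
theorem eq_G2_of_card (K : Subgroup (Equiv.Perm GolayPt)) (hK : K ≤ G2) (h11 : 11 ∣ Nat.card K)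
    (hbig : 660 < Nat.card K) : K = G2 := by
  have : Fact (Nat.Prime 11) := fact_prime_11
  -- an element of order 11
  obtain ⟨k, hk⟩ := exists_prime_orderOf_dvd_card' (G := ↥K) 11 h11
  -- as an element of the large group
  set k' : ↥G2 := ⟨k.1, hK k.2⟩ with hk'
  have hk'o : orderOf k' = 11 := by
    rw [← hk, ← Subgroup.orderOf_coe k', ← Subgroup.orderOf_coe k]
  have hxo : orderOf m22xG = 11 := orderOf_m22xG
  obtain ⟨g, hg⟩ := exists_conj_of_card_eq (p := 11) (k := 1) (Subgroup.zpowers k') (Subgroup.zpowers m22xG)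
    (by rw [Nat.card_zpowers, hk'o, pow_one]) (by rw [Nat.card_zpowers, hxo, pow_one])
    (by rw [card_G2]; norm_num)
  -- the conjugate of `K`
  have hx : m22xP ∈ conjH g.1⁻¹ K := by
    rw [mem_conjH, inv_inv]
    have h1 : (MulAut.conj g).toMonoidHom m22xG ∈ Subgroup.zpowers k' := by
      rw [hg]
      exact Subgroup.mem_map_of_mem _ (Subgroup.mem_zpowers _)
    obtain ⟨j, hj⟩ := Subgroup.mem_zpowers_iff.mp h1
    have h2 := congrArg Subtype.val hj
    simp only [MulEquiv.coe_toMonoidHom, MulAut.conj_apply, Subgroup.coe_mul, Subgroup.coe_inv,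
      Subgroup.coe_zpow] at h2
    have h3 : g.1 * m22xP * g.1⁻¹ = k.1 ^ j := h2.symm
    rw [h3]
    exact K.zpow_mem k.2 j
  have hK' : conjH g.1⁻¹ K ≤ G2 := by
    intro h hh
    rw [mem_conjH, inv_inv] at hh
    have h1 := G2.mul_mem (G2.mul_mem (G2.inv_mem g.2) (hK hh)) g.2
    have e : g.1⁻¹ * (g.1 * h * g.1⁻¹) * g.1 = h := by group
    rwa [e] at h1
  by_contra hne
  have hne' : conjH g.1⁻¹ K ≠ G2 := by
    intro h
    apply hne
    apply Subgroup.eq_of_le_of_card_ge hK
    rw [← card_conjH g.1⁻¹ K, h]
  have := card_le_of_ne_G2 _ hK' hx hne'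
  rw [card_conjH] at this
  omega

end Cfsg.Agent.Helper27
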