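import Mathlib
import Cfsg.Prelude.Def_KGroupFacts

set_option autoImplicit false

/-!
# Glue lemmas for S4277 (simple group with a subgroup of prime index has solvable `Out`)
-/

namespace Cfsg.Agent.Helper27.S4277Lib



/-- A suitable `2`-power of an element has odd order. -/
theorem exists_two_pow_odd {A : Type*} [Group A] [Finite A] (a : A) :
    ∃ s : ℕ, Odd (orderOf (a ^ (2 ^ s))) := by
  have hn : orderOf a ≠ 0 := (orderOf_pos a).ne'
  obtain ⟨s, m, hm, hsm⟩ := Nat.exists_eq_two_pow_mul_odd hn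
  refine ⟨s, ?_⟩
  have h1 : (a ^ (2 ^ s)) ^ m = 1 := by
    rw [← pow_mul, ← hsm, pow_orderOf_eq_one]
  exact Odd.of_dvd_nat hm (orderOf_dvd_of_pow_eq_one h1)

/-- If every odd-order element of a finite group lies in a solvable subgroup, the group is
solvable. -/
theorem isSolvable_of_odd_mem {A : Type*} [Group A] [Finite A] (B : Subgroup A)
    [hB : Group.IsSolvable B] (h : ∀ x : A, Odd (orderOf x) → x ∈ B) : Group.IsSolvable A := by
  classical
  let S : Set A := {x | Odd (orderOf x)}
  let O : Subgroup A := Subgroup.normalClosure S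
  have hO : O ≤ B := by
    refine (Subgroup.closure_le _).2 ?_
    intro y hy
    obtain ⟨x, hx, hxy⟩ := Group.mem_conjugatesOfSet_iff.1 hy
    obtain ⟨c, rfl⟩ := isConj_iff.1 hxy
    apply h
    have : orderOf (c * x * c⁻¹) = orderOf x := by
      simpa using orderOf_injective (MulAut.conj c).toMonoidHom (MulAut.conj c).injective x
    rw [this]; exact hx
  have hOs : Group.IsSolvable O := Group.isSolvable_of_isSolvable_injective (Subgroup.inclusion_injective hO)
  have hq : IsPGroup 2 (A ⧸ O) := by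
    intro y
    obtain ⟨a, rfl⟩ := QuotientGroup.mk_surjective y
    obtain ⟨s, hs⟩ := exists_two_pow_odd a
    refine ⟨s, ?_⟩
    rw [← QuotientGroup.mk_pow, QuotientGroup.eq_one_iff]
    exact Subgroup.subset_normalClosure hs
  have : Fact (Nat.Prime 2) := ⟨Nat.prime_two⟩
  have hqn : Group.IsNilpotent (A ⧸ O) := hq.isNilpotent
  have hqs : Group.IsSolvable (A ⧸ O) := inferInstance
  exact (Group.isSolvable_iff_subgroup_quotient O).2 ⟨hOs, hqs⟩


open Equiv

/-- A subgroup of order `p` of the symmetric group on `p` points (`p` prime) is transitive. -/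
theorem isPretransitive_of_card {Ω : Type*} [Fintype Ω] {p : ℕ} (hp : p.Prime)
    (hΩ : Fintype.card Ω = p) (Q : Subgroup (Perm Ω)) (hQ : Nat.card Q = p) :
    MulAction.IsPretransitive Q Ω := by
  classical
  have hQnt : Nontrivial Q := by
    have : Finite Q := inferInstance
    rw [← Finite.one_lt_card_iff_nontrivial, hQ]; exact hp.one_lt
  obtain ⟨q, hq⟩ := exists_ne (1 : Q)
  have hq' : (q : Perm Ω) ≠ 1 := fun h => hq (Subtype.ext h)
  obtain ⟨a, ha⟩ : ∃ a, (q : Perm Ω) a ≠ a := by
    by_contra hcon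
    apply hq'
    ext b
    by_contra hb
    exact hcon ⟨b, hb⟩
  -- the orbit of `a` has `p` elements
  have hdvd : Nat.card (MulAction.orbit Q a) ∣ p := by
    have h := MulAction.card_orbit_mul_card_stabilizer_eq_card_group Q a
    rw [← Nat.card_eq_fintype_card, ← Nat.card_eq_fintype_card, ← Nat.card_eq_fintype_card, hQ] at h
    exact Dvd.intro _ h
  have hne1 : Nat.card (MulAction.orbit Q a) ≠ 1 := by
    intro h1
    have hss : Subsingleton (MulAction.orbit Q a) := (Nat.card_eq_one_iff_unique.1 h1).1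
    have h2 : (⟨q • a, MulAction.mem_orbit a q⟩ : MulAction.orbit Q a) =
        ⟨a, MulAction.mem_orbit_self a⟩ := Subsingleton.elim _ _
    exact ha (congrArg Subtype.val h2)
  have hcard : Nat.card (MulAction.orbit Q a) = p := by
    rcases (Nat.dvd_prime hp).1 hdvd with h | h
    · exact absurd h hne1
    · exact h
  have huniv : MulAction.orbit Q a = Set.univ := by
    rw [Nat.card_coe_set_eq] at hcard
    apply Set.eq_univ_of_forall
    intro x
    by_contra hx
    have hlt : (MulAction.orbit Q a).ncard < (Set.univ : Set Ω).ncard := by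
      apply Set.ncard_lt_ncard _ (Set.toFinite _)
      exact ⟨Set.subset_univ _, fun h => hx (h (Set.mem_univ x))⟩
    rw [Set.ncard_univ, Nat.card_eq_fintype_card, hΩ, hcard] at hlt
    exact lt_irrefl _ hlt
  refine ⟨fun x y => ?_⟩
  have hx : x ∈ MulAction.orbit Q a := huniv ▸ Set.mem_univ x
  have hy : y ∈ MulAction.orbit Q a := huniv ▸ Set.mem_univ y
  obtain ⟨g, rfl⟩ := hx
  obtain ⟨h, rfl⟩ := hy
  exact ⟨h * g⁻¹, by simp [mul_smul]⟩

/-- A subgroup of order `p` of the symmetric group on `p` points is self-centralizing. -/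
theorem mem_of_mem_centralizer {Ω : Type*} [Fintype Ω] {p : ℕ} (hp : p.Prime)
    (hΩ : Fintype.card Ω = p) (Q : Subgroup (Perm Ω)) (hQ : Nat.card Q = p) (τ : Perm Ω)
    (hτ : τ ∈ Subgroup.centralizer (Q : Set (Perm Ω))) : τ ∈ Q := by
  have htr := isPretransitive_of_card hp hΩ Q hQ
  have hne : Nonempty Ω := by
    rw [← Fintype.card_pos_iff, hΩ]; exact hp.pos
  obtain ⟨a⟩ := hne
  obtain ⟨q, hq⟩ := htr.exists_smul_eq a (τ a)
  have hq' : (q : Perm Ω) a = τ a := hq
  have key : τ = (q : Perm Ω) := by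
    ext b
    obtain ⟨r, hr⟩ := htr.exists_smul_eq a b
    have hr' : (r : Perm Ω) a = b := hr
    have c1 : (r : Perm Ω) * τ = τ * r := hτ r r.2
    have c2 : (r : Perm Ω) * q = q * r := by
      have := Subgroup.mem_centralizer_iff.1 hτ
      -- `Q` has prime order, hence is commutative
      have : Fact p.Prime := ⟨hp⟩
      have hcyc : IsCyclic Q := isCyclic_of_prime_card hQ
      have hc : r * q = q * r := by
        obtain ⟨g, hg⟩ := hcyc.exists_generator
        obtain ⟨i, rfl⟩ := Subgroup.mem_zpowers_iff.1 (hg r)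
        obtain ⟨j, rfl⟩ := Subgroup.mem_zpowers_iff.1 (hg q)
        rw [← zpow_add, ← zpow_add, add_comm]
      exact congrArg Subtype.val hc
    calc τ b = τ ((r : Perm Ω) a) := by rw [hr']
      _ = ((τ * r : Perm Ω)) a := rfl
      _ = ((r : Perm Ω) * τ) a := by rw [c1]
      _ = (r : Perm Ω) (τ a) := rfl
      _ = (r : Perm Ω) ((q : Perm Ω) a) := by rw [hq']
      _ = ((r : Perm Ω) * q) a := rfl
      _ = ((q : Perm Ω) * r) a := by rw [c2]
      _ = (q : Perm Ω) b := by rw [Perm.mul_apply, hr']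
  rw [key]; exact q.2

/-- The normalizer of a subgroup of order `p` in the symmetric group on `p` points is solvable. -/
theorem isSolvable_normalizer {Ω : Type*} [Fintype Ω] {p : ℕ} (hp : p.Prime)
    (hΩ : Fintype.card Ω = p) (Q : Subgroup (Perm Ω)) (hQ : Nat.card Q = p) :
    Group.IsSolvable (Subgroup.normalizer (Q : Set (Perm Ω))) := by
  have : Fact p.Prime := ⟨hp⟩
  have hcyc : IsCyclic Q := isCyclic_of_prime_card hQ
  have hA : Group.IsSolvable (MulAut Q) := by
    apply Group.isSolvable_of_comm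
    intro a b
    apply (IsCyclic.mulAutMulEquiv Q).injective
    rw [map_mul, map_mul, mul_comm]
  have hK : Group.IsSolvable (Q.normalizerMonoidHom).ker := by
    apply Group.isSolvable_of_comm
    intro x y
    have hker := Subgroup.normalizerMonoidHom_ker (H := Q)
    have hx : (x : Subgroup.normalizer (Q : Set (Perm Ω))) ∈
        (Subgroup.centralizer (Q : Set (Perm Ω))).subgroupOf (Subgroup.normalizer (Q : Set (Perm Ω))) :=
      hker ▸ x.2
    have hy : (y : Subgroup.normalizer (Q : Set (Perm Ω))) ∈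
        (Subgroup.centralizer (Q : Set (Perm Ω))).subgroupOf (Subgroup.normalizer (Q : Set (Perm Ω))) :=
      hker ▸ y.2
    rw [Subgroup.mem_subgroupOf] at hx hy
    have hxQ := mem_of_mem_centralizer hp hΩ Q hQ _ hx
    have h := hy _ hxQ
    apply Subtype.ext; apply Subtype.ext
    exact h
  exact Group.isSolvable_of_ker_le_range (Q.normalizerMonoidHom).ker.subtype Q.normalizerMonoidHom
    (by simp)


/-- Transport of solvability of `Out` along an isomorphism. -/
theorem out_isSolvable_of_equiv {G Γ : Type*} [Group G] [Group Γ] (e : G ≃* Γ)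
    [h : Group.IsSolvable (Cfsg.Out Γ)] : Group.IsSolvable (Cfsg.Out G) := by
  let f : MulAut Γ →* Cfsg.Out G :=
    (QuotientGroup.mk' (Cfsg.Inn G)).comp (MulAut.congr e.symm).toMonoidHom
  have hf : Function.Surjective f := by
    intro y
    obtain ⟨a, rfl⟩ := QuotientGroup.mk_surjective y
    refine ⟨MulAut.congr e a, ?_⟩
    change QuotientGroup.mk' (Cfsg.Inn G) (MulAut.congr e.symm (MulAut.congr e a)) = _
    have : MulAut.congr e.symm (MulAut.congr e a) = a := by
      ext x
      simp [MulAut.congr]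
    rw [this]; rfl
  have hker : Cfsg.Inn Γ ≤ f.ker := by
    rintro _ ⟨γ, rfl⟩
    rw [MonoidHom.mem_ker]
    change QuotientGroup.mk' (Cfsg.Inn G) (MulAut.congr e.symm (MulAut.conj γ)) = 1
    rw [QuotientGroup.mk'_apply, QuotientGroup.eq_one_iff]
    refine ⟨e.symm γ, ?_⟩
    ext x
    simp [MulAut.congr, MulAut.conj_apply]
  let F : Cfsg.Out Γ →* Cfsg.Out G := QuotientGroup.lift (Cfsg.Inn Γ) f hker
  have hF : Function.Surjective F := by
    intro y
    obtain ⟨a, rfl⟩ := hf y
    exact ⟨QuotientGroup.mk a, rfl⟩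
  exact Group.isSolvable_of_surjective hF


/-- The order of a transitive permutation group of prime degree `p` is divisible by `p` exactly
once. -/
theorem card_dvd_and_not_sq_dvd {Ω : Type*} [Fintype Ω] {p : ℕ} (hp : p.Prime)
    (hΩ : Fintype.card Ω = p) (Γ : Subgroup (Perm Ω)) [htr : MulAction.IsPretransitive Γ Ω] :
    p ∣ Nat.card Γ ∧ ¬ p ^ 2 ∣ Nat.card Γ := by
  classical
  have hne : Nonempty Ω := by
    rw [← Fintype.card_pos_iff, hΩ]; exact hp.pos
  obtain ⟨a⟩ := hne
  constructor
  · have h1 := MulAction.index_stabilizer Γ a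
    rw [MulAction.orbit_eq_univ, Set.ncard_univ, Nat.card_eq_fintype_card, hΩ] at h1
    rw [← h1]
    exact Subgroup.index_dvd_card _
  · intro h
    have h2 : Nat.card Γ ∣ Nat.card (Perm Ω) := Subgroup.card_subgroup_dvd_card Γ
    rw [Nat.card_eq_fintype_card (α := Perm Ω), Fintype.card_perm, hΩ] at h2
    have h3 : p ^ 2 ∣ p.factorial := h.trans h2
    have h4 : p.factorial = p * (p - 1).factorial := by
      have : p = (p - 1) + 1 := by have := hp.one_lt; omega
      conv_lhs => rw [this, Nat.factorial_succ, ← this]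
    rw [h4, sq] at h3
    have h5 : p ∣ (p - 1).factorial := Nat.dvd_of_mul_dvd_mul_left hp.pos h3
    have h6 := (hp.dvd_factorial).1 h5
    have := hp.one_lt
    omega

set_option maxHeartbeats 800000 in
/-- Main assembly: if every odd-order automorphism of a transitive group `Γ` of prime degree is
induced by a permutation normalizing `Γ`, then `Out Γ` is solvable. -/
theorem out_isSolvable_of_perm {Ω : Type*} [Fintype Ω] {p : ℕ} (hp : p.Prime)
    (hΩ : Fintype.card Ω = p) (Γ : Subgroup (Perm Ω)) [htr : MulAction.IsPretransitive Γ Ω]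
    (hperm : ∀ α : MulAut Γ, Odd (orderOf α) → ∃ σ : Perm Ω,
      σ ∈ Subgroup.normalizer (Γ : Set (Perm Ω)) ∧
        ∀ g : Γ, ((α g : Γ) : Perm Ω) = σ * (g : Perm Ω) * σ⁻¹) :
    Group.IsSolvable (Cfsg.Out Γ) := by
  classical
  have hpf : Fact p.Prime := ⟨hp⟩
  let N : Subgroup (Perm Ω) := Subgroup.normalizer (Γ : Set (Perm Ω))
  let ψ : N →* MulAut Γ := Γ.normalizerMonoidHom
  let π : MulAut Γ →* Cfsg.Out Γ := QuotientGroup.mk' (Cfsg.Inn Γ)
  let B : Subgroup (Cfsg.Out Γ) := (π.comp ψ).range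
  -- Claim 1: odd-order elements of `Out Γ` lie in `B`
  have h1 : ∀ x : Cfsg.Out Γ, Odd (orderOf x) → x ∈ B := by
    intro x hx
    obtain ⟨a, rfl⟩ := QuotientGroup.mk_surjective x
    obtain ⟨s, hs⟩ := exists_two_pow_odd a
    obtain ⟨σ, hσN, hσ⟩ := hperm (a ^ 2 ^ s) hs
    have hb : π (a ^ 2 ^ s) ∈ B := by
      refine ⟨⟨σ, hσN⟩, ?_⟩
      change π (ψ ⟨σ, hσN⟩) = _
      have : ψ ⟨σ, hσN⟩ = a ^ 2 ^ s := by
        ext g
        rw [hσ g]; rfl
      rw [this]
    have hcop : (2 ^ s).Coprime (orderOf (QuotientGroup.mk a : Cfsg.Out Γ)) :=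
      Nat.Coprime.pow_left s (Nat.coprime_two_left.mpr hx)
    obtain ⟨m, hm⟩ := exists_pow_eq_self_of_coprime hcop
    rw [← hm]
    apply Subgroup.pow_mem
    exact hb
  -- Claim 2: `B` is solvable (Frattini argument)
  let Γ' : Subgroup N := Γ.subgroupOf N
  have hΓ'n : Γ'.Normal := Subgroup.normal_in_normalizer
  obtain ⟨P⟩ : Nonempty (Sylow p Γ') := inferInstance
  let P1 : Subgroup N := (P : Subgroup Γ').map Γ'.subtype
  let M : Subgroup N := Subgroup.normalizer (P1 : Set N)
  have hsup : M ⊔ Γ' = ⊤ := Sylow.normalizer_sup_eq_top P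
  have hΓ'map : Γ'.map (π.comp ψ) = ⊥ := by
    rw [eq_bot_iff]
    rintro _ ⟨g, hg, rfl⟩
    rw [Subgroup.mem_bot]
    change π (ψ g) = 1
    rw [QuotientGroup.mk'_apply, QuotientGroup.eq_one_iff]
    have hg' : (g : Perm Ω) ∈ Γ := Subgroup.mem_subgroupOf.1 hg
    refine ⟨⟨g, hg'⟩, ?_⟩
    ext x
    rfl
  have hB : B = M.map (π.comp ψ) := by
    change (π.comp ψ).range = _
    rw [MonoidHom.range_eq_map, ← hsup, Subgroup.map_sup, hΓ'map, sup_bot_eq]
  -- `M` is solvable: it embeds into the normalizer of a subgroup of order `p`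
  let Q : Subgroup (Perm Ω) := P1.map N.subtype
  have hQcard : Nat.card Q = p := by
    have e1 : Nat.card Q = Nat.card P1 :=
      Nat.card_congr (P1.equivMapOfInjective N.subtype N.subtype_injective).symm.toEquiv
    have e2 : Nat.card P1 = Nat.card (P : Subgroup Γ') :=
      Nat.card_congr ((P : Subgroup Γ').equivMapOfInjective Γ'.subtype
        Γ'.subtype_injective).symm.toEquiv
    have e3 : Nat.card Γ' = Nat.card Γ :=
      Nat.card_congr (Subgroup.subgroupOfEquivOfLe (Subgroup.le_normalizer)).toEquiv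
    obtain ⟨hd, hnd⟩ := card_dvd_and_not_sq_dvd hp hΩ Γ
    rw [← e3] at hd hnd
    obtain ⟨k, hk⟩ := IsPGroup.iff_card.1 P.2
    have hk0 : k ≠ 0 := by
      rintro rfl
      have := P.dvd_card_of_dvd_card hd
      rw [hk, pow_zero] at this
      exact hp.one_lt.ne' (Nat.dvd_one.1 this)
    have hk2 : k < 2 := by
      by_contra hcon
      push Not at hcon
      apply hnd
      calc p ^ 2 ∣ p ^ k := pow_dvd_pow p hcon
        _ ∣ Nat.card Γ' := hk ▸ Subgroup.card_subgroup_dvd_card (P : Subgroup Γ')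
    have hk1 : k = 1 := by omega
    rw [e1, e2, hk, hk1, pow_one]
  have hQs := isSolvable_normalizer hp hΩ Q hQcard
  have hle : M.map N.subtype ≤ Subgroup.normalizer (Q : Set (Perm Ω)) :=
    Subgroup.le_normalizer_map N.subtype
  let f : M →* Subgroup.normalizer (Q : Set (Perm Ω)) :=
    MonoidHom.codRestrict (N.subtype.comp M.subtype) _
      (fun m => hle ⟨m.1, m.2, rfl⟩)
  have hf : Function.Injective f := by
    intro m1 m2 h
    have := congrArg Subtype.val h
    exact Subtype.ext (Subtype.ext this)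
  have hMs : Group.IsSolvable M := Group.isSolvable_of_isSolvable_injective hf
  have hBs : Group.IsSolvable B := by
    rw [hB]
    exact Group.isSolvable_of_surjective ((π.comp ψ).subgroupMap_surjective M)
  exact isSolvable_of_odd_mem B h1

end Cfsg.Agent.Helper27.S4277Lib
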