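import Mathlib
import Cfsg.Agent.Helper2.S3086Defs
import Cfsg.Agent.Helper2.S3086Basic
import Cfsg.Agent.Helper26.Replacement

/-! S3086 (P(G,V)-theorem), board `s3086pieces`, piece TIMM: Timmesfeld replacement for `U = V` in the linear setting
(a port of `Cfsg.Agent.Helper26.Replacement`, Kurzweil–Stellmacher 9.2.1–9.2.3). -/

set_option autoImplicit false
set_option linter.unusedSectionVars false

namespace Cfsg.Agent.S3086P

universe u

variable {p : ℕ} [Fact p.Prime] {V : Type u} [AddCommGroup V] [Module (ZMod p) V] [Finite V]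

/-- `|S + T| |S ∩ T| = |S| |T|` for subspaces -/
theorem TIMM_aux_card_sup_inf (S T : Submodule (ZMod p) V) :
    Nat.card ↥(S ⊔ T) * Nat.card ↥(S ⊓ T) = Nat.card ↥S * Nat.card ↥T := by
  rw [Module.natCard_eq_pow_finrank (K := ZMod p) (V := ↥(S ⊔ T)),
    Module.natCard_eq_pow_finrank (K := ZMod p) (V := ↥(S ⊓ T)),
    Module.natCard_eq_pow_finrank (K := ZMod p) (V := ↥S),
    Module.natCard_eq_pow_finrank (K := ZMod p) (V := ↥T), ← pow_add, ← pow_add,
    Submodule.finrank_sup_add_finrank_inf_eq]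

/-- a subspace containing another of at least the same order is equal to it -/
theorem TIMM_aux_eq_of_le_of_card_ge {S T : Submodule (ZMod p) V} (hle : S ≤ T) (hc : Nat.card ↥T ≤ Nat.card ↥S) :
    S = T := by
  apply Submodule.toAddSubgroup_injective
  exact AddSubgroup.eq_of_le_of_card_ge ((Submodule.toAddSubgroup_le S T).2 hle) hc

theorem TIMM_aux_centS_anti {W W' : Submodule (ZMod p) V} (h : W ≤ W') : centS W' ≤ centS W :=
  fun _ hg w hw => hg w (h hw)

theorem TIMM_aux_centS_sup (W W' : Submodule (ZMod p) V) : centS (W ⊔ W') = centS W ⊓ centS W' := by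
  apply le_antisymm
  · exact le_inf (TIMM_aux_centS_anti le_sup_left) (TIMM_aux_centS_anti le_sup_right)
  · rintro g ⟨h1, h2⟩ w hw
    obtain ⟨x, hx, y, hy, rfl⟩ := Submodule.mem_sup.1 hw
    rw [map_add, h1 x hx, h2 y hy]

theorem TIMM_aux_fixS_sup (B D : Subgroup (GLV p V)) : fixS (B ⊔ D) = fixS B ⊓ fixS D := by
  apply le_antisymm
  · exact le_inf (fixS_anti le_sup_left) (fixS_anti le_sup_right)
  · intro v hv g hg
    have h1 : B ⊔ D ≤ centS (fixS B ⊓ fixS D) :=
      sup_le ((le_centS_fixS B).trans (TIMM_aux_centS_anti inf_le_left))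
        ((le_centS_fixS D).trans (TIMM_aux_centS_anti inf_le_right))
    exact h1 hg v hv

theorem TIMM_aux_qv_pos (B : Subgroup (GLV p V)) : 0 < qv B :=
  Nat.mul_pos Nat.card_pos Nat.card_pos

/-- the lattice inequality `q(B) q(D) ≤ q(B ∩ D) q(BD)` and its equality case -/
theorem TIMM_aux_qv_mul_le (B D : Subgroup (GLV p V)) :
    qv B * qv D ≤ qv (B ⊓ D) * qv (B ⊔ D) ∧
      (qv B * qv D = qv (B ⊓ D) * qv (B ⊔ D) → fixS (B ⊓ D) = fixS B ⊔ fixS D) := by
  have h1 := Cfsg.Agent.Helper26.card_mul_card_le_inf_sup B D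
  have hsup : fixS B ⊔ fixS D ≤ fixS (B ⊓ D) := sup_le (fixS_anti inf_le_left) (fixS_anti inf_le_right)
  have h2 := TIMM_aux_card_sup_inf (fixS B) (fixS D)
  rw [← TIMM_aux_fixS_sup] at h2
  have h3 : Nat.card ↥(fixS B ⊔ fixS D) ≤ Nat.card ↥(fixS (B ⊓ D)) :=
    Nat.card_le_card_of_injective (Submodule.inclusion hsup) (Submodule.inclusion_injective hsup)
  unfold qv
  set a := Nat.card ↥B
  set d := Nat.card ↥D
  set i := Nat.card ↥(B ⊓ D)
  set s := Nat.card ↥(B ⊔ D)
  set cB := Nat.card ↥(fixS B)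
  set cD := Nat.card ↥(fixS D)
  set cS := Nat.card ↥(fixS B ⊔ fixS D)
  set cI := Nat.card ↥(fixS (B ⊓ D))
  set cU := Nat.card ↥(fixS (B ⊔ D))
  have hcU : 0 < cU := Nat.card_pos
  have hi : 0 < i := Nat.card_pos
  have hs : 0 < s := Nat.card_pos
  have e1 : a * cB * (d * cD) = (a * d) * (cS * cU) := by rw [h2]; ring
  have e2 : i * cI * (s * cU) = (i * s) * (cI * cU) := by ring
  rw [e1, e2]
  constructor
  · exact Nat.mul_le_mul h1 (Nat.mul_le_mul_right _ h3)
  · intro heq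
    have hcard : cS = cI := by
      by_contra hne
      have hlt : cS < cI := lt_of_le_of_ne h3 hne
      have : (a * d) * (cS * cU) < (i * s) * (cI * cU) :=
        calc (a * d) * (cS * cU) ≤ (i * s) * (cS * cU) := Nat.mul_le_mul_right _ h1
          _ < (i * s) * (cI * cU) :=
            Nat.mul_lt_mul_of_pos_left (Nat.mul_lt_mul_of_pos_right hlt hcU) (Nat.mul_pos hi hs)
      omega
    exact (TIMM_aux_eq_of_le_of_card_ge hsup (le_of_eq hcard.symm)).symm

/-- under the maximality hypothesis, maximisers of `q` are closed under intersection -/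
theorem TIMM_aux_qv_inf {A B D : Subgroup (GLV p V)} (hmax : ∀ X : Subgroup (GLV p V), X ≤ A → qv X ≤ qv A)
    (hB : B ≤ A) (hD : D ≤ A) (hfB : qv B = qv A) (hfD : qv D = qv A) :
    qv (B ⊓ D) = qv A ∧ fixS (B ⊓ D) = fixS B ⊔ fixS D := by
  obtain ⟨hle, heq⟩ := TIMM_aux_qv_mul_le B D
  rw [hfB, hfD] at hle heq
  have hx := hmax (B ⊓ D) (inf_le_left.trans hB)
  have hy := hmax (B ⊔ D) (sup_le hB hD)
  have hF := TIMM_aux_qv_pos A
  have hxe : qv (B ⊓ D) = qv A := by
    by_contra hne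
    have hlt : qv (B ⊓ D) < qv A := lt_of_le_of_ne hx hne
    have : qv (B ⊓ D) * qv (B ⊔ D) < qv A * qv A :=
      calc qv (B ⊓ D) * qv (B ⊔ D) ≤ qv (B ⊓ D) * qv A := Nat.mul_le_mul_left _ hy
        _ < qv A * qv A := Nat.mul_lt_mul_of_pos_right hlt hF
    omega
  refine ⟨hxe, heq ?_⟩
  have hye : qv (B ⊔ D) = qv A := by
    by_contra hne
    have hlt : qv (B ⊔ D) < qv A := lt_of_le_of_ne hy hne
    have : qv (B ⊓ D) * qv (B ⊔ D) < qv A * qv A := by
      rw [hxe]; exact Nat.mul_lt_mul_of_pos_left hlt hF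
    omega
  rw [hxe, hye]

/-- `[S, A]` for a set `S` of vectors: spanned by the `a u - u`, `a ∈ A`, `u ∈ S` -/
def TIMM_aux_WS (A : Subgroup (GLV p V)) (S : Set V) : Submodule (ZMod p) V :=
  Submodule.span (ZMod p) {w | ∃ a ∈ A, ∃ u ∈ S, w = a u - u}

theorem TIMM_aux_WS_univ (A : Subgroup (GLV p V)) : TIMM_aux_WS A Set.univ = comV A := by
  unfold TIMM_aux_WS comV
  congr 1
  ext w
  simp

theorem TIMM_aux_WS_empty (A : Subgroup (GLV p V)) : TIMM_aux_WS A ∅ = ⊥ := by
  unfold TIMM_aux_WS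
  rw [Submodule.span_eq_bot]
  rintro w ⟨a, -, u, hu, -⟩
  exact absurd hu (Set.notMem_empty u)

theorem TIMM_aux_WS_union (A : Subgroup (GLV p V)) (S S' : Set V) :
    TIMM_aux_WS A (S ∪ S') = TIMM_aux_WS A S ⊔ TIMM_aux_WS A S' := by
  unfold TIMM_aux_WS
  rw [← Submodule.span_union]
  congr 1
  ext w
  constructor
  · rintro ⟨a, ha, u, hu | hu, rfl⟩
    · exact Or.inl ⟨a, ha, u, hu, rfl⟩
    · exact Or.inr ⟨a, ha, u, hu, rfl⟩
  · rintro (⟨a, ha, u, hu, rfl⟩ | ⟨a, ha, u, hu, rfl⟩)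
    · exact ⟨a, ha, u, Or.inl hu, rfl⟩
    · exact ⟨a, ha, u, Or.inr hu, rfl⟩

/-- key computation: if `d u - u` is fixed by the abelian group `A` then `d` centralises `[u, A]` -/
theorem TIMM_aux_key {A : Subgroup (GLV p V)} (hab : ∀ a ∈ A, ∀ b ∈ A, a * b = b * a) {u : V} {d : GLV p V}
    (hd : d ∈ A) (hz : d u - u ∈ fixS A) : d ∈ centS (TIMM_aux_WS A {u}) := by
  intro w hw
  unfold TIMM_aux_WS at hw
  induction hw using Submodule.span_induction with
  | mem w hw =>
    obtain ⟨a, ha, u', hu', rfl⟩ := hw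
    rw [Set.mem_singleton_iff] at hu'
    subst hu'
    have h1 : d (a u') = a (d u') := by
      have := congrArg (fun g : GLV p V => g u') (hab d hd a ha)
      exact this
    have h2 : a (d u' - u') = d u' - u' := hz a ha
    rw [map_sub, h1]
    have h3 : a (d u') = a u' + (d u' - u') := by
      rw [map_sub] at h2
      have : a (d u') = a u' + (a (d u') - a u') := by abel
      rw [this, h2]
    rw [h3]
    abel
  | zero => exact map_zero d
  | add x y _ _ hx hy => rw [map_add, hx, hy]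
  | smul c x _ hx => rw [map_smul, hx]

/-- counting in the cyclic case: `|A| |C_V(A)| ≤ |C_A([u,A])| |[u,A] + C_V(A)|` -/
theorem TIMM_aux_card_cyclic {A : Subgroup (GLV p V)} (hab : ∀ a ∈ A, ∀ b ∈ A, a * b = b * a) (u : V) :
    Nat.card ↥A * Nat.card ↥(fixS A) ≤
      Nat.card ↥(A ⊓ centS (TIMM_aux_WS A {u})) * Nat.card ↥(TIMM_aux_WS A {u} ⊔ fixS A) := by
  set S : Submodule (ZMod p) V := TIMM_aux_WS A {u} ⊔ fixS A with hS
  have hmem : ∀ a : ↥A, (a : GLV p V) u - u ∈ S := fun a =>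
    (le_sup_left : TIMM_aux_WS A {u} ≤ S) (Submodule.subset_span ⟨a, a.2, u, rfl, rfl⟩)
  -- the subgroup of `Multiplicative S` corresponding to `C_V(A)`
  let M : Subgroup (Multiplicative ↥S) := AddSubgroup.toSubgroup ((fixS A).comap S.subtype).toAddSubgroup
  have hcard := Cfsg.Agent.Helper26.card_mul_card_le_of_fiber
    ((A ⊓ centS (TIMM_aux_WS A {u})).subgroupOf A) M
    (fun a : ↥A => Multiplicative.ofAdd (⟨(a : GLV p V) u - u, hmem a⟩ : ↥S)) (by
      intro a b hk
      rw [Subgroup.mem_subgroupOf]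
      refine Subgroup.mem_inf.2 ⟨(a⁻¹ * b).2, ?_⟩
      apply TIMM_aux_key hab (a⁻¹ * b).2
      -- `b u - a u ∈ C_V(A)`
      have hk' : ((b : GLV p V) u - u) - ((a : GLV p V) u - u) ∈ fixS A := by
        have : (-(⟨(a : GLV p V) u - u, hmem a⟩ : ↥S) + ⟨(b : GLV p V) u - u, hmem b⟩ : ↥S) ∈
            ((fixS A).comap S.subtype) := hk
        rw [Submodule.mem_comap] at this
        simpa [sub_eq_neg_add] using this
      have hk2 : (b : GLV p V) u - (a : GLV p V) u ∈ fixS A := by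
        have e : ((b : GLV p V) u - u) - ((a : GLV p V) u - u) = (b : GLV p V) u - (a : GLV p V) u := by abel
        rwa [e] at hk'
      -- `a⁻¹ (b u - a u) = b u - a u`
      have h1 : ((a : GLV p V)⁻¹) ((b : GLV p V) u - (a : GLV p V) u) = (b : GLV p V) u - (a : GLV p V) u :=
        hk2 _ (A.inv_mem a.2)
      have h2 : ((a⁻¹ * b : ↥A) : GLV p V) u - u = ((a : GLV p V)⁻¹) ((b : GLV p V) u - (a : GLV p V) u) := by
        rw [map_sub]
        have e1 : ((a : GLV p V)⁻¹) ((a : GLV p V) u) = u := (a : GLV p V).symm_apply_apply u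
        rw [e1]
        rfl
      rw [h2, h1]
      exact hk2)
  -- rewrite the cardinalities
  have hM : Nat.card ↥M = Nat.card ↥(fixS A) := by
    have e : ↥M ≃ ↥(fixS A) :=
      { toFun := fun x => ⟨((Multiplicative.toAdd (x : Multiplicative ↥S) : ↥S) : V), x.2⟩
        invFun := fun c => ⟨Multiplicative.ofAdd (⟨(c : V), (le_sup_right : fixS A ≤ S) c.2⟩ : ↥S), c.2⟩
        left_inv := fun x => rfl
        right_inv := fun c => rfl }
    exact Nat.card_congr e
  have hN : Nat.card ↥((A ⊓ centS (TIMM_aux_WS A {u})).subgroupOf A) = Nat.card ↥(A ⊓ centS (TIMM_aux_WS A {u})) :=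
    Nat.card_congr (Subgroup.subgroupOfEquivOfLe inf_le_left).toEquiv
  have hK : Nat.card (Multiplicative ↥S) = Nat.card ↥S := rfl
  rw [hM, hN, hK] at hcard
  exact hcard

/-- `[S,A] + C_V(A) ≤ C_V(C_A([S,A]))` -/
theorem TIMM_aux_sup_le (A : Subgroup (GLV p V)) (S : Set V) :
    TIMM_aux_WS A S ⊔ fixS A ≤ fixS (A ⊓ centS (TIMM_aux_WS A S)) := by
  apply sup_le
  · intro w hw g hg
    exact (Subgroup.mem_inf.1 hg).2 w hw
  · exact fixS_anti inf_le_left

/-- the cyclic case of the replacement theorem -/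
theorem TIMM_aux_cyclic {A : Subgroup (GLV p V)} (hab : ∀ a ∈ A, ∀ b ∈ A, a * b = b * a)
    (hmax : ∀ X : Subgroup (GLV p V), X ≤ A → qv X ≤ qv A) (u : V) :
    qv (A ⊓ centS (TIMM_aux_WS A {u})) = qv A ∧
      fixS (A ⊓ centS (TIMM_aux_WS A {u})) = TIMM_aux_WS A {u} ⊔ fixS A := by
  have h1 := TIMM_aux_card_cyclic hab u
  have h2 := TIMM_aux_sup_le A {u}
  have h3 : Nat.card ↥(TIMM_aux_WS A {u} ⊔ fixS A) ≤ Nat.card ↥(fixS (A ⊓ centS (TIMM_aux_WS A {u}))) :=
    Nat.card_le_card_of_injective (Submodule.inclusion h2) (Submodule.inclusion_injective h2)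
  have hm := hmax _ (inf_le_left : A ⊓ centS (TIMM_aux_WS A {u}) ≤ A)
  unfold qv at hm ⊢
  set n := Nat.card ↥(A ⊓ centS (TIMM_aux_WS A {u}))
  set w := Nat.card ↥(TIMM_aux_WS A {u} ⊔ fixS A)
  set c := Nat.card ↥(fixS (A ⊓ centS (TIMM_aux_WS A {u})))
  have hn : 0 < n := Nat.card_pos
  have h4 : n * w ≤ n * c := Nat.mul_le_mul_left _ h3
  have h5 : n * w = n * c := by omega
  have h6 : w = c := Nat.eq_of_mul_eq_mul_left hn h5
  refine ⟨by omega, ?_⟩
  exact (TIMM_aux_eq_of_le_of_card_ge h2 (le_of_eq h6.symm)).symm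

/-- the replacement property for a finite set of vectors -/
theorem TIMM_aux_finset {A : Subgroup (GLV p V)} (hab : ∀ a ∈ A, ∀ b ∈ A, a * b = b * a)
    (hmax : ∀ X : Subgroup (GLV p V), X ≤ A → qv X ≤ qv A) (s : Finset V) :
    qv (A ⊓ centS (TIMM_aux_WS A (s : Set V))) = qv A ∧
      fixS (A ⊓ centS (TIMM_aux_WS A (s : Set V))) = TIMM_aux_WS A (s : Set V) ⊔ fixS A := by
  classical
  induction s using Finset.induction_on with
  | empty =>
    have h0 : A ⊓ centS (TIMM_aux_WS A ((∅ : Finset V) : Set V)) = A := by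
      rw [Finset.coe_empty, TIMM_aux_WS_empty]
      apply inf_of_le_left
      intro g _ w hw
      rw [(Submodule.mem_bot (ZMod p)).1 hw, map_zero]
    rw [h0]
    refine ⟨rfl, ?_⟩
    rw [Finset.coe_empty, TIMM_aux_WS_empty, bot_sup_eq]
  | insert u s _ ih =>
    obtain ⟨ih1, ih2⟩ := ih
    obtain ⟨c1, c2⟩ := TIMM_aux_cyclic hab hmax u
    have e : A ⊓ centS (TIMM_aux_WS A ((insert u s : Finset V) : Set V)) =
        (A ⊓ centS (TIMM_aux_WS A {u})) ⊓ (A ⊓ centS (TIMM_aux_WS A (s : Set V))) := by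
      rw [Finset.coe_insert, Set.insert_eq, TIMM_aux_WS_union, TIMM_aux_centS_sup, inf_inf_distrib_left]
    rw [e]
    obtain ⟨q1, q2⟩ := TIMM_aux_qv_inf hmax inf_le_left inf_le_left c1 ih1
    refine ⟨q1, ?_⟩
    rw [q2, c2, ih2, Finset.coe_insert, Set.insert_eq, TIMM_aux_WS_union]
    apply le_antisymm
    · apply sup_le
      · exact sup_le (le_sup_left.trans le_sup_left) le_sup_right
      · exact sup_le (le_sup_right.trans le_sup_left) le_sup_right
    · apply sup_le
      · exact sup_le (le_sup_left.trans le_sup_left) (le_sup_left.trans le_sup_right)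
      · exact le_sup_right.trans le_sup_left

/-- Timmesfeld replacement for `U = V`, abelian `A` maximising `q` among its subgroups -/
theorem TIMM_aux_main {A : Subgroup (GLV p V)} (hab : ∀ a ∈ A, ∀ b ∈ A, a * b = b * a)
    (hmax : ∀ X : Subgroup (GLV p V), X ≤ A → qv X ≤ qv A) :
    qv (Astar A) = qv A ∧ fixS (Astar A) = comV A ⊔ fixS A := by
  classical
  have : Fintype V := Fintype.ofFinite V
  have h := TIMM_aux_finset hab hmax (Finset.univ : Finset V)
  rw [Finset.coe_univ, TIMM_aux_WS_univ] at h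
  exact h

/-- a nontrivial `p`-subgroup `A` of `GL(V)` has `[V,A] + C_V(A) ≠ V` (an `A`-invariant functional vanishing on `C_V(A)`) -/
theorem TIMM_aux_ne_top {A : Subgroup (GLV p V)} (hA : IsPGroup p ↥A) (hne : A ≠ ⊥) : comV A ⊔ fixS A ≠ ⊤ := by
  classical
  intro htop
  have hC : fixS A < ⊤ := by
    rw [lt_top_iff_ne_top]
    intro h
    apply hne
    rw [eq_bot_iff]
    intro a ha
    rw [Subgroup.mem_bot]
    apply LinearEquiv.ext
    intro v
    have hv : v ∈ fixS A := by rw [h]; trivial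
    exact hv a ha
  obtain ⟨f₀, hf₀, hCf₀⟩ := Submodule.exists_le_ker_of_lt_top (fixS A) hC
  have hfinD : Finite (Module.Dual (ZMod p) V) :=
    Finite.of_injective (fun f : Module.Dual (ZMod p) V => (f : V → ZMod p)) DFunLike.coe_injective
  have hmemΛ : ∀ f : Module.Dual (ZMod p) V, f ∈ (fixS A).dualAnnihilator ↔ ∀ w ∈ fixS A, f w = 0 :=
    fun f => Submodule.mem_dualAnnihilator f
  let act : MulAction ↥A ↥((fixS A).dualAnnihilator) :=
    { smul := fun a f => ⟨(f : Module.Dual (ZMod p) V).comp (((a : GLV p V)⁻¹ : GLV p V) : V →ₗ[ZMod p] V), by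
        rw [hmemΛ]
        intro w hw
        have h1 : ((a : GLV p V)⁻¹) w = w := hw _ (A.inv_mem a.2)
        show (f : Module.Dual (ZMod p) V) (((a : GLV p V)⁻¹) w) = 0
        rw [h1]
        exact (hmemΛ _).1 f.2 w hw⟩
      one_smul := fun f => by
        apply Subtype.ext
        apply LinearMap.ext
        intro v
        show (f : Module.Dual (ZMod p) V) ((((1 : ↥A) : GLV p V)⁻¹) v) = (f : Module.Dual (ZMod p) V) v
        rw [Subgroup.coe_one, inv_one]
        rfl
      mul_smul := fun a b f => by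
        apply Subtype.ext
        apply LinearMap.ext
        intro v
        show (f : Module.Dual (ZMod p) V) ((((a * b : ↥A) : GLV p V)⁻¹) v) =
          (f : Module.Dual (ZMod p) V) (((b : GLV p V)⁻¹) (((a : GLV p V)⁻¹) v))
        rw [Subgroup.coe_mul, mul_inv_rev]
        rfl }
  have hsmul : ∀ (a : ↥A) (f : ↥((fixS A).dualAnnihilator)) (v : V),
      ((a • f : ↥((fixS A).dualAnnihilator)) : Module.Dual (ZMod p) V) v =
        (f : Module.Dual (ZMod p) V) (((a : GLV p V)⁻¹) v) := fun _ _ _ => rfl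
  have h0 : (0 : ↥((fixS A).dualAnnihilator)) ∈ MulAction.fixedPoints ↥A ↥((fixS A).dualAnnihilator) := by
    intro a
    apply Subtype.ext
    apply LinearMap.ext
    intro v
    rw [hsmul]
    rfl
  have hnt : Nontrivial ↥((fixS A).dualAnnihilator) := by
    refine ⟨⟨⟨f₀, (hmemΛ f₀).2 fun w hw => LinearMap.mem_ker.1 (hCf₀ hw)⟩, 0, ?_⟩⟩
    intro h
    exact hf₀ (congrArg Subtype.val h)
  have hdvd : p ∣ Nat.card ↥((fixS A).dualAnnihilator) := by
    have hc := Module.natCard_eq_pow_finrank (K := ZMod p) (V := ↥((fixS A).dualAnnihilator))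
    rw [Nat.card_zmod] at hc
    rw [hc]
    have hk : Module.finrank (ZMod p) ↥((fixS A).dualAnnihilator) ≠ 0 := by
      intro hk
      rw [hk, pow_zero] at hc
      have := Finite.one_lt_card_iff_nontrivial.2 hnt
      omega
    exact dvd_pow_self p hk
  obtain ⟨f, hf, hf0⟩ := hA.exists_fixed_point_of_prime_dvd_card_of_fixed_point
    ↥((fixS A).dualAnnihilator) hdvd h0
  -- `f` is `A`-invariant and vanishes on `C_V(A)`, hence on `[V,A] + C_V(A) = V`
  have hinv : ∀ a ∈ A, ∀ v : V, (f : Module.Dual (ZMod p) V) (a v) = (f : Module.Dual (ZMod p) V) v := by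
    intro a ha v
    have h1 := hf ⟨a⁻¹, A.inv_mem ha⟩
    have h2 := congrArg (fun g : ↥((fixS A).dualAnnihilator) => (g : Module.Dual (ZMod p) V) v) h1
    simp only [hsmul] at h2
    rw [← h2]
    show (f : Module.Dual (ZMod p) V) (a v) = (f : Module.Dual (ZMod p) V) (((a⁻¹)⁻¹ : GLV p V) v)
    rw [inv_inv]
  have hker : comV A ⊔ fixS A ≤ LinearMap.ker (f : Module.Dual (ZMod p) V) := by
    apply sup_le
    · unfold comV
      rw [Submodule.span_le]
      rintro _ ⟨a, ha, v, rfl⟩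
      show a v - v ∈ LinearMap.ker (f : Module.Dual (ZMod p) V)
      rw [LinearMap.mem_ker, map_sub, hinv a ha, sub_self]
    · intro w hw
      exact LinearMap.mem_ker.2 ((hmemΛ _).1 f.2 w hw)
  rw [htop] at hker
  apply hf0
  apply Subtype.ext
  apply LinearMap.ext
  intro v
  have : v ∈ LinearMap.ker (f : Module.Dual (ZMod p) V) := hker trivial
  exact (LinearMap.mem_ker.1 this).symm

variable {K A : Subgroup (GLV p V)}

/-- TIMM (L): Timmesfeld replacement for `U = V` (transport of S0599, or a port of `Helper26.Replacement`). -/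
theorem Hyp.star (H : Hyp p V K A) :
    Hyp p V K (Astar A) ∧ qv (Astar A) = qv A ∧ fixS (Astar A) = comV A ⊔ fixS A := by
  have hab : ∀ a ∈ A, ∀ b ∈ A, a * b = b * a := by
    intro a ha b hb
    have := H.hAel.1.is_comm.comm ⟨a, ha⟩ ⟨b, hb⟩
    exact congrArg Subtype.val this
  obtain ⟨h1, h2⟩ := TIMM_aux_main hab H.hbest
  refine ⟨⟨H.hK, ?_, ?_, ?_, ?_⟩, h1, h2⟩
  · intro hbot
    rw [hbot, fixS_bot] at h2
    have hP : IsPGroup p ↥A := by
      rintro ⟨a, ha⟩
      refine ⟨1, Subtype.ext ?_⟩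
      simpa using H.hAel.2 a ha
    exact TIMM_aux_ne_top hP H.hA1 h2.symm
  · refine ⟨⟨⟨?_⟩⟩, fun a ha => H.hAel.2 a (Astar_le A ha)⟩
    rintro ⟨a, ha⟩ ⟨b, hb⟩
    exact Subtype.ext (hab a (Astar_le A ha) b (Astar_le A hb))
  · intro B hB
    rw [h1]
    exact H.hbest B (hB.trans (Astar_le A))
  · intro a ha
    exact H.hcomm a (Astar_le A ha)

end Cfsg.Agent.S3086P
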