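import Mathlib
import Cfsg.Agent.Helper2.S3086Defs
import Cfsg.Agent.Helper2.S3086Basic

/-! S3086 (P(G,V)-theorem), board `s3086pieces`, row CASE1T: auxiliary lemmas (no dependency on other rows). -/

set_option autoImplicit false
set_option linter.unusedSectionVars false

namespace Cfsg.Agent.S3086P

universe u

variable {p : ℕ} [Fact p.Prime] {V : Type u} [AddCommGroup V] [Module (ZMod p) V] [Finite V]

/-- iterating a fixed point -/
theorem CASE1T_aux_pow_fix {g : GLV p V} {w : V} {k : ℕ} (hk : (g ^ k) w = w) : ∀ m : ℕ, (g ^ (k * m)) w = w := by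
  intro m
  induction m with
  | zero => simp
  | succ m ih =>
    rw [Nat.mul_succ, pow_add, LinearEquiv.mul_apply, hk, ih]

/-- the arithmetic core: an odd-order element with a short cycle on `w` has `g ^ 3` fixing `w` -/
theorem CASE1T_aux_cube_fix {g : GLV p V} {w : V} {n : ℕ} (hn : Odd n) (hgn : g ^ n = 1) {k : ℕ} (hk1 : 1 ≤ k) (hk4 : k ≤ 4)
    (hk : (g ^ k) w = w) : (g ^ 3) w = w := by
  have hfix := CASE1T_aux_pow_fix hk
  have hr : (g ^ (n % k)) w = w := by
    have h1 : (g ^ n) w = w := by rw [hgn]; rfl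
    have h2 : n = n % k + k * (n / k) := by
      have := Nat.div_add_mod n k
      omega
    rw [h2, pow_add, LinearEquiv.mul_apply, hfix (n / k)] at h1
    exact h1
  obtain ⟨m, hm⟩ := hn
  interval_cases k
  · have := CASE1T_aux_pow_fix hk 3
    simpa using this
  · have h1 : n % 2 = 1 := by omega
    rw [h1] at hr
    have := CASE1T_aux_pow_fix hr 3
    simpa using this
  · exact hk
  · have h1 : n % 4 = 1 ∨ n % 4 = 3 := by omega
    rcases h1 with h1 | h1
    · rw [h1] at hr
      have := CASE1T_aux_pow_fix hr 3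
      simpa using this
    · rw [h1] at hr
      exact hr

/-- pigeonhole: a point of a `g`-stable subspace of size at most 4 has a short cycle -/
theorem CASE1T_aux_pigeon {g : GLV p V} (W : Submodule (ZMod p) V) (hgW : ∀ w ∈ W, g w ∈ W) (hW : Nat.card ↥W ≤ 4)
    {w : V} (hw : w ∈ W) : ∃ k : ℕ, 1 ≤ k ∧ k ≤ 4 ∧ (g ^ k) w = w := by
  have hpow : ∀ i : ℕ, (g ^ i) w ∈ W := by
    intro i
    induction i with
    | zero => simpa using hw
    | succ i ih =>
      rw [pow_succ', LinearEquiv.mul_apply]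
      exact hgW _ ih
  let f : Fin 5 → ↥W := fun i => ⟨(g ^ (i : ℕ)) w, hpow i⟩
  have hnot : ¬ Function.Injective f := by
    intro hinj
    have h1 := Nat.card_le_card_of_injective f hinj
    rw [Nat.card_eq_fintype_card, Fintype.card_fin] at h1
    omega
  rw [Function.Injective] at hnot
  push Not at hnot
  obtain ⟨i, j, hij, hne⟩ := hnot
  have hij' : (g ^ (i : ℕ)) w = (g ^ (j : ℕ)) w := congrArg Subtype.val hij
  have key : ∀ a b : ℕ, a < b → b ≤ 4 → (g ^ a) w = (g ^ b) w → ∃ k : ℕ, 1 ≤ k ∧ k ≤ 4 ∧ (g ^ k) w = w := by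
    intro a b hab hb h
    refine ⟨b - a, by omega, by omega, ?_⟩
    have h2 : b = a + (b - a) := by omega
    rw [h2, pow_add, LinearEquiv.mul_apply] at h
    exact ((g ^ a).injective h).symm
  have hi := i.2
  have hj := j.2
  rcases lt_trichotomy (i : ℕ) (j : ℕ) with h | h | h
  · exact key _ _ h (by omega) hij'
  · exact absurd (Fin.ext h) hne
  · exact key _ _ h (by omega) hij'.symm


/-- `|V| = |ker f| |range f|` -/
theorem CASE1T_aux_card_ker_range (f : Module.End (ZMod p) V) :
    Nat.card V = Nat.card ↥(LinearMap.ker f) * Nat.card ↥(LinearMap.range f) := by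
  rw [Submodule.card_eq_card_quotient_mul_card (LinearMap.ker f), Nat.card_congr (LinearMap.quotKerEquivRange f).toEquiv]

/-- membership in `stabS` from invariance under `g` and `g⁻¹` -/
theorem CASE1T_aux_stab {g : GLV p V} {W : Submodule (ZMod p) V} (h1 : ∀ w ∈ W, g w ∈ W) (h2 : ∀ w ∈ W, g⁻¹ w ∈ W) :
    g ∈ stabS W := by
  rw [mem_stabS]
  intro w
  constructor
  · exact h1 w
  · intro h
    have h3 := h2 _ h
    have h4 : g⁻¹ (g w) = w := g.symm_apply_apply w
    rw [h4] at h3
    exact h3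

/-- `[V,g]` is `g`-stable -/
theorem CASE1T_aux_range_stab (g : GLV p V) : g ∈ stabS (LinearMap.range (Nop g)) := by
  apply CASE1T_aux_stab
  · rintro w ⟨v, rfl⟩
    refine ⟨g v, ?_⟩
    simp
  · rintro w ⟨v, rfl⟩
    refine ⟨g⁻¹ v, ?_⟩
    have h4 : g (g⁻¹ v) = v := g.apply_symm_apply v
    have h5 : g⁻¹ (g v) = v := g.symm_apply_apply v
    simp

/-- an involution inverting `g` stabilises `[V,g]` -/
theorem CASE1T_aux_range_stab_inv {a g : GLV p V} (ha : a * a = 1) (hag : a * g * a⁻¹ = g⁻¹) :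
    a ∈ stabS (LinearMap.range (Nop g)) := by
  have hainv : a⁻¹ = a := inv_eq_of_mul_eq_one_right ha
  have key : ∀ w ∈ LinearMap.range (Nop g), a w ∈ LinearMap.range (Nop g) := by
    rintro w ⟨v, rfl⟩
    -- a (g v - v) = g⁻¹ (a v) - a v = -(g (g⁻¹ (a v)) - g⁻¹ (a v))
    refine ⟨- (g⁻¹ (a v)), ?_⟩
    have h1 : a * g = g⁻¹ * a := by
      have := congrArg (fun t => t * a) hag
      simpa [mul_assoc] using this
    have h2 : a (g v) = g⁻¹ (a v) := by
      have := congrArg (fun t : GLV p V => t v) h1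
      simpa [LinearEquiv.mul_apply] using this
    have h4 : g (g⁻¹ (a v)) = a v := g.apply_symm_apply (a v)
    simp only [Nop_apply, map_neg, map_sub, h4, h2]
    abel
  apply CASE1T_aux_stab key
  rw [hainv]
  exact key

end Cfsg.Agent.S3086P
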