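import Mathlib
import Cfsg.Agent.Helper2.S3086Defs
import Cfsg.Agent.Helper2.S3086Basic
import Cfsg.Agent.Helper2.S3086Defs2
import Cfsg.Agent.Helper16.S3086DIH
import Cfsg.Agent.Helper10.S3086QS3
import Cfsg.Agent.Helper27.S3086CASE1TAux

/-! S3086 (P(G,V)-theorem), board `s3086pieces`, row CASE1T: the core (R4 and COP as hypotheses). -/

set_option autoImplicit false
set_option linter.unusedSectionVars false

namespace Cfsg.Agent.S3086P

universe u

variable {p : ℕ} [Fact p.Prime] {V : Type u} [AddCommGroup V] [Module (ZMod p) V] [Finite V]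

variable {K A : Subgroup (GLV p V)}

/-- with `|A| = 2`, `a ∈ A`: `|[V,a]| ≤ 2` from `q(1) ≤ q(A)` -/
theorem CASE1T_aux_range_le (H : Hyp p V K A) (hcard : Nat.card ↥A = 2) {a : GLV p V} (ha : a ∈ A) :
    Nat.card ↥(LinearMap.range (Nop a)) ≤ 2 := by
  have h1 := H.hbest ⊥ bot_le
  have h2 : qv (⊥ : Subgroup (GLV p V)) = Nat.card V := by
    rw [qv, fixS_bot, Subgroup.card_bot, one_mul]
    exact Nat.card_congr (Submodule.topEquiv (R := ZMod p) (M := V)).toEquiv
  have h3 : fixS A ≤ LinearMap.ker (Nop a) := by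
    intro v hv
    rw [mem_ker_Nop]
    exact hv a ha
  have h4 : Nat.card ↥(fixS A) ≤ Nat.card ↥(LinearMap.ker (Nop a)) :=
    Nat.card_le_card_of_injective (Submodule.inclusion h3) (Submodule.inclusion_injective h3)
  rw [h2, qv, hcard, CASE1T_aux_card_ker_range (Nop a)] at h1
  have h5 : 0 < Nat.card ↥(LinearMap.ker (Nop a)) := Nat.card_pos
  have h6 : Nat.card ↥(LinearMap.ker (Nop a)) * Nat.card ↥(LinearMap.range (Nop a)) ≤
      Nat.card ↥(LinearMap.ker (Nop a)) * 2 := by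
    calc _ ≤ 2 * Nat.card ↥(fixS A) := h1
      _ ≤ 2 * Nat.card ↥(LinearMap.ker (Nop a)) := Nat.mul_le_mul_left 2 h4
      _ = _ := Nat.mul_comm _ _
  exact Nat.le_of_mul_le_mul_left h6 h5

/-- CASE1T, core: with `|A| = 2` (from R4) and the coprime-action decomposition COP as hypotheses. -/
theorem CASE1T_core (M : MC p V K A) (hp : p = 2) (hcard : Nat.card ↥A = 2)
    (hCOP : ∀ x : GLV p V, (orderOf x).Coprime p →
      LinearMap.ker (Nop x) ⊓ LinearMap.range (Nop x) = ⊥ ∧ LinearMap.ker (Nop x) ⊔ LinearMap.range (Nop x) = ⊤) : False := by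
  have H := M.hyp
  -- the element `a`
  have hnot := M.hnot
  rw [Norm] at hnot
  push Not at hnot
  obtain ⟨a, haA, hane⟩ := hnot
  have hcomm : CommS K (cjg a K) := (H.hcomm a haA).resolve_left hane
  have ha2 : a * a = 1 := by
    have h1 : a ^ p = 1 := H.hAel.2 a haA
    have h2 : a ^ p = a ^ 2 := congrArg (fun n : ℕ => a ^ n) hp
    rw [h2, pow_two] at h1
    exact h1
  have hainv : a⁻¹ = a := inv_eq_of_mul_eq_one_right ha2
  have hainv2 : a⁻¹ * a⁻¹ = 1 := by rw [hainv, ha2]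
  have hrange := CASE1T_aux_range_le H hcard haA
  -- `x`, `y`
  obtain ⟨x, hxK, hxodd, y, hyK, hxy⟩ := QS_not_23 H.hK
  have hx'mem : a * x * a⁻¹ ∈ cjg a K := conj_mem_cjg hxK
  have hxx' : Commute x (a * x * a⁻¹) := hcomm x hxK _ hx'mem
  have hcomm' : Commute x⁻¹ (a * x * a⁻¹) := hxx'.inv_left
  obtain ⟨g, hg⟩ : ∃ g : GLV p V, g = x⁻¹ * (a * x * a⁻¹) := ⟨_, rfl⟩
  have hag : a * g * a⁻¹ = g⁻¹ := by
    calc a * g * a⁻¹ = (a * x⁻¹ * a⁻¹) * ((a * a) * x * (a⁻¹ * a⁻¹)) := by rw [hg]; group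
      _ = (a * x⁻¹ * a⁻¹) * x := by rw [ha2, hainv2, one_mul, mul_one]
      _ = g⁻¹ := by rw [hg]; group
  have hgn : g ^ orderOf x = 1 := by
    rw [hg, hcomm'.mul_pow, conj_pow, inv_pow, pow_orderOf_eq_one]
    simp
  have hgodd : Odd (orderOf g) := Odd.of_dvd_nat hxodd (orderOf_dvd_of_pow_eq_one hgn)
  have hgcop : (orderOf g).Coprime p := by
    have h1 : (orderOf g).Coprime 2 := Nat.coprime_two_right.mpr hgodd
    exact (congrArg (fun n : ℕ => (orderOf g).Coprime n) hp).mpr h1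
  have hgW := CASE1T_aux_range_stab g
  have haW := CASE1T_aux_range_stab_inv ha2 hag
  obtain ⟨hcop1, hcop2⟩ := hCOP g hgcop
  have hfpf : ∀ w ∈ LinearMap.range (Nop g), g w = w → w = 0 := by
    intro w hw hgw
    have h1 : w ∈ LinearMap.ker (Nop g) ⊓ LinearMap.range (Nop g) := ⟨mem_ker_Nop.mpr hgw, hw⟩
    rw [hcop1] at h1
    exact (Submodule.mem_bot _).mp h1
  obtain ⟨hd1, hd2⟩ := DIH hp ha2 hag hgodd (LinearMap.range (Nop g)) haW hgW hfpf
  have hWcard : Nat.card ↥(LinearMap.range (Nop g)) ≤ 4 := by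
    rw [hd2, hd1]
    have h1 : (LinearMap.range (Nop g)).map (Nop a) ≤ LinearMap.range (Nop a) := LinearMap.map_le_range
    have h2 : Nat.card ↥((LinearMap.range (Nop g)).map (Nop a)) ≤ Nat.card ↥(LinearMap.range (Nop a)) :=
      Nat.card_le_card_of_injective (Submodule.inclusion h1) (Submodule.inclusion_injective h1)
    calc _ ≤ 2 ^ 2 := Nat.pow_le_pow_left (h2.trans hrange) 2
      _ = 4 := by norm_num
  -- `g ^ 3 = 1`
  have hsub : (⊤ : Submodule (ZMod p) V) ≤ LinearMap.ker (Nop (g ^ 3)) := by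
    rw [← hcop2]
    apply sup_le
    · intro v hv
      rw [mem_ker_Nop] at hv ⊢
      have h1 : (g ^ 1) v = v := by simpa using hv
      have := CASE1T_aux_pow_fix h1 3
      simpa using this
    · intro w hw
      rw [mem_ker_Nop]
      obtain ⟨k, hk1, hk4, hk⟩ := CASE1T_aux_pigeon (LinearMap.range (Nop g)) (fun w hw => (hgW w).mp hw) hWcard hw
      exact CASE1T_aux_cube_fix hgodd (pow_orderOf_eq_one g) hk1 hk4 hk
  have hg3 : g ^ 3 = 1 := by
    apply LinearEquiv.ext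
    intro v
    exact mem_ker_Nop.mp (hsub Submodule.mem_top)
  -- `x' ^ 3 = x ^ 3`
  have hx3 : (a * x * a⁻¹) ^ 3 = x ^ 3 := by
    rw [hg, hcomm'.mul_pow, inv_pow] at hg3
    exact (inv_mul_eq_one.mp hg3).symm
  apply hxy
  have h3mem : (a * x * a⁻¹) ^ 3 ∈ cjg a K := (cjg a K).pow_mem hx'mem 3
  have h4 := hcomm y hyK _ h3mem
  rw [hx3] at h4
  exact h4.symm

end Cfsg.Agent.S3086P
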