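import Mathlib
import Cfsg.Agent.Helper2.S3086Defs
import Cfsg.Agent.Helper2.S3086Basic
import Cfsg.Agent.Helper2.S3086Defs2
import Cfsg.Agent.Helper15.S3086COP
import Cfsg.Agent.Helper11.S3086R4
import Cfsg.Agent.Helper27.S3086CASE1TCore

/-! S3086 (P(G,V)-theorem), board `s3086pieces`, row CASE1T. -/

set_option autoImplicit false

namespace Cfsg.Agent.S3086P

universe u

variable {p : ℕ} [Fact p.Prime] {V : Type u} [AddCommGroup V] [Module (ZMod p) V] [Finite V]

variable {K A : Subgroup (GLV p V)}

/-- CASE1T (L): `N_A(K) = 1` (then `A = ⟨a⟩`, `a` a transvection) is impossible. -/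
theorem CASE1T (M : MC p V K A) (hp : p = 2) (hB : A ⊓ Subgroup.normalizer (K : Set (GLV p V)) = ⊥) : False := by
  have hcard : Nat.card ↥A = 2 := by
    have h := R4 M hp
    rw [hB, Subgroup.card_bot] at h
    simpa using h
  exact CASE1T_core M hp hcard (fun x hx => COP hx)

end Cfsg.Agent.S3086P
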