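import Mathlib

/-!
# S0745 / S0746 (Livingstone–Wagner): shared definitions and basic API

Blueprint: `departures/helper27_S0745_blueprint.md`.  Everything here is stated for a subgroup
`G ≤ Perm α` and *elements* `g : Perm α` with `g ∈ G` (no coercions from `↥G`).
-/

set_option autoImplicit false

namespace Cfsg.Agent.S0745P

open Equiv

variable {α : Type*}

/-- number of fixed points of a permutation -/
def nfix [Fintype α] [DecidableEq α] (g : Perm α) : ℕ := (Finset.univ.filter fun x => g x = x).card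

/-- pointwise stabiliser of a finset, as a subgroup of `Perm α` -/
def PS (G : Subgroup (Perm α)) (s : Finset α) : Subgroup (Perm α) where
  carrier := {g | g ∈ G ∧ ∀ x ∈ s, g x = x}
  one_mem' := ⟨G.one_mem, fun _ _ => rfl⟩
  mul_mem' := by
    rintro g h ⟨hg, hg'⟩ ⟨hh, hh'⟩
    refine ⟨G.mul_mem hg hh, fun x hx => ?_⟩
    rw [Perm.mul_apply, hh' x hx, hg' x hx]
  inv_mem' := by
    rintro g ⟨hg, hg'⟩
    refine ⟨G.inv_mem hg, fun x hx => ?_⟩
    rw [Perm.inv_eq_iff_eq, hg' x hx]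

/-- setwise stabiliser of a finset, as a subgroup of `Perm α` -/
def SS (G : Subgroup (Perm α)) (s : Finset α) : Subgroup (Perm α) where
  carrier := {g | g ∈ G ∧ ∀ x, g x ∈ s ↔ x ∈ s}
  one_mem' := ⟨G.one_mem, fun _ => Iff.rfl⟩
  mul_mem' := by
    rintro g h ⟨hg, hg'⟩ ⟨hh, hh'⟩
    refine ⟨G.mul_mem hg hh, fun x => ?_⟩
    rw [Perm.mul_apply, hg', hh']
  inv_mem' := by
    rintro g ⟨hg, hg'⟩
    refine ⟨G.inv_mem hg, fun x => ?_⟩
    rw [← hg' (g⁻¹ x)]
    simp

theorem mem_PS {G : Subgroup (Perm α)} {s : Finset α} {g : Perm α} :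
    g ∈ PS G s ↔ g ∈ G ∧ ∀ x ∈ s, g x = x := Iff.rfl

theorem mem_SS {G : Subgroup (Perm α)} {s : Finset α} {g : Perm α} :
    g ∈ SS G s ↔ g ∈ G ∧ ∀ x, g x ∈ s ↔ x ∈ s := Iff.rfl

theorem PS_le (G : Subgroup (Perm α)) (s : Finset α) : PS G s ≤ G := fun _ h => h.1

theorem SS_le (G : Subgroup (Perm α)) (s : Finset α) : SS G s ≤ G := fun _ h => h.1

theorem PS_le_SS (G : Subgroup (Perm α)) (s : Finset α) : PS G s ≤ SS G s := by
  rintro g ⟨hg, hg'⟩
  refine ⟨hg, fun x => ⟨fun h => ?_, fun h => by rw [hg' x h]; exact h⟩⟩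
  have := hg' _ h
  rw [← g.injective this]
  exact h

/-- a permutation mapping a finset into itself stabilises it -/
theorem maps_iff_of_maps [DecidableEq α] {s : Finset α} {g : Perm α} (h : ∀ x ∈ s, g x ∈ s) (x : α) :
    g x ∈ s ↔ x ∈ s := by
  have himg : s.image g = s :=
    Finset.eq_of_subset_of_card_le (Finset.image_subset_iff.mpr h)
      (by rw [Finset.card_image_of_injective _ g.injective])
  refine ⟨fun hx => ?_, h x⟩
  rw [← himg] at hx
  obtain ⟨y, hy, hyx⟩ := Finset.mem_image.mp hx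
  rw [← g.injective hyx]
  exact hy

theorem mem_SS_of_maps [DecidableEq α] {G : Subgroup (Perm α)} {s : Finset α} {g : Perm α} (hg : g ∈ G)
    (h : ∀ x ∈ s, g x ∈ s) : g ∈ SS G s := ⟨hg, maps_iff_of_maps h⟩

/-- the action of the setwise stabiliser on the set -/
def resHom (G : Subgroup (Perm α)) (s : Finset α) : SS G s →* Perm {x // x ∈ s} where
  toFun g := (g : Perm α).subtypePerm g.2.2
  map_one' := by ext x; rfl
  map_mul' g h := by ext x; rfl

@[simp] theorem resHom_apply (G : Subgroup (Perm α)) (s : Finset α) (g : SS G s)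
    (x : {x // x ∈ s}) : ((resHom G s g) x : α) = (g : Perm α) (x : α) := rfl

/-- The working hypothesis: `G` is `t`-transitive (`t ≥ 1`), the pointwise stabiliser of every
`(t+1)`-set is trivial, the pointwise stabilisers of `t`-sets have order `c`, the degree is
`r * c + t` with `r ≥ 2` (the number of orbits of a `t`-point stabiliser outside the `t` points),
and `G` is `(t+1)`- and `(t+2)`-homogeneous. -/
structure Hyp [Fintype α] (G : Subgroup (Perm α)) (t c r : ℕ) : Prop where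
  t_pos : 1 ≤ t
  trans : ∀ x y : Fin t ↪ α, ∃ g ∈ G, ∀ i, g (x i) = y i
  semireg : ∀ g ∈ G, ∀ s : Finset α, s.card = t + 1 → (∀ x ∈ s, g x = x) → g = 1
  cardH : ∀ s : Finset α, s.card = t → Nat.card (PS G s) = c
  deg : Fintype.card α = r * c + t
  two_le : 2 ≤ r
  hom1 : ∀ s s' : Finset α, s.card = t + 1 → s'.card = t + 1 → ∃ g ∈ G, ∀ x, g x ∈ s' ↔ x ∈ s
  hom2 : ∀ s s' : Finset α, s.card = t + 2 → s'.card = t + 2 → ∃ g ∈ G, ∀ x, g x ∈ s' ↔ x ∈ s

open Classical in
/-- the involutions of `G` swapping `a, b` and fixing the other points of `Γ` -/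
noncomputable def swapLifts [Fintype α] (G : Subgroup (Perm α)) (Γ : Finset α) (a b : α) : Finset (Perm α) :=
  Finset.univ.filter fun u =>
    u ∈ G ∧ u ^ 2 = 1 ∧ u a = b ∧ u b = a ∧ ∀ x ∈ Γ, x ≠ a → x ≠ b → u x = x

open Classical in
/-- the involutions of `G` with exactly `f` fixed points -/
noncomputable def invF [Fintype α] [DecidableEq α] (G : Subgroup (Perm α)) (f : ℕ) : Finset (Perm α) :=
  Finset.univ.filter fun u => u ∈ G ∧ u ^ 2 = 1 ∧ u ≠ 1 ∧ nfix u = f

theorem mem_swapLifts [Fintype α] {G : Subgroup (Perm α)} {Γ : Finset α} {a b : α} {u : Perm α} :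
    u ∈ swapLifts G Γ a b ↔
      u ∈ G ∧ u ^ 2 = 1 ∧ u a = b ∧ u b = a ∧ ∀ x ∈ Γ, x ≠ a → x ≠ b → u x = x := by
  simp [swapLifts]

theorem mem_invF [Fintype α] [DecidableEq α] {G : Subgroup (Perm α)} {f : ℕ} {u : Perm α} :
    u ∈ invF G f ↔ u ∈ G ∧ u ^ 2 = 1 ∧ u ≠ 1 ∧ nfix u = f := by
  simp [invF]

end Cfsg.Agent.S0745P
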