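import Cfsg.Agent.Helper27.M12

/-!
Octads and a dodecad: intersection sizes, the Steiner system of hexads on a dodecad, and the numbers of octads meeting a
dodecad in 6, 2 and 4 points.
-/

set_option autoImplicit false

namespace Cfsg.Agent.Helper27

open Cfsg
open scoped Pointwise

/-- an octad meets a dodecad in 2, 4 or 6 points -/
theorem inter_octad_dodecad {o d : Finset GolayPt} (ho : o ∈ octads) (hd : d ∈ dodecads) :
    (o ∩ d).card = 2 ∨ (o ∩ d).card = 4 ∨ (o ∩ d).card = 6 := by
  obtain ⟨⟨v, hv, rfl⟩, hvc⟩ := ho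
  obtain ⟨⟨w, hw, rfl⟩, hwc⟩ := hd
  have hvw : v + w ∈ golayCode := golayCode.add_mem hv hw
  have h1 := card_symmDiff_add (support₂ v) (support₂ w)
  rw [hvc, hwc, ← support₂_add, card_support_eq_hammingNorm] at h1
  have h2 : (support₂ v ∩ support₂ w).card ≤ 8 := by
    rw [← hvc]; exact Finset.card_le_card Finset.inter_subset_left
  rcases golay_weights hvw with h | h | h | h | h <;> omega

/-! ### The Steiner system of hexads -/

theorem hexads_steiner {d : Finset GolayPt} (hd : d ∈ dodecads) :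
    IsSteinerSystem 5 6 {h : Finset {p : GolayPt // p ∈ d} |
      ∃ o ∈ octads, (o ∩ d).card = 6 ∧ h = Finset.subtype (fun p => p ∈ d) o} := by
  classical
  constructor
  · rintro b ⟨o, ho, hc, rfl⟩
    rw [Finset.card_subtype, ← hc]
    congr 1
  · intro s hs
    set s' : Finset GolayPt := s.map (Function.Embedding.subtype _) with hs'
    have hs'c : s'.card = 5 := by rw [hs', Finset.card_map, hs]
    have hs'd : s' ⊆ d := by
      intro q hq
      rw [hs', Finset.mem_map] at hq
      obtain ⟨a, _, rfl⟩ := hq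
      exact a.2
    obtain ⟨o, ⟨ho, hso⟩, huniq⟩ := octads_steiner.2 s' hs'c
    have h6 : (o ∩ d).card = 6 := by
      have h5 : 5 ≤ (o ∩ d).card := by
        rw [← hs'c]
        exact Finset.card_le_card (Finset.subset_inter hso hs'd)
      rcases inter_octad_dodecad ho hd with h | h | h <;> omega
    refine ⟨Finset.subtype (fun p => p ∈ d) o, ⟨⟨o, ho, h6, rfl⟩, ?_⟩, ?_⟩
    · intro a ha
      rw [Finset.mem_subtype]
      apply hso
      rw [hs', Finset.mem_map]
      exact ⟨a, ha, rfl⟩
    · rintro b ⟨⟨o', ho', -, rfl⟩, hsb⟩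
      have : o' = o := by
        apply huniq
        refine ⟨ho', ?_⟩
        intro q hq
        rw [hs', Finset.mem_map] at hq
        obtain ⟨a, ha, rfl⟩ := hq
        have := hsb ha
        rw [Finset.mem_subtype] at this
        exact this
      rw [this]

/-! ### Counting octads by their intersection with a dodecad -/

/-- the number of supports of codewords whose masks satisfy a Boolean predicate -/
theorem ncard_codeword_masks (P : ℕ → Bool) :
    {b : Finset GolayPt | ∃ k < 4096, P (cw k) = true ∧ b = maskSet (cw k)}.ncard =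
      countBelow (fun k => P (cw k)) 4096 := by
  have hset : {b : Finset GolayPt | ∃ k < 4096, P (cw k) = true ∧ b = maskSet (cw k)} =
      (fun k => maskSet (cw k)) ''
        (((Finset.range 4096).filter (fun k => P (cw k) = true) : Finset ℕ) : Set ℕ) := by
    ext b
    simp only [Set.mem_image, Finset.coe_filter, Finset.mem_range, Set.mem_ofPred_eq]
    constructor
    · rintro ⟨k, hk, hc, rfl⟩
      exact ⟨k, ⟨hk, hc⟩, rfl⟩
    · rintro ⟨k, ⟨hk, hc⟩, rfl⟩
      exact ⟨k, hk, hc, rfl⟩
  rw [hset, Set.InjOn.ncard_image, Set.ncard_coe_finset, countBelow_spec]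
  intro k hk k' hk' h
  simp only [Finset.coe_filter, Finset.mem_range, Set.mem_ofPred_eq] at hk hk'
  exact decW_cw_injOn hk.1 hk'.1 (support₂_injective h)

theorem octads_inter_dod0_eq (j : ℕ) :
    {o : Finset GolayPt | o ∈ octads ∧ (o ∩ maskSet dod0).card = j} =
      {b : Finset GolayPt | ∃ k < 4096,
        ((popc 24 (cw k) == 8) && (popc 24 (cw k &&& dod0) == j)) = true ∧ b = maskSet (cw k)} := by
  ext o
  simp only [Set.mem_ofPred_eq, Bool.and_eq_true, beq_iff_eq]
  constructor
  · rintro ⟨ho, hc⟩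
    obtain ⟨k, hk, hpop, rfl⟩ := (mem_wordsOfWeight_iff 8 o).mp ho
    refine ⟨k, hk, ⟨hpop, ?_⟩, rfl⟩
    rw [← card_maskSet, maskSet_and]
    exact hc
  · rintro ⟨k, hk, ⟨hpop, hc⟩, rfl⟩
    refine ⟨(mem_wordsOfWeight_iff 8 _).mpr ⟨k, hk, hpop, rfl⟩, ?_⟩
    rw [← maskSet_and, card_maskSet]
    exact hc

theorem octads_inter_dod0_ncard (j : ℕ) :
    {o : Finset GolayPt | o ∈ octads ∧ (o ∩ maskSet dod0).card = j}.ncard =
      countBelow (fun k => (popc 24 (cw k) == 8) && (popc 24 (cw k &&& dod0) == j)) 4096 := by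
  rw [octads_inter_dod0_eq, ncard_codeword_masks (fun n => (popc 24 n == 8) && (popc 24 (n &&& dod0) == j))]

/-- the number of octads meeting a dodecad in `j` points does not depend on the dodecad -/
theorem octads_inter_ncard_smul {g : Equiv.Perm GolayPt} (hg : g ∈ M24) (d : Finset GolayPt) (j : ℕ) :
    {o : Finset GolayPt | o ∈ octads ∧ (o ∩ g • d).card = j}.ncard =
      {o : Finset GolayPt | o ∈ octads ∧ (o ∩ d).card = j}.ncard := by
  have himg : {o : Finset GolayPt | o ∈ octads ∧ (o ∩ g • d).card = j} =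
      (fun o => g • o) '' {o : Finset GolayPt | o ∈ octads ∧ (o ∩ d).card = j} := by
    ext o
    simp only [Set.mem_ofPred_eq, Set.mem_image]
    constructor
    · rintro ⟨ho, hc⟩
      refine ⟨g⁻¹ • o, ⟨smul_octad_mem (M24.inv_mem hg) ho, ?_⟩, smul_inv_smul g o⟩
      rw [← hc, ← Finset.card_smul_finset g (g⁻¹ • o ∩ d), Finset.smul_finset_inter, smul_inv_smul]
    · rintro ⟨o', ⟨ho', hc'⟩, rfl⟩
      refine ⟨smul_octad_mem hg ho', ?_⟩
      rw [← Finset.smul_finset_inter, Finset.card_smul_finset, hc']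
  rw [himg, Set.ncard_image_of_injective _ (MulAction.injective g)]

theorem octads_inter_dodecad_ncard {d : Finset GolayPt} (hd : d ∈ dodecads) :
    {o : Finset GolayPt | o ∈ octads ∧ (o ∩ d).card = 6}.ncard = 132 ∧
    {o : Finset GolayPt | o ∈ octads ∧ (o ∩ d).card = 2}.ncard = 132 ∧
    {o : Finset GolayPt | o ∈ octads ∧ (o ∩ d).card = 4}.ncard = 495 := by
  obtain ⟨g, hg, hgd⟩ := exists_smul_eq_dod0 hd
  have h6 := octads_inter_ncard_smul hg d 6
  have h2 := octads_inter_ncard_smul hg d 2
  have h4 := octads_inter_ncard_smul hg d 4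
  rw [hgd, octads_inter_dod0_ncard] at h6 h2 h4
  have c6 : countBelow (fun k => (popc 24 (cw k) == 8) && (popc 24 (cw k &&& dod0) == 6)) 4096 = 132 := by
    decide +kernel
  have c2 : countBelow (fun k => (popc 24 (cw k) == 8) && (popc 24 (cw k &&& dod0) == 2)) 4096 = 132 := by
    decide +kernel
  have c4 : countBelow (fun k => (popc 24 (cw k) == 8) && (popc 24 (cw k &&& dod0) == 4)) 4096 = 495 := by
    decide +kernel
  rw [c6] at h6
  rw [c2] at h2
  rw [c4] at h4
  exact ⟨h6.symm, h2.symm, h4.symm⟩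

end Cfsg.Agent.Helper27
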