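import Mathlib
import Cfsg.Agent.Helper16.S3174Defs

/-! # S3174, piece IDXLE: `|T : C_T(Z_3)| ≤ 8`. -/

set_option autoImplicit false

namespace Cfsg.Agent.S3174P

open scoped commutatorElement

variable {T : Type*} [Group T] [Finite T]

set_option linter.unusedSectionVars false

/-- a subgroup `A` of index 2 inside `B` (by orders): `B = A ∪ bA`. -/
theorem index_le_aux_idx2 (A B : Subgroup T) (hAB : A ≤ B)
    (hcard : Nat.card ↥B = 2 * Nat.card ↥A) (b : T) (hb : b ∈ B) (hbA : b ∉ A) :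
    ∀ y ∈ B, y ∈ A ∨ b⁻¹ * y ∈ A := by
  have hidx : (A.subgroupOf B).index = 2 := by
    have h1 := (A.subgroupOf B).card_mul_index
    have h2 : Nat.card ↥(A.subgroupOf B) = Nat.card ↥A :=
      Nat.card_congr (Subgroup.subgroupOfEquivOfLe hAB).toEquiv
    rw [h2, hcard] at h1
    have hpos : 0 < Nat.card ↥A := Nat.card_pos
    have h3 : Nat.card ↥A * (A.subgroupOf B).index = Nat.card ↥A * 2 := by rw [h1]; ring
    exact Nat.eq_of_mul_eq_mul_left hpos h3
  intro y hy
  by_cases hyA : y ∈ A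
  · exact Or.inl hyA
  · right
    have h := Subgroup.mul_mem_iff_of_index_two hidx (a := (⟨b, hb⟩ : ↥B)⁻¹) (b := (⟨y, hy⟩ : ↥B))
    have h1 : ((⟨b, hb⟩ : ↥B)⁻¹ ∈ A.subgroupOf B ↔ (⟨y, hy⟩ : ↥B) ∈ A.subgroupOf B) := by
      rw [Subgroup.inv_mem_iff, Subgroup.mem_subgroupOf, Subgroup.mem_subgroupOf]
      exact ⟨fun h => absurd h hbA, fun h => absurd h hyA⟩
    have h2 := h.mpr h1
    rw [Subgroup.mem_subgroupOf] at h2
    simpa using h2

/-- there is an element of `B` outside the smaller subgroup `A` -/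
theorem index_le_aux_exists (A B : Subgroup T) (hlt : Nat.card ↥A < Nat.card ↥B) :
    ∃ b ∈ B, b ∉ A := by
  by_contra hcon
  push Not at hcon
  have hle : B ≤ A := fun x hx => hcon x hx
  have := Subgroup.card_le_of_le hle
  omega

/-- `⁅g, x⁆ ∈ Z_n` for `x ∈ Z_(n+1)` -/
theorem index_le_aux_comm (n : ℕ) (x : T) (hx : x ∈ Zi T (n + 1)) (g : T) : ⁅g, x⁆ ∈ Zi T n := by
  have hx' : x ∈ Subgroup.upperCentralSeries T (n + 1) := hx
  rw [Subgroup.mem_upperCentralSeries_succ_iff] at hx'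
  have h1 := hx' g
  have h2 : ⁅g, x⁆ = (x * g * x⁻¹ * g⁻¹)⁻¹ := by
    rw [commutatorElement_def]; group
  rw [h2]
  exact Subgroup.inv_mem _ h1

/-- IDXLE -/
theorem index_le (hT : IsPGroup 2 T) (c1 : Nat.card ↥(Zi T 1) = 2) (c2 : Nat.card ↥(Zi T 2) = 4)
    (c3 : Nat.card ↥(Zi T 3) = 8) :
    (Subgroup.centralizer ((Zi T 3 : Subgroup T) : Set T)).index ≤ 8 := by
  classical
  have h12 : Zi T 1 ≤ Zi T 2 := Subgroup.upperCentralSeries_mono T (by norm_num)
  have h23 : Zi T 2 ≤ Zi T 3 := Subgroup.upperCentralSeries_mono T (by norm_num)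
  obtain ⟨x2, hx2, hx21⟩ := index_le_aux_exists (Zi T 1) (Zi T 2) (by rw [c1, c2]; norm_num)
  obtain ⟨x3, hx3, hx32⟩ := index_le_aux_exists (Zi T 2) (Zi T 3) (by rw [c2, c3]; norm_num)
  set C : Subgroup T := Subgroup.centralizer ((Zi T 3 : Subgroup T) : Set T) with hC
  -- the map
  let f : T → ↥(Zi T 1) × ↥(Zi T 2) := fun t =>
    (⟨⁅t, x2⁆, index_le_aux_comm 1 x2 hx2 t⟩, ⟨⁅t, x3⁆, index_le_aux_comm 2 x3 hx3 t⟩)
  -- center
  have hcen : ∀ y ∈ Zi T 1, ∀ g : T, y * g = g * y := by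
    intro y hy g
    have hy' : y ∈ Subgroup.center T := by
      have : Zi T 1 = Subgroup.center T := Subgroup.upperCentralSeries_one T
      rw [← this]; exact hy
    exact (Subgroup.mem_center_iff.mp hy' g).symm
  -- equal commutators ⇒ the quotient centralizes
  have hkey : ∀ (x t t' : T), ⁅t, x⁆ = ⁅t', x⁆ → x * (t⁻¹ * t') = (t⁻¹ * t') * x := by
    intro x t t' h
    rw [commutatorElement_def, commutatorElement_def] at h
    have h1 : t * x * t⁻¹ = t' * x * t'⁻¹ := by
      have : t * x * t⁻¹ * x⁻¹ * x = t' * x * t'⁻¹ * x⁻¹ * x := by rw [h]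
      simpa using this
    have h2 : x = t⁻¹ * (t' * x * t'⁻¹) * t := by rw [← h1]; group
    calc x * (t⁻¹ * t') = t⁻¹ * (t' * x * t'⁻¹) * t * (t⁻¹ * t') := by rw [← h2]
      _ = (t⁻¹ * t') * x := by group
  -- an element commuting with x2 and x3 lies in C
  have hCmem : ∀ s : T, x2 * s = s * x2 → x3 * s = s * x3 → s ∈ C := by
    intro s hs2 hs3
    rw [hC, Subgroup.mem_centralizer_iff]
    -- s commutes with Z_2
    have hZ2 : ∀ z ∈ Zi T 2, z * s = s * z := by
      intro z hz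
      rcases index_le_aux_idx2 (Zi T 1) (Zi T 2) h12 (by rw [c1, c2]) x2 hx2 hx21 z hz with h1 | h1
      · exact hcen z h1 s
      · have h2 := hcen _ h1 s
        calc z * s = x2 * (x2⁻¹ * z) * s := by group
          _ = x2 * (x2⁻¹ * z * s) := by group
          _ = x2 * (s * (x2⁻¹ * z)) := by rw [h2]
          _ = (x2 * s) * (x2⁻¹ * z) := by group
          _ = (s * x2) * (x2⁻¹ * z) := by rw [hs2]
          _ = s * z := by group
    intro z hz
    rcases index_le_aux_idx2 (Zi T 2) (Zi T 3) h23 (by rw [c2, c3]) x3 hx3 hx32 z hz with h1 | h1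
    · exact hZ2 z h1
    · have h2 := hZ2 _ h1
      calc z * s = x3 * (x3⁻¹ * z) * s := by group
        _ = x3 * (x3⁻¹ * z * s) := by group
        _ = x3 * (s * (x3⁻¹ * z)) := by rw [h2]
        _ = (x3 * s) * (x3⁻¹ * z) := by group
        _ = (s * x3) * (x3⁻¹ * z) := by rw [hs3]
        _ = s * z := by group
  -- injection `T ⧸ C → Z_1 × Z_2`
  have hwd : ∀ a b : T, (QuotientGroup.leftRel C) a b → f a = f b := by
    intro a b hab
    rw [QuotientGroup.leftRel_apply] at hab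
    -- a⁻¹ * b ∈ C
    have hcomm : ∀ z ∈ Zi T 3, z * (a⁻¹ * b) = (a⁻¹ * b) * z := by
      intro z hz
      rw [hC] at hab
      exact (Subgroup.mem_centralizer_iff.mp hab) z hz
    have hgen : ∀ x ∈ Zi T 3, ⁅a, x⁆ = ⁅b, x⁆ := by
      intro x hx
      have h := hcomm x hx
      rw [commutatorElement_def, commutatorElement_def]
      have h1 : b * x * b⁻¹ = a * ((a⁻¹ * b) * x) * b⁻¹ := by group
      rw [h1, ← h]; group
    simp only [f, Prod.mk.injEq, Subtype.mk.injEq]
    exact ⟨hgen x2 (h23 hx2), hgen x3 hx3⟩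
  let F : T ⧸ C → ↥(Zi T 1) × ↥(Zi T 2) := Quotient.lift f hwd
  have hFinj : Function.Injective F := by
    intro q q'
    refine Quotient.inductionOn₂ q q' ?_
    intro a b hab
    have hab' : f a = f b := hab
    simp only [f, Prod.mk.injEq, Subtype.mk.injEq] at hab'
    apply Quotient.sound
    show (QuotientGroup.leftRel C) a b
    rw [QuotientGroup.leftRel_apply]
    exact hCmem _ (hkey x2 a b hab'.1) (hkey x3 a b hab'.2)
  have hle := Nat.card_le_card_of_injective F hFinj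
  rw [Nat.card_prod, c1, c2] at hle
  rw [Subgroup.index_eq_card]
  exact hle

end Cfsg.Agent.S3174P
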