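import Mathlib
import Cfsg.Agent.Helper27.S3001TOP
import Cfsg.Agent.Helper12.S3000PKGco

/-! S3001 endgame, board `s3001pieces`, piece BLINE: the core of case (b) (`SL₂(2ⁿ)`, `n ≥ 2`) for one component. -/

set_option autoImplicit false

namespace Cfsg.Agent.S3001P

open Cfsg.Agent.S2789P Cfsg.Agent.S2999P Cfsg.Agent.S3000P
open Matrix

universe u

variable {G : Type u} [Group G] [Finite G] {p : ℕ} [Fact p.Prime] {V P : Subgroup G}

/-- characteristic 2 -/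
theorem BLINE_aux_two {F : Type} [Field F] [Fintype F] {n : ℕ} (hF : Fintype.card F = 2 ^ n) : (2 : F) = 0 := by
  have h := FiniteField.cast_card_eq_zero F
  rw [hF] at h
  push_cast at h
  exact pow_eq_zero_iff (fun h0 => by
    subst h0
    have : 1 < Fintype.card F := Fintype.one_lt_card
    omega) |>.1 h

theorem BLINE_aux_smul_unipU {F : Type} [Field F] (t : F) (x : Fin 2 → F) :
    (unipU t : SpecialLinearGroup (Fin 2) F) • x = ![x 0 + t * x 1, x 1] := unipU_mulVec t x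

theorem BLINE_aux_smul_diagT {F : Type} [Field F] (l : Fˣ) (x : Fin 2 → F) :
    (diagT l : SpecialLinearGroup (Fin 2) F) • x = ![(l : F) * x 0, ((l⁻¹ : Fˣ) : F) * x 1] := diagT_mulVec l x

/-- the upper unitriangular subgroup -/
def BLINE_aux_UU (F : Type) [Field F] : Subgroup (SpecialLinearGroup (Fin 2) F) where
  carrier := {g | ∃ t : F, g = unipU t}
  one_mem' := ⟨0, unipU_zero.symm⟩
  mul_mem' := by
    rintro _ _ ⟨s, rfl⟩ ⟨t, rfl⟩
    exact ⟨s + t, unipU_mul s t⟩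
  inv_mem' := by
    rintro _ ⟨t, rfl⟩
    refine ⟨-t, ?_⟩
    rw [inv_eq_iff_mul_eq_one, unipU_mul, add_neg_cancel, unipU_zero]

theorem BLINE_aux_mem_UU {F : Type} [Field F] {g : SpecialLinearGroup (Fin 2) F} :
    g ∈ BLINE_aux_UU F ↔ ∃ t : F, g = unipU t := Iff.rfl

theorem BLINE_aux_diagT_pow {F : Type} [Field F] (l : Fˣ) (k : ℕ) :
    (diagT l : SpecialLinearGroup (Fin 2) F) ^ k = diagT (l ^ k) := by
  induction k with
  | zero => rw [pow_zero, pow_zero, diagT_one]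
  | succ k ih => rw [pow_succ, pow_succ, ih, diagT_mul]

/-- `u(t) = h (u(s) h⁻¹ u(s)⁻¹)` with `h = diag(λ, λ⁻¹)`, `s = t / (λ² - 1)` -/
theorem BLINE_aux_unip_eq {F : Type} [Field F] (l : Fˣ) (hl : (l : F) ^ 2 - 1 ≠ 0) (t : F) :
    (unipU t : SpecialLinearGroup (Fin 2) F) =
      diagT l * (unipU (t / ((l : F) ^ 2 - 1)) * (diagT l)⁻¹ * (unipU (t / ((l : F) ^ 2 - 1)))⁻¹) := by
  have h1 := diagT_conj_unipU l (t / ((l : F) ^ 2 - 1))
  have h2 : ((unipU (t / ((l : F) ^ 2 - 1)))⁻¹ : SpecialLinearGroup (Fin 2) F) = unipU (-(t / ((l : F) ^ 2 - 1))) := by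
    rw [inv_eq_iff_mul_eq_one, unipU_mul, add_neg_cancel, unipU_zero]
  calc (unipU t : SpecialLinearGroup (Fin 2) F)
      = unipU ((l : F) ^ 2 * (t / ((l : F) ^ 2 - 1))) * unipU (-(t / ((l : F) ^ 2 - 1))) := by
        rw [unipU_mul]
        congr 1
        field_simp
        ring
    _ = diagT l * (unipU (t / ((l : F) ^ 2 - 1)) * (diagT l)⁻¹ * (unipU (t / ((l : F) ^ 2 - 1)))⁻¹) := by
        rw [← h1, h2]
        group

/-- BLINE (L; helper18): the core of (b) for one component. -/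
theorem BLINE {E₁ Ut U₀ T₁ : Subgroup G} {F : Type} [Field F] [Fintype F] {n : ℕ} (hn : 2 ≤ n) (hF : Fintype.card F = 2 ^ n)
    (hab : ∀ u ∈ Ut, ∀ v ∈ Ut, u * v = v * u) (hexp : ∀ u ∈ Ut, u * u = 1)
    (hiso : Nonempty (↥E₁ ≃* Matrix.SpecialLinearGroup (Fin 2) F)) (hact : Cfsg.ActsAsSL2OnSection F ⊤ E₁ Ut U₀)
    (hcen : ∀ x ∈ E₁, Odd (orderOf x) → ∀ u ∈ U₀, x * u = u * x) (hT₁E : T₁ ≤ E₁) (hT₁ : IsPGroup 2 ↥T₁)
    (hmax : ∀ Q : Subgroup G, Q ≤ E₁ → IsPGroup 2 ↥Q → Nat.card ↥Q ≤ Nat.card ↥T₁) :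
    (∀ a ∈ T₁, ∃ x ∈ E₁, ∃ y ∈ E₁, Odd (orderOf x) ∧ Odd (orderOf y) ∧ a = x * y) ∧
      ∃ h ∈ E₁, Odd (orderOf h) ∧ (∀ a ∈ T₁, h * a * h⁻¹ ∈ T₁) ∧
        ∃ v ∈ Ut, (∀ a ∈ T₁, a * v = v * a) ∧ h * v * h⁻¹ ≠ v := by
  classical
  obtain ⟨hEN, hU0, ρ, ψ, hρ, hψs, hψk, heq⟩ := hact
  obtain ⟨e0⟩ := hiso
  have h2 : (2 : F) = 0 := BLINE_aux_two hF
  have h4n : 4 ≤ 2 ^ n := by
    calc 4 = 2 ^ 2 := by norm_num
      _ ≤ 2 ^ n := Nat.pow_le_pow_right (by norm_num) hn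
  -- `ρ` is bijective
  have hρs : Function.Surjective ρ := MonoidHom.range_eq_top.1 hρ
  have hρi : Function.Injective ρ := (Finite.injective_iff_surjective_of_equiv e0.toEquiv).2 hρs
  let ρe : ↥E₁ ≃* SpecialLinearGroup (Fin 2) F := MulEquiv.ofBijective ρ ⟨hρi, hρs⟩
  have hρe : ∀ e : ↥E₁, ρe e = ρ e := fun _ => rfl
  -- a nonzero vector fixed by `ρ(T₁)`
  let f : ↥T₁ →* SpecialLinearGroup (Fin 2) F := ρ.comp (Subgroup.inclusion hT₁E)
  let _ : MulAction ↥T₁ (Fin 2 → F) := MulAction.compHom (Fin 2 → F) f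
  have hfix0 : (0 : Fin 2 → F) ∈ MulAction.fixedPoints ↥T₁ (Fin 2 → F) := by
    intro a
    show f a • (0 : Fin 2 → F) = 0
    exact smul_zero _
  have hdvd : 2 ∣ Nat.card (Fin 2 → F) := by
    rw [Nat.card_eq_fintype_card, Fintype.card_fun, hF, Fintype.card_fin]
    exact dvd_pow (dvd_pow_self 2 (by omega)) (by norm_num)
  obtain ⟨b, hbfix, hb0⟩ := hT₁.exists_fixed_point_of_prime_dvd_card_of_fixed_point (Fin 2 → F) hdvd hfix0
  have hb : ∀ (a : G) (ha : a ∈ T₁), ρ ⟨a, hT₁E ha⟩ • b = b := fun a ha => hbfix ⟨a, ha⟩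
  obtain ⟨g₀, hg₀⟩ := PKG_aux_sl2_trans b (Ne.symm hb0)
  have hg₀' : g₀ • b = ![1, 0] := hg₀
  -- the coordinatisation `Φ : SL₂(F) → G`, `Φ M = ρ⁻¹(g₀⁻¹ M g₀)`
  let Φ : SpecialLinearGroup (Fin 2) F →* G :=
    E₁.subtype.comp (ρe.symm.toMonoidHom.comp (MulAut.conj g₀⁻¹).toMonoidHom)
  have hΦdef : ∀ M, Φ M = ((ρe.symm (g₀⁻¹ * M * g₀⁻¹⁻¹) : ↥E₁) : G) := fun _ => rfl
  have hΦE : ∀ M, Φ M ∈ E₁ := fun M => (ρe.symm (g₀⁻¹ * M * g₀⁻¹⁻¹)).2
  have hΦρ : ∀ M, ρ ⟨Φ M, hΦE M⟩ = g₀⁻¹ * M * g₀ := by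
    intro M
    have h1 : (⟨Φ M, hΦE M⟩ : ↥E₁) = ρe.symm (g₀⁻¹ * M * g₀⁻¹⁻¹) := Subtype.ext rfl
    rw [h1, ← hρe, MulEquiv.apply_symm_apply, inv_inv]
  have hT1 : ∀ a ∈ T₁, ∃ t : F, a = Φ (unipU t) := by
    intro a ha
    have h1 : (g₀ * ρ ⟨a, hT₁E ha⟩ * g₀⁻¹) • (![1, 0] : Fin 2 → F) = ![1, 0] := by
      rw [mul_smul, mul_smul, ← hg₀', inv_smul_smul, hb a ha]
    obtain ⟨t, ht⟩ := PKG_aux_sl2_stab _ h1
    refine ⟨t, ?_⟩
    have h3 : g₀ * ρ ⟨a, hT₁E ha⟩ * g₀⁻¹ = unipU t := Subtype.ext ht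
    have h4 : ρe ⟨a, hT₁E ha⟩ = g₀⁻¹ * unipU t * g₀⁻¹⁻¹ := by
      rw [hρe, ← h3]; group
    have h5 : (⟨a, hT₁E ha⟩ : ↥E₁) = ρe.symm (g₀⁻¹ * unipU t * g₀⁻¹⁻¹) := by
      rw [← h4, MulEquiv.symm_apply_apply]
    exact congrArg Subtype.val h5
  have hT2 : ∀ t : F, Φ (unipU t) ∈ T₁ := by
    have hT'E : (BLINE_aux_UU F).map Φ ≤ E₁ := by
      rintro _ ⟨M, -, rfl⟩
      exact hΦE M
    have hT'p : IsPGroup 2 ↥((BLINE_aux_UU F).map Φ) := by
      rintro ⟨_, M, ⟨t, rfl⟩, rfl⟩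
      refine ⟨1, Subtype.ext ?_⟩
      simp only [pow_one, Subgroup.coe_pow, Subgroup.coe_one]
      have htt : t + t = 0 := by rw [← two_mul, h2, zero_mul]
      rw [← map_pow, pow_two, unipU_mul, htt, unipU_zero, map_one]
    have hle : T₁ ≤ (BLINE_aux_UU F).map Φ := by
      intro a ha
      obtain ⟨t, rfl⟩ := hT1 a ha
      exact ⟨unipU t, ⟨t, rfl⟩, rfl⟩
    have heq' := Subgroup.eq_of_le_of_card_ge hle (hmax _ hT'E hT'p)
    intro t
    rw [heq']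
    exact ⟨unipU t, ⟨t, rfl⟩, rfl⟩
  -- `λ ≠ 1`
  obtain ⟨l, hl1⟩ : ∃ l : Fˣ, l ≠ 1 := by
    have hcard : 1 < Fintype.card Fˣ := by
      rw [Fintype.card_units, hF]
      omega
    exact Fintype.exists_ne_of_one_lt_card hcard 1
  have hl2 : (l : F) ^ 2 - 1 ≠ 0 := by
    intro h0
    have h3 : ((l : F) - 1) ^ 2 = 0 := by
      have : ((l : F) - 1) ^ 2 = ((l : F) ^ 2 - 1) - 2 * ((l : F) - 1) := by ring
      rw [this, h0, h2]
      ring
    have h4 : (l : F) - 1 = 0 := (pow_eq_zero_iff two_ne_zero).1 h3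
    apply hl1
    apply Units.ext
    rw [Units.val_one]
    exact sub_eq_zero.1 h4
  -- odd orders
  have hq : Odd (2 ^ n - 1) := by
    have he : Even (2 ^ n) := (Nat.even_pow' (by omega)).2 even_two
    exact Nat.Even.sub_odd Nat.one_le_two_pow he odd_one
  have hodd : ∀ M : SpecialLinearGroup (Fin 2) F, M ^ (2 ^ n - 1) = 1 → Odd (orderOf (Φ M)) := by
    intro M hM
    have h1 : (Φ M) ^ (2 ^ n - 1) = 1 := by rw [← map_pow, hM, map_one]
    exact Odd.of_dvd_nat hq (orderOf_dvd_of_pow_eq_one h1)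
  have hdl : (diagT l : SpecialLinearGroup (Fin 2) F) ^ (2 ^ n - 1) = 1 := by
    rw [BLINE_aux_diagT_pow]
    have h1 : l ^ (2 ^ n - 1) = 1 := by
      have h3 := pow_card_eq_one (x := l)
      rwa [Fintype.card_units, hF] at h3
    rw [h1, diagT_one]
  -- part 1
  have part1 : ∀ a ∈ T₁, ∃ x ∈ E₁, ∃ y ∈ E₁, Odd (orderOf x) ∧ Odd (orderOf y) ∧ a = x * y := by
    intro a ha
    obtain ⟨t, rfl⟩ := hT1 a ha
    refine ⟨Φ (diagT l), hΦE _,
      Φ (unipU (t / ((l : F) ^ 2 - 1)) * (diagT l)⁻¹ * (unipU (t / ((l : F) ^ 2 - 1)))⁻¹), hΦE _,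
      hodd _ hdl, hodd _ ?_, ?_⟩
    · rw [conj_pow, inv_pow, hdl, inv_one, mul_one, mul_inv_cancel]
    · rw [← map_mul, ← BLINE_aux_unip_eq l hl2 t]
  refine ⟨part1, Φ (diagT l), hΦE _, hodd _ hdl, ?_, ?_⟩
  · intro a ha
    obtain ⟨t, rfl⟩ := hT1 a ha
    rw [← map_inv, ← map_mul, ← map_mul, diagT_conj_unipU]
    exact hT2 _
  -- coordinates `κ u = g₀ • ψ u`
  let κ : ↥Ut → (Fin 2 → F) := fun u => g₀ • Multiplicative.toAdd (ψ u)
  have hκmul : ∀ u u' : ↥Ut, κ (u * u') = κ u + κ u' := by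
    intro u u'
    show g₀ • Multiplicative.toAdd (ψ (u * u')) = _
    rw [map_mul, toAdd_mul, smul_add]
  have hκsurj : ∀ x : Fin 2 → F, ∃ u : ↥Ut, κ u = x := by
    intro x
    obtain ⟨u, hu⟩ := hψs (Multiplicative.ofAdd (g₀⁻¹ • x))
    refine ⟨u, ?_⟩
    show g₀ • Multiplicative.toAdd (ψ u) = x
    rw [hu, toAdd_ofAdd, smul_inv_smul]
  have hκker : ∀ u : ↥Ut, κ u = 0 → (u : G) ∈ U₀ := by
    intro u hu
    have h1 : Multiplicative.toAdd (ψ u) = 0 := by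
      have h3 : g₀ • Multiplicative.toAdd (ψ u) = g₀ • (0 : Fin 2 → F) := by rw [smul_zero]; exact hu
      exact smul_left_cancel g₀ h3
    exact (hψk u).1 (by rw [← ofAdd_toAdd (ψ u), h1]; rfl)
  have hκeq : ∀ (M : SpecialLinearGroup (Fin 2) F) (u : ↥Ut), ∃ w : ↥Ut,
      (w : G) = Φ M * (u : G) * (Φ M)⁻¹ ∧ κ w = M • κ u := by
    intro M u
    obtain ⟨w, hw1, hw2⟩ := heq ⟨Φ M, hΦE M⟩ u
    refine ⟨w, hw1, ?_⟩
    show g₀ • Multiplicative.toAdd (ψ w) = M • (g₀ • Multiplicative.toAdd (ψ u))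
    rw [hw2, hΦρ M]
    show g₀ • ((g₀⁻¹ * M * g₀) • Multiplicative.toAdd (ψ u)) = _
    rw [mul_smul, mul_smul, smul_inv_smul]
  have htwo : ∀ x : Fin 2 → F, x + x = 0 := by
    intro x
    funext i
    simp only [Pi.add_apply, Pi.zero_apply]
    rw [← two_mul, h2, zero_mul]
  -- for `t ≠ 0` a vector `v_t` with coordinates `e₁` centralised by `Φ (u(t))`
  have hvt : ∀ t : F, t ≠ 0 → ∃ v : ↥Ut, κ v = ![1, 0] ∧ Φ (unipU t) * (v : G) = (v : G) * Φ (unipU t) := by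
    intro t ht
    obtain ⟨u, hu⟩ := hκsurj ![0, t⁻¹]
    obtain ⟨w, hw1, hw2⟩ := hκeq (unipU t) u
    refine ⟨w * u, ?_, ?_⟩
    · rw [hκmul, hw2, hu, BLINE_aux_smul_unipU]
      funext i
      fin_cases i
      · simp [ht]
      · simp
        rw [← two_mul, h2, zero_mul]
    · have hsq : Φ (unipU t) * Φ (unipU t) = 1 := by
        have htt : t + t = 0 := by rw [← two_mul, h2, zero_mul]
        rw [← map_mul, unipU_mul, htt, unipU_zero, map_one]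
      have hinv : (Φ (unipU t))⁻¹ = Φ (unipU t) := inv_eq_of_mul_eq_one_right hsq
      have hw1' : (w : G) = Φ (unipU t) * (u : G) * Φ (unipU t) := by rw [hw1, hinv]
      have hcomm : (w : G) * (u : G) = (u : G) * (w : G) := hab _ w.2 _ u.2
      rw [Subgroup.coe_mul]
      have hL : Φ (unipU t) * ((w : G) * (u : G)) = (u : G) * Φ (unipU t) * (u : G) := by
        rw [hw1']
        calc Φ (unipU t) * (Φ (unipU t) * (u : G) * Φ (unipU t) * (u : G))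
            = (Φ (unipU t) * Φ (unipU t)) * (u : G) * Φ (unipU t) * (u : G) := by simp only [mul_assoc]
          _ = (u : G) * Φ (unipU t) * (u : G) := by rw [hsq, one_mul]
      have hR : (w : G) * (u : G) * Φ (unipU t) = (u : G) * Φ (unipU t) * (u : G) := by
        rw [hcomm, hw1']
        calc (u : G) * (Φ (unipU t) * (u : G) * Φ (unipU t)) * Φ (unipU t)
            = (u : G) * Φ (unipU t) * (u : G) * (Φ (unipU t) * Φ (unipU t)) := by simp only [mul_assoc]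
          _ = (u : G) * Φ (unipU t) * (u : G) := by rw [hsq, mul_one]
      rw [hL, hR]
  obtain ⟨v, hv1, -⟩ := hvt 1 one_ne_zero
  refine ⟨(v : G), v.2, ?_, ?_⟩
  · intro a ha
    obtain ⟨t, rfl⟩ := hT1 a ha
    by_cases ht : t = 0
    · rw [ht, unipU_zero, map_one, one_mul, mul_one]
    · obtain ⟨vt, hvt1, hvt2⟩ := hvt t ht
      have hd : ((v * vt : ↥Ut) : G) ∈ U₀ := by
        apply hκker
        rw [hκmul, hv1, hvt1]
        exact htwo _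
      obtain ⟨x, hxE, y, hyE, hxo, hyo, hxy⟩ := part1 _ ha
      have hdc : Φ (unipU t) * ((v * vt : ↥Ut) : G) = ((v * vt : ↥Ut) : G) * Φ (unipU t) := by
        rw [hxy, mul_assoc, hcen y hyE hyo _ hd, ← mul_assoc, hcen x hxE hxo _ hd, mul_assoc]
      have hvv : (v : G) = ((v * vt : ↥Ut) : G) * (vt : G) := by
        rw [Subgroup.coe_mul, mul_assoc, hexp _ vt.2, mul_one]
      rw [hvv, ← mul_assoc, hdc, mul_assoc, hvt2, ← mul_assoc]
  · intro hcontra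
    obtain ⟨w, hw1, hw2⟩ := hκeq (diagT l) v
    have hwv : w = v := Subtype.ext (by rw [hw1, hcontra])
    rw [hwv, hv1, BLINE_aux_smul_diagT] at hw2
    have h0 := congrFun hw2 0
    simp at h0
    apply hl1
    apply Units.ext
    rw [Units.val_one]
    exact h0.symm

end Cfsg.Agent.S3001P
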