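import Mathlib
import Cfsg.Agent.Helper5.S4330Defs

/-!
# S4330 board, piece B0R: two commuting automorphisms of order `p` cannot act fixed-point-freely
-/

set_option autoImplicit false
set_option linter.unusedSectionVars false

namespace Cfsg.Agent.Helper5.S4330

section module
variable {V : Type*} [CommGroup V] [Finite V]

/-- the "norm" `∏_{t<p} c^t w` is fixed by `c` when `c^p = 1`. -/
theorem B0R_aux_norm_fixed {p : ℕ} (c : MulAut V) (hc : c ^ p = 1) (w : V) :
    c (∏ t ∈ Finset.range p, (c ^ t) w) = ∏ t ∈ Finset.range p, (c ^ t) w := by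
  rw [map_prod]
  have h1 : ∀ t, c ((c ^ t) w) = (c ^ (t + 1)) w := by
    intro t
    rw [pow_succ', MulAut.mul_apply]
  simp_rw [h1]
  have h2 := Finset.prod_range_succ' (fun t => (c ^ t) w) p
  have h3 := Finset.prod_range_succ (fun t => (c ^ t) w) p
  rw [h3] at h2
  simp only [hc, pow_zero] at h2
  exact (mul_right_cancel h2).symm

/-- the "norm" stays in an invariant subgroup. -/
theorem B0R_aux_norm_mem {p : ℕ} (c : MulAut V) (W : Subgroup V) (hW : ∀ w ∈ W, c w ∈ W) (w : V)
    (hw : w ∈ W) : (∏ t ∈ Finset.range p, (c ^ t) w) ∈ W := by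
  have hpow : ∀ t : ℕ, (c ^ t) w ∈ W := by
    intro t
    induction t with
    | zero => simpa using hw
    | succ n ih =>
      rw [pow_succ', MulAut.mul_apply]
      exact hW _ ih
  exact Subgroup.prod_mem W (fun t _ => hpow t)

theorem eq_bot_of_rank_two_fpf {p : ℕ} [Fact p.Prime] {a b : MulAut V} (hab : a * b = b * a)
    (ha : a ^ p = 1) (hb : b ^ p = 1) (W : Subgroup V) (hWa : ∀ w ∈ W, a w ∈ W)
    (hWb : ∀ w ∈ W, b w ∈ W) (hcop : (Nat.card V).Coprime p)
    (hfpf : ∀ i j : ℕ, i < p → j < p → (i, j) ≠ (0, 0) → ∀ w ∈ W, (a ^ i * b ^ j) w = w → w = 1) :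
    W = ⊥ := by
  classical
  have hp : p.Prime := Fact.out
  have hcomm : Commute a b := hab
  -- invariance under powers
  have hWapow : ∀ i : ℕ, ∀ w ∈ W, (a ^ i) w ∈ W := by
    intro i
    induction i with
    | zero => intro w hw; simpa using hw
    | succ n ih =>
      intro w hw
      rw [pow_succ', MulAut.mul_apply]
      exact hWa _ (ih w hw)
  have hWbpow : ∀ i : ℕ, ∀ w ∈ W, (b ^ i) w ∈ W := by
    intro i
    induction i with
    | zero => intro w hw; simpa using hw
    | succ n ih =>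
      intro w hw
      rw [pow_succ', MulAut.mul_apply]
      exact hWb _ (ih w hw)
  -- norms vanish
  have hnorm : ∀ i j : ℕ, i < p → j < p → (i, j) ≠ (0, 0) → ∀ w ∈ W,
      (∏ t ∈ Finset.range p, ((a ^ i * b ^ j) ^ t) w) = 1 := by
    intro i j hi hj hij w hw
    have hc : (a ^ i * b ^ j) ^ p = 1 := by
      rw [((hcomm.pow_pow i j)).mul_pow, ← pow_mul, ← pow_mul, mul_comm i p, mul_comm j p,
        pow_mul, pow_mul, ha, hb, one_pow, one_pow, one_mul]
    have hWc : ∀ w ∈ W, (a ^ i * b ^ j) w ∈ W := by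
      intro w hw
      rw [MulAut.mul_apply]
      exact hWapow i _ (hWbpow j w hw)
    exact hfpf i j hi hj hij _ (B0R_aux_norm_mem _ W hWc w hw) (B0R_aux_norm_fixed _ hc w)
  rw [Subgroup.eq_bot_iff_forall]
  intro w hw
  -- the identity
  have h1 : (∏ j ∈ Finset.range p, ∏ t ∈ Finset.range p, ((a * b ^ j) ^ t) w) = 1 := by
    apply Finset.prod_eq_one
    intro j hj
    have := hnorm 1 j hp.one_lt (Finset.mem_range.mp hj) (by simp) w hw
    simpa using this
  have h2 : (∏ j ∈ Finset.range p, ∏ t ∈ Finset.range p, ((a * b ^ j) ^ t) w) =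
      ∏ t ∈ Finset.range p, (a ^ t) (∏ j ∈ Finset.range p, ((b ^ t) ^ j) w) := by
    rw [Finset.prod_comm]
    apply Finset.prod_congr rfl
    intro t _
    rw [map_prod]
    apply Finset.prod_congr rfl
    intro j _
    rw [((hcomm.pow_right j)).mul_pow, MulAut.mul_apply, ← pow_mul, ← pow_mul, mul_comm j t]
  have h3 : (∏ t ∈ Finset.range p, (a ^ t) (∏ j ∈ Finset.range p, ((b ^ t) ^ j) w)) = w ^ p := by
    rw [Finset.prod_eq_single 0]
    · simp
    · intro t ht ht0
      have htp : t < p := Finset.mem_range.mp ht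
      have := hnorm 0 t hp.pos htp (by simp [ht0]) w hw
      simp only [pow_zero, one_mul] at this
      rw [this, map_one]
    · intro h0
      exact absurd (Finset.mem_range.mpr hp.pos) h0
  have hwp : w ^ p = 1 := by rw [← h3, ← h2, h1]
  have hord1 : orderOf w ∣ p := orderOf_dvd_of_pow_eq_one hwp
  have hord2 : orderOf w ∣ Nat.card V := orderOf_dvd_natCard w
  have : orderOf w = 1 := Nat.eq_one_of_dvd_coprimes hcop hord2 hord1
  exact orderOf_eq_one_iff.mp this

end module

end Cfsg.Agent.Helper5.S4330
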