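import Cfsg.Agent.Helper27.M24Chain

/-!
The order of `Cfsg.M24`, by a chain of pointwise stabilisers with explicit transversals.
-/

set_option autoImplicit false

namespace Cfsg.Agent.Helper27

open Cfsg
open scoped Pointwise

/-- transversal at level 0 -/
def transL0 : List (List ℕ) := [
  [0,1,2,3,4,5,6,7,8,9,10,11,12,13,14,15,16,17,18,19,20,21,22,23],
  [1,15,17,22,10,11,14,2,8,20,3,4,13,5,12,7,21,18,16,19,0,9,23,6],
  [2,17,21,14,23,3,5,16,8,15,6,22,4,10,11,18,0,9,20,19,7,1,12,13],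
  [3,1,19,2,13,15,17,23,20,11,9,7,12,4,8,5,10,0,21,6,14,22,18,16],
  [4,14,10,18,22,7,17,15,9,8,3,20,12,23,2,5,11,6,1,13,0,21,16,19],
  [5,19,15,13,22,1,7,17,14,23,20,12,6,16,9,18,3,8,11,2,4,0,21,10],
  [6,2,15,9,22,3,11,18,14,12,10,23,5,16,13,17,1,8,7,19,4,0,21,20],
  [7,2,16,6,22,10,13,18,8,1,23,3,11,4,5,17,20,21,9,19,15,0,14,12],
  [8,22,21,12,1,16,6,20,4,13,14,10,18,17,23,5,7,2,9,3,11,0,15,19],
  [9,20,15,4,5,12,22,1,8,16,11,13,6,14,23,0,17,7,2,19,21,18,10,3],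
  [10,17,8,14,5,15,3,13,16,22,2,23,6,19,1,18,20,0,11,4,7,9,21,12],
  [11,19,16,5,22,20,9,17,8,3,12,1,7,4,6,18,10,21,13,2,15,0,14,23],
  [12,18,21,8,7,16,20,6,4,22,19,1,11,2,10,17,23,0,9,15,13,5,14,3],
  [13,19,4,11,22,12,6,17,21,10,1,20,9,15,7,18,23,14,5,2,16,0,8,3],
  [14,2,12,9,22,10,4,19,20,6,18,3,11,21,7,8,17,13,1,23,16,0,5,15],
  [15,7,18,23,3,4,12,17,8,0,22,10,5,11,13,2,9,16,21,19,1,20,6,14],
  [16,21,0,5,12,6,10,20,8,17,13,14,22,23,3,9,7,1,15,19,18,2,11,4],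
  [17,18,9,12,6,22,11,21,8,7,14,23,10,3,4,16,1,20,0,19,2,15,13,5],
  [18,16,20,13,14,23,4,9,8,2,12,6,3,22,10,21,15,0,1,19,17,7,5,11],
  [19,12,17,4,5,18,21,1,20,2,15,9,3,22,10,13,16,0,6,23,8,14,7,11],
  [20,0,7,10,11,13,23,15,8,21,4,5,14,12,6,1,18,2,17,19,9,16,3,22],
  [21,9,1,11,13,14,3,0,8,18,5,12,23,6,22,20,2,15,7,19,16,17,4,10],
  [22,1,23,13,5,2,14,17,7,11,8,18,12,10,16,6,9,0,19,15,21,20,3,4],
  [23,19,10,17,18,9,4,21,20,1,16,2,7,13,15,0,14,22,11,6,5,3,8,12]]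

/-- transversal at level 1 -/
def transL1 : List (List ℕ) := [
  [0,1,2,3,4,5,6,7,8,9,10,11,12,13,14,15,16,17,18,19,20,21,22,23],
  [0,2,3,6,11,21,13,9,7,19,22,4,1,20,15,18,8,14,12,5,23,16,17,10],
  [0,3,19,1,4,6,5,11,8,13,20,7,23,9,14,15,16,18,17,2,10,21,22,12],
  [0,4,15,3,20,23,19,5,9,21,22,7,2,12,17,14,1,10,6,13,8,11,18,16],
  [0,5,22,9,23,8,10,7,15,11,12,20,2,21,13,1,17,6,3,16,14,18,19,4],
  [0,6,2,3,21,7,9,14,20,1,10,11,15,4,5,16,12,8,19,23,17,13,22,18],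
  [0,7,22,1,18,20,10,14,16,11,15,17,2,13,4,6,8,9,3,12,5,19,23,21],
  [0,8,19,11,4,15,12,7,1,20,2,14,22,18,21,5,6,10,9,17,13,3,16,23],
  [0,9,22,11,20,14,1,5,4,6,10,3,19,8,7,23,18,13,12,15,21,17,2,16],
  [0,10,19,20,15,7,11,13,21,5,12,9,3,6,8,16,4,18,17,2,23,14,22,1],
  [0,11,22,6,3,21,23,9,16,13,1,12,2,14,5,20,17,7,10,4,8,18,19,15],
  [0,12,2,23,16,13,9,6,14,7,3,5,20,11,21,4,15,17,18,19,1,8,22,10],
  [0,13,22,10,17,23,12,8,4,9,16,18,19,6,15,11,21,5,20,3,7,2,1,14],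
  [0,14,2,6,16,4,10,5,23,3,19,21,22,17,8,9,13,1,11,18,7,12,15,20],
  [0,15,16,20,23,1,2,7,5,14,22,13,19,3,18,8,10,12,11,6,21,9,17,4],
  [0,16,4,12,3,20,2,9,11,8,22,5,19,10,18,21,23,1,13,7,14,6,17,15],
  [0,17,15,19,1,20,22,23,16,3,13,11,18,10,9,21,12,4,7,6,5,2,14,8],
  [0,18,16,2,10,23,22,1,4,20,6,9,17,12,5,14,3,15,13,11,7,19,8,21],
  [0,19,11,12,14,3,18,20,7,17,16,4,8,13,5,9,1,21,22,15,23,6,10,2],
  [0,20,2,10,15,11,7,9,21,6,23,13,1,5,8,16,4,17,18,19,12,14,22,3],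
  [0,21,19,13,15,16,1,9,20,12,2,8,22,18,14,11,7,23,6,17,5,10,4,3],
  [0,22,16,2,19,1,20,5,7,18,6,9,14,10,23,3,17,4,11,21,15,12,8,13],
  [0,23,19,12,16,9,13,5,14,11,1,6,10,7,21,4,15,18,17,2,3,8,22,20]]

/-- transversal at level 2 -/
def transL2 : List (List ℕ) := [
  [0,1,2,3,4,5,6,7,8,9,10,11,12,13,14,15,16,17,18,19,20,21,22,23],
  [0,1,3,8,15,14,10,19,5,13,2,6,16,22,11,20,12,7,4,9,18,17,23,21],
  [0,1,4,17,14,6,13,19,3,20,16,10,7,11,9,18,22,23,2,8,15,21,5,12],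
  [0,1,5,7,9,21,22,6,15,13,14,3,10,2,17,8,4,12,11,23,16,20,19,18],
  [0,1,6,19,12,22,2,14,5,7,18,21,3,9,15,11,17,10,16,8,13,20,23,4],
  [0,1,7,22,13,20,15,19,16,14,5,18,3,17,21,6,8,4,23,12,10,11,2,9],
  [0,1,8,21,5,3,16,10,18,20,22,23,2,19,14,15,6,7,12,9,13,4,17,11],
  [0,1,9,18,10,23,21,12,19,15,22,6,13,11,3,5,4,7,20,2,17,14,8,16],
  [0,1,10,12,14,16,9,17,7,22,15,18,8,11,5,4,2,23,20,3,6,21,13,19],
  [0,1,11,3,19,6,14,20,13,8,4,21,23,15,2,16,12,22,5,17,10,18,7,9],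
  [0,1,12,22,19,4,15,17,7,21,2,23,20,18,11,16,6,5,13,8,9,10,3,14],
  [0,1,13,8,7,5,4,9,6,19,2,21,17,20,18,10,23,16,22,3,11,15,12,14],
  [0,1,14,19,21,12,4,15,23,16,20,17,5,11,18,22,8,6,2,9,10,13,7,3],
  [0,1,15,12,3,2,7,21,20,19,23,11,22,14,6,18,4,5,8,16,17,10,9,13],
  [0,1,16,4,12,9,17,18,13,14,20,7,15,5,11,22,23,8,21,2,3,6,19,10],
  [0,1,17,16,19,20,13,14,15,12,7,11,4,10,23,5,9,8,2,22,18,6,3,21],
  [0,1,18,7,17,4,19,21,15,8,12,10,5,9,13,2,14,6,3,22,23,16,20,11],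
  [0,1,19,5,11,15,18,8,22,9,6,2,17,23,21,13,3,14,12,7,16,10,4,20],
  [0,1,20,19,9,8,23,13,2,3,6,11,16,21,10,17,22,18,5,12,15,14,4,7],
  [0,1,21,2,13,8,9,3,23,12,20,14,18,15,5,6,7,22,4,19,11,17,16,10],
  [0,1,22,9,16,3,18,5,21,10,15,13,17,8,11,4,7,2,14,20,19,23,12,6],
  [0,1,23,16,7,2,20,3,12,21,18,17,9,15,13,10,5,22,6,19,14,11,8,4]]

/-- transversal at level 3 -/
def transL3 : List (List ℕ) := [
  [0,1,2,3,4,5,6,7,8,9,10,11,12,13,14,15,16,17,18,19,20,21,22,23],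
  [0,1,2,4,19,12,13,9,11,22,18,16,5,6,10,15,21,3,20,17,14,8,23,7],
  [0,1,2,5,15,17,16,12,8,11,13,20,6,18,3,10,22,23,4,21,19,9,7,14],
  [0,1,2,6,22,18,20,11,19,14,9,8,3,13,17,21,23,10,15,7,12,5,4,16],
  [0,1,2,7,4,14,19,3,9,6,12,23,10,11,18,13,17,22,20,8,5,16,21,15],
  [0,1,2,8,4,10,11,20,17,12,6,23,14,19,21,13,9,22,3,7,15,16,18,5],
  [0,1,2,9,14,23,22,12,7,3,21,11,16,4,15,13,8,10,5,17,18,19,6,20],
  [0,1,2,10,9,16,4,20,19,12,15,7,23,22,18,13,11,17,21,14,5,8,3,6],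
  [0,1,2,11,22,17,7,6,14,20,3,16,9,8,15,13,10,4,12,19,18,23,5,21],
  [0,1,2,12,15,3,21,5,11,16,6,14,13,20,4,18,23,7,19,8,17,22,9,10],
  [0,1,2,13,11,22,15,19,21,6,10,12,14,7,4,18,20,23,9,3,17,8,5,16],
  [0,1,2,14,18,3,12,22,8,21,15,9,7,10,23,4,6,5,13,20,11,19,16,17],
  [0,1,2,15,11,18,3,17,9,8,4,16,21,13,22,20,10,7,12,23,6,5,19,14],
  [0,1,2,16,13,17,11,23,19,7,22,5,4,21,10,15,3,6,9,8,14,12,20,18],
  [0,1,2,17,10,23,22,6,8,20,18,19,16,4,5,13,7,14,15,9,21,11,12,3],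
  [0,1,2,18,21,10,23,3,19,8,13,12,20,15,6,9,4,16,22,5,7,14,11,17],
  [0,1,2,19,22,6,10,12,8,11,20,13,17,18,21,16,15,23,9,3,5,4,14,7],
  [0,1,2,20,16,12,15,7,8,9,11,10,5,13,19,6,4,17,21,14,3,18,23,22],
  [0,1,2,21,8,15,6,10,14,19,22,23,5,13,4,12,9,11,3,16,20,18,7,17],
  [0,1,2,22,18,23,20,14,21,12,7,17,15,9,13,10,5,16,11,8,3,6,19,4],
  [0,1,2,23,13,14,7,16,8,19,4,21,22,15,17,18,12,3,10,11,9,20,6,5]]

/-- transversal at level 4 -/
def transL4 : List (List ℕ) := [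
  [0,1,2,3,4,5,6,7,8,9,10,11,12,13,14,15,16,17,18,19,20,21,22,23],
  [0,1,2,3,5,8,12,14,13,10,17,4,23,11,15,18,20,19,22,21,6,9,7,16],
  [0,1,2,3,6,16,5,9,13,17,22,14,11,7,15,20,21,8,10,18,12,4,23,19],
  [0,1,2,3,7,11,21,12,19,20,10,18,4,17,6,15,8,22,5,16,23,14,13,9],
  [0,1,2,3,8,13,23,15,11,17,19,5,16,4,18,22,6,21,7,9,12,10,14,20],
  [0,1,2,3,9,21,17,22,7,14,6,5,11,15,13,4,10,18,16,12,8,19,23,20],
  [0,1,2,3,10,9,19,7,14,15,12,8,4,18,11,5,17,22,20,23,13,21,16,6],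
  [0,1,2,3,11,4,20,22,5,21,9,13,6,8,7,14,23,10,15,17,16,19,18,12],
  [0,1,2,3,12,15,23,7,11,5,4,14,10,20,8,9,22,16,13,6,18,21,17,19],
  [0,1,2,3,13,11,16,18,4,19,21,8,20,5,22,7,12,9,14,10,23,17,15,6],
  [0,1,2,3,14,21,7,17,22,12,5,4,23,19,18,6,11,20,16,9,15,8,10,13],
  [0,1,2,3,15,11,10,8,20,4,16,12,19,14,9,13,18,6,17,21,23,5,7,22],
  [0,1,2,3,16,22,20,15,5,13,8,18,19,12,11,17,14,6,4,23,7,10,21,9],
  [0,1,2,3,17,16,13,5,9,18,14,20,23,4,8,22,11,19,10,6,7,12,21,15],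
  [0,1,2,3,18,8,17,20,10,23,21,14,13,9,16,7,4,15,11,12,6,22,5,19],
  [0,1,2,3,19,17,9,15,18,22,16,11,8,7,5,13,21,14,12,20,4,10,6,23],
  [0,1,2,3,20,14,22,13,12,6,21,11,18,15,17,7,10,5,8,4,19,16,9,23],
  [0,1,2,3,21,6,4,13,17,7,18,12,20,8,11,14,5,9,19,23,15,16,10,22],
  [0,1,2,3,22,10,14,6,15,5,9,17,11,13,7,19,16,12,21,8,18,20,23,4],
  [0,1,2,3,23,22,15,5,20,16,17,8,14,7,9,18,21,11,4,13,10,12,19,6]]

/-- transversal at level 5 -/
def transL5 : List (List ℕ) := [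
  [0,1,2,3,4,5,6,7,8,9,10,11,12,13,14,15,16,17,18,19,20,21,22,23],
  [0,1,2,3,4,6,21,10,15,20,12,18,7,23,11,19,16,9,14,8,17,5,13,22],
  [0,1,2,3,4,8,17,10,11,14,12,5,7,13,15,9,22,19,20,6,21,18,23,16],
  [0,1,2,3,4,9,13,10,16,18,12,20,7,17,22,8,15,6,5,19,23,14,21,11],
  [0,1,2,3,4,11,20,10,8,21,12,13,7,5,6,16,19,22,17,15,14,23,18,9],
  [0,1,2,3,4,13,14,12,8,23,7,5,10,11,20,19,15,18,22,16,6,9,17,21],
  [0,1,2,3,4,14,9,7,19,6,10,22,12,21,5,16,15,23,20,8,18,13,11,17],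
  [0,1,2,3,4,15,14,10,6,17,12,23,7,18,8,22,9,16,21,11,20,13,5,19],
  [0,1,2,3,4,16,6,12,20,22,7,9,10,17,8,18,21,19,23,13,14,5,11,15],
  [0,1,2,3,4,17,22,7,16,11,10,9,12,20,23,19,8,5,21,15,13,18,6,14],
  [0,1,2,3,4,18,17,12,15,5,7,23,10,6,21,16,8,13,9,19,11,22,14,20],
  [0,1,2,3,4,19,20,7,14,18,10,21,12,22,8,17,23,15,9,5,6,11,13,16],
  [0,1,2,3,4,20,23,12,16,14,7,17,10,9,13,15,19,21,6,8,22,11,5,18],
  [0,1,2,3,4,21,5,12,19,17,7,14,10,22,18,8,16,20,11,15,9,6,23,13],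
  [0,1,2,3,4,22,18,10,19,13,12,21,7,14,9,15,8,11,23,16,5,17,20,6],
  [0,1,2,3,4,23,11,7,15,22,10,6,12,18,17,8,19,14,13,16,21,20,9,5]]

/-- transversal at level 6 -/
def transL6 : List (List ℕ) := [
  [0,1,2,3,4,5,6,7,8,9,10,11,12,13,14,15,16,17,18,19,20,21,22,23],
  [0,1,2,3,4,5,16,10,13,19,12,8,7,11,23,20,21,14,9,18,22,6,15,17],
  [0,1,2,3,4,5,21,12,11,18,7,13,10,8,17,22,6,23,19,9,15,16,20,14]]
/-- the octad through the points with indices 0, 1, 2, 3, 4 -/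
def oct5 : ℕ := 5279

theorem isOct_oct5 : isOct oct5 = true := by decide +kernel

theorem fixed_lt_24 {fixed : List ℕ} (h : fixed.all (fun f => Nat.blt f 24) = true) : ∀ f ∈ fixed, f < 24 := by
  intro f hf
  rw [List.all_eq_true] at h
  exact Nat.blt_eq.mp (h f hf)

theorem transOK0 : transOK [] transL0 = true := by decide +kernel
theorem transOK1 : transOK [0] transL1 = true := by decide +kernel
theorem transOK2 : transOK [1, 0] transL2 = true := by decide +kernel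
theorem transOK3 : transOK [2, 1, 0] transL3 = true := by decide +kernel
theorem transOK4 : transOK [3, 2, 1, 0] transL4 = true := by decide +kernel
theorem transOK5 : transOK [4, 3, 2, 1, 0] transL5 = true := by decide +kernel
theorem transOK6 : transOK [5, 4, 3, 2, 1, 0] transL6 = true := by decide +kernel

theorem orbit_eq0 : orbitSet (fixG (ptsOf [])) (pt 0) = (maskSet (onesMask ^^^ tblMask []) : Set GolayPt) := by
  have hfix : ∀ f ∈ ([] : List ℕ), f < 24 := fixed_lt_24 (by decide)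
  exact orbit_eq_of_trans hfix (by norm_num) transOK0 _ (by decide +kernel)
    (orbit_sub_compl hfix (by norm_num) (by decide))

theorem orbit_eq1 : orbitSet (fixG (ptsOf [0])) (pt 1) = (maskSet (onesMask ^^^ tblMask [0]) : Set GolayPt) := by
  have hfix : ∀ f ∈ ([0] : List ℕ), f < 24 := fixed_lt_24 (by decide)
  exact orbit_eq_of_trans hfix (by norm_num) transOK1 _ (by decide +kernel)
    (orbit_sub_compl hfix (by norm_num) (by decide))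

theorem orbit_eq2 : orbitSet (fixG (ptsOf [1, 0])) (pt 2) = (maskSet (onesMask ^^^ tblMask [1, 0]) : Set GolayPt) := by
  have hfix : ∀ f ∈ ([1, 0] : List ℕ), f < 24 := fixed_lt_24 (by decide)
  exact orbit_eq_of_trans hfix (by norm_num) transOK2 _ (by decide +kernel)
    (orbit_sub_compl hfix (by norm_num) (by decide))

theorem orbit_eq3 :
    orbitSet (fixG (ptsOf [2, 1, 0])) (pt 3) = (maskSet (onesMask ^^^ tblMask [2, 1, 0]) : Set GolayPt) := by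
  have hfix : ∀ f ∈ ([2, 1, 0] : List ℕ), f < 24 := fixed_lt_24 (by decide)
  exact orbit_eq_of_trans hfix (by norm_num) transOK3 _ (by decide +kernel)
    (orbit_sub_compl hfix (by norm_num) (by decide))

theorem orbit_eq4 :
    orbitSet (fixG (ptsOf [3, 2, 1, 0])) (pt 4) = (maskSet (onesMask ^^^ tblMask [3, 2, 1, 0]) : Set GolayPt) := by
  have hfix : ∀ f ∈ ([3, 2, 1, 0] : List ℕ), f < 24 := fixed_lt_24 (by decide)
  exact orbit_eq_of_trans hfix (by norm_num) transOK4 _ (by decide +kernel)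
    (orbit_sub_compl hfix (by norm_num) (by decide))

theorem orbit_card0 : (orbitSet (fixG (ptsOf [])) (pt 0)).ncard = 24 := by
  rw [orbit_eq0, Set.ncard_coe_finset, card_maskSet]; decide +kernel

theorem orbit_card1 : (orbitSet (fixG (ptsOf [0])) (pt 1)).ncard = 23 := by
  rw [orbit_eq1, Set.ncard_coe_finset, card_maskSet]; decide +kernel

theorem orbit_card2 : (orbitSet (fixG (ptsOf [1, 0])) (pt 2)).ncard = 22 := by
  rw [orbit_eq2, Set.ncard_coe_finset, card_maskSet]; decide +kernel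

theorem orbit_card3 : (orbitSet (fixG (ptsOf [2, 1, 0])) (pt 3)).ncard = 21 := by
  rw [orbit_eq3, Set.ncard_coe_finset, card_maskSet]; decide +kernel

theorem orbit_card4 : (orbitSet (fixG (ptsOf [3, 2, 1, 0])) (pt 4)).ncard = 20 := by
  rw [orbit_eq4, Set.ncard_coe_finset, card_maskSet]; decide +kernel

/-- an element of `M24` fixing the points with indices 0, …, 4 leaves their octad invariant -/
theorem invSet_oct5 {F : Finset GolayPt} {g : Equiv.Perm GolayPt} (hg : g ∈ fixG F)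
    (hF : maskSet 31 ⊆ F) : InvSet g (maskSet oct5) := by
  rw [mem_fixG] at hg
  apply octad_fixed hg.1 (maskSet_mem_octads isOct_oct5) (F := maskSet 31) (fun q hq => hg.2 q (hF hq))
  rw [← maskSet_and, card_maskSet]
  decide +kernel

theorem orbit_eq5 :
    orbitSet (fixG (ptsOf [4, 3, 2, 1, 0])) (pt 5) = (maskSet (onesMask ^^^ oct5) : Set GolayPt) := by
  have hfix : ∀ f ∈ ([4, 3, 2, 1, 0] : List ℕ), f < 24 := fixed_lt_24 (by decide)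
  refine orbit_eq_of_trans hfix (by norm_num) transOK5 _ (by decide +kernel) ?_
  intro g hg
  have hI : InvSet g (maskSet oct5) := invSet_oct5 hg (by
    rw [ptsOf_eq_maskSet hfix]
    have : tblMask [4, 3, 2, 1, 0] = 31 := by decide +kernel
    rw [this])
  rw [maskSet_compl, Finset.mem_sdiff]
  refine ⟨Finset.mem_univ _, ?_⟩
  rw [invSet_apply_mem_iff hI, mem_maskSet, idx_pt (by norm_num)]
  decide +kernel

theorem orbit_card5 : (orbitSet (fixG (ptsOf [4, 3, 2, 1, 0])) (pt 5)).ncard = 16 := by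
  rw [orbit_eq5, Set.ncard_coe_finset, card_maskSet]; decide +kernel

theorem orbit_eq6 :
    orbitSet (fixG (ptsOf [5, 4, 3, 2, 1, 0])) (pt 7) = (maskSet (oct5 ^^^ (oct5 &&& 63)) : Set GolayPt) := by
  have hfix : ∀ f ∈ ([5, 4, 3, 2, 1, 0] : List ℕ), f < 24 := fixed_lt_24 (by decide)
  refine orbit_eq_of_trans hfix (by norm_num) transOK6 _ (by decide +kernel) ?_
  intro g hg
  have h63 : tblMask [5, 4, 3, 2, 1, 0] = 63 := by decide +kernel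
  have hI : InvSet g (maskSet oct5) := invSet_oct5 hg (by
    rw [ptsOf_eq_maskSet hfix, h63]
    intro q
    rw [mem_maskSet, mem_maskSet]
    have : ∀ i < 24, (31 : ℕ).testBit i = true → (63 : ℕ).testBit i = true := by decide +kernel
    exact this _ (idx_lt q))
  rw [maskSet_xor_and, Finset.mem_sdiff]
  constructor
  · rw [invSet_apply_mem_iff hI, mem_maskSet, idx_pt (by norm_num)]
    decide +kernel
  · have := orbit_sub_compl hfix (a := 7) (by norm_num) (by decide) g hg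
    rw [maskSet_compl, h63, Finset.mem_sdiff] at this
    exact this.2

theorem orbit_card6 : (orbitSet (fixG (ptsOf [5, 4, 3, 2, 1, 0])) (pt 7)).ncard = 3 := by
  rw [orbit_eq6, Set.ncard_coe_finset, card_maskSet]; decide +kernel

/-- the certificate that the pointwise stabiliser of the seven base points is trivial -/
def baseCert : List (ℕ × ℕ × ℕ) :=
  [(8536111,2121909,14),(6832158,5275709,22),(12656663,4526126,16),(12656663,8536111,23),(12656663,12656663,13),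
   (8536111,8536111,17),(13262980,13262980,19),(11100169,11100169,21),(6447171,6447171,6),(13062145,4845570,12),
   (13062145,13062145,18),(4845570,4845570,15),(13938692,13938692,20),(4038912,4038912,8),(8077824,8077824,9),
   (11654144,11654144,10),(14919680,14919680,11)]

theorem fixG_base_eq_bot : fixG (ptsOf [7, 5, 4, 3, 2, 1, 0]) = ⊥ := by
  have hfix : ∀ f ∈ ([7, 5, 4, 3, 2, 1, 0] : List ℕ), f < 24 := fixed_lt_24 (by decide)
  rw [eq_bot_iff]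
  intro g hg
  rw [Subgroup.mem_bot]
  rw [mem_fixG, ptsOf_eq_maskSet hfix] at hg
  have h191 : tblMask [7, 5, 4, 3, 2, 1, 0] = 191 := by decide +kernel
  rw [h191] at hg
  exact checkCert_sound hg.1 (inv := []) (by simp) baseCert 191 (by decide +kernel) hg.2

/-- the order of `M24` -/
theorem card_M24 : Nat.card M24 = 244823040 := by
  have h0 := card_fixG_insert (ptsOf []) (pt 0)
  have h1 := card_fixG_insert (ptsOf [0]) (pt 1)
  have h2 := card_fixG_insert (ptsOf [1, 0]) (pt 2)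
  have h3 := card_fixG_insert (ptsOf [2, 1, 0]) (pt 3)
  have h4 := card_fixG_insert (ptsOf [3, 2, 1, 0]) (pt 4)
  have h5 := card_fixG_insert (ptsOf [4, 3, 2, 1, 0]) (pt 5)
  have h6 := card_fixG_insert (ptsOf [5, 4, 3, 2, 1, 0]) (pt 7)
  rw [← ptsOf_cons, orbit_card0] at h0
  rw [← ptsOf_cons, orbit_card1] at h1
  rw [← ptsOf_cons, orbit_card2] at h2
  rw [← ptsOf_cons, orbit_card3] at h3
  rw [← ptsOf_cons, orbit_card4] at h4
  rw [← ptsOf_cons, orbit_card5] at h5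
  rw [← ptsOf_cons, orbit_card6, fixG_base_eq_bot, Subgroup.card_bot] at h6
  have hE : ptsOf [] = ∅ := by simp [ptsOf]
  rw [hE, fixG_empty] at h0
  rw [h0, h1, h2, h3, h4, h5, h6]

end Cfsg.Agent.Helper27
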