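import Cfsg.Agent.Helper27.PermChain

/-!
Orbits of sets of points by descent: every codeword mask with a given property can be mapped to a numerically smaller
one by one of finitely many permutations, so all of them lie in the orbit of the smallest.
-/

set_option autoImplicit false

namespace Cfsg.Agent.Helper27

open Cfsg
open scoped Pointwise

theorem validTbl_length {T : List ℕ} (hv : validTbl T = true) : T.length = 24 := by
  simp only [validTbl, Bool.and_eq_true, beq_iff_eq] at hv; exact hv.1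

/-- `applyTbl` computes the preimage of a set of points -/
theorem maskSet_applyTbl {T : List ℕ} (hv : validTbl T = true) (n : ℕ) :
    maskSet (applyTbl T n) = (tblPerm T hv)⁻¹ • maskSet n := by
  ext q
  have h1 : q ∈ (tblPerm T hv)⁻¹ • maskSet n ↔ tblPerm T hv q ∈ maskSet n := by
    have := mem_smul_finset_perm (tblPerm T hv)⁻¹ (maskSet n) (tblPerm T hv q)
    have h2 : (tblPerm T hv)⁻¹ (tblPerm T hv q) = q := by simp
    rw [h2] at this
    exact this
  rw [h1, mem_maskSet, mem_maskSet, testBit_applyTbl T n (idx q) (by rw [validTbl_length hv]; exact idx_lt q)]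
  rw [show idx (tblPerm T hv q) = T.getD (idx q) 0 from idx_tblFun hv q]

/-- one descent step: the new mask is smaller, a codeword, and has the property -/
def descTest (P : ℕ → Bool) (w n' : ℕ) : Bool := Nat.blt n' w && (cw (n' % 4096) == n') && P n'

/-- a descent certificate -/
def descOKH (cert : List ℕ → Bool) (gens : List (List ℕ)) (P : ℕ → Bool) (dmin : ℕ) : Bool :=
  gens.all (fun T => validTbl T && cert T) &&
  allBelow (fun k => !(P (cw k)) || (cw k == dmin) || gens.any (fun T => descTest P (cw k) (applyTbl T (cw k)))) 4096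

theorem descent_soundH {H : Subgroup (Equiv.Perm GolayPt)} {cert : List ℕ → Bool} (hc : CertSound H cert)
    {gens : List (List ℕ)} {P : ℕ → Bool} {dmin : ℕ} (h : descOKH cert gens P dmin = true) :
    ∀ n : ℕ, cw (n % 4096) = n → P n = true → ∃ g ∈ H, g • maskSet n = maskSet dmin := by
  simp only [descOKH, Bool.and_eq_true] at h
  obtain ⟨hgens, hall⟩ := h
  rw [List.all_eq_true] at hgens
  have hall' := allBelow_spec hall
  intro n
  induction n using Nat.strong_induction_on with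
  | _ n ih =>
    intro hcw hP
    have hk : n % 4096 < 4096 := Nat.mod_lt _ (by norm_num)
    have := hall' _ hk
    rw [hcw] at this
    simp only [Bool.or_eq_true, Bool.not_eq_true', beq_iff_eq, List.any_eq_true] at this
    rcases this with (h1 | h1) | h1
    · rw [hP] at h1; exact absurd h1 (by simp)
    · exact ⟨1, H.one_mem, by rw [h1, one_smul]⟩
    · obtain ⟨T, hT, hTd⟩ := h1
      simp only [descTest, Bool.and_eq_true, beq_iff_eq, Nat.blt_eq] at hTd
      obtain ⟨⟨hlt, hcw'⟩, hP'⟩ := hTd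
      have hT' := hgens T hT
      rw [Bool.and_eq_true] at hT'
      obtain ⟨hv, hcert⟩ := hT'
      obtain ⟨g, hg, hgs⟩ := ih _ hlt hcw' hP'
      refine ⟨g * (tblPerm T hv)⁻¹, H.mul_mem hg (H.inv_mem (hc T hv hcert)), ?_⟩
      rw [mul_smul, ← maskSet_applyTbl hv, hgs]

/-! ### Dodecads -/

/-- the numerically smallest dodecad -/
def dod0 : ℕ := 28637

/-- permutations in `M24` that move every dodecad but the smallest to a smaller one -/
def dodGens : List (List ℕ) := [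
  [1,2,3,4,5,6,7,8,9,10,11,12,13,14,15,16,17,18,19,20,21,22,0,23],
  [2,21,6,14,15,5,17,10,13,4,3,16,0,9,18,20,12,1,8,19,7,22,23,11],
  [4,6,19,5,20,3,8,0,10,15,12,2,7,1,11,9,17,22,14,16,13,23,21,18],
  [18,7,3,20,15,19,12,2,8,0,16,11,10,5,13,9,17,6,4,21,1,14,22,23],
  [5,10,14,1,19,13,8,18,0,20,22,11,17,2,3,6,9,12,16,7,4,15,23,21],
  [16,8,11,19,10,13,0,5,4,14,18,20,2,6,1,21,17,7,15,3,9,22,12,23],
  [0,3,13,1,16,7,9,17,2,4,11,14,12,6,5,21,18,19,8,20,10,23,15,22],
  [0,12,4,2,9,14,16,11,3,8,20,5,13,6,19,10,1,15,18,7,22,21,17,23],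
  [21,0,7,10,23,14,1,20,2,15,5,16,3,8,19,11,18,12,17,9,6,4,13,22],
  [9,18,3,16,15,2,1,4,20,0,5,7,8,10,19,14,13,6,17,12,22,11,23,21],
  [6,7,5,16,19,13,4,18,20,11,1,14,15,10,0,3,22,17,2,9,12,21,8,23],
  [10,9,16,13,3,19,22,0,17,20,5,15,2,7,11,1,14,12,8,23,18,6,4,21],
  [0,12,1,13,2,14,3,15,4,16,5,17,6,18,7,19,8,20,9,21,10,22,11,23],
  [8,3,9,7,4,17,15,6,5,10,19,0,1,11,18,23,14,21,12,13,16,2,22,20],
  [17,4,16,11,14,2,5,15,3,23,9,18,12,0,13,8,19,10,6,21,22,20,1,7],
  [18,6,11,0,20,3,10,15,5,8,19,14,2,13,17,12,9,23,1,16,7,4,22,21],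
  [18,9,11,8,20,6,19,12,7,13,15,0,10,23,4,1,5,17,21,22,16,14,3,2],
  [14,23,3,5,18,12,1,10,13,2,6,0,16,4,22,8,9,20,21,7,11,15,17,19],
  [4,10,13,14,12,18,22,0,19,7,16,8,6,23,5,17,15,9,20,21,2,3,1,11],
  [6,12,16,13,9,23,5,17,0,19,2,8,22,15,18,4,10,21,7,14,11,20,3,1],
  [10,0,2,19,12,14,7,6,4,5,9,15,8,23,1,16,21,11,18,20,3,22,17,13],
  [7,8,11,3,20,16,0,19,6,21,5,1,15,18,9,17,13,12,10,22,23,4,14,2],
  [20,19,23,5,9,15,16,1,3,11,17,6,7,0,10,22,12,4,13,14,8,2,21,18],
  [23,12,21,2,11,10,7,15,4,18,6,14,9,8,0,1,20,17,22,5,16,19,3,13],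
  [19,11,9,7,12,2,10,1,16,14,0,8,15,3,13,4,20,5,22,18,21,23,17,6],
  [4,1,23,14,12,10,9,8,6,11,16,2,3,22,0,5,19,21,15,13,17,20,7,18]]

theorem dod_descOK : descOKH tblInCode dodGens (fun n => popc 24 n == 12) dod0 = true := by decide +kernel

/-- every dodecad is a `maskSet` of a codeword mask of weight 12 -/
theorem exists_mask_of_mem_wordsOfWeight {b : Finset GolayPt} {n : ℕ}
    (hb : b ∈ wordsOfWeight (golayCode : Set (GolayPt → ZMod 2)) n) :
    ∃ m : ℕ, cw (m % 4096) = m ∧ popc 24 m = n ∧ b = maskSet m := by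
  obtain ⟨k, hk, hpop, rfl⟩ := (mem_wordsOfWeight_iff n b).mp hb
  exact ⟨cw k, by rw [cw_mod hk], hpop, rfl⟩

theorem maskSet_dod0_mem : maskSet dod0 ∈ dodecads := by
  refine ⟨⟨decW dod0, ?_, rfl⟩, ?_⟩
  · show decW dod0 ∈ golayCode
    rw [decW_mem_iff (by decide +kernel)]
    decide +kernel
  · rw [card_maskSet]
    decide +kernel

/-- every dodecad can be moved to the standard one -/
theorem exists_smul_eq_dod0 {d : Finset GolayPt} (hd : d ∈ dodecads) : ∃ g ∈ M24, g • d = maskSet dod0 := by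
  obtain ⟨m, hm, hpop, rfl⟩ := exists_mask_of_mem_wordsOfWeight hd
  exact descent_soundH certSound_M24 dod_descOK m hm (by simp [hpop])

theorem M24_dodecad_transitive (d d' : Finset GolayPt) (hd : d ∈ dodecads) (hd' : d' ∈ dodecads) :
    ∃ g ∈ M24, g • d = d' := by
  obtain ⟨g, hg, hgd⟩ := exists_smul_eq_dod0 hd
  obtain ⟨g', hg', hgd'⟩ := exists_smul_eq_dod0 hd'
  refine ⟨g'⁻¹ * g, M24.mul_mem (M24.inv_mem hg') hg, ?_⟩
  rw [mul_smul, hgd, ← hgd', inv_smul_smul]

end Cfsg.Agent.Helper27
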