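import Cfsg.Agent.Helper27.Leech

/-!
Counting vectors of given sum of squares in `Cfsg.leechLattice`: a recursion over the coordinates
(`cnt`), its invariance under permutations of the list of residues, and an evaluation of it by a table.
-/

set_option autoImplicit false

namespace Cfsg.Agent.Helper27

open Cfsg

/-! ### The recursion -/

/-- candidates for a coordinate with residue `r` modulo 4 -/
noncomputable def cands (r : ℤ) : Finset ℤ := (Finset.Icc (-8) 8).filter (fun v => v % 4 = r % 4)

/-- the number of integer vectors with coordinates in `[-8, 8]`, prescribed residues modulo 4,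
sum of squares `N` and sum congruent to `σ` modulo 8 -/
noncomputable def cnt : List ℤ → ℤ → ℤ → ℕ
  | [], N, σ => if N = 0 ∧ σ % 8 = 0 then 1 else 0
  | r :: rs, N, σ => ∑ v ∈ cands r, cnt rs (N - v ^ 2) (σ - v)

/-- the box `[-8, 8] ^ n` -/
noncomputable def boxF (n : ℕ) : Finset (Fin n → ℤ) := Fintype.piFinset fun _ => Finset.Icc (-8) 8

/-- the vectors counted by `cnt` -/
noncomputable def vecs (n : ℕ) (r : Fin n → ℤ) (N σ : ℤ) : Finset (Fin n → ℤ) :=
  (boxF n).filter fun x => (∀ i, x i % 4 = r i % 4) ∧ ∑ i, x i ^ 2 = N ∧ (∑ i, x i) % 8 = σ % 8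

theorem mem_vecs {n : ℕ} {r : Fin n → ℤ} {N σ : ℤ} {x : Fin n → ℤ} :
    x ∈ vecs n r N σ ↔ (∀ i, x i ∈ Finset.Icc (-8) 8) ∧ (∀ i, x i % 4 = r i % 4) ∧ ∑ i, x i ^ 2 = N ∧
      (∑ i, x i) % 8 = σ % 8 := by
  simp only [vecs, boxF, Finset.mem_filter, Fintype.mem_piFinset]

attribute [irreducible] vecs

theorem card_vecs_succ (n : ℕ) (r : Fin (n + 1) → ℤ) (N σ : ℤ) :
    (vecs (n + 1) r N σ).card = ∑ v ∈ cands (r 0), (vecs n (Fin.tail r) (N - v ^ 2) (σ - v)).card := by
  rw [Finset.card_eq_sum_card_fiberwise (f := fun x => x 0) (t := cands (r 0))]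
  · apply Finset.sum_congr rfl
    intro v hv
    simp only [cands, Finset.mem_filter] at hv
    apply Finset.card_bij (fun x _ => Fin.tail x)
    · intro x hx
      rw [Finset.mem_filter, mem_vecs] at hx
      obtain ⟨⟨h1, h2, h3, h4⟩, h0⟩ := hx
      rw [mem_vecs]
      rw [Fin.sum_univ_succ] at h3 h4
      refine ⟨fun i => h1 i.succ, fun i => h2 i.succ, ?_, ?_⟩
      · simp only [Fin.tail]
        rw [← h3, h0]; ring
      · simp only [Fin.tail]
        rw [h0] at h4
        omega
    · intro x hx x' hx' hxx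
      rw [Finset.mem_filter] at hx hx'
      funext i
      refine Fin.cases ?_ (fun j => ?_) i
      · rw [hx.2, hx'.2]
      · exact congrFun hxx j
    · intro y hy
      rw [mem_vecs] at hy
      obtain ⟨h1, h2, h3, h4⟩ := hy
      refine ⟨Fin.cons v y, ?_, Fin.tail_cons _ _⟩
      rw [Finset.mem_filter, mem_vecs]
      refine ⟨⟨?_, ?_, ?_, ?_⟩, Fin.cons_zero _ _⟩
      · intro i
        refine Fin.cases ?_ (fun j => ?_) i
        · simpa using hv.1
        · simpa using h1 j
      · intro i
        refine Fin.cases ?_ (fun j => ?_) i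
        · simpa using hv.2
        · simpa [Fin.tail] using h2 j
      · rw [Fin.sum_univ_succ]
        simp only [Fin.cons_zero, Fin.cons_succ]
        rw [h3]; ring
      · rw [Fin.sum_univ_succ]
        simp only [Fin.cons_zero, Fin.cons_succ]
        omega
  · intro x hx
    have hx' := mem_vecs.mp hx
    rw [Finset.mem_coe, cands, Finset.mem_filter]
    exact ⟨hx'.1 0, hx'.2.1 0⟩

theorem card_vecs (n : ℕ) : ∀ (r : Fin n → ℤ) (N σ : ℤ), (vecs n r N σ).card = cnt (List.ofFn r) N σ := by
  induction n with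
  | zero =>
    intro r N σ
    rw [List.ofFn_zero, cnt]
    by_cases h : N = 0 ∧ σ % 8 = 0
    · rw [if_pos h]
      rw [Finset.card_eq_one]
      refine ⟨fun i => i.elim0, ?_⟩
      ext x
      rw [mem_vecs, Finset.mem_singleton]
      constructor
      · intro _
        funext i
        exact i.elim0
      · intro _
        refine ⟨fun i => i.elim0, fun i => i.elim0, ?_, ?_⟩
        · simp [h.1]
        · simp only [Finset.univ_eq_empty, Finset.sum_empty]
          omega
    · rw [if_neg h, Finset.card_eq_zero]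
      ext x
      rw [mem_vecs]
      simp only [Finset.univ_eq_empty, Finset.sum_empty, Finset.notMem_empty, iff_false]
      rintro ⟨_, _, h3, h4⟩
      apply h
      constructor
      · exact h3.symm
      · omega
  | succ n ih =>
    intro r N σ
    rw [card_vecs_succ, List.ofFn_succ, cnt]
    apply Finset.sum_congr rfl
    intro v _
    exact ih _ _ _

/-- `cnt` does not depend on the order of the residues -/
theorem cnt_perm {l l' : List ℤ} (h : l.Perm l') : ∀ N σ, cnt l N σ = cnt l' N σ := by
  induction h with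
  | nil => intro N σ; rfl
  | cons x _ ih =>
    intro N σ
    simp only [cnt]
    exact Finset.sum_congr rfl fun v _ => ih _ _
  | swap x y l =>
    intro N σ
    simp only [cnt]
    rw [Finset.sum_comm]
    refine Finset.sum_congr rfl fun v _ => Finset.sum_congr rfl fun w _ => ?_
    congr 1 <;> ring
  | trans _ _ ih1 ih2 =>
    intro N σ
    rw [ih1, ih2]

theorem cnt_neg (rs : List ℤ) : ∀ (N σ : ℤ), N < 0 → cnt rs N σ = 0 := by
  induction rs with
  | nil =>
    intro N σ hN
    rw [cnt, if_neg]
    rintro ⟨h, _⟩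
    omega
  | cons r rs ih =>
    intro N σ hN
    rw [cnt]
    apply Finset.sum_eq_zero
    intro v _
    apply ih
    have : 0 ≤ v ^ 2 := sq_nonneg v
    omega

theorem cnt_mod (rs : List ℤ) : ∀ (N σ : ℤ), cnt rs N (σ % 8) = cnt rs N σ := by
  induction rs with
  | nil =>
    intro N σ
    simp only [cnt, Int.emod_emod_of_dvd σ (dvd_refl 8)]
  | cons r rs ih =>
    intro N σ
    rw [cnt, cnt]
    apply Finset.sum_congr rfl
    intro v _
    rw [← ih _ (σ % 8 - v), ← ih _ (σ - v)]
    congr 1
    omega

/-! ### Evaluation by a table -/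

/-- the candidates as a list -/
def candL (r : ℤ) : List ℤ :=
  if r % 4 = 0 then [-8, -4, 0, 4, 8] else if r % 4 = 1 then [-7, -3, 1, 5]
  else if r % 4 = 2 then [-6, -2, 2, 6] else [-5, -1, 3, 7]

theorem cands_aux0 : (Finset.Icc (-8 : ℤ) 8).filter (fun v => v % 4 = 0) = ([-8, -4, 0, 4, 8] : List ℤ).toFinset := by
  decide
theorem cands_aux1 : (Finset.Icc (-8 : ℤ) 8).filter (fun v => v % 4 = 1) = ([-7, -3, 1, 5] : List ℤ).toFinset := by
  decide
theorem cands_aux2 : (Finset.Icc (-8 : ℤ) 8).filter (fun v => v % 4 = 2) = ([-6, -2, 2, 6] : List ℤ).toFinset := by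
  decide
theorem cands_aux3 : (Finset.Icc (-8 : ℤ) 8).filter (fun v => v % 4 = 3) = ([-5, -1, 3, 7] : List ℤ).toFinset := by
  decide

theorem candL_nodup (r : ℤ) : (candL r).Nodup := by
  unfold candL
  split_ifs <;> decide

theorem cands_eq (r : ℤ) : cands r = (candL r).toFinset := by
  unfold cands candL
  have h : r % 4 = 0 ∨ r % 4 = 1 ∨ r % 4 = 2 ∨ r % 4 = 3 := by omega
  rcases h with h | h | h | h
  · rw [h, if_pos rfl]; exact cands_aux0
  · rw [h, if_neg (by decide), if_pos rfl]; exact cands_aux1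
  · rw [h, if_neg (by decide), if_neg (by decide), if_pos rfl]; exact cands_aux2
  · rw [h, if_neg (by decide), if_neg (by decide), if_neg (by decide)]; exact cands_aux3

theorem sum_cands (r : ℤ) (F : ℤ → ℕ) : ∑ v ∈ cands r, F v = ((candL r).map F).sum := by
  rw [cands_eq, List.sum_toFinset F (candL_nodup r)]

/-- pointwise sum of two lists -/
def addL : List ℕ → List ℕ → List ℕ
  | [], l => l
  | a :: l, [] => a :: l
  | a :: l, b :: l' => (a + b) :: addL l l'

theorem getD_addL : ∀ (l l' : List ℕ) (n : ℕ), (addL l l').getD n 0 = l.getD n 0 + l'.getD n 0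
  | [], l', n => by simp [addL]
  | a :: l, [], n => by simp [addL]
  | a :: l, b :: l', 0 => by simp [addL]
  | a :: l, b :: l', n + 1 => by simpa [addL] using getD_addL l l' n

/-- prepend `k` zeros -/
def shiftN : ℕ → List ℕ → List ℕ
  | 0, L => L
  | k + 1, L => 0 :: shiftN k L

theorem getD_shiftN : ∀ (k : ℕ) (L : List ℕ) (n : ℕ), (shiftN k L).getD n 0 = if k ≤ n then L.getD (n - k) 0 else 0
  | 0, L, n => by simp [shiftN]
  | k + 1, L, 0 => by simp [shiftN]
  | k + 1, L, n + 1 => by
    have := getD_shiftN k L n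
    simp only [shiftN, List.getD_cons_succ, this, Nat.add_le_add_iff_right, Nat.add_sub_add_right]

/-- prepend `k` zeros and cut to length 65 -/
def shiftT (k : ℕ) (L : List ℕ) : List ℕ := (shiftN k L).take 65

theorem getD_shiftT (k : ℕ) (L : List ℕ) (n : ℕ) :
    (shiftT k L).getD n 0 = if n < 65 ∧ k ≤ n then L.getD (n - k) 0 else 0 := by
  have h := getD_shiftN k L n
  simp only [List.getD_eq_getElem?_getD] at h ⊢
  rw [shiftT, List.getElem?_take]
  by_cases hn : n < 65
  · rw [if_pos hn, h]
    simp [hn]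
  · rw [if_neg hn]
    simp [hn]

/-- sum of a list of rows -/
def sumRows (ls : List (List ℕ)) : List ℕ := ls.foldr addL []

theorem getD_sumRows (ls : List (List ℕ)) (n : ℕ) : (sumRows ls).getD n 0 = (ls.map fun l => l.getD n 0).sum := by
  induction ls with
  | nil => simp [sumRows]
  | cons l ls ih =>
    rw [sumRows, List.foldr_cons, getD_addL, List.map_cons, List.sum_cons]
    congr 1

/-- row `s` of a table -/
def rowT (T : List (List ℕ)) (s : ℕ) : List ℕ := T.getD s []

/-- one row of the next table -/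
def stepRow (r : ℤ) (T : List (List ℕ)) (s : ℕ) : List ℕ :=
  sumRows ((candL r).map fun v => shiftT (v.natAbs ^ 2) (rowT T (((s : ℤ) - v) % 8).toNat))

/-- the next table -/
def stepT (r : ℤ) (T : List (List ℕ)) : List (List ℕ) := (List.range 8).map (stepRow r T)

/-- the table of a list of residues: row `s`, entry `N` is `cnt rs N s` -/
def tab : List ℤ → List (List ℕ)
  | [] => [[1], [], [], [], [], [], [], []]
  | r :: rs => stepT r (tab rs)

theorem rowT_stepT (r : ℤ) (T : List (List ℕ)) {s : ℕ} (hs : s < 8) : rowT (stepT r T) s = stepRow r T s := by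
  simp [rowT, stepT, List.getD_eq_getElem?_getD, List.getElem?_map, List.getElem?_range hs]

theorem cnt_eq_tab (rs : List ℤ) : ∀ (N s : ℕ), N < 65 → s < 8 → cnt rs N s = (rowT (tab rs) s).getD N 0 := by
  induction rs with
  | nil =>
    intro N s _ hs
    interval_cases s <;> rcases N with _ | N <;> simp [cnt, tab, rowT]
    all_goals omega
  | cons r rs ih =>
    intro N s hN hs
    rw [cnt, sum_cands, tab, rowT_stepT r _ hs, stepRow, getD_sumRows, List.map_map]
    congr 1
    apply List.map_congr_left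
    intro v _
    simp only [Function.comp_apply]
    rw [getD_shiftT]
    have hsq : ((v.natAbs ^ 2 : ℕ) : ℤ) = v ^ 2 := by
      push_cast
      exact sq_abs v
    have hs' : ((((s : ℤ) - v) % 8).toNat : ℤ) = ((s : ℤ) - v) % 8 := by
      apply Int.toNat_of_nonneg
      omega
    by_cases hk : v.natAbs ^ 2 ≤ N
    · rw [if_pos ⟨hN, hk⟩, ← ih (N - v.natAbs ^ 2) _ (by omega) (by omega)]
      rw [hs', cnt_mod, Nat.cast_sub hk, hsq]
    · rw [if_neg (fun h => hk h.2)]
      apply cnt_neg
      have : (N : ℤ) < ((v.natAbs ^ 2 : ℕ) : ℤ) := by exact_mod_cast Nat.lt_of_not_le hk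
      rw [hsq] at this
      omega

/-- canonical list of residues: `w` coordinates congruent to `m + 2`, the others congruent to `m` -/
def canon (m : ℤ) (w : ℕ) : List ℤ := List.replicate w (m + 2) ++ List.replicate (24 - w) m

/-! ### From the lattice to the recursion -/

/-- bit `i` of `n` as an integer -/
def bitZ (n i : ℕ) : ℤ := if n.testBit i then 1 else 0

theorem bitZ_cases (n i : ℕ) : bitZ n i = 0 ∨ bitZ n i = 1 := by
  unfold bitZ
  split_ifs <;> simp

theorem intCast_zmod_two (a : ℤ) : (a : ZMod 2) = if a % 2 = 1 then 1 else 0 := by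
  rw [← ZMod.intCast_mod a 2]
  rcases Int.emod_two_eq_zero_or_one a with h | h <;> simp [h]

/-- membership in the lattice: parity `m`, codeword number `k` -/
theorem mem_leech_iff_res (x : GolayPt → ℤ) : x ∈ leechLattice ↔
    ∃ m ∈ ({0, 1} : Finset ℤ), ∃ k ∈ Finset.range 4096,
      (∀ p, x p % 4 = (m + 2 * bitZ (cw k) (idx p)) % 4) ∧ (∑ p, x p) % 8 = (4 * m) % 8 := by
  rw [mem_leechLattice_iff]
  constructor
  · rintro ⟨m₀, t, ht, hsum, hC⟩
    have hq : redW (fun _ => m₀ / 2) ∈ golayCode := by
      rcases Int.emod_two_eq_zero_or_one (m₀ / 2) with h | h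
      · have : redW (fun _ => m₀ / 2) = 0 := by
          funext p
          simp [redW, intCast_zmod_two, h]
        rw [this]
        exact golayCode.zero_mem
      · have : redW (fun _ => m₀ / 2) = 1 := by
          funext p
          simp [redW, intCast_zmod_two, h]
        rw [this]
        exact one_mem_golayCode
    have hC' : redW (t + fun _ => m₀ / 2) ∈ golayCode := by
      rw [redW_add]
      exact golayCode.add_mem hC hq
    obtain ⟨k, hk, hkw⟩ := (mem_golayCode_iff _).mp hC'
    refine ⟨m₀ % 2, ?_, k, Finset.mem_range.mpr hk, ?_, ?_⟩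
    · rcases Int.emod_two_eq_zero_or_one m₀ with h | h <;> simp [h]
    · intro p
      have h1 := congrFun hkw p
      simp only [redW, decW, Pi.add_apply, intCast_zmod_two] at h1
      have hx := ht p
      unfold bitZ
      by_cases hb : (cw k).testBit (idx p) = true
      · rw [if_pos hb] at h1 ⊢
        have : (t p + m₀ / 2) % 2 = 1 := by
          by_contra hne
          rw [if_neg hne] at h1
          exact absurd h1 (by decide)
        omega
      · rw [if_neg hb] at h1 ⊢
        have : ¬ (t p + m₀ / 2) % 2 = 1 := by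
          intro he
          rw [if_pos he] at h1
          exact absurd h1 (by decide)
        omega
    · have := hsum
      unfold Int.ModEq at this
      omega
  · rintro ⟨m, hm, k, _, hres, hsum⟩
    have hm' : m = 0 ∨ m = 1 := by simpa using hm
    refine ⟨m, fun p => (x p - m) / 2, ?_, hsum, ?_⟩
    · intro p
      show x p = m + 2 * ((x p - m) / 2)
      have := hres p
      rcases bitZ_cases (cw k) (idx p) with hb | hb <;> rw [hb] at this <;> omega
    · have : redW (fun p => (x p - m) / 2) = decW (cw k) := by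
        funext p
        have := hres p
        simp only [redW, decW, intCast_zmod_two]
        unfold bitZ at this
        by_cases hb : (cw k).testBit (idx p) = true
        · rw [if_pos hb] at this ⊢
          rw [if_pos (by omega)]
        · rw [if_neg hb] at this ⊢
          rw [if_neg (by omega)]
      rw [this]
      exact decW_cw_mem k

/-- the points as `Fin 24` -/
def ptE : Fin 24 ≃ GolayPt where
  toFun i := pt i
  invFun p := ⟨idx p, idx_lt p⟩
  left_inv i := Fin.ext (idx_pt i.2)
  right_inv p := pt_idx p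

/-- residues of the class `(m, k)` -/
def resF (m : ℤ) (k : ℕ) : Fin 24 → ℤ := fun i => m + 2 * bitZ (cw k) i

theorem mem_vecs_comp (x : GolayPt → ℤ) (m : ℤ) (k : ℕ) (N : ℤ) :
    (fun i : Fin 24 => x (pt i)) ∈ vecs 24 (resF m k) N (4 * m) ↔
      (∀ p, x p ∈ Finset.Icc (-8) 8) ∧ (∀ p, x p % 4 = (m + 2 * bitZ (cw k) (idx p)) % 4) ∧ sqNorm x = N ∧
        (∑ p, x p) % 8 = (4 * m) % 8 := by
  rw [mem_vecs]
  have hsum : ∀ f : GolayPt → ℤ, ∑ i : Fin 24, f (pt i) = ∑ p, f p := fun f => Equiv.sum_comp ptE f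
  constructor
  · rintro ⟨h1, h2, h3, h4⟩
    refine ⟨fun p => ?_, fun p => ?_, ?_, ?_⟩
    · have := h1 ⟨idx p, idx_lt p⟩
      simpa only [pt_idx] using this
    · have := h2 ⟨idx p, idx_lt p⟩
      simpa only [pt_idx, resF] using this
    · rw [sqNorm, ← h3]
      exact (hsum (fun p => x p ^ 2)).symm
    · rw [← h4, hsum x]
  · rintro ⟨h1, h2, h3, h4⟩
    refine ⟨fun i => h1 (pt i), fun i => ?_, ?_, ?_⟩
    · have := h2 (pt i)
      rw [idx_pt i.2] at this
      exact this
    · rw [hsum (fun p => x p ^ 2)]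
      exact h3
    · rw [hsum x]
      exact h4

theorem vecs_disjoint (N : ℤ) {m m' : ℤ} {k k' : ℕ} (hm0 : m ∈ ({0, 1} : Finset ℤ)) (hm0' : m' ∈ ({0, 1} : Finset ℤ))
    (hk : k < 4096) (hk' : k' < 4096) (hne : (m, k) ≠ (m', k')) :
    Disjoint (vecs 24 (resF m k) N (4 * m)) (vecs 24 (resF m' k') N (4 * m')) := by
  rw [Finset.disjoint_left]
  intro y hy hy'
  apply hne
  have hm : m = 0 ∨ m = 1 := by simpa using hm0
  have hm' : m' = 0 ∨ m' = 1 := by simpa using hm0'
  have hy1 := (mem_vecs (n := 24) (r := resF m k) (N := N) (σ := 4 * m) (x := y)).mp hy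
  have hy2 := (mem_vecs (n := 24) (r := resF m' k') (N := N) (σ := 4 * m') (x := y)).mp hy'
  have key : ∀ i : Fin 24, m = m' ∧ bitZ (cw k) i = bitZ (cw k') i := by
    intro i
    have a := hy1.2.1 i
    have b := hy2.2.1 i
    simp only [resF] at a b
    rw [a] at b
    have hb1 := bitZ_cases (cw k) i
    have hb2 := bitZ_cases (cw k') i
    constructor <;> omega
  have hcw : cw k = cw k' := by
    apply Nat.eq_of_testBit_eq
    intro i
    by_cases hi : i < 24
    · have := (key ⟨i, hi⟩).2
      simp only [bitZ] at this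
      cases ha : (cw k).testBit i <;> cases hb : (cw k').testBit i <;> simp_all
    · have h2 : (2 : ℕ) ^ 24 ≤ 2 ^ i := Nat.pow_le_pow_right (by norm_num) (by omega)
      rw [Nat.testBit_lt_two_pow (lt_of_lt_of_le (cw_lt k) h2),
        Nat.testBit_lt_two_pow (lt_of_lt_of_le (cw_lt k') h2)]
  have hkk : k = k' := cw_injOn hk hk' hcw
  rw [(key 0).1, hkk]

theorem leech_ncard_aux (N : ℤ) (hN : N ≤ 64) :
    {x : GolayPt → ℤ | x ∈ leechLattice ∧ sqNorm x = N}.ncard =
      ∑ m ∈ ({0, 1} : Finset ℤ), ∑ k ∈ Finset.range 4096, cnt (List.ofFn (resF m k)) N (4 * m) := by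
  classical
  let E : (Fin 24 → ℤ) ≃ (GolayPt → ℤ) := ptE.arrowCongr (Equiv.refl ℤ)
  let F : Finset (Fin 24 → ℤ) := (({0, 1} : Finset ℤ) ×ˢ Finset.range 4096).biUnion
    fun mk => vecs 24 (resF mk.1 mk.2) N (4 * mk.1)
  have hset : {x : GolayPt → ℤ | x ∈ leechLattice ∧ sqNorm x = N} = ↑(F.map E.toEmbedding) := by
    ext x
    rw [Finset.mem_coe, Finset.mem_map_equiv, Finset.mem_biUnion]
    have hE : E.symm x = fun i : Fin 24 => x (pt i) := rfl
    rw [hE]
    constructor
    · rintro ⟨hx, hn⟩
      obtain ⟨m, hm, k, hk, hres, hsum⟩ := (mem_leech_iff_res x).mp hx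
      refine ⟨(m, k), Finset.mem_product.mpr ⟨hm, hk⟩, ?_⟩
      rw [mem_vecs_comp]
      refine ⟨?_, hres, hn, hsum⟩
      intro p
      have h1 : x p ^ 2 ≤ sqNorm x :=
        Finset.single_le_sum (f := fun p => x p ^ 2) (fun i _ => sq_nonneg _) (Finset.mem_univ p)
      rw [Finset.mem_Icc]
      constructor <;> nlinarith
    · rintro ⟨⟨m, k⟩, hmk, hv⟩
      rw [mem_vecs_comp] at hv
      obtain ⟨hm, hk⟩ := Finset.mem_product.mp hmk
      exact ⟨(mem_leech_iff_res x).mpr ⟨m, hm, k, hk, hv.2.1, hv.2.2.2⟩, hv.2.2.1⟩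
  rw [hset, Set.ncard_coe_finset, Finset.card_map, Finset.card_biUnion, Finset.sum_product]
  · exact Finset.sum_congr rfl fun m _ => Finset.sum_congr rfl fun k _ => card_vecs 24 _ _ _
  · rintro ⟨m, k⟩ hmk ⟨m', k'⟩ hmk' hne
    rw [Finset.mem_coe, Finset.mem_product] at hmk hmk'
    exact vecs_disjoint N hmk.1 hmk'.1 (Finset.mem_range.mp hmk.2) (Finset.mem_range.mp hmk'.2) hne

theorem ofFn_resF (m : ℤ) (k : ℕ) :
    List.ofFn (resF m k) = (List.range 24).map fun i => m + 2 * bitZ (cw k) i := by
  rw [List.ofFn_eq_map, ← List.map_coe_finRange_eq_range, List.map_map]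
  rfl

theorem bool_perm (l : List Bool) :
    l.Perm (List.replicate (l.count true) true ++ List.replicate (l.length - l.count true) false) := by
  rw [List.perm_iff_count]
  intro a
  have h := List.count_true_add_count_false l
  cases a <;> simp [List.count_append, List.count_replicate]
  omega

theorem count_testBit (n f : ℕ) : ((List.range f).map fun i => n.testBit i).count true = popc f n := by
  rw [popc_eq_sum]
  induction f with
  | zero => simp
  | succ f ih =>
    rw [List.range_succ, List.map_append, List.count_append, ih, Finset.sum_range_succ]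
    congr 1
    rcases h : n.testBit f with _ | _ <;> simp [h]

theorem resF_perm (m : ℤ) (k : ℕ) : (List.ofFn (resF m k)).Perm (canon m (popc 24 (cw k))) := by
  have h1 : List.ofFn (resF m k) = ((List.range 24).map fun i => (cw k).testBit i).map
      (fun b => m + 2 * (if b = true then 1 else 0)) := by
    rw [ofFn_resF, List.map_map]
    rfl
  have h2 : canon m (popc 24 (cw k)) = (List.replicate (popc 24 (cw k)) true ++
      List.replicate (24 - popc 24 (cw k)) false).map (fun b => m + 2 * (if b = true then 1 else 0)) := by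
    simp [canon, List.map_append, List.map_replicate]
  rw [h1, h2]
  apply List.Perm.map
  have := bool_perm ((List.range 24).map fun i => (cw k).testBit i)
  rwa [count_testBit, List.length_map, List.length_range] at this

/-- the number of lattice vectors with sum of squares `N ≤ 64` -/
theorem leech_ncard (N : ℤ) (hN : N ≤ 64) :
    {x : GolayPt → ℤ | x ∈ leechLattice ∧ sqNorm x = N}.ncard =
      ∑ m ∈ ({0, 1} : Finset ℤ), ∑ k ∈ Finset.range 4096, cnt (canon m (popc 24 (cw k))) N (4 * m) := by
  rw [leech_ncard_aux N hN]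
  exact Finset.sum_congr rfl fun m _ => Finset.sum_congr rfl fun k _ => cnt_perm (resF_perm m k) _ _

/-! ### The values -/

/-- a row with entries at `0`, `32`, `48`, `64` only -/
def mkRow (a b c d : ℕ) : List ℕ :=
  a :: (List.replicate 31 0 ++ b :: (List.replicate 15 0 ++ c :: (List.replicate 15 0 ++ [d])))

/-- number of vectors of norm 32 in the class of parity `m` and a codeword of weight `w` -/
def g32 (m w : ℕ) : ℕ := if m = 0 then (if w = 0 then 1104 else if w = 8 then 128 else 0) else 24

/-- number of vectors of norm 48 in the class of parity `m` and a codeword of weight `w` -/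
def g48 (m w : ℕ) : ℕ := if m = 0 then (if w = 8 then 4096 else if w = 12 then 2048 else 0) else 2048

/-- number of vectors of norm 64 in the class of parity `m` and a codeword of weight `w` -/
def g64 (m w : ℕ) : ℕ :=
  if m = 0 then (if w = 0 then 170064 else if w = 8 then 62464 else if w = 12 then 49152 else if w = 16 then 32768 else 0)
  else 48576

theorem rows_eq : ∀ m ∈ [0, 1], ∀ w ∈ [0, 8, 12, 16, 24],
    rowT (tab (canon ((m : ℕ) : ℤ) w)) (4 * m) =
      mkRow (if m = 0 ∧ w = 0 then 1 else 0) (g32 m w) (g48 m w) (g64 m w) := by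
  decide +kernel

theorem cnt_canon {m : ℕ} (hm : m < 2) {k : ℕ} (hk : k < 4096) {n : ℕ} (hn : n < 65) :
    cnt (canon (m : ℤ) (popc 24 (cw k))) (n : ℤ) (4 * (m : ℤ)) =
      (mkRow (if m = 0 ∧ popc 24 (cw k) = 0 then 1 else 0) (g32 m (popc 24 (cw k))) (g48 m (popc 24 (cw k)))
        (g64 m (popc 24 (cw k)))).getD n 0 := by
  have h := cnt_eq_tab (canon (m : ℤ) (popc 24 (cw k))) n (4 * m) hn (by omega)
  rw [Nat.cast_mul, Nat.cast_ofNat] at h
  rw [h, rows_eq m (by simp; omega) (popc 24 (cw k)) (by have := cw_weights hk; simp; omega)]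

/-- sum of `f k` for `k < n` -/
def sumBelow (f : ℕ → ℕ) : ℕ → ℕ
  | 0 => 0
  | n + 1 => sumBelow f n + f n

theorem sumBelow_eq (f : ℕ → ℕ) (n : ℕ) : sumBelow f n = ∑ k ∈ Finset.range n, f k := by
  induction n with
  | zero => rfl
  | succ n ih => rw [sumBelow, ih, Finset.sum_range_succ]

theorem sum_cnt_canon {m : ℕ} (hm : m < 2) {n : ℕ} (hn : n < 65) (g : ℕ → ℕ → ℕ)
    (hg : ∀ a b c d : ℕ, (mkRow a b c d).getD n 0 = if n = 32 then b else if n = 48 then c else if n = 64 then d else
      if n = 0 then a else 0)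
    (hg' : ∀ m w, g m w = if n = 32 then g32 m w else if n = 48 then g48 m w else if n = 64 then g64 m w else
      if n = 0 then (if m = 0 ∧ w = 0 then 1 else 0) else 0) :
    ∑ k ∈ Finset.range 4096, cnt (canon (m : ℤ) (popc 24 (cw k))) (n : ℤ) (4 * (m : ℤ)) =
      sumBelow (fun k => g m (popc 24 (cw k))) 4096 := by
  rw [sumBelow_eq]
  apply Finset.sum_congr rfl
  intro k hk
  rw [cnt_canon hm (Finset.mem_range.mp hk) hn, hg, hg']

/-- the number of lattice vectors with sum of squares `n ≤ 64`, in computable form -/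
theorem leech_ncard_nat (n : ℕ) (hn : n < 65) (g : ℕ → ℕ → ℕ)
    (hg : ∀ a b c d : ℕ, (mkRow a b c d).getD n 0 = if n = 32 then b else if n = 48 then c else if n = 64 then d else
      if n = 0 then a else 0)
    (hg' : ∀ m w, g m w = if n = 32 then g32 m w else if n = 48 then g48 m w else if n = 64 then g64 m w else
      if n = 0 then (if m = 0 ∧ w = 0 then 1 else 0) else 0) :
    {x : GolayPt → ℤ | x ∈ leechLattice ∧ sqNorm x = (n : ℤ)}.ncard =
      sumBelow (fun k => g 0 (popc 24 (cw k))) 4096 + sumBelow (fun k => g 1 (popc 24 (cw k))) 4096 := by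
  have e0 := sum_cnt_canon (m := 0) (by decide) hn g hg hg'
  have e1 := sum_cnt_canon (m := 1) (by decide) hn g hg hg'
  rw [Nat.cast_zero] at e0
  rw [Nat.cast_one] at e1
  rw [leech_ncard (n : ℤ) (by omega), Finset.sum_pair (by decide), e0, e1]

theorem leech_ncard_32 : {x : GolayPt → ℤ | x ∈ leechLattice ∧ sqNorm x = 32}.ncard = 196560 := by
  have h := leech_ncard_nat 32 (by decide) g32 (fun a b c d => rfl) (fun m w => rfl)
  rw [show ((32 : ℕ) : ℤ) = 32 from rfl] at h
  rw [h]
  decide +kernel

theorem leech_ncard_48 : {x : GolayPt → ℤ | x ∈ leechLattice ∧ sqNorm x = 48}.ncard = 16773120 := by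
  have h := leech_ncard_nat 48 (by decide) g48 (fun a b c d => rfl) (fun m w => rfl)
  rw [show ((48 : ℕ) : ℤ) = 48 from rfl] at h
  rw [h]
  decide +kernel

theorem leech_ncard_64 : {x : GolayPt → ℤ | x ∈ leechLattice ∧ sqNorm x = 64}.ncard = 398034000 := by
  have h := leech_ncard_nat 64 (by decide) g64 (fun a b c d => rfl) (fun m w => rfl)
  rw [show ((64 : ℕ) : ℤ) = 64 from rfl] at h
  rw [h]
  decide +kernel

end Cfsg.Agent.Helper27
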