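import Cfsg.Agent.Helper27.GolayBits

/-!
Basic facts on `Cfsg.golayCode` derived from the bit-mask model: membership test, cardinality, weights,
self-orthogonality, supports.
-/

set_option autoImplicit false

namespace Cfsg.Agent.Helper27

open Cfsg

/-! ### Membership test -/

theorem decW_mem_iff {n : ℕ} (hn : n < 2 ^ 24) : decW n ∈ golayCode ↔ cw (n % 4096) = n := by
  constructor
  · intro h
    obtain ⟨k, hk, hk'⟩ := (mem_golayCode_iff _).mp h
    have h1 : n = cw k := decW_injOn hn (cw_lt k) hk'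
    rw [h1, cw_mod hk]
  · intro h
    rw [← h]
    exact decW_cw_mem _

theorem cw_injOn {k k' : ℕ} (hk : k < 4096) (hk' : k' < 4096) (h : cw k = cw k') : k = k' := by
  rw [← cw_mod hk, ← cw_mod hk', h]

theorem decW_cw_injOn {k k' : ℕ} (hk : k < 4096) (hk' : k' < 4096) (h : decW (cw k) = decW (cw k')) : k = k' :=
  cw_injOn hk hk' (decW_injOn (cw_lt k) (cw_lt k') h)

/-! ### Cardinality and dimension -/

theorem golay_natCard : Nat.card golayCode = 4096 := by
  have hbij : Function.Bijective (fun k : Fin 4096 => (⟨decW (cw k), decW_cw_mem k⟩ : golayCode)) := by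
    constructor
    · intro k k' h
      have h1 : decW (cw k) = decW (cw k') := congrArg Subtype.val h
      exact Fin.ext (decW_cw_injOn k.2 k'.2 h1)
    · rintro ⟨w, hw⟩
      obtain ⟨k, hk, rfl⟩ := (mem_golayCode_iff w).mp hw
      exact ⟨⟨k, hk⟩, rfl⟩
  rw [← Nat.card_eq_of_bijective _ hbij]
  simp

theorem golay_finrank : Module.finrank (ZMod 2) golayCode = 12 := by
  have h := Module.natCard_eq_pow_finrank (K := ZMod 2) (V := golayCode)
  rw [golay_natCard] at h
  have h2 : Nat.card (ZMod 2) = 2 := by simp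
  rw [h2] at h
  have h3 : (2 : ℕ) ^ 12 = 2 ^ Module.finrank (ZMod 2) golayCode := by rw [← h]; norm_num
  exact (Nat.pow_right_injective (le_refl 2) h3).symm

/-! ### Weights -/

/-- admissible weights -/
def wtOK (n : ℕ) : Bool := n == 0 || n == 8 || n == 12 || n == 16 || n == 24

theorem wtOK_iff (n : ℕ) : wtOK n = true ↔ n = 0 ∨ n = 8 ∨ n = 12 ∨ n = 16 ∨ n = 24 := by
  simp only [wtOK, Bool.or_eq_true, beq_iff_eq]
  tauto

theorem cw_weights_aux : allBelow (fun k => wtOK (popc 24 (cw k))) 4096 = true := by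
  decide +kernel

theorem cw_weights {k : ℕ} (hk : k < 4096) :
    popc 24 (cw k) = 0 ∨ popc 24 (cw k) = 8 ∨ popc 24 (cw k) = 12 ∨ popc 24 (cw k) = 16 ∨ popc 24 (cw k) = 24 :=
  (wtOK_iff _).mp (allBelow_spec cw_weights_aux k hk)

theorem golay_weights {w : GolayPt → ZMod 2} (hw : w ∈ golayCode) :
    hammingNorm w = 0 ∨ hammingNorm w = 8 ∨ hammingNorm w = 12 ∨ hammingNorm w = 16 ∨ hammingNorm w = 24 := by
  obtain ⟨k, hk, rfl⟩ := (mem_golayCode_iff w).mp hw
  rw [hammingNorm_decW]
  exact cw_weights hk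

theorem card_support_eq_hammingNorm (w : GolayPt → ZMod 2) : (support₂ w).card = hammingNorm w := rfl

/-- a codeword of weight below 8 is zero -/
theorem golay_eq_zero_of_weight_lt {w : GolayPt → ZMod 2} (hw : w ∈ golayCode) (h : hammingNorm w < 8) : w = 0 := by
  rcases golay_weights hw with h0 | h0 | h0 | h0 | h0
  · exact hammingNorm_eq_zero.mp h0
  all_goals omega

/-! ### Self-orthogonality -/

theorem gens_orth_aux : ∀ a ∈ gensL, ∀ b ∈ gensL, popc 24 (a &&& b) % 2 = 0 := by
  decide +kernel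

theorem gen_cases {g : GolayPt → ZMod 2} (hg : g ∈ Set.range qrWord ∪ {1}) : ∃ a ∈ gensL, g = decW a := by
  rcases hg with ⟨t, rfl⟩ | hg
  · exact ⟨qrMask t, qrMask_mem_gensL t, qrWord_eq t⟩
  · rw [Set.mem_singleton_iff] at hg
    subst hg
    exact ⟨onesMask, by simp [gensL], one_eq⟩

theorem golay_orth {v w : GolayPt → ZMod 2} (hv : v ∈ golayCode) (hw : w ∈ golayCode) : ∑ i, v i * w i = 0 := by
  -- first: generator against generator, then extend linearly in both arguments
  have hgg : ∀ g ∈ Set.range qrWord ∪ {1}, ∀ g' ∈ Set.range qrWord ∪ {1}, ∑ i, g i * g' i = 0 := by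
    intro g hg g' hg'
    obtain ⟨a, ha, rfl⟩ := gen_cases hg
    obtain ⟨b, hb, rfl⟩ := gen_cases hg'
    rw [dot_decW]
    have := gens_orth_aux a ha b hb
    have h2 : (2 : ℕ) ∣ popc 24 (a &&& b) := Nat.dvd_of_mod_eq_zero this
    exact (ZMod.natCast_eq_zero_iff _ 2).mpr h2
  have hgw : ∀ g ∈ Set.range qrWord ∪ {1}, ∀ w ∈ golayCode, ∑ i, g i * w i = 0 := by
    intro g hg w hw
    induction hw using Submodule.span_induction with
    | mem x hx => exact hgg g hg x hx
    | zero => simp
    | add x y _ _ hx hy =>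
      simp only [Pi.add_apply, mul_add, Finset.sum_add_distrib, hx, hy, add_zero]
    | smul c x _ hx =>
      simp only [Pi.smul_apply, smul_eq_mul]
      have : ∀ i, g i * (c * x i) = c * (g i * x i) := fun i => by ring
      simp only [this, ← Finset.mul_sum, hx, mul_zero]
  induction hv using Submodule.span_induction with
  | mem x hx => exact hgw x hx w hw
  | zero => simp
  | add x y _ _ hx hy =>
    simp only [Pi.add_apply, add_mul, Finset.sum_add_distrib, hx, hy, add_zero]
  | smul c x _ hx =>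
    simp only [Pi.smul_apply, smul_eq_mul]
    have : ∀ i, c * x i * w i = c * (x i * w i) := fun i => by ring
    simp only [this, ← Finset.mul_sum, hx, mul_zero]

/-! ### Supports -/

theorem support₂_injective : Function.Injective (support₂ : (GolayPt → ZMod 2) → Finset GolayPt) := by
  intro v w h
  funext p
  have hz : ∀ z : ZMod 2, z = 0 ∨ z = 1 := by decide
  have h1 : p ∈ support₂ v ↔ p ∈ support₂ w := by rw [h]
  simp only [support₂, Finset.mem_filter, Finset.mem_univ, true_and] at h1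
  rcases hz (v p) with hv | hv <;> rcases hz (w p) with hw | hw <;> simp_all

theorem mem_supports_iff (b : Finset GolayPt) :
    b ∈ supports (golayCode : Set (GolayPt → ZMod 2)) ↔ ∃ k < 4096, b = support₂ (decW (cw k)) := by
  constructor
  · rintro ⟨w, hw, rfl⟩
    obtain ⟨k, hk, rfl⟩ := (mem_golayCode_iff w).mp hw
    exact ⟨k, hk, rfl⟩
  · rintro ⟨k, _, rfl⟩
    exact ⟨_, decW_cw_mem k, rfl⟩

theorem mem_wordsOfWeight_iff (n : ℕ) (b : Finset GolayPt) :
    b ∈ wordsOfWeight (golayCode : Set (GolayPt → ZMod 2)) n ↔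
      ∃ k < 4096, popc 24 (cw k) = n ∧ b = support₂ (decW (cw k)) := by
  constructor
  · rintro ⟨hb, hc⟩
    obtain ⟨k, hk, rfl⟩ := (mem_supports_iff b).mp hb
    rw [card_support_decW] at hc
    exact ⟨k, hk, hc, rfl⟩
  · rintro ⟨k, hk, hc, rfl⟩
    exact ⟨(mem_supports_iff _).mpr ⟨k, hk, rfl⟩, by rw [card_support_decW, hc]⟩

theorem wordsOfWeight_ncard (n : ℕ) :
    (wordsOfWeight (golayCode : Set (GolayPt → ZMod 2)) n).ncard = countBelow (fun k => popc 24 (cw k) == n) 4096 := by
  have hset : wordsOfWeight (golayCode : Set (GolayPt → ZMod 2)) n =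
      (fun k => support₂ (decW (cw k))) ''
        (((Finset.range 4096).filter (fun k => (popc 24 (cw k) == n) = true) : Finset ℕ) : Set ℕ) := by
    ext b
    rw [mem_wordsOfWeight_iff]
    simp only [Set.mem_image, Finset.coe_filter, Finset.mem_range, Set.mem_ofPred_eq, beq_iff_eq]
    constructor
    · rintro ⟨k, hk, hc, rfl⟩
      exact ⟨k, ⟨hk, hc⟩, rfl⟩
    · rintro ⟨k, ⟨hk, hc⟩, rfl⟩
      exact ⟨k, hk, hc, rfl⟩
  rw [hset, Set.InjOn.ncard_image, Set.ncard_coe_finset, countBelow_spec]
  intro k hk k' hk' h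
  simp only [Finset.coe_filter, Finset.mem_range, Set.mem_ofPred_eq] at hk hk'
  exact decW_cw_injOn hk.1 hk'.1 (support₂_injective h)

end Cfsg.Agent.Helper27
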