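import Cfsg.Agent.Helper27.M24Fix

/-!
Permutations of the 24 points given by tables, transversal certificates, and the orbit–stabiliser bookkeeping for
pointwise stabilisers in `Cfsg.M24`.
-/

set_option autoImplicit false

namespace Cfsg.Agent.Helper27

open Cfsg
open scoped Pointwise

/-! ### Permutations from tables -/

/-- the function on points given by a table -/
def tblFun (T : List ℕ) : GolayPt → GolayPt := fun q => pt (T.getD (idx q) 0)

/-- mask of the entries of a table -/
def tblMask (T : List ℕ) : ℕ := T.foldl (fun acc t => acc ||| 2 ^ t) 0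

/-- a table is valid: 24 entries covering all indices -/
def validTbl (T : List ℕ) : Bool := (T.length == 24) && (tblMask T == onesMask)

theorem testBit_foldl_or (T : List ℕ) (acc i : ℕ) :
    (T.foldl (fun acc t => acc ||| 2 ^ t) acc).testBit i = (acc.testBit i || decide (i ∈ T)) := by
  induction T generalizing acc with
  | nil => simp
  | cons t ts ih =>
    rw [List.foldl_cons, ih, Nat.testBit_or, Nat.testBit_two_pow]
    by_cases h : t = i
    · subst h; simp
    · have h' : ¬ i = t := fun h'' => h h''.symm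
      simp [h, h']

theorem testBit_tblMask (T : List ℕ) (i : ℕ) : (tblMask T).testBit i = decide (i ∈ T) := by
  rw [tblMask, testBit_foldl_or]; simp

theorem onesMask_testBit (i : ℕ) : onesMask.testBit i = decide (i < 24) := by
  by_cases h : i < 24
  · have : ∀ i < 24, onesMask.testBit i = true := by decide +kernel
    rw [this i h]; simp [h]
  · have h2 : (2 : ℕ) ^ 24 ≤ 2 ^ i := Nat.pow_le_pow_right (by norm_num) (by omega)
    have h3 : onesMask < 2 ^ i := lt_of_lt_of_le (by decide +kernel) h2
    rw [Nat.testBit_lt_two_pow h3]; simp [h]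

theorem validTbl_mem_iff {T : List ℕ} (h : validTbl T = true) (i : ℕ) : i ∈ T ↔ i < 24 := by
  simp only [validTbl, Bool.and_eq_true, beq_iff_eq] at h
  have h1 := testBit_tblMask T i
  rw [h.2, onesMask_testBit] at h1
  constructor
  · intro hi
    have : decide (i ∈ T) = true := by simpa using hi
    rw [← h1] at this
    simpa using this
  · intro hi
    have : decide (i < 24) = true := by simpa using hi
    rw [h1] at this
    simpa using this

theorem validTbl_getD_lt {T : List ℕ} (h : validTbl T = true) {j : ℕ} (hj : j < 24) : T.getD j 0 < 24 := by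
  have hlen : T.length = 24 := by
    simp only [validTbl, Bool.and_eq_true, beq_iff_eq] at h; exact h.1
  rw [← validTbl_mem_iff h]
  rw [List.getD_eq_getElem _ _ (by omega)]
  exact List.getElem_mem _

theorem idx_tblFun {T : List ℕ} (h : validTbl T = true) (q : GolayPt) : idx (tblFun T q) = T.getD (idx q) 0 :=
  idx_pt (validTbl_getD_lt h (idx_lt q))

theorem tblFun_bijective {T : List ℕ} (h : validTbl T = true) : Function.Bijective (tblFun T) := by
  have hlen : T.length = 24 := by
    simp only [validTbl, Bool.and_eq_true, beq_iff_eq] at h; exact h.1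
  have hsurj : Function.Surjective (tblFun T) := by
    intro q
    have hq : idx q ∈ T := (validTbl_mem_iff h _).mpr (idx_lt q)
    obtain ⟨j, hj, hjq⟩ := List.getElem_of_mem hq
    refine ⟨pt j, ?_⟩
    have hj24 : j < 24 := by omega
    rw [tblFun, idx_pt hj24, List.getD_eq_getElem _ _ hj, hjq, pt_idx]
  exact ⟨Finite.injective_iff_surjective.mpr hsurj, hsurj⟩

/-- the permutation given by a valid table -/
noncomputable def tblPerm (T : List ℕ) (h : validTbl T = true) : Equiv.Perm GolayPt :=
  Equiv.ofBijective (tblFun T) (tblFun_bijective h)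

theorem tblPerm_apply (T : List ℕ) (h : validTbl T = true) (q : GolayPt) :
    tblPerm T h q = pt (T.getD (idx q) 0) := rfl

theorem tblPerm_pt (T : List ℕ) (h : validTbl T = true) {j : ℕ} (hj : j < 24) :
    tblPerm T h (pt j) = pt (T.getD j 0) := by
  rw [tblPerm_apply, idx_pt hj]

theorem tblPerm_represents (T : List ℕ) (h : validTbl T = true) : Represents (tblPerm T h) T := by
  refine ⟨?_, fun q => idx_tblFun h q⟩
  simp only [validTbl, Bool.and_eq_true, beq_iff_eq] at h; exact h.1

theorem tblPerm_mem_M24 (T : List ℕ) (h : validTbl T = true) (h2 : tblInCode T = true) : tblPerm T h ∈ M24 :=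
  mem_M24_of_table _ T (tblPerm_represents T h) h2

/-! ### Pointwise stabilisers -/

/-- the pointwise stabiliser in `M24` of a set of points -/
def fixG (F : Finset GolayPt) : Subgroup (Equiv.Perm GolayPt) :=
  M24 ⊓ fixingSubgroup (Equiv.Perm GolayPt) (F : Set GolayPt)

theorem mem_fixG (F : Finset GolayPt) (g : Equiv.Perm GolayPt) : g ∈ fixG F ↔ g ∈ M24 ∧ ∀ q ∈ F, g q = q := by
  rw [fixG, Subgroup.mem_inf, mem_fixingSubgroup_iff]
  rfl

theorem fixG_empty : fixG ∅ = M24 := by
  ext g
  rw [mem_fixG]
  simp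

/-- the orbit of a point under a subgroup of permutations, as a set -/
def orbitSet (H : Subgroup (Equiv.Perm GolayPt)) (a : GolayPt) : Set GolayPt := {b | ∃ g ∈ H, g a = b}

theorem orbitSet_eq_orbit (H : Subgroup (Equiv.Perm GolayPt)) (a : GolayPt) :
    orbitSet H a = MulAction.orbit H a := by
  ext b
  constructor
  · rintro ⟨g, hg, rfl⟩
    exact ⟨⟨g, hg⟩, rfl⟩
  · rintro ⟨⟨g, hg⟩, rfl⟩
    exact ⟨g, hg, rfl⟩

/-- orbit–stabiliser for pointwise stabilisers -/
theorem card_fixG_insert (F : Finset GolayPt) (a : GolayPt) :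
    Nat.card (fixG F) = (orbitSet (fixG F) a).ncard * Nat.card (fixG (insert a F)) := by
  have h1 := Nat.card_congr (MulAction.orbitProdStabilizerEquivGroup (fixG F) a)
  rw [Nat.card_prod] at h1
  rw [← h1, orbitSet_eq_orbit]
  congr 1
  -- the stabiliser inside `fixG F` is `fixG (insert a F)`
  apply Nat.card_congr
  refine
    { toFun := fun g => ⟨g.1.1, ?_⟩
      invFun := fun g => ⟨⟨g.1, ?_⟩, ?_⟩
      left_inv := fun g => rfl
      right_inv := fun g => rfl }
  · have hg1 := (mem_fixG F g.1.1).mp g.1.2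
    have hg2 : g.1 • a = a := g.2
    rw [mem_fixG]
    refine ⟨hg1.1, ?_⟩
    intro q hq
    rw [Finset.mem_insert] at hq
    rcases hq with rfl | hq
    · exact hg2
    · exact hg1.2 q hq
  · have hg := (mem_fixG _ g.1).mp g.2
    rw [mem_fixG]
    exact ⟨hg.1, fun q hq => hg.2 q (Finset.mem_insert_of_mem hq)⟩
  · have hg := (mem_fixG _ g.1).mp g.2
    show (⟨g.1, _⟩ : fixG F) • a = a
    exact hg.2 a (Finset.mem_insert_self a F)

/-! ### Transversal certificates -/

/-- all tables are valid members of `M24` fixing the points with indices in `fixed` -/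
def transOK (fixed : List ℕ) (L : List (List ℕ)) : Bool :=
  L.all (fun T => validTbl T && tblInCode T && fixed.all (fun f => T.getD f 0 == f))

/-- mask of the images of the point with index `a` -/
def transImg (a : ℕ) (L : List (List ℕ)) : ℕ := tblMask (L.map (fun T => T.getD a 0))

/-- the points with indices in a list -/
def ptsOf (fixed : List ℕ) : Finset GolayPt := (fixed.map pt).toFinset

theorem mem_ptsOf (fixed : List ℕ) (q : GolayPt) : q ∈ ptsOf fixed ↔ ∃ f ∈ fixed, pt f = q := by
  simp [ptsOf]

theorem trans_sound {fixed : List ℕ} {L : List (List ℕ)} (hfix : ∀ f ∈ fixed, f < 24) {a : ℕ} (ha : a < 24)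
    (h : transOK fixed L = true) (b : GolayPt) (hb : b ∈ maskSet (transImg a L)) :
    b ∈ orbitSet (fixG (ptsOf fixed)) (pt a) := by
  rw [mem_maskSet, transImg, testBit_tblMask] at hb
  simp only [decide_eq_true_eq, List.mem_map] at hb
  obtain ⟨T, hT, hTb⟩ := hb
  simp only [transOK, List.all_eq_true, Bool.and_eq_true, beq_iff_eq] at h
  obtain ⟨⟨hv, hc⟩, hf⟩ := h T hT
  refine ⟨tblPerm T hv, ?_, ?_⟩
  · rw [mem_fixG]
    refine ⟨tblPerm_mem_M24 T hv hc, ?_⟩
    intro q hq
    obtain ⟨f, hf', rfl⟩ := (mem_ptsOf fixed q).mp hq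
    rw [tblPerm_pt T hv (hfix f hf'), hf f hf']
  · rw [tblPerm_pt T hv ha, hTb, pt_idx]

/-! ### Sizes of orbits -/

theorem ptsOf_cons (a : ℕ) (fixed : List ℕ) : ptsOf (a :: fixed) = insert (pt a) (ptsOf fixed) := by
  simp [ptsOf]

theorem ptsOf_eq_maskSet {fixed : List ℕ} (hfix : ∀ f ∈ fixed, f < 24) : ptsOf fixed = maskSet (tblMask fixed) := by
  ext q
  rw [mem_ptsOf, mem_maskSet, testBit_tblMask]
  simp only [decide_eq_true_eq]
  constructor
  · rintro ⟨f, hf, rfl⟩
    rw [idx_pt (hfix f hf)]; exact hf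
  · intro h
    exact ⟨idx q, h, pt_idx q⟩

theorem maskSet_compl (x : ℕ) : maskSet (onesMask ^^^ x) = Finset.univ \ maskSet x := by
  ext q
  simp only [mem_maskSet, Nat.testBit_xor, onesMask_testBit, idx_lt, decide_true, Finset.mem_sdiff, Finset.mem_univ,
    true_and]
  cases x.testBit (idx q) <;> simp

theorem apply_not_mem_of_fixG {F : Finset GolayPt} {g : Equiv.Perm GolayPt} (hg : g ∈ fixG F) {a : GolayPt}
    (ha : a ∉ F) : g a ∉ F := by
  intro h
  have h1 := ((mem_fixG F g).mp hg).2 _ h
  have h2 : g a = a := g.injective h1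
  rw [h2] at h
  exact ha h

theorem invSet_apply_mem_iff {σ : Equiv.Perm GolayPt} {X : Finset GolayPt} (h : InvSet σ X) (q : GolayPt) :
    σ q ∈ X ↔ q ∈ X := by
  have h1 := mem_smul_finset_perm σ X q
  rw [h] at h1
  exact h1

/-- the size of an orbit, from a transversal certificate and an upper bound -/
theorem orbit_eq_of_trans {fixed : List ℕ} {L : List (List ℕ)} (hfix : ∀ f ∈ fixed, f < 24) {a : ℕ} (ha : a < 24)
    (h : transOK fixed L = true) (m : ℕ) (hm : transImg a L = m)
    (hsub : ∀ g ∈ fixG (ptsOf fixed), g (pt a) ∈ maskSet m) :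
    orbitSet (fixG (ptsOf fixed)) (pt a) = (maskSet m : Set GolayPt) := by
  apply Set.Subset.antisymm
  · rintro b ⟨g, hg, rfl⟩
    exact hsub g hg
  · intro b hb
    rw [← hm] at hb
    exact trans_sound hfix ha h b hb

theorem orbit_ncard_of_trans {fixed : List ℕ} {L : List (List ℕ)} (hfix : ∀ f ∈ fixed, f < 24) {a : ℕ} (ha : a < 24)
    (h : transOK fixed L = true) (m : ℕ) (hm : transImg a L = m)
    (hsub : ∀ g ∈ fixG (ptsOf fixed), g (pt a) ∈ maskSet m) :
    (orbitSet (fixG (ptsOf fixed)) (pt a)).ncard = popc 24 m := by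
  rw [orbit_eq_of_trans hfix ha h m hm hsub, Set.ncard_coe_finset, card_maskSet]

/-- the generic upper bound: the orbit avoids the fixed points -/
theorem orbit_sub_compl {fixed : List ℕ} (hfix : ∀ f ∈ fixed, f < 24) {a : ℕ} (ha : a < 24) (hna : a ∉ fixed) :
    ∀ g ∈ fixG (ptsOf fixed), g (pt a) ∈ maskSet (onesMask ^^^ tblMask fixed) := by
  intro g hg
  rw [maskSet_compl, ← ptsOf_eq_maskSet hfix, Finset.mem_sdiff]
  refine ⟨Finset.mem_univ _, ?_⟩
  apply apply_not_mem_of_fixG hg
  rw [mem_ptsOf]
  rintro ⟨f, hf, hfa⟩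
  have : f = a := by
    have := congrArg idx hfa
    rwa [idx_pt (hfix f hf), idx_pt ha] at this
  exact hna (this ▸ hf)

end Cfsg.Agent.Helper27
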