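import Cfsg.Agent.Helper27.LeechIsotropic

/-!
The index of `Cfsg.leechLattice` in `ℤ ^ 24` is `2 ^ 36`: the subgroup `leechIso` of index `2 ^ 12` in the lattice
has index `2 ^ 48` in `ℤ ^ 24`, as the kernel of two successive explicit homomorphisms.
-/

set_option autoImplicit false

namespace Cfsg.Agent.Helper27

open Cfsg

/-- first homomorphism: parity of the coordinate at the extra point, differences modulo 4 -/
def theta1 : (GolayPt → ℤ) →+ ZMod 2 × (ZMod 23 → ZMod 4) :=
  AddMonoidHom.mk' (fun v => (((v none : ℤ) : ZMod 2), fun i => ((v (some i) - v none : ℤ) : ZMod 4))) (by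
    intro v w
    ext
    · simp
    · simp only [Pi.add_apply, Prod.snd_add]
      push_cast
      ring)

theorem theta1_apply (v : GolayPt → ℤ) :
    theta1 v = (((v none : ℤ) : ZMod 2), fun i => ((v (some i) - v none : ℤ) : ZMod 4)) := rfl

theorem intCast_zmod_four_eq_zero_iff (a : ℤ) : ((a : ℤ) : ZMod 4) = 0 ↔ (4 : ℤ) ∣ a := by
  have := ZMod.intCast_zmod_eq_zero_iff_dvd a 4
  exact_mod_cast this

theorem mem_ker_theta1 (v : GolayPt → ℤ) : v ∈ theta1.ker ↔ (2 : ℤ) ∣ v none ∧ ∀ p, (4 : ℤ) ∣ v p - v none := by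
  rw [AddMonoidHom.mem_ker, theta1_apply, Prod.mk_eq_zero, intCast_zmod_two_eq_zero_iff]
  constructor
  · rintro ⟨h1, h2⟩
    refine ⟨h1, fun p => ?_⟩
    cases p with
    | none => simp
    | some i =>
      have := congrFun h2 i
      exact (intCast_zmod_four_eq_zero_iff _).mp this
  · rintro ⟨h1, h2⟩
    refine ⟨h1, ?_⟩
    funext i
    exact (intCast_zmod_four_eq_zero_iff _).mpr (h2 (some i))

theorem theta1_surjective : Function.Surjective theta1 := by
  rintro ⟨a, d⟩
  refine ⟨fun p => match p with
    | none => (a.val : ℤ)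
    | some i => (a.val : ℤ) + ((d i).val : ℤ), ?_⟩
  rw [theta1_apply]
  ext
  · simp
  · simp

theorem theta1_ker_index : theta1.ker.index = 2 ^ 47 := by
  rw [AddSubgroup.index_ker, AddMonoidHom.range_eq_top.mpr theta1_surjective, AddSubgroup.card_top, Nat.card_prod,
    Nat.card_fun, Nat.card_zmod, Nat.card_zmod, Nat.card_zmod]
  norm_num

theorem sum_dvd_of_mem_ker {v : GolayPt → ℤ} (hv : v ∈ theta1.ker) : (4 : ℤ) ∣ ∑ p, v p := by
  obtain ⟨h1, h2⟩ := (mem_ker_theta1 v).mp hv
  have h : ∑ p, v p = ∑ p, (v p - v none) + 24 * v none := by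
    rw [Finset.sum_sub_distrib, Finset.sum_const, Finset.card_univ]
    have : Fintype.card GolayPt = 24 := by decide
    rw [this]
    simp
  rw [h]
  apply dvd_add
  · exact Finset.dvd_sum fun p _ => h2 p
  · obtain ⟨b, hb⟩ := h1
    exact ⟨12 * b, by rw [hb]; ring⟩

/-- second homomorphism: the sum divided by four, modulo 2 -/
def theta2 : theta1.ker →+ ZMod 2 :=
  AddMonoidHom.mk' (fun v => (((∑ p, v.1 p) / 4 : ℤ) : ZMod 2)) (by
    intro v w
    simp only [AddSubgroup.coe_add, Pi.add_apply, Finset.sum_add_distrib]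
    rw [Int.add_ediv_of_dvd_left (sum_dvd_of_mem_ker v.2)]
    push_cast
    rfl)

theorem theta2_apply (v : theta1.ker) : theta2 v = (((∑ p, v.1 p) / 4 : ℤ) : ZMod 2) := rfl

theorem theta2_surjective : Function.Surjective theta2 := by
  have hmem : (fun p : GolayPt => if p = some 0 then (4 : ℤ) else 0) ∈ theta1.ker := by
    rw [mem_ker_theta1]
    refine ⟨by simp, fun p => ?_⟩
    by_cases hp : p = some 0
    · simp [hp]
    · simp [hp]
  have h1 : theta2 ⟨_, hmem⟩ = 1 := by
    rw [theta2_apply]
    simp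
  intro z
  have hz : z = 0 ∨ z = 1 := by
    have : ∀ z : ZMod 2, z = 0 ∨ z = 1 := by decide
    exact this z
  rcases hz with rfl | rfl
  · exact ⟨0, map_zero _⟩
  · exact ⟨_, h1⟩

theorem theta2_ker_index : theta2.ker.index = 2 := by
  rw [AddSubgroup.index_ker, AddMonoidHom.range_eq_top.mpr theta2_surjective, AddSubgroup.card_top, Nat.card_zmod]

theorem leechIso_eq : leechIso = theta2.ker.map theta1.ker.subtype := by
  ext v
  rw [mem_leechIso_iff]
  constructor
  · rintro ⟨hL, h0⟩
    have hnone : (2 : ℤ) ∣ v none := by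
      have := congrFun h0 none
      simp only [leechToCodeFun, sub_self, Int.zero_ediv, Int.cast_zero, zero_add, Pi.zero_apply] at this
      exact (intCast_zmod_two_eq_zero_iff _).mp this
    have h4 : ∀ p, (4 : ℤ) ∣ v p - v none := by
      intro p
      have := congrFun h0 p
      simp only [leechToCodeFun, Pi.zero_apply] at this
      have h1 : ((v none : ℤ) : ZMod 2) = 0 := (intCast_zmod_two_eq_zero_iff _).mpr hnone
      rw [h1, add_zero] at this
      have h2 := (intCast_zmod_two_eq_zero_iff _).mp this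
      have h3 := leech_parity hL p none
      omega
    obtain ⟨m, t, ht, hsum, -⟩ := (mem_leechLattice_iff v).mp hL
    have hsum8 : (8 : ℤ) ∣ ∑ p, v p := by
      have := ht none
      unfold Int.ModEq at hsum
      omega
    have hker : v ∈ theta1.ker := (mem_ker_theta1 v).mpr ⟨hnone, h4⟩
    refine ⟨⟨v, hker⟩, ?_, rfl⟩
    rw [SetLike.mem_coe, AddMonoidHom.mem_ker, theta2_apply, intCast_zmod_two_eq_zero_iff]
    show (2 : ℤ) ∣ (∑ p, v p) / 4
    omega
  · rintro ⟨⟨w, hw⟩, hk, rfl⟩
    rw [SetLike.mem_coe, AddMonoidHom.mem_ker, theta2_apply, intCast_zmod_two_eq_zero_iff] at hk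
    have hk' : (2 : ℤ) ∣ (∑ p, w p) / 4 := hk
    have h4s := sum_dvd_of_mem_ker hw
    obtain ⟨h1, h2⟩ := (mem_ker_theta1 w).mp hw
    show w ∈ leechLattice ∧ leechToCodeFun w = 0
    constructor
    · rw [mem_leechLattice_iff]
      refine ⟨0, fun p => w p / 2, ?_, ?_, ?_⟩
      · intro p
        show w p = 0 + 2 * (w p / 2)
        have := h2 p
        omega
      · show (∑ p, w p) % 8 = (4 * 0) % 8
        omega
      · have : redW (fun p => w p / 2) = fun _ => ((w none / 2 : ℤ) : ZMod 2) := by
          funext p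
          simp only [redW]
          have h3 : (2 : ℤ) ∣ w p / 2 - w none / 2 := by
            have := h2 p
            omega
          have := (intCast_zmod_two_eq_zero_iff _).mpr h3
          push_cast at this
          exact sub_eq_zero.mp this
        rw [this]
        exact const_mem_golayCode _
    · funext p
      simp only [leechToCodeFun, Pi.zero_apply]
      have h3 : (2 : ℤ) ∣ (w p - w none) / 2 := by
        have := h2 p
        omega
      rw [(intCast_zmod_two_eq_zero_iff _).mpr h3, (intCast_zmod_two_eq_zero_iff _).mpr h1, add_zero]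

theorem leechIso_index_top : leechIso.index = 2 ^ 48 := by
  rw [leechIso_eq]
  have h := AddSubgroup.relIndex_mul_index (AddSubgroup.map_subtype_le theta2.ker)
  have h2 : (theta2.ker.map theta1.ker.subtype).relIndex theta1.ker = theta2.ker.index := by
    unfold AddSubgroup.relIndex
    congr 1
    exact AddSubgroup.comap_map_eq_self_of_injective theta1.ker.subtype_injective _
  rw [h2, theta2_ker_index, theta1_ker_index] at h
  rw [← h]
  norm_num

theorem leech_index : leechLattice.index = 2 ^ 36 := by
  have h := AddSubgroup.relIndex_mul_index leechIso_le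
  have h2 : leechIso.relIndex leechLattice = 2 ^ 12 := leechIso_index
  rw [h2, leechIso_index_top] at h
  have : (2 : ℕ) ^ 48 = 2 ^ 12 * 2 ^ 36 := by norm_num
  rw [this] at h
  exact Nat.eq_of_mul_eq_mul_left (by norm_num) h

end Cfsg.Agent.Helper27
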