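import Cfsg.Agent.Helper27.M24Trans

/-!
The pointwise stabiliser of an octad in `Cfsg.M24`: sixteen involutions (with the identity).
-/

set_option autoImplicit false

namespace Cfsg.Agent.Helper27

open Cfsg
open scoped Pointwise

/-! ### Conjugation of pointwise stabilisers -/

theorem mem_fixG_smul {g : Equiv.Perm GolayPt} (hg : g ∈ M24) (F : Finset GolayPt) (h : Equiv.Perm GolayPt) :
    h ∈ fixG (g • F) ↔ g⁻¹ * h * g ∈ fixG F := by
  rw [mem_fixG, mem_fixG]
  constructor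
  · rintro ⟨h1, h2⟩
    refine ⟨M24.mul_mem (M24.mul_mem (M24.inv_mem hg) h1) hg, ?_⟩
    intro q hq
    rw [Equiv.Perm.mul_apply, Equiv.Perm.mul_apply, Equiv.Perm.inv_eq_iff_eq]
    exact h2 (g q) ((mem_smul_finset_perm g F q).mpr hq)
  · rintro ⟨h1, h2⟩
    have hh : h = g * (g⁻¹ * h * g) * g⁻¹ := by group
    refine ⟨?_, ?_⟩
    · rw [hh]
      exact M24.mul_mem (M24.mul_mem hg h1) (M24.inv_mem hg)
    · intro q hq
      have hq' : g⁻¹ q ∈ F := by
        rw [← mem_smul_finset_perm g F]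
        simpa using hq
      have := h2 _ hq'
      rw [Equiv.Perm.mul_apply, Equiv.Perm.mul_apply, Equiv.Perm.inv_eq_iff_eq] at this
      simpa using this

/-- conjugate pointwise stabilisers have the same order -/
theorem card_fixG_smul {g : Equiv.Perm GolayPt} (hg : g ∈ M24) (F : Finset GolayPt) :
    Nat.card (fixG (g • F)) = Nat.card (fixG F) := by
  apply Nat.card_congr
  refine
    { toFun := fun h => ⟨g⁻¹ * h.1 * g, (mem_fixG_smul hg F h.1).mp h.2⟩
      invFun := fun h => ⟨g * h.1 * g⁻¹, ?_⟩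
      left_inv := fun h => ?_
      right_inv := fun h => ?_ }
  · rw [mem_fixG_smul hg]
    have : g⁻¹ * (g * h.1 * g⁻¹) * g = h.1 := by group
    rw [this]
    exact h.2
  · apply Subtype.ext
    show g * (g⁻¹ * h.1 * g) * g⁻¹ = h.1
    group
  · apply Subtype.ext
    show g⁻¹ * (g * h.1 * g⁻¹) * g = h.1
    group

/-! ### Enumerating a pointwise stabiliser -/

/-- if the next stabiliser in the chain is trivial, every element is one of the transversal tables -/
theorem eq_tblPerm_of_trans {fixed : List ℕ} {L : List (List ℕ)} (hfix : ∀ f ∈ fixed, f < 24) {a : ℕ} (ha : a < 24)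
    (h : transOK fixed L = true) (hbot : fixG (ptsOf (a :: fixed)) = ⊥)
    {g : Equiv.Perm GolayPt} (hg : g ∈ fixG (ptsOf fixed)) (hga : g (pt a) ∈ maskSet (transImg a L)) :
    ∃ T ∈ L, ∃ hv : validTbl T = true, g = tblPerm T hv := by
  rw [mem_maskSet, transImg, testBit_tblMask] at hga
  simp only [decide_eq_true_eq, List.mem_map] at hga
  obtain ⟨T, hT, hTb⟩ := hga
  have h' := h
  simp only [transOK, List.all_eq_true, Bool.and_eq_true, beq_iff_eq] at h'
  obtain ⟨⟨hv, hc⟩, hf⟩ := h' T hT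
  refine ⟨T, hT, hv, ?_⟩
  have htm : tblPerm T hv ∈ fixG (ptsOf fixed) := by
    rw [mem_fixG]
    refine ⟨tblPerm_mem_M24 T hv hc, ?_⟩
    intro q hq
    obtain ⟨f, hf', rfl⟩ := (mem_ptsOf fixed q).mp hq
    rw [tblPerm_pt T hv (hfix f hf'), hf f hf']
  have hta : tblPerm T hv (pt a) = g (pt a) := by
    rw [tblPerm_pt T hv ha, hTb, pt_idx]
  have hmem : (tblPerm T hv)⁻¹ * g ∈ fixG (ptsOf (a :: fixed)) := by
    have h1 : (tblPerm T hv)⁻¹ * g ∈ fixG (ptsOf fixed) := (fixG _).mul_mem ((fixG _).inv_mem htm) hg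
    rw [mem_fixG] at h1 ⊢
    refine ⟨h1.1, ?_⟩
    intro q hq
    rw [ptsOf_cons, Finset.mem_insert] at hq
    rcases hq with rfl | hq
    · rw [Equiv.Perm.mul_apply, Equiv.Perm.inv_eq_iff_eq, hta]
    · exact h1.2 q hq
  rw [hbot, Subgroup.mem_bot] at hmem
  have : g = tblPerm T hv * ((tblPerm T hv)⁻¹ * g) := by group
  rw [this, hmem, mul_one]

/-! ### The standard octad -/

/-- the sixteen elements fixing the standard octad pointwise -/
def octFixL : List (List ℕ) := [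
  [0,1,2,3,4,5,6,7,8,9,10,11,12,13,14,15,16,17,18,19,20,21,22,23],
  [0,1,2,3,4,6,5,7,18,14,10,23,12,15,9,13,21,22,8,20,19,16,17,11],
  [0,1,2,3,4,8,18,7,5,20,10,13,12,11,19,23,17,16,6,14,9,22,21,15],
  [0,1,2,3,4,9,14,7,20,5,10,17,12,16,6,21,13,11,19,18,8,15,23,22],
  [0,1,2,3,4,11,23,7,13,17,10,5,12,8,22,18,20,9,15,21,16,19,14,6],
  [0,1,2,3,4,13,15,7,11,16,10,8,12,5,21,6,9,20,23,22,17,14,19,18],
  [0,1,2,3,4,14,9,7,19,6,10,22,12,21,5,16,15,23,20,8,18,13,11,17],
  [0,1,2,3,4,15,13,7,23,21,10,18,12,6,16,5,14,19,11,17,22,9,20,8],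
  [0,1,2,3,4,16,21,7,17,13,10,20,12,9,15,14,5,8,22,23,11,6,18,19],
  [0,1,2,3,4,17,22,7,16,11,10,9,12,20,23,19,8,5,21,15,13,18,6,14],
  [0,1,2,3,4,18,8,7,6,19,10,15,12,23,20,11,22,21,5,9,14,17,16,13],
  [0,1,2,3,4,19,20,7,14,18,10,21,12,22,8,17,23,15,9,5,6,11,13,16],
  [0,1,2,3,4,20,19,7,9,8,10,16,12,17,18,22,11,13,14,6,5,23,15,21],
  [0,1,2,3,4,21,16,7,22,15,10,19,12,14,13,9,6,18,17,11,23,5,8,20],
  [0,1,2,3,4,22,17,7,21,23,10,14,12,19,11,20,18,6,16,13,15,8,5,9],
  [0,1,2,3,4,23,11,7,15,22,10,6,12,18,17,8,19,14,13,16,21,20,9,5]]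

theorem octFix_transOK : transOK [7, 4, 3, 2, 1, 0] octFixL = true := by decide +kernel

/-- a table is an involution (or the identity) -/
def tblInvol (T : List ℕ) : Bool := (List.range 24).all (fun j => T.getD (T.getD j 0) 0 == j)

theorem tblPerm_mul_self {T : List ℕ} (hv : validTbl T = true) (h : tblInvol T = true) :
    tblPerm T hv * tblPerm T hv = 1 := by
  apply Equiv.ext
  intro q
  rw [Equiv.Perm.mul_apply, Equiv.Perm.one_apply, tblPerm_apply T hv q,
    tblPerm_pt T hv (validTbl_getD_lt hv (idx_lt q))]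
  simp only [tblInvol, List.all_eq_true, List.mem_range, beq_iff_eq] at h
  rw [h _ (idx_lt q), pt_idx]

theorem fixG_base' : fixG (ptsOf (5 :: [7, 4, 3, 2, 1, 0])) = ⊥ := by
  have hfix : ∀ f ∈ ([5, 7, 4, 3, 2, 1, 0] : List ℕ), f < 24 := fixed_lt_24 (by decide)
  rw [eq_bot_iff]
  intro g hg
  rw [Subgroup.mem_bot]
  rw [mem_fixG, ptsOf_eq_maskSet hfix] at hg
  have h191 : tblMask [5, 7, 4, 3, 2, 1, 0] = 191 := by decide +kernel
  rw [h191] at hg
  exact checkCert_sound hg.1 (inv := []) (by simp) baseCert 191 (by decide +kernel) hg.2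

theorem fixG6_apply5 {g : Equiv.Perm GolayPt} (hg : g ∈ fixG (ptsOf [7, 4, 3, 2, 1, 0])) :
    g (pt 5) ∈ maskSet (onesMask ^^^ oct5) := by
  have hfix : ∀ f ∈ ([7, 4, 3, 2, 1, 0] : List ℕ), f < 24 := fixed_lt_24 (by decide)
  have hI : InvSet g (maskSet oct5) := invSet_oct5 hg (by
    rw [ptsOf_eq_maskSet hfix]
    have h159 : tblMask [7, 4, 3, 2, 1, 0] = 159 := by decide +kernel
    rw [h159]
    intro q
    rw [mem_maskSet, mem_maskSet]
    have : ∀ i < 24, (31 : ℕ).testBit i = true → (159 : ℕ).testBit i = true := by decide +kernel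
    exact this _ (idx_lt q))
  rw [maskSet_compl, Finset.mem_sdiff]
  refine ⟨Finset.mem_univ _, ?_⟩
  rw [invSet_apply_mem_iff hI, mem_maskSet, idx_pt (by norm_num)]
  decide +kernel

/-- every element fixing six points of the standard octad is one of the sixteen tables -/
theorem fixG6_enum {g : Equiv.Perm GolayPt} (hg : g ∈ fixG (ptsOf [7, 4, 3, 2, 1, 0])) :
    ∃ T ∈ octFixL, ∃ hv : validTbl T = true, g = tblPerm T hv := by
  have hfix : ∀ f ∈ ([7, 4, 3, 2, 1, 0] : List ℕ), f < 24 := fixed_lt_24 (by decide)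
  apply eq_tblPerm_of_trans hfix (a := 5) (by norm_num) octFix_transOK fixG_base' hg
  have : transImg 5 octFixL = onesMask ^^^ oct5 := by decide +kernel
  rw [this]
  exact fixG6_apply5 hg

theorem card_fixG6 : Nat.card (fixG (ptsOf [7, 4, 3, 2, 1, 0])) = 16 := by
  have hfix : ∀ f ∈ ([7, 4, 3, 2, 1, 0] : List ℕ), f < 24 := fixed_lt_24 (by decide)
  have h := card_fixG_insert (ptsOf [7, 4, 3, 2, 1, 0]) (pt 5)
  rw [← ptsOf_cons, fixG_base', Subgroup.card_bot, mul_one] at h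
  rw [h, orbit_ncard_of_trans (L := octFixL) hfix (by norm_num) octFix_transOK (onesMask ^^^ oct5)
    (by decide +kernel) (fun g hg => fixG6_apply5 hg)]
  decide +kernel

theorem fixG_oct5_eq : fixG (maskSet oct5) = fixG (ptsOf [7, 4, 3, 2, 1, 0]) := by
  have hfix : ∀ f ∈ ([7, 4, 3, 2, 1, 0] : List ℕ), f < 24 := fixed_lt_24 (by decide)
  have hfix8 : ∀ f ∈ ([12, 10, 7, 4, 3, 2, 1, 0] : List ℕ), f < 24 := fixed_lt_24 (by decide)
  have h8 : maskSet oct5 = ptsOf [12, 10, 7, 4, 3, 2, 1, 0] := by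
    rw [ptsOf_eq_maskSet hfix8]
    have : tblMask [12, 10, 7, 4, 3, 2, 1, 0] = oct5 := by decide +kernel
    rw [this]
  apply le_antisymm
  · intro g hg
    rw [mem_fixG] at hg ⊢
    refine ⟨hg.1, fun q hq => hg.2 q ?_⟩
    rw [h8]
    rw [mem_ptsOf] at hq ⊢
    obtain ⟨f, hf, rfl⟩ := hq
    refine ⟨f, ?_, rfl⟩
    simp only [List.mem_cons, List.not_mem_nil, or_false] at hf ⊢
    omega
  · intro g hg
    obtain ⟨T, hT, hv, rfl⟩ := fixG6_enum hg
    rw [mem_fixG] at hg ⊢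
    refine ⟨hg.1, ?_⟩
    intro q hq
    rw [h8, mem_ptsOf] at hq
    obtain ⟨f, hf, rfl⟩ := hq
    have hall : octFixL.all (fun T => [12, 10, 7, 4, 3, 2, 1, 0].all (fun f => T.getD f 0 == f)) = true := by
      decide +kernel
    rw [List.all_eq_true] at hall
    have hT' := hall T hT
    rw [List.all_eq_true] at hT'
    have := hT' f hf
    rw [beq_iff_eq] at this
    rw [tblPerm_pt T hv (hfix8 f hf), this]

theorem card_fixG_oct5 : Nat.card (fixG (maskSet oct5)) = 16 := by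
  rw [fixG_oct5_eq, card_fixG6]

theorem fixG_oct5_invol {g : Equiv.Perm GolayPt} (hg : g ∈ fixG (maskSet oct5)) : g * g = 1 := by
  rw [fixG_oct5_eq] at hg
  obtain ⟨T, hT, hv, rfl⟩ := fixG6_enum hg
  have hall : octFixL.all tblInvol = true := by decide +kernel
  rw [List.all_eq_true] at hall
  exact tblPerm_mul_self hv (hall T hT)

/-! ### Arbitrary octads -/

theorem exists_smul_oct5 {o : Finset GolayPt} (ho : o ∈ octads) : ∃ g ∈ M24, g • maskSet oct5 = o :=
  M24_octad_transitive _ o (maskSet_mem_octads isOct_oct5) ho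

theorem card_fixG_octad {o : Finset GolayPt} (ho : o ∈ octads) : Nat.card (fixG o) = 16 := by
  obtain ⟨g, hg, rfl⟩ := exists_smul_oct5 ho
  rw [card_fixG_smul hg, card_fixG_oct5]

theorem fixG_octad_invol {o : Finset GolayPt} (ho : o ∈ octads) {h : Equiv.Perm GolayPt} (hh : h ∈ fixG o) :
    h * h = 1 := by
  obtain ⟨g, hg, rfl⟩ := exists_smul_oct5 ho
  rw [mem_fixG_smul hg] at hh
  have := fixG_oct5_invol hh
  have h2 : h * h = g * ((g⁻¹ * h * g) * (g⁻¹ * h * g)) * g⁻¹ := by group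
  rw [h2, this]
  group

end Cfsg.Agent.Helper27
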