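import Cfsg.Agent.Helper27.M24Descent

/-!
The order of the stabiliser of a dodecad in `Cfsg.M24`.
-/

set_option autoImplicit false

namespace Cfsg.Agent.Helper27

open Cfsg
open scoped Pointwise

theorem smul_wordsOfWeight_mem {σ : Equiv.Perm GolayPt} (hσ : σ ∈ M24) {b : Finset GolayPt} {n : ℕ}
    (hb : b ∈ wordsOfWeight (golayCode : Set (GolayPt → ZMod 2)) n) :
    σ • b ∈ wordsOfWeight (golayCode : Set (GolayPt → ZMod 2)) n := by
  have h1 : σ ∈ MulAction.stabilizer (Equiv.Perm GolayPt) (supports (golayCode : Set (GolayPt → ZMod 2))) := hσ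
  rw [MulAction.mem_stabilizer_set' supports_finite] at h1
  exact ⟨h1 hb.1, by rw [Finset.card_smul_finset, hb.2]⟩

theorem dodecads_ncard : dodecads.ncard = 2576 := by
  have h : countBelow (fun k => popc 24 (cw k) == 12) 4096 = 2576 := by
    decide +kernel
  show (wordsOfWeight (golayCode : Set (GolayPt → ZMod 2)) 12).ncard = 2576
  rw [wordsOfWeight_ncard, h]

theorem orbit_dodecad {d : Finset GolayPt} (hd : d ∈ dodecads) : MulAction.orbit M24 d = dodecads := by
  ext d'
  constructor
  · rintro ⟨g, rfl⟩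
    exact smul_wordsOfWeight_mem g.2 hd
  · intro hd'
    obtain ⟨g, hg, hgd⟩ := M24_dodecad_transitive d d' hd hd'
    exact ⟨⟨g, hg⟩, hgd⟩

theorem card_stabilizer_dodecad {d : Finset GolayPt} (hd : d ∈ dodecads) :
    Nat.card (MulAction.stabilizer M24 d) = 95040 := by
  have h1 := MulAction.index_stabilizer M24 d
  rw [orbit_dodecad hd, dodecads_ncard] at h1
  have h2 := Subgroup.card_mul_index (MulAction.stabilizer M24 d)
  rw [h1, card_M24] at h2
  omega

end Cfsg.Agent.Helper27
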