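import Cfsg.Agent.Helper27.M12
import Cfsg.Agent.Helper27.M24Trans

/-!
The joint stabiliser in `Cfsg.M24` of two octads: its order is 10752, 1152 or 720 according as the octads meet in
0, 4 or 2 points.
-/

set_option autoImplicit false

namespace Cfsg.Agent.Helper27

open Cfsg
open scoped Pointwise

/-- the standard octad -/
def oct0 : ℕ := 5279

theorem oct0_isOct : isOct oct0 = true := by decide +kernel

theorem oct0_mem : maskSet oct0 ∈ octads := maskSet_mem_octads oct0_isOct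

/-- membership test for the stabiliser of the standard octad -/
def certOct (T : List ℕ) : Bool := tblInCode T && (applyTbl T oct0 == oct0)

theorem certSoundOct : CertSound (stabP (maskSet oct0)) certOct := by
  intro T hv h
  simp only [certOct, Bool.and_eq_true, beq_iff_eq] at h
  rw [mem_stabP]
  refine ⟨tblPerm_mem_M24 T hv h.1, ?_⟩
  have h1 := maskSet_applyTbl hv oct0
  rw [h.2] at h1
  have h2 : tblPerm T hv • maskSet oct0 = tblPerm T hv • ((tblPerm T hv)⁻¹ • maskSet oct0) :=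
    congrArg (fun s => tblPerm T hv • s) h1
  rw [smul_inv_smul] at h2
  exact h2

/-- elements of the stabiliser of the standard octad -/
def octGens : List (List ℕ) := [
  [1, 12, 0, 10, 4, 21, 16, 7, 15, 19, 3, 5, 2, 9, 20, 14, 17, 11, 13, 8, 18, 22, 23, 6],
  [0, 12, 1, 4, 2, 22, 6, 10, 15, 17, 3, 9, 7, 8, 5, 16, 18, 14, 19, 20, 13, 21, 23, 11],
  [12, 7, 4, 0, 3, 19, 17, 10, 18, 13, 1, 15, 2, 21, 6, 9, 8, 20, 11, 14, 16, 23, 22, 5],
  [7, 0, 3, 1, 4, 14, 17, 12, 9, 6, 2, 15, 10, 13, 11, 18, 16, 21, 22, 23, 5, 19, 20, 8],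
  [0, 10, 1, 12, 4, 5, 15, 2, 6, 17, 7, 8, 3, 18, 19, 11, 21, 16, 13, 20, 22, 9, 14, 23],
  [12, 0, 7, 1, 10, 6, 11, 3, 5, 15, 4, 9, 2, 14, 8, 17, 21, 16, 23, 18, 13, 20, 19, 22],
  [2, 4, 10, 3, 7, 13, 18, 12, 6, 17, 1, 5, 0, 15, 14, 8, 22, 20, 11, 16, 19, 9, 21, 23],
  [0, 4, 10, 7, 12, 9, 14, 1, 6, 15, 3, 11, 2, 22, 13, 17, 8, 19, 5, 21, 16, 18, 20, 23],
  [10, 0, 7, 1, 4, 16, 9, 2, 19, 5, 3, 14, 12, 17, 13, 20, 8, 15, 22, 18, 23, 11, 6, 21],
  [1, 0, 2, 10, 4, 15, 19, 12, 18, 11, 7, 13, 3, 8, 9, 16, 6, 23, 21, 17, 5, 22, 14, 20],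
  [10, 4, 12, 0, 7, 5, 16, 1, 19, 14, 2, 6, 3, 20, 15, 11, 18, 9, 23, 17, 8, 22, 13, 21],
  [3, 0, 7, 10, 12, 13, 15, 4, 5, 9, 1, 8, 2, 11, 14, 23, 20, 17, 6, 21, 16, 19, 22, 18],
  [7, 4, 3, 1, 10, 9, 18, 0, 23, 14, 12, 5, 2, 22, 8, 13, 17, 6, 16, 21, 11, 15, 20, 19],
  [2, 10, 7, 1, 3, 15, 22, 0, 14, 16, 12, 19, 4, 23, 11, 21, 17, 8, 18, 20, 5, 13, 9, 6],
  [3, 10, 7, 4, 12, 19, 21, 0, 15, 9, 1, 16, 2, 8, 17, 13, 6, 22, 18, 5, 11, 23, 14, 20],
  [4, 1, 10, 2, 0, 14, 20, 3, 13, 18, 7, 11, 12, 19, 5, 9, 6, 16, 23, 21, 17, 8, 22, 15],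
  [2, 4, 1, 0, 3, 14, 11, 10, 13, 21, 12, 15, 7, 9, 8, 23, 16, 6, 19, 22, 5, 18, 17, 20],
  [10, 7, 0, 2, 1, 20, 14, 12, 5, 8, 3, 16, 4, 11, 6, 15, 17, 13, 18, 19, 9, 21, 23, 22]]

/-- octads meeting the standard octad in `k` points, as masks -/
def clsP (k : ℕ) (n : ℕ) : Bool := (popc 24 n == 8) && (popc 24 (oct0 &&& n) == k)

theorem octDesc0 : descOKH certOct octGens (clsP 0) 1009728 = true := by decide +kernel
theorem octDesc2 : descOKH certOct octGens (clsP 2) 31554 = true := by decide +kernel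
theorem octDesc4 : descOKH certOct octGens (clsP 4) 10558 = true := by decide +kernel

/-- the octads meeting `o` in `k` points -/
def octCls (o : Finset GolayPt) (k : ℕ) : Set (Finset GolayPt) := {o' | o' ∈ octads ∧ (o ∩ o').card = k}

theorem mem_octCls0 (k : ℕ) (b : Finset GolayPt) :
    b ∈ octCls (maskSet oct0) k ↔ ∃ j < 4096, clsP k (cw j) = true ∧ b = maskSet (cw j) := by
  constructor
  · rintro ⟨hb, hk⟩
    obtain ⟨j, hj, hpop, rfl⟩ := (mem_wordsOfWeight_iff 8 b).mp hb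
    refine ⟨j, hj, ?_, rfl⟩
    simp only [clsP, Bool.and_eq_true, beq_iff_eq]
    refine ⟨hpop, ?_⟩
    rw [← card_maskSet, maskSet_and]
    exact hk
  · rintro ⟨j, hj, hP, rfl⟩
    simp only [clsP, Bool.and_eq_true, beq_iff_eq] at hP
    refine ⟨(mem_wordsOfWeight_iff 8 _).mpr ⟨j, hj, hP.1, rfl⟩, ?_⟩
    rw [← maskSet_and, card_maskSet]
    exact hP.2

theorem octCls0_ncard (k : ℕ) :
    (octCls (maskSet oct0) k).ncard = countBelow (fun j => clsP k (cw j)) 4096 := by
  have hset : octCls (maskSet oct0) k = (fun j => maskSet (cw j)) ''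
      (((Finset.range 4096).filter (fun j => clsP k (cw j) = true) : Finset ℕ) : Set ℕ) := by
    ext b
    rw [mem_octCls0]
    simp only [Set.mem_image, Finset.coe_filter, Finset.mem_range, Set.mem_ofPred_eq]
    constructor
    · rintro ⟨j, hj, hc, rfl⟩
      exact ⟨j, ⟨hj, hc⟩, rfl⟩
    · rintro ⟨j, ⟨hj, hc⟩, rfl⟩
      exact ⟨j, hj, hc, rfl⟩
  rw [hset, Set.InjOn.ncard_image, Set.ncard_coe_finset, countBelow_spec]
  intro j hj j' hj' h
  simp only [Finset.coe_filter, Finset.mem_range, Set.mem_ofPred_eq] at hj hj'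
  exact decW_cw_injOn hj.1 hj'.1 (support₂_injective h)

theorem octCls0_ncard0 : (octCls (maskSet oct0) 0).ncard = 30 := by
  rw [octCls0_ncard]; decide +kernel
theorem octCls0_ncard2 : (octCls (maskSet oct0) 2).ncard = 448 := by
  rw [octCls0_ncard]; decide +kernel
theorem octCls0_ncard4 : (octCls (maskSet oct0) 4).ncard = 280 := by
  rw [octCls0_ncard]; decide +kernel

/-- the stabiliser of the standard octad is transitive on each class -/
theorem octCls0_transitive {k dmin : ℕ} (hdesc : descOKH certOct octGens (clsP k) dmin = true)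
    {b b' : Finset GolayPt} (hb : b ∈ octCls (maskSet oct0) k) (hb' : b' ∈ octCls (maskSet oct0) k) :
    ∃ h ∈ stabP (maskSet oct0), h • b = b' := by
  obtain ⟨j, hj, hP, rfl⟩ := (mem_octCls0 k b).mp hb
  obtain ⟨j', hj', hP', rfl⟩ := (mem_octCls0 k b').mp hb'
  obtain ⟨g, hg, hgs⟩ := descent_soundH certSoundOct hdesc (cw j) (by rw [cw_mod hj]) hP
  obtain ⟨g', hg', hgs'⟩ := descent_soundH certSoundOct hdesc (cw j') (by rw [cw_mod hj']) hP'
  refine ⟨g'⁻¹ * g, (stabP _).mul_mem ((stabP _).inv_mem hg') hg, ?_⟩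
  rw [mul_smul, hgs, ← hgs', inv_smul_smul]

/-! ### Arbitrary octads -/

theorem smul_mem_octCls {g : Equiv.Perm GolayPt} (hg : g ∈ M24) {o b : Finset GolayPt} {k : ℕ}
    (hb : b ∈ octCls o k) : g • b ∈ octCls (g • o) k := by
  refine ⟨smul_octad_mem hg hb.1, ?_⟩
  rw [← Finset.smul_finset_inter, Finset.card_smul_finset]
  exact hb.2

theorem octCls_transitive {o : Finset GolayPt} (ho : o ∈ octads) {k dmin : ℕ}
    (hdesc : descOKH certOct octGens (clsP k) dmin = true) {b b' : Finset GolayPt} (hb : b ∈ octCls o k)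
    (hb' : b' ∈ octCls o k) : ∃ h ∈ stabP o, h • b = b' := by
  obtain ⟨g, hg, hgo⟩ := M24_octad_transitive o _ ho oct0_mem
  have h1 := smul_mem_octCls hg hb
  have h2 := smul_mem_octCls hg hb'
  rw [hgo] at h1 h2
  obtain ⟨h0, hh0, hmap⟩ := octCls0_transitive hdesc h1 h2
  refine ⟨g⁻¹ * h0 * g, ?_, ?_⟩
  · rw [← mem_stabP_smul hg o h0, hgo]
    exact hh0
  · rw [mul_smul, mul_smul, hmap, inv_smul_smul]

theorem octCls_ncard {o : Finset GolayPt} (ho : o ∈ octads) (k : ℕ) :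
    (octCls o k).ncard = (octCls (maskSet oct0) k).ncard := by
  obtain ⟨g, hg, hgo⟩ := M24_octad_transitive o _ ho oct0_mem
  have himg : (fun b : Finset GolayPt => g • b) '' octCls o k = octCls (maskSet oct0) k := by
    ext b
    constructor
    · rintro ⟨b0, hb0, rfl⟩
      have := smul_mem_octCls hg hb0
      rwa [hgo] at this
    · intro hb
      refine ⟨g⁻¹ • b, ?_, smul_inv_smul g b⟩
      have := smul_mem_octCls (M24.inv_mem hg) hb
      rwa [← hgo, inv_smul_smul] at this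
  rw [← himg, Set.ncard_image_of_injective _ (MulAction.injective g)]

theorem orbit_octad {o : Finset GolayPt} (ho : o ∈ octads) : MulAction.orbit M24 o = octads := by
  ext o'
  constructor
  · rintro ⟨g, rfl⟩
    exact smul_octad_mem g.2 ho
  · intro ho'
    obtain ⟨g, hg, hgo⟩ := M24_octad_transitive o o' ho ho'
    exact ⟨⟨g, hg⟩, hgo⟩

theorem card_stabP_octad {o : Finset GolayPt} (ho : o ∈ octads) : Nat.card (stabP o) = 322560 := by
  rw [card_stabP_eq]
  have h1 := MulAction.index_stabilizer M24 o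
  rw [orbit_octad ho, octads_ncard] at h1
  have h2 := Subgroup.card_mul_index (MulAction.stabilizer M24 o)
  rw [h1, card_M24] at h2
  omega

theorem card_joint_mul {o o' : Finset GolayPt} (ho : o ∈ octads) (ho' : o' ∈ octads) {k dmin : ℕ}
    (hdesc : descOKH certOct octGens (clsP k) dmin = true) (hk : (o ∩ o').card = k) :
    Nat.card (stabP o ⊓ stabP o' : Subgroup (Equiv.Perm GolayPt)) * (octCls (maskSet oct0) k).ncard = 322560 := by
  have horb : MulAction.orbit (stabP o) o' = octCls o k := by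
    ext b
    constructor
    · rintro ⟨h, rfl⟩
      have hh := (mem_stabP o h.1).mp h.2
      refine ⟨smul_octad_mem hh.1 ho', ?_⟩
      show (o ∩ (h.1 • o')).card = k
      have : o ∩ (h.1 • o') = h.1 • (o ∩ o') := by
        rw [Finset.smul_finset_inter, hh.2]
      rw [this, Finset.card_smul_finset, hk]
    · intro hb
      obtain ⟨h, hh, hmap⟩ := octCls_transitive ho hdesc (⟨ho', hk⟩ : o' ∈ octCls o k) hb
      exact ⟨⟨h, hh⟩, hmap⟩
  have hmap : (MulAction.stabilizer (stabP o) o').map (stabP o).subtype = stabP o ⊓ stabP o' := by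
    ext x
    rw [Subgroup.mem_map, Subgroup.mem_inf]
    constructor
    · rintro ⟨y, hy, rfl⟩
      refine ⟨y.2, ?_⟩
      rw [mem_stabP]
      exact ⟨((mem_stabP o y.1).mp y.2).1, MulAction.mem_stabilizer_iff.mp hy⟩
    · rintro ⟨h1, h2⟩
      exact ⟨⟨x, h1⟩, MulAction.mem_stabilizer_iff.mpr ((mem_stabP o' x).mp h2).2, rfl⟩
  have hcard : Nat.card (MulAction.stabilizer (stabP o) o') = Nat.card (stabP o ⊓ stabP o' : Subgroup _) := by
    rw [← hmap]
    exact (Subgroup.card_map_of_injective (stabP o).subtype_injective).symm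
  have h1 := MulAction.index_stabilizer (stabP o) o'
  rw [horb, octCls_ncard ho] at h1
  have h2 := Subgroup.card_mul_index (MulAction.stabilizer (stabP o) o')
  rw [h1, hcard, card_stabP_octad ho] at h2
  exact h2

theorem card_joint_eq (o o' : Finset GolayPt) :
    Nat.card ↥(MulAction.stabilizer M24 o ⊓ MulAction.stabilizer M24 o') =
      Nat.card (stabP o ⊓ stabP o' : Subgroup (Equiv.Perm GolayPt)) := by
  rw [← map_stabilizer_eq_stabP, ← map_stabilizer_eq_stabP, ← Subgroup.map_inf _ _ _ M24.subtype_injective]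
  exact (Subgroup.card_map_of_injective M24.subtype_injective).symm

theorem octad_pair_stabilizer (o o' : Finset GolayPt) (ho : o ∈ octads) (ho' : o' ∈ octads) :
    ((o ∩ o').card = 0 → Nat.card ↥(MulAction.stabilizer M24 o ⊓ MulAction.stabilizer M24 o') = 10752) ∧
    ((o ∩ o').card = 4 → Nat.card ↥(MulAction.stabilizer M24 o ⊓ MulAction.stabilizer M24 o') = 1152) ∧
    ((o ∩ o').card = 2 → Nat.card ↥(MulAction.stabilizer M24 o ⊓ MulAction.stabilizer M24 o') = 720) := by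
  refine ⟨fun h => ?_, fun h => ?_, fun h => ?_⟩
  · have := card_joint_mul ho ho' octDesc0 h
    rw [octCls0_ncard0] at this
    rw [card_joint_eq]
    omega
  · have := card_joint_mul ho ho' octDesc4 h
    rw [octCls0_ncard4] at this
    rw [card_joint_eq]
    omega
  · have := card_joint_mul ho ho' octDesc2 h
    rw [octCls0_ncard2] at this
    rw [card_joint_eq]
    omega

end Cfsg.Agent.Helper27
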