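import Mathlib
import Cfsg.Prelude.Def_RootSubgroups
import Cfsg.Agent.Helper25.RootInvA

set_option autoImplicit false

/-!
# S5046 piece SWAPCOMM

For root involutions `x, y, x'` with `x x' = x' x`, `|x y|` odd and `|x' y| = 4`, the conjugates of `x'`
under the powers of `σ = x y` commute pairwise.
-/

namespace Cfsg.Agent.S5046P

open Cfsg.Agent.Helper25.RootInv

variable {G : Type*} [Group G] {D : Set G}

/-- Two involutions whose product squares to one commute. -/
theorem SWAPCOMM_aux_comm_of_sq {a b : G} (ha : a * a = 1) (hb : b * b = 1)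
    (hab : (a * b) * (a * b) = 1) : a * b = b * a := by
  have h1 : a * b = (a * b)⁻¹ := eq_inv_of_mul_eq_one_left hab
  have ha' : a⁻¹ = a := inv_eq_of_mul_eq_one_left ha
  have hb' : b⁻¹ = b := inv_eq_of_mul_eq_one_left hb
  rw [h1, mul_inv_rev, ha', hb']

/-- Conjugation preserves commuting. -/
theorem SWAPCOMM_aux_conj_commute {a b : G} (g : G) (h : a * b = b * a) :
    (g * a * g⁻¹) * (g * b * g⁻¹) = (g * b * g⁻¹) * (g * a * g⁻¹) := by
  have e1 : (g * a * g⁻¹) * (g * b * g⁻¹) = g * (a * b) * g⁻¹ := by group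
  have e2 : (g * b * g⁻¹) * (g * a * g⁻¹) = g * (b * a) * g⁻¹ := by group
  rw [e1, e2, h]

section

variable (hD : Cfsg.IsRootInvolutionSet D)
include hD

/-- In a set of root involutions, a product of order four has its square in `D`. -/
theorem SWAPCOMM_aux_sq_mem {a b : G} (ha : a ∈ D) (hb : b ∈ D) (h4 : orderOf (a * b) = 4) :
    (a * b) ^ 2 ∈ D := by
  rcases hD.pair a ha b hb with h | h | ⟨-, h⟩
  · exfalso
    have h2 : (a * b) ^ 2 = 1 := by
      rw [pow_two]
      calc a * b * (a * b) = a * b * (b * a) := by rw [h]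
        _ = a * (b * b) * a := by simp only [mul_assoc]
        _ = 1 := by rw [sq_one hD hb, mul_one, sq_one hD ha]
    have := orderOf_dvd_of_pow_eq_one h2
    rw [h4] at this
    omega
  · exfalso
    rw [h4] at h
    exact absurd h (by decide)
  · exact h

/-- The dichotomy for `a` and a conjugate `r a r` by a member `r` of `D`: they commute, or their product has odd order. -/
theorem SWAPCOMM_aux_dich {a r : G} (ha : a ∈ D) (hr : r ∈ D) :
    a * (r * a * r) = (r * a * r) * a ∨ Odd (orderOf (a * (r * a * r))) := by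
  have haa := sq_one hD ha
  have hrr := sq_one hD hr
  have hsq : a * (r * a * r) = (a * r) ^ 2 := by
    rw [pow_two]; simp only [mul_assoc]
  have hinv : (r * a * r) * (r * a * r) = 1 := by
    calc (r * a * r) * (r * a * r) = r * a * (r * r) * a * r := by simp only [mul_assoc]
      _ = r * (a * a) * r := by rw [hrr, mul_one]; simp only [mul_assoc]
      _ = 1 := by rw [haa, mul_one, hrr]
  rcases hD.pair a ha r hr with h | h | ⟨h, -⟩
  · left
    have : r * a * r = a := by
      calc r * a * r = r * (a * r) := by rw [mul_assoc]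
        _ = r * (r * a) := by rw [h]
        _ = a := by rw [← mul_assoc, hrr, one_mul]
    rw [this]
  · right
    rw [hsq]
    have hc : (orderOf (a * r)).Coprime 2 := Nat.Coprime.symm (Nat.coprime_two_left.mpr h)
    rw [hc.orderOf_pow]
    exact h
  · left
    apply SWAPCOMM_aux_comm_of_sq haa hinv
    rw [hsq, ← pow_two, ← pow_mul]
    have := pow_orderOf_eq_one (a * r)
    rw [h] at this
    exact this

end

/-- SWAPCOMM: the conjugates of x' under powers of σ = x y pairwise commute. -/
theorem SWAPCOMM (hD : Cfsg.IsRootInvolutionSet D) {x y x' : G} (hx : x ∈ D) (hy : y ∈ D) (hx' : x' ∈ D)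
    (hxx' : x * x' = x' * x) (hodd : Odd (orderOf (x * y))) (h4 : orderOf (x' * y) = 4) :
    ∀ i j : ℕ, Commute ((x * y) ^ i * x' * ((x * y) ^ i)⁻¹) ((x * y) ^ j * x' * ((x * y) ^ j)⁻¹) := by
  have hxx := sq_one hD hx
  have hyy := sq_one hD hy
  have hx'x' := sq_one hD hx'
  have hxi : x⁻¹ = x := inv_eq hD hx
  have hyi : y⁻¹ = y := inv_eq hD hy
  set s : G := x * y with hs
  set m := orderOf s with hm
  -- notation
  set e : ℕ → G := fun i => s ^ i * x' * (s ^ i)⁻¹ with he
  have he0 : e 0 = x' := by simp [he]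
  have heD : ∀ i, e i ∈ D := fun i => hD.conj_mem x' hx' (s ^ i)
  have hee : ∀ i, e i * e i = 1 := fun i => sq_one hD (heD i)
  -- x inverts s
  have hxs : x * s * x = s⁻¹ := by
    rw [hs, mul_inv_rev, hxi, hyi]
    calc x * (x * y) * x = (x * x) * y * x := by simp only [mul_assoc]
      _ = y * x := by rw [hxx, one_mul]
  have hxsi : ∀ i : ℕ, x * s ^ i * x = (s ^ i)⁻¹ := by
    intro i
    induction i with
    | zero => simp [hxx]
    | succ n ih =>
      rw [pow_succ, mul_inv_rev]
      calc x * (s ^ n * s) * x = (x * s ^ n * x) * (x * s * x) := by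
            have : (x * s ^ n * x) * (x * s * x) = x * s ^ n * (x * x) * s * x := by
              simp only [mul_assoc]
            rw [this, hxx, mul_one]; simp only [mul_assoc]
        _ = (s ^ n)⁻¹ * s⁻¹ := by rw [ih, hxs]
        _ = s⁻¹ * (s ^ n)⁻¹ := by
            rw [← mul_inv_rev, ← mul_inv_rev, ← pow_succ, ← pow_succ']
  have hxsi' : ∀ i : ℕ, x * (s ^ i)⁻¹ * x = s ^ i := by
    intro i
    have h1 := hxsi i
    calc x * (s ^ i)⁻¹ * x = x * (x * s ^ i * x) * x := by rw [h1]
      _ = (x * x) * s ^ i * (x * x) := by simp only [mul_assoc]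
      _ = s ^ i := by rw [hxx, one_mul, mul_one]
  -- the reflection r t
  have hrD : ∀ t : ℕ, s ^ t * x * (s ^ t)⁻¹ ∈ D := fun t => hD.conj_mem x hx (s ^ t)
  have hr : ∀ t : ℕ, (s ^ t * x * (s ^ t)⁻¹) * x' * (s ^ t * x * (s ^ t)⁻¹) = e (2 * t) := by
    intro t
    have h1 : x * ((s ^ t)⁻¹ * x' * s ^ t) * x = s ^ t * x' * (s ^ t)⁻¹ := by
      calc x * ((s ^ t)⁻¹ * x' * s ^ t) * x
          = (x * (s ^ t)⁻¹ * x) * (x * x' * x) * (x * s ^ t * x) := by
            have : (x * (s ^ t)⁻¹ * x) * (x * x' * x) * (x * s ^ t * x)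
                = x * (s ^ t)⁻¹ * (x * x) * x' * (x * x) * s ^ t * x := by simp only [mul_assoc]
            rw [this, hxx, mul_one, mul_one]; simp only [mul_assoc]
        _ = s ^ t * x' * (s ^ t)⁻¹ := by
            rw [hxsi', hxsi]
            have : x * x' * x = x' := by rw [hxx', mul_assoc, hxx, mul_one]
            rw [this]
    show _ = s ^ (2 * t) * x' * (s ^ (2 * t))⁻¹
    have h2 : s ^ (2 * t) = s ^ t * s ^ t := by rw [two_mul, pow_add]
    rw [h2, mul_inv_rev]
    calc (s ^ t * x * (s ^ t)⁻¹) * x' * (s ^ t * x * (s ^ t)⁻¹)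
        = s ^ t * (x * ((s ^ t)⁻¹ * x' * s ^ t) * x) * (s ^ t)⁻¹ := by simp only [mul_assoc]
      _ = s ^ t * (s ^ t * x' * (s ^ t)⁻¹) * (s ^ t)⁻¹ := by rw [h1]
      _ = s ^ t * s ^ t * x' * ((s ^ t)⁻¹ * (s ^ t)⁻¹) := by simp only [mul_assoc]
  -- dichotomy for even indices
  have hdich2 : ∀ t : ℕ, e 0 * e (2 * t) = e (2 * t) * e 0 ∨ Odd (orderOf (e 0 * e (2 * t))) := by
    intro t
    rw [he0, ← hr t]
    exact SWAPCOMM_aux_dich hD hx' (hrD t)
  -- periodicity
  have hsm : s ^ m = 1 := pow_orderOf_eq_one s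
  have hper : ∀ l k : ℕ, e (l + k * m) = e l := by
    intro l k
    show s ^ (l + k * m) * x' * (s ^ (l + k * m))⁻¹ = s ^ l * x' * (s ^ l)⁻¹
    have : s ^ (l + k * m) = s ^ l := by
      rw [pow_add, mul_comm k m, pow_mul, hsm, one_pow, mul_one]
    rw [this]
  have hdich : ∀ l : ℕ, e 0 * e l = e l * e 0 ∨ Odd (orderOf (e 0 * e l)) := by
    intro l
    obtain ⟨a, ha⟩ := hodd
    -- m = 2 a + 1, so l + l * m = 2 * (l * (a + 1))
    have h1 : l + l * m = 2 * (l * (a + 1)) := by
      rw [show m = 2 * a + 1 from ha]; ring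
    have h2 := hdich2 (l * (a + 1))
    rw [← h1, hper l l] at h2
    exact h2
  -- translation
  have htrans : ∀ i l : ℕ, e (i + l) = s ^ i * e l * (s ^ i)⁻¹ := by
    intro i l
    show s ^ (i + l) * x' * (s ^ (i + l))⁻¹ = s ^ i * (s ^ l * x' * (s ^ l)⁻¹) * (s ^ i)⁻¹
    rw [pow_add, mul_inv_rev]; simp only [mul_assoc]
  have htc : ∀ i l : ℕ, e 0 * e l = e l * e 0 → e i * e (i + l) = e (i + l) * e i := by
    intro i l h
    have h0 : e i = s ^ i * e 0 * (s ^ i)⁻¹ := by
      have := htrans i 0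
      rwa [add_zero] at this
    rw [htrans i l, h0]
    exact SWAPCOMM_aux_conj_commute (s ^ i) h
  -- e 0 and e 1
  have hsq := SWAPCOMM_aux_sq_mem hD hx' hy h4
  have h01 : e 0 * e 1 = x * (x' * y) ^ 2 * x⁻¹ := by
    rw [he0]
    show x' * (s ^ 1 * x' * (s ^ 1)⁻¹) = _
    rw [pow_one, hs, mul_inv_rev, hxi, hyi, pow_two]
    calc x' * (x * y * x' * (y * x)) = (x' * x) * y * x' * y * x := by simp only [mul_assoc]
      _ = (x * x') * y * x' * y * x := by rw [hxx']
      _ = x * (x' * y * (x' * y)) * x := by simp only [mul_assoc]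
  have h01D : e 0 * e 1 ∈ D := by
    rw [h01]; exact hD.conj_mem _ hsq x
  have h01c : e 0 * e 1 = e 1 * e 0 :=
    SWAPCOMM_aux_comm_of_sq (hee 0) (hee 1) (sq_one hD h01D)
  -- strong induction
  have hmain : ∀ l : ℕ, e 0 * e l = e l * e 0 := by
    intro l
    induction l using Nat.strong_induction_on with
    | _ l ih =>
      rcases Nat.lt_or_ge l 2 with hl | hl
      · interval_cases l
        · rfl
        · exact h01c
      · by_contra hnc
        rcases hdich l with h | h
        · exact hnc h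
        · have hne : e l ≠ e 0 := by
            intro heq
            apply hnc
            rw [heq]
          have hprev : e 0 * e (l - 1) = e (l - 1) * e 0 := ih (l - 1) (by omega)
          have h1l : e 1 * e (1 + (l - 1)) = e (1 + (l - 1)) * e 1 := htc 1 (l - 1) hprev
          have hl1 : 1 + (l - 1) = l := by omega
          rw [hl1] at h1l
          have hZ := not_commute_of_odd hD (heD l) (heD 1) (heD 0) h01c.symm
            (by rw [← h01c]; exact h01D) h hne
          exact hZ h1l.symm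
  -- conclusion
  intro i j
  show e i * e j = e j * e i
  rcases le_total i j with hij | hij
  · obtain ⟨l, rfl⟩ := Nat.exists_eq_add_of_le hij
    exact htc i l (hmain l)
  · obtain ⟨l, rfl⟩ := Nat.exists_eq_add_of_le hij
    exact (htc j l (hmain l)).symm

end Cfsg.Agent.S5046P
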