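import Mathlib
import Cfsg.Prelude.Def_RootSubgroups
import Cfsg.Agent.Helper22.S5047Defs

/-! # S5047, piece INJ: `θ` is injective on `U`. -/

set_option autoImplicit false

namespace Cfsg.Agent.S5047P

variable {G : Type*} [Group G]

/-- INJ: `θ` is injective on `U`. -/
theorem INJ {σ b : G} {m : ℕ} (hodd : Odd m) (hσ : σ ^ m = 1)
    (hU1 : ∀ u ∈ UU σ b, ∀ v ∈ UU σ b, u * v = v * u) (hU2 : ∀ u ∈ UU σ b, u * u = 1)
    (hU3 : ∀ u ∈ UU σ b, σ * u * σ⁻¹ ∈ UU σ b) (hU4 : ∀ u ∈ UU σ b, σ⁻¹ * u * σ ∈ UU σ b)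
    (hN : ∀ v ∈ UU σ b, σ * v = v * σ → v = 1) :
    ∀ u ∈ UU σ b, ∀ v ∈ UU σ b, th σ u = th σ v → u = v := by
  intro u hu v hv huv
  have hw : u * v ∈ UU σ b := (UU σ b).mul_mem hu hv
  have hA := hU3 u hu
  have hB := hU3 v hv
  have hC := hU4 u hu
  have hE := hU4 v hv
  have hthu : th σ u ∈ UU σ b := (UU σ b).mul_mem hA hC
  -- θ(uv) = θ(u) θ(v)
  have h1 : th σ (u * v) = th σ u * th σ v := by
    have hBC : (σ * v * σ⁻¹) * (σ⁻¹ * u * σ) = (σ⁻¹ * u * σ) * (σ * v * σ⁻¹) := hU1 _ hB _ hC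
    calc th σ (u * v) = (σ * u * σ⁻¹) * ((σ * v * σ⁻¹) * (σ⁻¹ * u * σ)) * (σ⁻¹ * v * σ) := by
          unfold th; group
      _ = (σ * u * σ⁻¹) * ((σ⁻¹ * u * σ) * (σ * v * σ⁻¹)) * (σ⁻¹ * v * σ) := by rw [hBC]
      _ = th σ u * th σ v := by unfold th; group
  have h2 : th σ (u * v) = 1 := by
    rw [h1, ← huv]
    exact hU2 _ hthu
  -- w := u * v
  set w := u * v with hwdef
  have hww : w * w = 1 := hU2 w hw
  have hwinv : w⁻¹ = w := inv_eq_of_mul_eq_one_left hww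
  -- σ w σ⁻¹ = σ⁻¹ w σ
  have h3 : σ * w * σ⁻¹ = σ⁻¹ * w * σ := by
    unfold th at h2
    have h4 : σ * w * σ⁻¹ = (σ⁻¹ * w * σ)⁻¹ := eq_inv_of_mul_eq_one_left h2
    rw [h4]
    have : (σ⁻¹ * w * σ)⁻¹ = σ⁻¹ * w⁻¹ * σ := by group
    rw [this, hwinv]
  -- σ² commutes with w
  have h5 : Commute (σ ^ 2) w := by
    show σ ^ 2 * w = w * σ ^ 2
    rw [pow_two]
    calc σ * σ * w = σ * (σ * w * σ⁻¹) * σ := by simp [mul_assoc]
      _ = σ * (σ⁻¹ * w * σ) * σ := by rw [h3]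
      _ = w * (σ * σ) := by simp [mul_assoc]
  -- σ = (σ²)^(k+1)
  obtain ⟨k, hk⟩ := hodd
  have h6 : σ = (σ ^ 2) ^ (k + 1) := by
    rw [← pow_mul]
    have : 2 * (k + 1) = m + 1 := by omega
    rw [this, pow_succ, hσ, one_mul]
  have h7 : Commute σ w := by
    rw [h6]; exact h5.pow_left _
  have h8 : w = 1 := hN w hw h7.eq
  -- u = v
  have hvv : v * v = 1 := hU2 v hv
  have hvinv : v⁻¹ = v := inv_eq_of_mul_eq_one_left hvv
  have : u = v⁻¹ := eq_inv_of_mul_eq_one_left h8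
  rw [this, hvinv]

end Cfsg.Agent.S5047P
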