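import Mathlib
import Cfsg.Agent.Helper12.S3222Defs

/-!
# S3222, piece IDX: a simple group embeds in the symmetric group on the cosets of a proper subgroup
-/

set_option autoImplicit false

namespace Cfsg.Agent.S3222P

theorem IDX {M : Type*} [Group M] [Finite M] [IsSimpleGroup M] (H : Subgroup M) (hH : H ≠ ⊤) :
    Nat.card M ∣ (H.index).factorial := by
  have hker : (MulAction.toPermHom M (M ⧸ H)).ker = ⊥ := by
    rcases (MulAction.toPermHom M (M ⧸ H)).normal_ker.eq_bot_or_eq_top with h | h
    · exact h
    · exfalso
      apply hH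
      rw [eq_top_iff, ← h, ← Subgroup.normalCore_eq_ker]
      exact Subgroup.normalCore_le H
  have hinj : Function.Injective (MulAction.toPermHom M (M ⧸ H)) :=
    (MonoidHom.ker_eq_bot_iff _).mp hker
  have h1 := Subgroup.card_dvd_of_injective _ hinj
  rw [Nat.card_perm] at h1
  exact h1

end Cfsg.Agent.S3222P
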