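import Mathlib
import Cfsg.Agent.Helper24.QP889Defs
import Cfsg.Agent.Helper24.Gallagher

/-! S0889 piece GALF: Gallagher's theorem in function form. -/

set_option autoImplicit false
namespace Cfsg.Agent.QP889
open Cfsg
open scoped ComplexConjugate
universe u

theorem exists_factor {Γ : Type u} [Group Γ] [Fintype Γ] (A : Subgroup Γ) [A.Normal]
    (ρ χ : Γ → ℂ) (hρ : IsIrrCharacter Γ ρ) (hρA : IsIrrCharacter A (fun a : A => ρ a))
    (hχ : IsIrrCharacter Γ χ) (e : ℕ)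
    (he : (fun a : A => χ a) = (e : ℂ) • (fun a : A => ρ a)) :
    ∃ β : Γ → ℂ, IsIrrCharacter Γ β ∧ InvOn A β ∧ ∀ g, χ g = ρ g * β g := by
  classical
  haveI : Fintype ↥A := Fintype.ofFinite _
  have hχ1 : χ 1 ≠ 0 := Cfsg.Agent.Helper24.irr_one_ne_zero ⟨χ, hχ⟩
  have he0 : e ≠ 0 := by
    intro h0
    apply hχ1
    have h1 := congrFun he (1 : A)
    rw [h0] at h1
    simpa using h1
  have hinner : classInner (fun a : A => χ a) (fun a : A => ρ a) ≠ 0 := by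
    rw [he, Cfsg.Agent.Helper24.classInner_smul_left,
      Cfsg.Agent.Helper24.classInner_of_isIrrCharacter hρA hρA, if_pos rfl, mul_one]
    exact_mod_cast he0
  obtain ⟨β', hβ'⟩ := Cfsg.Agent.Helper24.exists_gallagherTwist_eq A ⟨ρ, hρ⟩ hρA ⟨χ, hχ⟩ hinner
  refine ⟨fun g => (β' : Γ ⧸ A → ℂ) (QuotientGroup.mk g), ?_, ?_, ?_⟩
  · exact (Cfsg.Agent.Helper24.irrInflate A β').2
  · intro a ha g
    show (β' : Γ ⧸ A → ℂ) (QuotientGroup.mk (a * g)) = (β' : Γ ⧸ A → ℂ) (QuotientGroup.mk g)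
    rw [QuotientGroup.mk_mul, (QuotientGroup.eq_one_iff a).mpr ha, one_mul]
  · intro g
    have h1 := congrFun hβ' g
    have h2 : χ g = (β' : Γ ⧸ A → ℂ) (QuotientGroup.mk g) * ρ g := h1
    rw [h2, mul_comm]

end Cfsg.Agent.QP889
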