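import Mathlib
import Cfsg.Agent.Helper24.QP889Defs
import Cfsg.Agent.Helper8.Ind

/-! S0889 piece INV: the induced function of an `A`-invariant function is `A`-invariant. -/

set_option autoImplicit false
namespace Cfsg.Agent.QP889
open Cfsg
open scoped ComplexConjugate
universe u

theorem invOn_indFun {Γ : Type u} [Group Γ] [Fintype Γ] (A Hh : Subgroup Γ) [A.Normal]
    (hAH : A ≤ Hh) (τ : Hh → ℂ)
    (hτ : ∀ a : Hh, (a : Γ) ∈ A → ∀ h : Hh, τ (a * h) = τ h) : InvOn A (indFun Hh τ) := by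
  intro a ha g
  rw [Cfsg.Agent.Helper8.indFun_def, Cfsg.Agent.Helper8.indFun_def]
  congr 1
  apply Finset.sum_congr rfl
  intro x _
  have hnorm : x⁻¹ * a * x ∈ A := by
    have := (inferInstance : A.Normal).conj_mem a ha x⁻¹
    simpa using this
  have heq : x⁻¹ * (a * g) * x = (x⁻¹ * a * x) * (x⁻¹ * g * x) := by group
  rw [heq]
  by_cases hy : x⁻¹ * g * x ∈ Hh
  · have hy' : (x⁻¹ * a * x) * (x⁻¹ * g * x) ∈ Hh := Hh.mul_mem (hAH hnorm) hy
    rw [Cfsg.Agent.Helper8.ebz_mem Hh τ hy', Cfsg.Agent.Helper8.ebz_mem Hh τ hy]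
    exact hτ ⟨x⁻¹ * a * x, hAH hnorm⟩ hnorm ⟨x⁻¹ * g * x, hy⟩
  · have hy' : (x⁻¹ * a * x) * (x⁻¹ * g * x) ∉ Hh := by
      intro h
      apply hy
      have := Hh.mul_mem (Hh.inv_mem (hAH hnorm)) h
      rwa [inv_mul_cancel_left] at this
    rw [Cfsg.Agent.Helper8.ebz_not_mem Hh τ hy', Cfsg.Agent.Helper8.ebz_not_mem Hh τ hy]

end Cfsg.Agent.QP889
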