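import Mathlib
import Cfsg.Agent.Helper24.QP889Defs
import Cfsg.Agent.Helper8.IndTrans
import Cfsg.Agent.Helper8.CharComp
import Cfsg.Agent.Helper24.Induced

/-! S0889 piece MAXL: a character induced from a proper subgroup is induced from a maximal subgroup. -/

set_option autoImplicit false
namespace Cfsg.Agent.QP889
open Cfsg
open scoped ComplexConjugate
universe u

theorem exists_coatom_ind {G : Type u} [Group G] [Fintype G] (K : Subgroup G) (hK : K ≠ ⊤)
    (ψ : K → ℂ) (hψ : IsCharacter K ψ) :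
    ∃ (H : Subgroup G) (ϑ : H → ℂ), IsCoatom H ∧ K ≤ H ∧ IsCharacter H ϑ ∧
      indFun H ϑ = indFun K ψ := by
  classical
  obtain ⟨H, hH, hKH⟩ := (eq_top_or_exists_le_coatom K).resolve_left hK
  haveI : Fintype ↥H := Fintype.ofFinite _
  have hchar : IsCharacter ↥(K.subgroupOf H) (Cfsg.Agent.Helper8.toSubgroupOf K H ψ) :=
    Cfsg.Agent.Helper8.isCharacter_comp (Subgroup.subgroupOfEquivOfLe hKH).toMonoidHom hψ
  refine ⟨H, indFun (K.subgroupOf H) (Cfsg.Agent.Helper8.toSubgroupOf K H ψ), hH, hKH, ?_, ?_⟩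
  · exact Cfsg.Agent.Helper24.isCharacter_indFun (K.subgroupOf H) hchar
  · exact Cfsg.Agent.Helper8.indFun_trans K H hKH ψ

end Cfsg.Agent.QP889
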