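import Cfsg.Agent.Helper27.GLIso

/-!
More generic tools around `GLIso`: the permutation representation of a subgroup on the index set of an injective
family of group elements whose range is invariant under conjugation, its additivity when the family is a
homomorphism from an additive group, the orders of small general linear groups, and the transport of a subgroup of
the form "intersection of two stabilisers" along a group element.
-/

set_option autoImplicit false

namespace Cfsg.Agent.Helper27

/-- the permutation representation of a subgroup on the index set of an injective family of elements whose range is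
invariant under conjugation by the subgroup -/
theorem exists_permHom_conj {G ι : Type*} [Group G] (H : Subgroup G) (f : ι → G) (hf : Function.Injective f)
    (hinv : ∀ g ∈ H, ∀ i, ∃ j, g * f i * g⁻¹ = f j) :
    ∃ ρ : ↥H →* Equiv.Perm ι, ∀ (g : ↥H) (i : ι), f (ρ g i) = (g : G) * f i * (g : G)⁻¹ := by
  classical
  let σ : ↥H → ι → ι := fun g i => Classical.choose (hinv g.1 g.2 i)
  have hσ : ∀ (g : ↥H) i, f (σ g i) = (g : G) * f i * (g : G)⁻¹ :=
    fun g i => (Classical.choose_spec (hinv g.1 g.2 i)).symm
  have h1 : ∀ i, σ 1 i = i := fun i => hf (by rw [hσ]; simp)
  have hm : ∀ g h i, σ (g * h) i = σ g (σ h i) := fun g h i => hf (by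
    rw [hσ, hσ, hσ]
    simp only [Subgroup.coe_mul, mul_inv_rev]
    group)
  refine ⟨{ toFun := fun g => ⟨σ g, σ g⁻¹, fun i => by rw [← hm, inv_mul_cancel, h1],
              fun i => by rw [← hm, mul_inv_cancel, h1]⟩
            map_one' := Equiv.ext h1
            map_mul' := fun g h => Equiv.ext (hm g h) }, fun g i => hσ g i⟩

/-- a permutation of an additive group compatible with conjugation on an injective multiplicative family is
additive -/
theorem perm_additive_of_conj {G V : Type*} [Group G] [AddGroup V] (f : V → G) (hf : Function.Injective f)
    (hadd : ∀ v w, f (v + w) = f v * f w) {g : G} {σ : Equiv.Perm V} (h : ∀ v, f (σ v) = g * f v * g⁻¹)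
    (v w : V) : σ (v + w) = σ v + σ w := by
  apply hf
  rw [hadd, h, h, h, hadd]
  group

theorem card_GL23 : Nat.card (GL (Fin 2) (ZMod 3)) = 48 := by
  rw [Matrix.card_GL_field]
  simp [Fin.prod_univ_succ, ZMod.card]

end Cfsg.Agent.Helper27
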