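import Mathlib
import Cfsg.Agent.Helper27.O720A

set_option autoImplicit false

/-!
Piece (S) of P720 (no simple group of order `720`): `n_3 ∈ {10, 40}` and no commuting elements of
orders `3` and `5`.
-/

namespace Cfsg.Agent.Helper27.P720S

open Cfsg.Agent.Helper27.O720

variable {G : Type*} [Group G] [Finite G] [IsSimpleGroup G]

theorem sylow_data (hcard : Nat.card G = 720) :
    (Nat.card (Sylow 3 G) = 10 ∨ Nat.card (Sylow 3 G) = 40) ∧
    ∀ x y : G, orderOf x = 3 → orderOf y = 5 → x * y ≠ y * x := by
  refine ⟨?_, fun x y hx hy hxy => no_three_five hcard x y hx hy hxy⟩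
  rcases (three_data hcard).1 with h | h | h
  · exact Or.inl h
  · exact absurd h (not_sixteen hcard)
  · exact Or.inr h

end Cfsg.Agent.Helper27.P720S
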