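import Mathlib
import Cfsg.Agent.Helper25.S5165.Defs
import Cfsg.Agent.Helper24.S5165LIBA
import Cfsg.Agent.Helper24.S5165LIBB
import Cfsg.Agent.Helper23.S5165TYPEB
import Cfsg.Agent.Helper23.S5165CARDSQ
import Cfsg.Agent.Helper26.S5165CONJ
import Cfsg.Agent.Helper7.S5165SIGNS
import Cfsg.Agent.Helper11.S5165TYPEL2

set_option autoImplicit false
set_option linter.unusedSectionVars false
set_option linter.unusedVariables false

/-! # S5165 piece STEP4TWO (driver helper25): `p = 2`, a non-trivial strongly closed subgroup of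
`SQ r Q ⊓ A(X)` contains `Bsub ⊓ A(X)`. -/

namespace Cfsg.Agent.S5165P

open Equiv

section chapA

variable {p : ℕ} [Fact p.Prime] {I : Type} [Fintype I] [DecidableEq I] {r : ℕ}

namespace STEP4TWO

theorem one_add_one_two : (1 : ZMod 2) + 1 = 0 := by decide

/-- the sign of a product of `k` disjoint transpositions -/
theorem sign_of_type {Y : Type} [Fintype Y] [DecidableEq Y] (y : Perm Y) (k : ℕ)
    (h : y.cycleType = Multiset.replicate k 2) : Equiv.Perm.sign y = (-1) ^ k := by
  rw [Equiv.Perm.sign_of_cycleType, h, Multiset.sum_replicate, Multiset.card_replicate]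
  have : k • 2 + k = 2 * k + k := by simp [mul_comm]
  rw [this, pow_add, pow_mul]
  simp

theorem mem_alt_of_type {Y : Type} [Fintype Y] [DecidableEq Y] (y : Perm Y) (k : ℕ)
    (h : y.cycleType = Multiset.replicate k 2) (hk : Even k) : y ∈ alternatingGroup Y := by
  rw [Equiv.Perm.mem_alternatingGroup, sign_of_type y k h]
  exact hk.neg_one_pow

theorem even_of_type {Y : Type} [Fintype Y] [DecidableEq Y] (y : Perm Y) (k : ℕ)
    (h : y.cycleType = Multiset.replicate k 2) (hy : y ∈ alternatingGroup Y) : Even k := by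
  rw [Equiv.Perm.mem_alternatingGroup, sign_of_type y k h] at hy
  by_contra hk
  rw [Nat.not_even_iff_odd] at hk
  rw [hk.neg_one_pow] at hy
  exact absurd hy (by decide)

theorem card_X : Fintype.card (X p I r) = Fintype.card I * p + r := by
  simp [X, Fintype.card_sum, Fintype.card_prod, ZMod.card]

/-- strongly closed: `T` contains every element of `S` of the type of an element of order `p` of `T` -/
theorem mem_of_type (hX : p ^ 2 ≤ Fintype.card (X p I r)) (S T : Subgroup (Perm (X p I r)))
    (hT : SC (alternatingGroup (X p I r)) S T) (z : Perm (X p I r)) (hz : z ∈ T)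
    (hzo : orderOf z = p) (y : Perm (X p I r)) (hy : y ∈ S) (hty : z.cycleType = y.cycleType) :
    y ∈ T := by
  obtain ⟨g, hg, hgz⟩ := CONJ.exists_alt_conj p hX z y hzo hty
  have := hT.2 z hz g hg (by rw [hgz]; exact hy)
  rwa [hgz] at this

/-- a Sylow `2`-subgroup of `Perm I` contains a transposition -/
theorem exists_swap_mem (hp : p = 2) (hI : 2 ≤ Fintype.card I) (Q : Sylow p (Perm I)) :
    ∃ i₁ i₂ : I, i₁ ≠ i₂ ∧ Equiv.swap i₁ i₂ ∈ (Q : Subgroup (Perm I)) := by
  obtain ⟨a, b, hab⟩ := Fintype.one_lt_card_iff.1 (by omega : 1 < Fintype.card I)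
  have hpg : IsPGroup p (Subgroup.zpowers (Equiv.swap a b)) := by
    apply IsPGroup.of_card (n := 1)
    rw [Nat.card_zpowers, (Equiv.Perm.IsSwap.orderOf ⟨a, b, hab, rfl⟩), hp, pow_one]
  obtain ⟨P', hP'⟩ := hpg.exists_le_sylow
  obtain ⟨g, hg⟩ := MulAction.exists_smul_eq (Perm I) P' Q
  refine ⟨g a, g b, fun h => hab (g.injective h), ?_⟩
  rw [Equiv.swap_apply_apply, ← hg, Sylow.smul_def, Sylow.pointwise_smul_def]
  have hmem : Equiv.swap a b ∈ (P' : Subgroup (Perm I)) :=
    hP' (Subgroup.mem_zpowers _)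
  have := Subgroup.smul_mem_pointwise_smul _ (MulAut.conj g) _ hmem
  simpa [MulAut.smul_def] using this


theorem one_add_one (hp : p = 2) : (1 : ZMod p) + 1 = 0 := by
  subst hp; exact one_add_one_two

/-- the function `1_i + 1_i'` -/
def pr (p : ℕ) (i i' : I) : I → ZMod p := Pi.single i 1 + Pi.single i' 1

theorem pr_apply (i i' k : I) :
    pr p i i' k = (if k = i then 1 else 0) + (if k = i' then 1 else 0) := by
  simp [pr, Pi.single_apply]

theorem zmod_cases (hp : p = 2) (x : ZMod p) : x = 0 ∨ x = 1 := by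
  subst hp; decide +revert

theorem lcm_replicate_two (k : ℕ) : (Multiset.replicate (k + 1) 2).lcm = 2 := by
  induction k with
  | zero => simp
  | succ n ih =>
    rw [Multiset.replicate_succ, Multiset.lcm_cons, ih]
    simp

theorem order_of_type {Y : Type} [Fintype Y] [DecidableEq Y] (y : Perm Y) (k : ℕ)
    (h : y.cycleType = Multiset.replicate (k + 1) 2) : orderOf y = 2 := by
  rw [← Equiv.Perm.lcm_cycleType, h, lcm_replicate_two]

/-- the type of `base (1_i + 1_i')` -/
theorem type_pair (hp : p = 2) {i i' : I} (h : i ≠ i') :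
    (base (r := r) (pr p i i')).cycleType =
      Multiset.replicate 2 2 := by
  rw [TYPEB.cycleType_base]
  have : (Finset.univ.filter
      (fun k => (pr p i i') k ≠ 0)) = {i, i'} := by
    ext k
    simp only [Finset.mem_filter, Finset.mem_univ, true_and, pr_apply,
      Finset.mem_insert, Finset.mem_singleton]
    by_cases h1 : k = i
    · subst h1; simp [h]
    · by_cases h2 : k = i'
      · subst h2; simp [h1]
      · simp [h1, h2]
  rw [this, Finset.card_pair h, hp]

/-- all `base (1_i + 1_i')` lie in `T` as soon as one element of type `2²` does -/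
theorem pair_mem (hp : p = 2) (hI : 3 ≤ Fintype.card I) (Q : Subgroup (Perm I))
    (T : Subgroup (Perm (X p I r)))
    (hT : SC (alternatingGroup (X p I r)) (SQ r Q ⊓ alternatingGroup (X p I r)) T)
    (w : Perm (X p I r)) (hw : w ∈ T) (hwt : w.cycleType = Multiset.replicate 2 2)
    {i i' : I} (h : i ≠ i') :
    base (r := r) (pr p i i') ∈ T := by
  have hX : p ^ 2 ≤ Fintype.card (X p I r) := by
    rw [card_X, hp]; omega
  have hwo : orderOf w = p := (order_of_type w 1 hwt).trans hp.symm
  refine mem_of_type hX _ T hT w hw hwo _ ?_ ?_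
  · refine Subgroup.mem_inf.2 ⟨LIBB.Bsub_le_SQ _ (mem_Bsub.2 ⟨_, rfl⟩), ?_⟩
    exact mem_alt_of_type _ 2 (type_pair hp h) (by decide)
  · rw [hwt, type_pair hp h]

/-- `Bsub ⊓ A` is generated by the `base (1_i + 1_i')` -/
theorem Bsub_inf_le_of_pairs (hp : p = 2) (i₀ : I) (T : Subgroup (Perm (X p I r)))
    (hpair : ∀ i i' : I, i ≠ i' → base (r := r) (pr p i i') ∈ T) :
    Bsub p I r ⊓ alternatingGroup (X p I r) ≤ T := by
  intro x hx
  obtain ⟨hxB, hxA⟩ := Subgroup.mem_inf.1 hx
  obtain ⟨f, rfl⟩ := mem_Bsub.1 hxB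
  have hsum : ∀ s : Finset I,
      base (r := r) (∑ i ∈ s, (pr p i i₀)) ∈ T := by
    intro s
    induction s using Finset.induction_on with
    | empty => simp only [Finset.sum_empty]; rw [LIBA.base_zero]; exact T.one_mem
    | insert a s ha ih =>
      rw [Finset.sum_insert ha, LIBA.base_add]
      refine T.mul_mem ?_ ih
      by_cases h : a = i₀
      · subst h
        have : (pr p a a) = 0 := by
          unfold pr
          rw [← Pi.single_add, one_add_one hp, Pi.single_zero]
        rw [this, LIBA.base_zero]; exact T.one_mem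
      · exact hpair a i₀ h
  set s := Finset.univ.filter (fun i => f i ≠ 0) with hs
  have hev : Even s.card :=
    even_of_type _ _ (by rw [TYPEB.cycleType_base]; exact congrArg _ hp) hxA
  have hf : f = ∑ i ∈ s, (pr p i i₀) := by
    funext k
    rw [Finset.sum_apply]
    simp only [pr_apply, Finset.sum_add_distrib, Finset.sum_const]
    rw [Finset.sum_ite_eq]
    have hc : (s.card : ZMod p) = 0 := by
      obtain ⟨t, ht⟩ := hev
      rw [ht, Nat.cast_add, ← two_mul]
      have : (2 : ZMod p) = 0 := by rw [← one_add_one hp]; norm_num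
      rw [this, zero_mul]
    rw [nsmul_eq_mul, hc, zero_mul, add_zero]
    by_cases hk : k ∈ s
    · rw [if_pos hk]
      rw [hs, Finset.mem_filter] at hk
      rcases zmod_cases hp (f k) with h0 | h1
      · exact absurd h0 hk.2
      · exact h1
    · rw [if_neg hk]
      rw [hs, Finset.mem_filter] at hk
      by_contra h
      exact hk ⟨Finset.mem_univ _, h⟩
  rw [hf]
  exact hsum s


/-- a non-trivial subgroup of a Sylow `p`-subgroup contains an element of order `p` -/
theorem exists_order_p (hr : r < p) (Q : Sylow p (Perm I)) (T : Subgroup (Perm (X p I r)))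
    (hle : T ≤ SQ r (Q : Subgroup (Perm I))) (hT1 : T ≠ ⊥) : ∃ z ∈ T, orderOf z = p := by
  have hSQ : IsPGroup p (SQ r (Q : Subgroup (Perm I)) : Subgroup (Perm (X p I r))) := by
    obtain ⟨k, hk⟩ := IsPGroup.iff_card.1 Q.isPGroup'
    apply IsPGroup.of_card (n := Fintype.card I + k)
    rw [CARDSQ.card_SQ, hk, pow_add]
  have hpg : IsPGroup p T := hSQ.to_le hle
  have : Nontrivial T := (Subgroup.nontrivial_iff_ne_bot T).2 hT1
  obtain ⟨n, hn, hcard⟩ := (hpg.nontrivial_iff_card).1 inferInstance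
  have hdvd : p ∣ Nat.card T := by rw [hcard]; exact dvd_pow_self p hn.ne'
  obtain ⟨x, hx⟩ := exists_prime_orderOf_dvd_card' p hdvd
  exact ⟨x, x.2, (Subgroup.orderOf_coe x).trans hx⟩

/-- the indicator function of `J` -/
def ind (p : ℕ) (J : Finset I) : I → ZMod p := fun i => if i ∈ J then 1 else 0

theorem type_ind (hp : p = 2) (J : Finset I) :
    (base (r := r) (ind p J)).cycleType = Multiset.replicate J.card 2 := by
  rw [TYPEB.cycleType_base]
  have : (Finset.univ.filter (fun k => ind p J k ≠ 0)) = J := by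
    ext k
    by_cases hk : k ∈ J <;> simp [ind, hk]
  rw [this]
  exact congrArg _ hp

/-- the case `j < |I|` -/
theorem exists_type_two_lt (hp : p = 2) (hI : 3 ≤ Fintype.card I) (Q : Subgroup (Perm I))
    (T : Subgroup (Perm (X p I r)))
    (hT : SC (alternatingGroup (X p I r)) (SQ r Q ⊓ alternatingGroup (X p I r)) T)
    (z : Perm (X p I r)) (hz : z ∈ T) (n : ℕ) (hzt : z.cycleType = Multiset.replicate (n + 1) 2)
    (hev : Even (n + 1)) (hlt : n + 1 < Fintype.card I) :
    ∃ w ∈ T, w.cycleType = Multiset.replicate 2 2 := by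
  have hX : p ^ 2 ≤ Fintype.card (X p I r) := by
    rw [card_X, hp]; omega
  have hzo : orderOf z = p := (order_of_type z n hzt).trans hp.symm
  obtain ⟨J, -, hJ⟩ := Finset.exists_subset_card_eq
    (s := (Finset.univ : Finset I)) (n := n + 1) (by rw [Finset.card_univ]; omega)
  have hJne : J.Nonempty := by
    rw [← Finset.card_pos, hJ]; omega
  obtain ⟨i₁, hi₁⟩ := hJne
  obtain ⟨i', -, hi'⟩ := Finset.exists_mem_notMem_of_card_lt_card
    (s := J) (t := Finset.univ) (by rw [hJ, Finset.card_univ]; exact hlt)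
  have hne : i₁ ≠ i' := fun h => hi' (h ▸ hi₁)
  set J' := insert i' (J.erase i₁) with hJ'
  have hJ'c : J'.card = n + 1 := by
    rw [hJ', Finset.card_insert_of_notMem (fun h => hi' (Finset.mem_of_mem_erase h)),
      Finset.card_erase_of_mem hi₁, hJ]
    omega
  have hmem : ∀ K : Finset I, K.card = n + 1 → base (r := r) (ind p K) ∈ T := by
    intro K hK
    refine mem_of_type hX _ T hT z hz hzo _ ?_ ?_
    · refine Subgroup.mem_inf.2 ⟨LIBB.Bsub_le_SQ _ (mem_Bsub.2 ⟨_, rfl⟩), ?_⟩
      exact mem_alt_of_type _ K.card (type_ind hp K) (hK ▸ hev)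
    · rw [hzt, type_ind hp K, hK]
  refine ⟨base (ind p J) * base (ind p J'), T.mul_mem (hmem J hJ) (hmem J' hJ'c), ?_⟩
  rw [← LIBA.base_add]
  have hsum : ind p J + ind p J' = pr p i₁ i' := by
    funext k
    rw [Pi.add_apply, pr_apply]
    by_cases h1 : k = i₁
    · subst h1
      have : k ∉ J' := by
        rw [hJ', Finset.mem_insert]
        rintro (h | h)
        · exact hne h
        · exact (Finset.notMem_erase _ _) h
      simp [ind, hi₁, this, hne]
    · by_cases h2 : k = i'
      · subst h2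
        have : k ∈ J' := by rw [hJ']; exact Finset.mem_insert_self _ _
        simp [ind, hi', this, h1]
      · have : k ∈ J' ↔ k ∈ J := by
          rw [hJ', Finset.mem_insert, Finset.mem_erase]
          tauto
        by_cases hk : k ∈ J
        · have hk' : k ∈ J' := this.2 hk
          simp [ind, hk, hk', h1, h2, one_add_one hp]
        · have hk' : k ∉ J' := fun h => hk (this.1 h)
          simp [ind, hk, hk', h1, h2]
  rw [hsum]
  exact type_pair hp hne

/-- the case `j = |I|` -/
theorem exists_type_two_eq (hp : p = 2) (hI : 3 ≤ Fintype.card I) (Q : Sylow p (Perm I))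
    (T : Subgroup (Perm (X p I r)))
    (hT : SC (alternatingGroup (X p I r))
      (SQ r (Q : Subgroup (Perm I)) ⊓ alternatingGroup (X p I r)) T)
    (z : Perm (X p I r)) (hz : z ∈ T) (n : ℕ) (hzt : z.cycleType = Multiset.replicate (n + 1) 2)
    (hev : Even (n + 1)) (heq : n + 1 = Fintype.card I) :
    ∃ w ∈ T, w.cycleType = Multiset.replicate 2 2 := by
  have hX : p ^ 2 ≤ Fintype.card (X p I r) := by
    rw [card_X, hp]; omega
  have hzo : orderOf z = p := (order_of_type z n hzt).trans hp.symm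
  obtain ⟨i₁, i₂, h12, hsw⟩ := exists_swap_mem hp (by omega) Q
  -- `y₁ = base 1`
  have hy₁ : base (r := r) (ind p Finset.univ) ∈ T := by
    have htype := type_ind (r := r) hp (Finset.univ : Finset I)
    rw [Finset.card_univ, ← heq] at htype
    refine mem_of_type hX _ T hT z hz hzo _ ?_ ?_
    · refine Subgroup.mem_inf.2 ⟨LIBB.Bsub_le_SQ _ (mem_Bsub.2 ⟨_, rfl⟩), ?_⟩
      exact mem_alt_of_type _ _ htype hev
    · rw [hzt, htype]
  -- `y₃`
  set f₃ : I → ZMod p := ind p ({i₁, i₂}ᶜ) with hf₃
  have hf₃1 : f₃ i₁ = 0 := by simp [hf₃, ind]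
  have hf₃2 : f₃ i₂ = 0 := by simp [hf₃, ind]
  have htype₃ : (base (r := r) f₃ * lift (Equiv.swap i₁ i₂)).cycleType =
      Multiset.replicate (n + 1) 2 := by
    rw [TYPEL2.cycleType_base_mul_swap hp h12 f₃ (hf₃1.trans hf₃2.symm)]
    have : (Finset.univ.filter (fun i => i ≠ i₁ ∧ i ≠ i₂ ∧ f₃ i ≠ 0)) = ({i₁, i₂} : Finset I)ᶜ := by
      ext k
      simp only [Finset.mem_filter, Finset.mem_univ, true_and, Finset.mem_compl,
        Finset.mem_insert, Finset.mem_singleton, hf₃, ind]
      by_cases h1 : k = i₁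
      · simp [h1]
      · by_cases h2 : k = i₂
        · simp [h2]
        · simp [h1, h2]
    rw [this, Finset.card_compl, Finset.card_pair h12, ← heq]
    congr 1
    have : 2 ≤ n + 1 := by omega
    omega
  have hy₃ : base (r := r) f₃ * lift (Equiv.swap i₁ i₂) ∈ T := by
    refine mem_of_type hX _ T hT z hz hzo _ ?_ ?_
    · refine Subgroup.mem_inf.2 ⟨(LIBB.base_mul_lift_mem_SQ_iff _ _ _).2 hsw, ?_⟩
      exact mem_alt_of_type _ _ htype₃ hev
    · rw [hzt, htype₃]
  refine ⟨base (ind p Finset.univ) * (base f₃ * lift (Equiv.swap i₁ i₂)), T.mul_mem hy₁ hy₃, ?_⟩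
  rw [← mul_assoc, ← LIBA.base_add]
  have hg1 : (ind p Finset.univ + f₃ : I → ZMod p) i₁ = 1 := by
    rw [Pi.add_apply, hf₃1]; simp [ind]
  have hg2 : (ind p Finset.univ + f₃ : I → ZMod p) i₂ = 1 := by
    rw [Pi.add_apply, hf₃2]; simp [ind]
  rw [TYPEL2.cycleType_base_mul_swap hp h12 _ (hg1.trans hg2.symm)]
  have : (Finset.univ.filter
      (fun i => i ≠ i₁ ∧ i ≠ i₂ ∧ (ind p Finset.univ + f₃ : I → ZMod p) i ≠ 0)) = ∅ := by
    ext k
    simp only [Finset.mem_filter, Finset.mem_univ, true_and, Finset.notMem_empty, iff_false,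
      not_and, not_not]
    intro h1 h2
    simp [hf₃, ind, h1, h2, one_add_one hp]
  rw [this, Finset.card_empty]

end STEP4TWO

theorem STEP4TWO.Bsub_inf_le (hp : p = 2) (hI : 3 ≤ Fintype.card I) (hr : r < p)
    (Q : Sylow p (Perm I)) (T : Subgroup (Perm (X p I r)))
    (hT : SC (alternatingGroup (X p I r))
      (SQ r (Q : Subgroup (Perm I)) ⊓ alternatingGroup (X p I r)) T) (hT1 : T ≠ ⊥) :
    Bsub p I r ⊓ alternatingGroup (X p I r) ≤ T := by
  have hI0 : 0 < Fintype.card I := by omega
  obtain ⟨i₀⟩ := Fintype.card_pos_iff.1 hI0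
  suffices h : ∃ w ∈ T, w.cycleType = Multiset.replicate 2 2 by
    obtain ⟨w, hw, hwt⟩ := h
    exact STEP4TWO.Bsub_inf_le_of_pairs hp i₀ T
      (fun i i' h => STEP4TWO.pair_mem hp hI _ T hT w hw hwt h)
  obtain ⟨z, hz, hzo⟩ := STEP4TWO.exists_order_p hr Q T (hT.1.trans inf_le_left) hT1
  obtain ⟨n, hn⟩ := Equiv.Perm.cycleType_prime_order (σ := z)
    (by rw [hzo]; exact Fact.out)
  rw [hzo] at hn
  have hzt : z.cycleType = Multiset.replicate (n + 1) 2 := by
    rw [hn]; exact congrArg _ hp
  have hzA : z ∈ alternatingGroup (X p I r) := (hT.1 hz).2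
  have hev : Even (n + 1) := STEP4TWO.even_of_type z _ hzt hzA
  have hle : n + 1 ≤ Fintype.card I := by
    have h1 := Equiv.Perm.sum_cycleType z
    rw [hzt, Multiset.sum_replicate] at h1
    have h2 : z.support.card ≤ Fintype.card (X p I r) := Finset.card_le_univ _
    rw [STEP4TWO.card_X] at h2
    have h3 : (n + 1) • 2 = (n + 1) * 2 := by simp
    have hr2 : r < 2 := hp ▸ hr
    have hp2 : Fintype.card I * p = Fintype.card I * 2 := by rw [hp]
    omega
  rcases lt_or_eq_of_le hle with hlt | heq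
  · exact STEP4TWO.exists_type_two_lt hp hI _ T hT z hz n hzt hev hlt
  · exact STEP4TWO.exists_type_two_eq hp hI Q T hT z hz n hzt hev heq

end chapA

end Cfsg.Agent.S5165P
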