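import Mathlib
import Cfsg.Agent.Helper25.SylowIn

set_option autoImplicit false

/-!
S5220 piece FR: a Frattini-type step for a normal subgroup, elementwise.
-/

namespace Cfsg.Agent.Helper27.GenF

open Cfsg.Agent.Helper25

theorem frattini_normal {A : Type*} [Group A] [Finite A] (p : ℕ) [Fact p.Prime] {T K M : Subgroup A}
    (hTM : T ≤ M) (hKM : K ≤ M) (hT : IsPGroup p T)
    (hcard : Nat.card T = Cfsg.Agent.Helper25.pPart p (Nat.card M))
    (hnorm : ∀ α ∈ M, ∀ κ ∈ K, α * κ * α⁻¹ ∈ K) (α : A) (hα : α ∈ M) :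
    ∃ κ ∈ K, ∀ c ∈ K ⊓ T, (κ * α) * c * (κ * α)⁻¹ ∈ K ⊓ T := by
  -- `K ⊓ T` is Sylow in `K`
  obtain ⟨Q, -, hQK, hQp, hQcard⟩ :=
    exists_pSubgroup_card_eq_pPart p (U := (⊥ : Subgroup A)) (H := K) IsPGroup.of_bot bot_le
  have hTM' : Nat.card ↥(T ⊓ M) = pPart p (Nat.card M) := by
    rw [inf_of_le_left hTM]; exact hcard
  obtain ⟨R, hR⟩ := (isSylowIn_iff_card p T M).mpr hTM'
  have hQM : IsPGroup p (Q.subgroupOf M) :=
    hQp.comap_of_injective M.subtype M.subtype_injective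
  obtain ⟨m, hm⟩ := exists_conj_le_sylow p R hQM
  have hQ'le : Q.map (MulAut.conj (m : A)).toMonoidHom ≤ K ⊓ T := by
    rintro _ ⟨x, hx, rfl⟩
    have hxK : x ∈ K := hQK hx
    have hxM : x ∈ M := hKM hxK
    refine ⟨?_, ?_⟩
    · have := hnorm m m.2 x hxK
      simpa [MulAut.conj_apply] using this
    · have h4 : (MulAut.conj m).toMonoidHom ⟨x, hxM⟩ ∈ (R : Subgroup M) :=
        hm ⟨⟨x, hxM⟩, hx, rfl⟩
      rw [hR, Subgroup.mem_subgroupOf] at h4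
      simpa [MulAut.conj_apply] using h4
  have hge : pPart p (Nat.card K) ≤ Nat.card ↥(K ⊓ T) := by
    rw [← hQcard, ← card_map_conj Q (m : A)]
    exact Subgroup.card_le_of_le hQ'le
  have hT₀ : IsPGroup p ↥(K ⊓ T) := isPGroup_of_le hT inf_le_right
  have hle : Nat.card ↥(K ⊓ T) ≤ pPart p (Nat.card K) :=
    card_le_pPart_of_isPGroup p hT₀ inf_le_left
  have h3 : Nat.card ↥((K ⊓ T) ⊓ K) = pPart p (Nat.card K) := by
    rw [inf_of_le_left inf_le_left]; omega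
  obtain ⟨R', hR'⟩ := (isSylowIn_iff_card p (K ⊓ T) K).mpr h3
  -- the conjugate of `K ⊓ T` by `α`
  set T' : Subgroup A := (K ⊓ T).map (MulAut.conj α).toMonoidHom with hT'
  have hT'p : IsPGroup p T' := hT₀.map _
  have hU : IsPGroup p (T'.subgroupOf K) := hT'p.comap_of_injective K.subtype K.subtype_injective
  obtain ⟨g, hg⟩ := exists_conj_le_sylow p R' hU
  refine ⟨(g : A), g.2, fun c hc => ?_⟩
  have hcK : α * c * α⁻¹ ∈ K := hnorm α hα c hc.1
  have hcT' : α * c * α⁻¹ ∈ T' := ⟨c, hc, by simp [MulAut.conj_apply]⟩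
  have h4 : (MulAut.conj g).toMonoidHom ⟨α * c * α⁻¹, hcK⟩ ∈ (R' : Subgroup K) :=
    hg ⟨⟨α * c * α⁻¹, hcK⟩, hcT', rfl⟩
  rw [hR', Subgroup.mem_subgroupOf] at h4
  have h5 : (((MulAut.conj g).toMonoidHom ⟨α * c * α⁻¹, hcK⟩ : K) : A) =
      ((g : A) * α) * c * ((g : A) * α)⁻¹ := by
    simp [MulAut.conj_apply, mul_assoc]
  rwa [h5] at h4

end Cfsg.Agent.Helper27.GenF
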