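import Mathlib
import Cfsg.Prelude.Def_FusionSystem
import Cfsg.Prelude.Def_PLocal
import Cfsg.Agent.Helper25.FusionAlperin

set_option autoImplicit false

/-!
S5220 piece TJ3: normalizers grow in `p`-groups, relative version.
-/

namespace Cfsg.Agent.Helper27.GenF

open Cfsg Cfsg.FusionSystem
open scoped Pointwise

variable {Ω : Type*} [Group Ω]

theorem le_of_normalizer_inf_le {S P X : Subgroup Ω} [Finite S] (p : ℕ) [Fact p.Prime]
    (hS : IsPGroup p S) (hPS : P ≤ S) (hXS : X ≤ S) (hSX : S ≤ Subgroup.normalizer (X : Set Ω))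
    (h : X ⊓ Subgroup.normalizer (P : Set Ω) ≤ P) : X ≤ P := by
  by_contra hXP
  have hYS : P ⊔ X ≤ S := sup_le hPS hXS
  have : Finite ↥(P ⊔ X) := ((Set.toFinite (S : Set Ω)).subset hYS).to_subtype
  have hY : IsPGroup p ↥(P ⊔ X) := Cfsg.Agent.Helper25.isPGroup_of_le hS hYS
  have hne : P ≠ P ⊔ X := by
    intro he
    apply hXP
    rw [he]
    exact le_sup_right
  obtain ⟨g, hg, hgP⟩ :=
    Cfsg.Agent.Helper25.exists_mem_normalizerIn_not_mem p hY (le_sup_left : P ≤ P ⊔ X) hne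
  obtain ⟨hgY, hgN⟩ := Subgroup.mem_inf.mp hg
  have hcoe := Subgroup.coe_mul_of_left_le_normalizer_right P X (hPS.trans hSX)
  have hgmul : g ∈ (P : Set Ω) * (X : Set Ω) := by
    rw [← hcoe]; exact hgY
  obtain ⟨y, hy, x, hx, rfl⟩ := hgmul
  have hyN : y ∈ Subgroup.normalizer (P : Set Ω) := Subgroup.le_normalizer hy
  have hxN : x ∈ Subgroup.normalizer (P : Set Ω) := by
    have : x = y⁻¹ * (y * x) := by group
    rw [this]
    exact mul_mem (inv_mem hyN) hgN
  have hxP : x ∈ P := h (Subgroup.mem_inf.mpr ⟨hx, hxN⟩)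
  exact hgP (mul_mem hy hxP)

end Cfsg.Agent.Helper27.GenF
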