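import Cfsg.Agent.S0635
import Cfsg.Agent.Helper26.S4394Defs

set_option autoImplicit false

namespace Cfsg.Agent.S4394P

open Cfsg

/-- AB (S): abelian Sylow `p`-subgroups (from S0635). -/
theorem AB {G : Type*} [Group G] [Finite G] {p : ℕ} [Fact p.Prime] (hsol : Cfsg.IsPSolvable p G)
    (T : Sylow p G) (hab : ∀ a b : ↥(T : Subgroup G), a * b = b * a) : Cfsg.PLengthLE p 1 G := by
  refine Cfsg.Agent.S0635.aux 1 G hsol T ?_
  letI : CommGroup ↥(T : Subgroup G) := { (inferInstance : Group ↥(T : Subgroup G)) with mul_comm := hab }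
  exact CommGroup.nilpotencyClass_le_one

end Cfsg.Agent.S4394P
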