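import Cfsg.Agent.Helper1.PLenSeries
import Cfsg.Agent.Lead.PSolvHall
import Cfsg.Agent.Helper23.PSeries
import Cfsg.Agent.Helper26.S4394Defs
import Cfsg.Agent.Helper21.S4394GI

set_option autoImplicit false

namespace Cfsg.Agent.S4394P

open Cfsg

universe u

/-- A Sylow `p`-subgroup maps isomorphically onto its image modulo a normal `p'`-subgroup. -/
theorem RED1_aux_equiv {G : Type u} [Group G] [Finite G] {p : ℕ} [Fact p.Prime]
    (T : Sylow p G) (K : Subgroup G) [K.Normal] (hK : (Nat.card K).Coprime p) :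
    Nonempty (↥(T : Subgroup G) ≃* ↥((T : Subgroup G).map (QuotientGroup.mk' K))) := by
  have hdisj : (T : Subgroup G) ⊓ K = ⊥ := by
    refine disjoint_iff.mp (Subgroup.disjoint_of_coprime_natCard ?_)
    obtain ⟨n, hn⟩ := IsPGroup.iff_card.mp T.isPGroup'
    rw [hn]
    exact (Nat.Coprime.pow_left n hK.symm)
  let f : ↥(T : Subgroup G) →* G ⧸ K := (QuotientGroup.mk' K).comp (T : Subgroup G).subtype
  have hf : Function.Injective f := by
    rw [injective_iff_map_eq_one]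
    intro a ha
    have h1 : (a : G) ∈ K := by
      have : (QuotientGroup.mk' K) (a : G) = 1 := ha
      rwa [QuotientGroup.mk'_apply, QuotientGroup.eq_one_iff] at this
    have h2 : (a : G) ∈ (T : Subgroup G) ⊓ K := ⟨a.2, h1⟩
    rw [hdisj, Subgroup.mem_bot] at h2
    exact Subtype.ext h2
  have hr : f.range = (T : Subgroup G).map (QuotientGroup.mk' K) := by
    rw [MonoidHom.range_comp, Subgroup.range_subtype]
  exact ⟨(MonoidHom.ofInjective hf).trans (MulEquiv.subgroupCongr hr)⟩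

/-- RED1 with the isomorphism invariance of `Good` as a hypothesis. -/
theorem RED1_aux {G : Type u} [Group G] [Finite G] {p : ℕ} [Fact p.Prime]
    (hGI : ∀ (A B : Type u) [Group A] [Group B], (A ≃* B) → Good p A → Good p B)
    (hsol : Cfsg.IsPSolvable p G)
    (T : Sylow p G) (hgood : Good p ↥(T : Subgroup G)) (hO : Cfsg.pPrimeCore p G ≠ ⊥)
    (IH : ∀ (H : Type u) [Group H] [Finite H], Nat.card H < Nat.card G → Cfsg.IsPSolvable p H →
      ∀ S : Sylow p H, Good p ↥(S : Subgroup H) → Cfsg.PLengthLE p 1 H) :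
    Cfsg.PLengthLE p 1 G := by
  have hKc : (Nat.card (Cfsg.pPrimeCore p G)).Coprime p :=
    Cfsg.Agent.Helper23.pPrimeCore_card_coprime p G
  have hcard : Nat.card (G ⧸ Cfsg.pPrimeCore p G) < Nat.card G := by
    rw [Subgroup.card_eq_card_quotient_mul_card_subgroup (Cfsg.pPrimeCore p G)]
    have h1 : 1 < Nat.card (Cfsg.pPrimeCore p G) := (Subgroup.one_lt_card_iff_ne_bot _).mpr hO
    have h2 : 0 < Nat.card (G ⧸ Cfsg.pPrimeCore p G) := Nat.card_pos
    nlinarith
  have hsolq : Cfsg.IsPSolvable p (G ⧸ Cfsg.pPrimeCore p G) :=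
    Cfsg.Agent.Lead.isPSolvable_quotient hsol (Cfsg.pPrimeCore p G)
  let S : Sylow p (G ⧸ Cfsg.pPrimeCore p G) :=
    T.mapSurjective (QuotientGroup.mk'_surjective (Cfsg.pPrimeCore p G))
  have hS : (S : Subgroup (G ⧸ Cfsg.pPrimeCore p G)) =
      (T : Subgroup G).map (QuotientGroup.mk' (Cfsg.pPrimeCore p G)) := rfl
  obtain ⟨e⟩ := RED1_aux_equiv T (Cfsg.pPrimeCore p G) hKc
  have hgoodS : Good p ↥(S : Subgroup (G ⧸ Cfsg.pPrimeCore p G)) := by
    rw [hS]
    exact hGI _ _ e hgood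
  have hq : Cfsg.PLengthLE p 1 (G ⧸ Cfsg.pPrimeCore p G) :=
    IH (G ⧸ Cfsg.pPrimeCore p G) hcard hsolq S hgoodS
  have h0 : Cfsg.PLengthLE p 0 ↥(Cfsg.pPrimeCore p G) :=
    Cfsg.Agent.Helper1.PLen.pLengthLE_zero_of_coprime hKc
  have := Cfsg.Agent.Helper1.PLen.pLengthLE_of_extension (Cfsg.pPrimeCore p G) h0 hq
  simpa using this

/-- RED1 (M): reduction to `O_{p'}(G) = 1`. -/
theorem RED1 {G : Type u} [Group G] [Finite G] {p : ℕ} [Fact p.Prime] (hsol : Cfsg.IsPSolvable p G)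
    (T : Sylow p G) (hgood : Good p ↥(T : Subgroup G)) (hO : Cfsg.pPrimeCore p G ≠ ⊥)
    (IH : ∀ (H : Type u) [Group H] [Finite H], Nat.card H < Nat.card G → Cfsg.IsPSolvable p H →
      ∀ S : Sylow p H, Good p ↥(S : Subgroup H) → Cfsg.PLengthLE p 1 H) :
    Cfsg.PLengthLE p 1 G :=
  RED1_aux (fun _ _ _ _ e h => GI e h) hsol T hgood hO IH

end Cfsg.Agent.S4394P
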