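import Cfsg.Agent.Helper27.ParabMat

/-!
A group that is the split extension of an elementary abelian 2-group `U` of order `2 ^ (n + 1)` by a complement
acting faithfully and inducing all automorphisms embeds into `SL(n + 2, 2)` as the stabiliser of a vector, the elements
of `U` becoming transvections; the embedding is onto the centraliser of the transvection.
-/

set_option autoImplicit false

namespace Cfsg.Agent.Helper27

open scoped Pointwise

/-- a homomorphism on a group with a normal subgroup and a complement, from compatible homomorphisms on the two -/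
theorem exists_hom_of_complement {G H : Type*} [Group G] [Group H] (U M : Subgroup G) [U.Normal]
    (hUM : U ⊓ M = ⊥) (hUM' : U ⊔ M = ⊤) (fU : ↥U →* H) (fM : ↥M →* H)
    (hc : ∀ (m : ↥M) (u : ↥U), fU (MulAut.conjNormal (m : G) u) = fM m * fU u * (fM m)⁻¹) :
    ∃ Θ : G →* H, (∀ u : ↥U, Θ u = fU u) ∧ (∀ m : ↥M, Θ m = fM m) := by
  have hcomp : U.IsComplement' M := by
    apply Subgroup.isComplement'_of_disjoint_and_mul_eq_univ
    · rw [disjoint_iff]; exact hUM
    · rw [← Subgroup.normal_mul, hUM']; rfl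
  let E := SemidirectProduct.mulEquivSubgroup hcomp
  let L : (↥U ⋊[U.normalizerMonoidHom.comp (Subgroup.inclusion (U.normalizer_eq_top ▸ le_top))] ↥M) →* H :=
    SemidirectProduct.lift fU fM (by
      intro m
      ext u
      simp only [MonoidHom.comp_apply, MulEquiv.coe_toMonoidHom, MulAut.conj_apply]
      rw [← hc]
      congr 1)
  refine ⟨L.comp E.symm.toMonoidHom, ?_, ?_⟩
  · intro u
    have h1 : E (SemidirectProduct.inl u) = u := by simp [E]
    show L (E.symm u) = fU u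
    rw [← h1, MulEquiv.symm_apply_apply]
    exact SemidirectProduct.lift_inl _ _ _ u
  · intro m
    have h1 : E (SemidirectProduct.inr m) = m := by simp [E]
    show L (E.symm m) = fM m
    rw [← h1, MulEquiv.symm_apply_apply]
    exact SemidirectProduct.lift_inr _ _ _ m

section

variable {G : Type*} [Group G] {n : ℕ} {U : Subgroup G} [U.Normal]
  (φ : ↥U ≃* Multiplicative (Fin (n + 1) → ZMod 2))

/-- conjugation by the inverse of `g`, in coordinates -/
def cAdd (g : G) : (Fin (n + 1) → ZMod 2) →+ (Fin (n + 1) → ZMod 2) where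
  toFun w := Multiplicative.toAdd (φ (MulAut.conjNormal g⁻¹ (φ.symm (Multiplicative.ofAdd w))))
  map_zero' := by simp
  map_add' w w' := by simp [ofAdd_add, map_mul, toAdd_mul]

theorem cAdd_apply (g : G) (w : Fin (n + 1) → ZMod 2) :
    cAdd φ g w = Multiplicative.toAdd (φ (MulAut.conjNormal g⁻¹ (φ.symm (Multiplicative.ofAdd w)))) := rfl

theorem cAdd_mul (g g' : G) (w : Fin (n + 1) → ZMod 2) : cAdd φ (g * g') w = cAdd φ g' (cAdd φ g w) := by
  simp only [cAdd_apply, ofAdd_toAdd, MulEquiv.symm_apply_apply, mul_inv_rev, map_mul, MulAut.mul_apply]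

theorem cAdd_one (w : Fin (n + 1) → ZMod 2) : cAdd φ (1 : G) w = w := by
  simp [cAdd_apply]

/-- the matrix of conjugation by the inverse of `g`, acting on row vectors -/
def Rmat (g : G) : Matrix (Fin (n + 1)) (Fin (n + 1)) (ZMod 2) :=
  Matrix.transpose (LinearMap.toMatrix' ((cAdd φ g).toZModLinearMap 2))

theorem vecMul_Rmat (g : G) (w : Fin (n + 1) → ZMod 2) : Matrix.vecMul w (Rmat φ g) = cAdd φ g w := by
  rw [Rmat, Matrix.vecMul_transpose, LinearMap.toMatrix'_mulVec]
  rfl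

theorem Rmat_mul (g g' : G) : Rmat φ (g * g') = Rmat φ g * Rmat φ g' := by
  apply Matrix.ext_of_single_vecMul
  intro i
  rw [vecMul_Rmat, cAdd_mul, ← Matrix.vecMul_vecMul, vecMul_Rmat, vecMul_Rmat]

theorem Rmat_one : Rmat φ (1 : G) = 1 := by
  apply Matrix.ext_of_single_vecMul
  intro i
  rw [vecMul_Rmat, cAdd_one, Matrix.vecMul_one]

theorem det_Rmat (g : G) : (Rmat φ g).det = 1 := by
  have h : Rmat φ g * Rmat φ g⁻¹ = 1 := by rw [← Rmat_mul, mul_inv_cancel, Rmat_one]
  have h2 := congrArg Matrix.det h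
  rw [Matrix.det_mul, Matrix.det_one] at h2
  exact (zmod2_mul_eq_one_n h2).1

/-- the transvection of an element of the normal subgroup -/
def fUhom : ↥U →* SLt n where
  toFun u := ⟨pmat (Multiplicative.toAdd (φ u)) 1, by rw [det_pmat, Matrix.det_one]⟩
  map_one' := Subtype.ext (by
    show pmat (Multiplicative.toAdd (φ 1)) 1 = 1
    rw [map_one, toAdd_one, pmat_one])
  map_mul' u u' := Subtype.ext (by
    show pmat _ 1 = pmat _ 1 * pmat _ 1
    rw [pmat_mul, Matrix.vecMul_one, mul_one, map_mul, toAdd_mul, add_comm (Multiplicative.toAdd (φ u))])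

omit [U.Normal] in
theorem fUhom_coe (u : ↥U) : ((fUhom φ u : SLt n) : Matrix (Fin (n + 2)) (Fin (n + 2)) (ZMod 2)) =
    pmat (Multiplicative.toAdd (φ u)) 1 := rfl

/-- the block diagonal matrix of the action of an element -/
def fGhom : G →* SLt n where
  toFun g := ⟨pmat 0 (Rmat φ g), by rw [det_pmat, det_Rmat]⟩
  map_one' := Subtype.ext (by
    show pmat 0 (Rmat φ 1) = 1
    rw [Rmat_one, pmat_one])
  map_mul' g g' := Subtype.ext (by
    show pmat 0 (Rmat φ (g * g')) = pmat 0 (Rmat φ g) * pmat 0 (Rmat φ g')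
    rw [pmat_mul, Matrix.zero_vecMul, add_zero, Rmat_mul])

theorem fGhom_coe (g : G) : ((fGhom φ g : SLt n) : Matrix (Fin (n + 2)) (Fin (n + 2)) (ZMod 2)) =
    pmat 0 (Rmat φ g) := rfl

theorem fUhom_conj (g : G) (u : ↥U) : fUhom φ (MulAut.conjNormal g u) = fGhom φ g * fUhom φ u * (fGhom φ g)⁻¹ := by
  rw [eq_mul_inv_iff_mul_eq]
  apply Subtype.ext
  rw [Matrix.SpecialLinearGroup.coe_mul, Matrix.SpecialLinearGroup.coe_mul, fUhom_coe, fUhom_coe, fGhom_coe,
    pmat_mul, pmat_mul, vecMul_Rmat, Matrix.zero_vecMul, add_zero, zero_add, one_mul, mul_one, cAdd_apply,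
    ofAdd_toAdd, MulEquiv.symm_apply_apply, ← MulAut.mul_apply, ← map_mul, inv_mul_cancel, map_one, MulAut.one_apply]

end

/-- multiplication of row vectors by an invertible matrix, as an automorphism -/
noncomputable def vecMulEquiv {n : ℕ} (B : Matrix (Fin (n + 1)) (Fin (n + 1)) (ZMod 2)) (hB : B.det = 1) :
    Multiplicative (Fin (n + 1) → ZMod 2) ≃* Multiplicative (Fin (n + 1) → ZMod 2) where
  toFun w := Multiplicative.ofAdd (Matrix.vecMul (Multiplicative.toAdd w) B)
  invFun w := Multiplicative.ofAdd (Matrix.vecMul (Multiplicative.toAdd w) B⁻¹)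
  left_inv w := by
    have h : B * B⁻¹ = 1 := Matrix.mul_nonsing_inv B (by rw [hB]; exact isUnit_one)
    simp only [toAdd_ofAdd, Matrix.vecMul_vecMul, h, Matrix.vecMul_one, ofAdd_toAdd]
  right_inv w := by
    have h : B⁻¹ * B = 1 := Matrix.nonsing_inv_mul B (by rw [hB]; exact isUnit_one)
    simp only [toAdd_ofAdd, Matrix.vecMul_vecMul, h, Matrix.vecMul_one, ofAdd_toAdd]
  map_mul' w w' := by
    simp only [toAdd_mul, Matrix.add_vecMul, ofAdd_add]

theorem vecMulEquiv_apply {n : ℕ} (B : Matrix (Fin (n + 1)) (Fin (n + 1)) (ZMod 2)) (hB : B.det = 1)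
    (w : Multiplicative (Fin (n + 1) → ZMod 2)) :
    vecMulEquiv B hB w = Multiplicative.ofAdd (Matrix.vecMul (Multiplicative.toAdd w) B) := rfl

/-- the embedding into `SL(n + 2, 2)` -/
theorem exists_affine_embedding {G : Type*} [Group G] {n : ℕ} (U M : Subgroup G) [U.Normal] (hUM : U ⊓ M = ⊥)
    (hUM' : U ⊔ M = ⊤) (hfaith : ∀ m ∈ M, (∀ u ∈ U, m * u * m⁻¹ = u) → m = 1)
    (hfull : ∀ α : ↥U ≃* ↥U, ∃ m ∈ M, ∀ u : ↥U, ((α u : ↥U) : G) = m * u * m⁻¹)
    (φ : ↥U ≃* Multiplicative (Fin (n + 1) → ZMod 2)) (z : ↥U)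
    (hφz : φ z = Multiplicative.ofAdd (Pi.single 0 1)) :
    ∃ Θ : G →* SLt n, Function.Injective Θ ∧ Θ (z : G) = s0N n ∧ ∀ c ∈ BTn n, ∃ x : G, Θ x = c := by
  obtain ⟨Θ, hΘU, hΘM⟩ := exists_hom_of_complement U M hUM hUM' (fUhom φ) ((fGhom φ).comp M.subtype)
    (fun m u => fUhom_conj φ (m : G) u)
  have hΘM' : ∀ m ∈ M, Θ m = fGhom φ m := fun m hm => hΘM ⟨m, hm⟩
  refine ⟨Θ, ?_, ?_, ?_⟩
  · rw [injective_iff_map_eq_one]
    intro g hg
    have hgd : g ∈ ((U : Set G) * (M : Set G)) := by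
      rw [← Subgroup.normal_mul, hUM']
      trivial
    obtain ⟨u, hu, m, hm, rfl⟩ := Set.mem_mul.mp hgd
    have h1 : fUhom φ ⟨u, hu⟩ * fGhom φ m = 1 := by
      rw [← hΘU ⟨u, hu⟩, ← hΘM' m hm, ← map_mul]
      exact hg
    have h2 := congrArg (fun y : SLt n => (y : Matrix (Fin (n + 2)) (Fin (n + 2)) (ZMod 2))) h1
    simp only [Matrix.SpecialLinearGroup.coe_mul, fUhom_coe, fGhom_coe, Matrix.SpecialLinearGroup.coe_one] at h2
    rw [pmat_mul, zero_add, one_mul, ← pmat_one] at h2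
    obtain ⟨h3, h4⟩ := pmat_injective h2
    rw [h4, Matrix.vecMul_one] at h3
    have hu1 : (⟨u, hu⟩ : ↥U) = 1 := by
      apply φ.injective
      rw [map_one]
      exact h3
    have hm1 : m = 1 := by
      apply hfaith m hm
      intro v hv
      have h5 := vecMul_Rmat φ m (Multiplicative.toAdd (φ (MulAut.conjNormal m ⟨v, hv⟩)))
      rw [h4, Matrix.vecMul_one, cAdd_apply, ofAdd_toAdd, MulEquiv.symm_apply_apply, ← MulAut.mul_apply, ← map_mul,
        inv_mul_cancel, map_one, MulAut.one_apply] at h5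
      have h6 : MulAut.conjNormal m ⟨v, hv⟩ = (⟨v, hv⟩ : ↥U) := φ.injective h5
      have h7 := congrArg (fun x : ↥U => (x : G)) h6
      simpa [MulAut.conjNormal_apply] using h7
    have hu2 : u = 1 := congrArg Subtype.val hu1
    rw [hu2, hm1, mul_one]
  · rw [hΘU z]
    apply Subtype.ext
    rw [fUhom_coe, hφz, toAdd_ofAdd, pmat_single]
    rfl
  · intro c hc
    have htv := matBn_tv ⟨c, hc⟩
    have h00 := matBn_00 ⟨c, hc⟩
    have heq := eq_pmat_of_tvCentN htv h00
    have hdet : ((matBn ⟨c, hc⟩).submatrix Fin.succ Fin.succ).det = 1 := by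
      rw [← det_pmat (fun j => matBn ⟨c, hc⟩ 0 j.succ), ← heq]
      exact matBn_det ⟨c, hc⟩
    obtain ⟨m, hm, hmγ⟩ := hfull (((φ.trans (vecMulEquiv _ hdet)).trans φ.symm).symm)
    have key : ∀ u : ↥U, MulAut.conjNormal m⁻¹ u = ((φ.trans (vecMulEquiv _ hdet)).trans φ.symm) u := by
      intro u
      apply Subtype.ext
      rw [MulAut.conjNormal_apply, inv_inv]
      have h1 := hmγ (((φ.trans (vecMulEquiv _ hdet)).trans φ.symm) u)
      rw [MulEquiv.symm_apply_apply] at h1
      rw [h1]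
      group
    have hR : Rmat φ m = (matBn ⟨c, hc⟩).submatrix Fin.succ Fin.succ := by
      apply Matrix.ext_of_single_vecMul
      intro i
      rw [vecMul_Rmat, cAdd_apply, key]
      simp only [MulEquiv.trans_apply, MulEquiv.apply_symm_apply, vecMulEquiv_apply, toAdd_ofAdd]
    refine ⟨m * ((φ.symm (Multiplicative.ofAdd (fun j => matBn ⟨c, hc⟩ 0 j.succ)) : ↥U) : G), ?_⟩
    rw [map_mul, hΘM' m hm, hΘU]
    apply Subtype.ext
    rw [Matrix.SpecialLinearGroup.coe_mul, fGhom_coe, fUhom_coe, pmat_mul, hR, Matrix.zero_vecMul, add_zero,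
      mul_one, MulEquiv.apply_symm_apply, toAdd_ofAdd]
    exact heq.symm

end Cfsg.Agent.Helper27
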