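import Mathlib

set_option autoImplicit false
set_option linter.style.haveILetI false

/-!
Coordinates on a finite elementary abelian 2-group.
-/

namespace Cfsg.Agent.Helper27

/-- coordinates on an elementary abelian 2-group with a prescribed first basis vector -/
theorem exists_coord_elemAb {A : Type*} [CommGroup A] [Finite A] (h2 : ∀ a : A, a ^ 2 = 1) (n : ℕ)
    (hcard : Nat.card A = 2 ^ (n + 1)) (z : A) (hz : z ≠ 1) :
    ∃ φ : A ≃* Multiplicative (Fin (n + 1) → ZMod 2), φ z = Multiplicative.ofAdd (Pi.single 0 1) := by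
  classical
  haveI : Fact (Nat.Prime 2) := ⟨Nat.prime_two⟩
  have h2' : ∀ x : Additive A, 2 • x = 0 := fun x => h2 (Additive.toMul x)
  letI : Module (ZMod 2) (Additive A) := AddCommGroup.zmodModule h2'
  letI : Fintype (Additive A) := Fintype.ofFinite _
  have hfin : Module.finrank (ZMod 2) (Additive A) = n + 1 := by
    have h := Module.card_eq_pow_finrank (K := ZMod 2) (V := Additive A)
    rw [ZMod.card] at h
    have h3 : Fintype.card (Additive A) = 2 ^ (n + 1) := by
      rw [← Nat.card_eq_fintype_card]
      exact hcard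
    rw [h3] at h
    exact (Nat.pow_right_injective (le_refl 2) h).symm
  have hv : (Additive.ofMul z : Additive A) ≠ 0 := fun h => hz h
  have hs : LinearIndepOn (ZMod 2) id ({Additive.ofMul z} : Set (Additive A)) := by
    rw [linearIndepOn_singleton_iff]
    exact hv
  have hvS : Additive.ofMul z ∈ hs.extend (Set.subset_univ _) :=
    Module.Basis.subset_extend hs (Set.mem_singleton _)
  have hcS : Nat.card ↥(hs.extend (Set.subset_univ _)) = n + 1 := by
    rw [← hfin, Module.finrank_eq_nat_card_basis (Module.Basis.extend hs)]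
  haveI : Finite ↥(hs.extend (Set.subset_univ _)) := Nat.finite_of_card_ne_zero (by rw [hcS]; omega)
  let e0 : ↥(hs.extend (Set.subset_univ _)) ≃ Fin (n + 1) := Finite.equivFinOfCardEq hcS
  let e : ↥(hs.extend (Set.subset_univ _)) ≃ Fin (n + 1) := e0.trans (Equiv.swap (e0 ⟨_, hvS⟩) 0)
  have he : e ⟨_, hvS⟩ = 0 := by
    show Equiv.swap (e0 ⟨_, hvS⟩) 0 (e0 ⟨_, hvS⟩) = 0
    exact Equiv.swap_apply_left _ _
  let b := (Module.Basis.extend hs).reindex e
  have hb0 : b 0 = Additive.ofMul z := by
    rw [Module.Basis.reindex_apply, ← he, Equiv.symm_apply_apply, Module.Basis.extend_apply_self]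
  refine ⟨AddEquiv.toMultiplicativeRight b.equivFun.toAddEquiv, ?_⟩
  show Multiplicative.ofAdd (b.equivFun (Additive.ofMul z)) = _
  rw [← hb0]
  congr 1
  funext j
  rw [Module.Basis.equivFun_self, Pi.single_apply]
  simp only [eq_comm]

/-- coordinates on an elementary abelian 2-group with a prescribed first basis vector, for a group known to be
commutative -/
theorem exists_coord_elemAb' {A : Type*} [Group A] [Finite A] (hcomm : ∀ a b : A, a * b = b * a)
    (h2 : ∀ a : A, a ^ 2 = 1) (n : ℕ) (hcard : Nat.card A = 2 ^ (n + 1)) (z : A) (hz : z ≠ 1) :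
    ∃ φ : A ≃* Multiplicative (Fin (n + 1) → ZMod 2), φ z = Multiplicative.ofAdd (Pi.single 0 1) := by
  letI : CommGroup A := { ‹Group A› with mul_comm := hcomm }
  exact exists_coord_elemAb h2 n hcard z hz

end Cfsg.Agent.Helper27
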