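import Mathlib
import Cfsg.Prelude.Def_Solvable

/-!
Generic tools: an isomorphism compatible with two injective homomorphisms into a common group, the complement given
by a section of a homomorphism, and the `p`-core as the kernel of a surjection onto a group without normal
`p`-subgroups.
-/

set_option autoImplicit false

namespace Cfsg.Agent.Helper27

/-- an injective homomorphism whose range lies in the range of an injective homomorphism from a group of at most
the same order factors through an isomorphism -/
theorem exists_iso_of_injective_range_le {S A B : Type*} [Group S] [Group A] [Group B] [Finite S] [Finite B]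
    (Φ : S →* A) (Ψ : B →* A) (hΦ : Function.Injective Φ) (hΨ : Function.Injective Ψ) (hle : Φ.range ≤ Ψ.range)
    (hcard : Nat.card B ≤ Nat.card S) : ∃ ε : S ≃* B, ∀ x, Ψ (ε x) = Φ x := by
  have hfinr : Finite Ψ.range := Finite.of_equiv B (MonoidHom.ofInjective hΨ).toEquiv
  have hge : Nat.card Ψ.range ≤ Nat.card Φ.range := by
    rw [← Nat.card_congr (MonoidHom.ofInjective hΦ).toEquiv, ← Nat.card_congr (MonoidHom.ofInjective hΨ).toEquiv]
    exact hcard
  have heq : Φ.range = Ψ.range := Subgroup.eq_of_le_of_card_ge hle hge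
  refine ⟨(MonoidHom.ofInjective hΦ).trans ((MulEquiv.subgroupCongr heq).trans (MonoidHom.ofInjective hΨ).symm), ?_⟩
  intro x
  simp only [MulEquiv.trans_apply]
  rw [MonoidHom.apply_ofInjective_symm]
  rfl

/-- a section of a homomorphism gives a complement of its kernel -/
theorem split_complement {B L : Type*} [Group B] [Group L] (ν : B →* L) (j : L →* B) (h : ∀ x, ν (j x) = x) :
    ν.ker ⊓ j.range = ⊥ ∧ ν.ker ⊔ j.range = ⊤ ∧ Nonempty (↥j.range ≃* L) := by
  have hj : Function.Injective j := by
    intro a b hab
    rw [← h a, ← h b, hab]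
  refine ⟨?_, ?_, ⟨(MonoidHom.ofInjective hj).symm⟩⟩
  · rw [eq_bot_iff]
    rintro x ⟨hx1, ⟨l, rfl⟩⟩
    have hx2 : ν (j l) = 1 := hx1
    rw [h] at hx2
    rw [hx2, map_one]
    exact Subgroup.mem_bot.mpr rfl
  · rw [eq_top_iff]
    intro b _
    have : b = b * (j (ν b))⁻¹ * j (ν b) := by group
    rw [this]
    apply Subgroup.mul_mem_sup
    · rw [MonoidHom.mem_ker, map_mul, map_inv, h, mul_inv_cancel]
    · exact ⟨ν b, rfl⟩

/-- the `p`-core is the kernel of a surjection with kernel a `p`-group onto a group without nontrivial normal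
`p`-subgroups -/
theorem pCore_eq_ker {B L : Type*} [Group B] [Group L] (p : ℕ) (ν : B →* L) (hν : Function.Surjective ν)
    (hker : IsPGroup p ν.ker) (hL : ∀ N : Subgroup L, N.Normal → IsPGroup p N → N = ⊥) :
    Cfsg.pCore p B = ν.ker := by
  apply le_antisymm
  · apply sSup_le
    rintro N ⟨hN1, hN2⟩
    have h1 : (N.map ν).Normal := hN1.map ν hν
    have h2 : IsPGroup p (N.map ν) := hN2.map ν
    have h3 := hL _ h1 h2
    intro x hx
    rw [MonoidHom.mem_ker]
    have : ν x ∈ N.map ν := Subgroup.mem_map_of_mem ν hx
    rw [h3] at this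
    exact Subgroup.mem_bot.mp this
  · apply le_sSup
    exact ⟨MonoidHom.normal_ker ν, hker⟩

end Cfsg.Agent.Helper27
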