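import Cfsg.Agent.Helper27.SLnTv3
import Cfsg.Agent.Helper27.SplitTools
import Cfsg.Agent.Helper3.LargeES
import Cfsg.Agent.S5396
import Cfsg.Prelude.Def_MonsterType

/-!
The structure of a group element whose centraliser is isomorphic to the centraliser of a transvection in
`SL(n + 2, 2)`: the largest normal 2-subgroup of the centraliser is extraspecial of order `2 ^ (2 n + 1)`, it is a
large extraspecial subgroup under a mild extra hypothesis, and it is complemented in the centraliser by a copy of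
`SL(n, 2)`.
-/

set_option autoImplicit false
set_option linter.style.haveILetI false

namespace Cfsg.Agent.Helper27

open Cfsg Cfsg.Agent.Helper3

section

variable {n : ℕ} {G : Type*} [Group G] {z : G} (θ : ↥(Subgroup.centralizer ({z} : Set G)) ≃* ↥(BTn n))

/-- the element as a member of its centraliser -/
def zCentN (z : G) : ↥(Subgroup.centralizer ({z} : Set G)) := ⟨z, Subgroup.mem_centralizer_singleton_iff.mpr rfl⟩

theorem zCentN_central (x : ↥(Subgroup.centralizer ({z} : Set G))) : x * zCentN z = zCentN z * x :=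
  Subtype.ext (Subgroup.mem_centralizer_singleton_iff.mp x.2)

include θ in
/-- the image of the element is the transvection -/
theorem thetaN_z (hz1 : z ≠ 1) : θ (zCentN z) = uBn (hzN n) := by
  have hc : ∀ a : HPn n, θ (zCentN z) * uBn a = uBn a * θ (zCentN z) := by
    intro a
    have h1 := zCentN_central (θ.symm (uBn a))
    have h2 := congrArg θ h1
    rw [map_mul, map_mul, MulEquiv.apply_symm_apply] at h2
    exact h2.symm
  rcases cent_kerN _ hc with h | h
  · exfalso
    apply hz1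
    have : zCentN z = 1 := θ.injective (by rw [h, map_one])
    exact congrArg Subtype.val this
  · exact h

/-- the block homomorphism on the centraliser -/
def nuCN : ↥(Subgroup.centralizer ({z} : Set G)) →* SLb n := nuHomN.comp θ.toMonoidHom

theorem nuCN_apply (x : ↥(Subgroup.centralizer ({z} : Set G))) : nuCN θ x = nuHomN (θ x) := rfl

theorem nuCN_surjective : Function.Surjective (nuCN θ) := by
  intro N
  exact ⟨θ.symm (jHomN N), by rw [nuCN_apply, MulEquiv.apply_symm_apply, nuHomN_jHomN]⟩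

/-- the parametrisation of the kernel -/
def uKn (a : HPn n) : ↥(nuHomN (n := n)).ker := ⟨uBn a, uBn_mem_ker a⟩

theorem uKn_bijective : Function.Bijective (uKn (n := n)) := by
  constructor
  · intro a b h
    exact uBn_injective (congrArg Subtype.val h)
  · intro c
    obtain ⟨a, ha⟩ := exists_uBn c.2
    exact ⟨a, Subtype.ext ha.symm⟩

theorem card_kerN : Nat.card ↥(nuHomN (n := n)).ker = 2 ^ (2 * n + 1) := by
  rw [← Nat.card_congr (Equiv.ofBijective uKn uKn_bijective), card_HPn]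

theorem nuCN_ker_pgroup : IsPGroup 2 (nuCN θ).ker := by
  haveI : Fact (Nat.Prime 2) := ⟨Nat.prime_two⟩
  have h1 : IsPGroup 2 (nuHomN (n := n)).ker := IsPGroup.of_card card_kerN
  have h2 : (nuCN θ).ker = (nuHomN (n := n)).ker.comap θ.toMonoidHom :=
    (MonoidHom.comap_ker nuHomN θ.toMonoidHom).symm
  rw [h2]
  exact h1.comap_of_injective θ.toMonoidHom θ.injective

/-- the largest normal 2-subgroup of the centraliser is the kernel of the block homomorphism -/
theorem pCore_centN : Cfsg.pCore 2 ↥(Subgroup.centralizer ({z} : Set G)) = (nuCN θ).ker :=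
  pCore_eq_ker 2 (nuCN θ) (nuCN_surjective θ) (nuCN_ker_pgroup θ) sln_no_normal_two

/-- the largest normal 2-subgroup of the centraliser, as a subgroup of the group -/
def QCn (z : G) : Subgroup G :=
  (Cfsg.pCore 2 ↥(Subgroup.centralizer ({z} : Set G))).map (Subgroup.centralizer ({z} : Set G)).subtype

theorem mem_QCn_iff (g : G) :
    g ∈ QCn z ↔ ∃ a : HPn n, g = ((θ.symm (uBn a) : ↥(Subgroup.centralizer ({z} : Set G))) : G) := by
  rw [QCn, pCore_centN θ]
  constructor
  · rintro ⟨x, hx, rfl⟩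
    have hx' : nuCN θ x = 1 := hx
    rw [nuCN_apply] at hx'
    obtain ⟨a, ha⟩ := exists_uBn (MonoidHom.mem_ker.mpr hx')
    refine ⟨a, ?_⟩
    rw [← ha, MulEquiv.symm_apply_apply]
    rfl
  · rintro ⟨a, rfl⟩
    refine ⟨θ.symm (uBn a), ?_, rfl⟩
    show nuCN θ (θ.symm (uBn a)) = 1
    rw [nuCN_apply, MulEquiv.apply_symm_apply]
    exact uBn_mem_ker a

/-- the parametrisation of the largest normal 2-subgroup -/
def uQn (a : HPn n) : ↥(QCn z) := ⟨_, (mem_QCn_iff θ _).mpr ⟨a, rfl⟩⟩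

theorem uQn_coe (a : HPn n) :
    ((uQn θ a : ↥(QCn z)) : G) = ((θ.symm (uBn a) : ↥(Subgroup.centralizer ({z} : Set G))) : G) :=
  rfl

theorem uQn_bijective : Function.Bijective (uQn θ) := by
  constructor
  · intro a b h
    have h1 : ((θ.symm (uBn a) : ↥(Subgroup.centralizer ({z} : Set G))) : G) = θ.symm (uBn b) :=
      congrArg (fun q : ↥(QCn z) => (q : G)) h
    exact uBn_injective (θ.symm.injective (Subtype.ext h1))
  · intro q
    obtain ⟨a, ha⟩ := (mem_QCn_iff θ _).mp q.2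
    exact ⟨a, Subtype.ext ha.symm⟩

theorem uQn_mul (a b : HPn n) : uQn θ a * uQn θ b = uQn θ (hmulN a b) := by
  apply Subtype.ext
  show ((θ.symm (uBn a) : ↥(Subgroup.centralizer ({z} : Set G))) : G) * θ.symm (uBn b) = θ.symm (uBn (hmulN a b))
  rw [← uBn_mul, map_mul]
  rfl

/-- the largest normal 2-subgroup is extraspecial -/
theorem es2_QCn (hn : 1 ≤ n) : ES2 ↥(QCn z) (uQn θ (hzN n)) :=
  es2_of_paramN hn (uQn θ) (uQn_bijective θ) (uQn_mul θ)

theorem uQn_hz (hz1 : z ≠ 1) : ((uQn θ (hzN n) : ↥(QCn z)) : G) = z := by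
  rw [uQn_coe, ← thetaN_z θ hz1, MulEquiv.symm_apply_apply]
  rfl

include θ in
theorem card_QCn : Nat.card ↥(QCn z) = 2 ^ (2 * n + 1) := by
  rw [← Nat.card_congr (Equiv.ofBijective (uQn θ) (uQn_bijective θ)), card_HPn]

include θ in
theorem z_mem_QCn (hz1 : z ≠ 1) : z ∈ QCn z := by
  have := (uQn θ (hzN n)).2
  rwa [uQn_hz θ hz1] at this

include θ in
/-- elements centralising the largest normal 2-subgroup -/
theorem cent_QCn (hz1 : z ≠ 1) (x : G) (hx : ∀ q ∈ QCn z, x * q = q * x) : x = 1 ∨ x = z := by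
  have hxC : x ∈ Subgroup.centralizer ({z} : Set G) :=
    Subgroup.mem_centralizer_singleton_iff.mpr (hx z (z_mem_QCn θ hz1))
  have hc : ∀ a : HPn n, θ ⟨x, hxC⟩ * uBn a = uBn a * θ ⟨x, hxC⟩ := by
    intro a
    have h1 : (⟨x, hxC⟩ : ↥(Subgroup.centralizer ({z} : Set G))) * θ.symm (uBn a) = θ.symm (uBn a) * ⟨x, hxC⟩ :=
      Subtype.ext (hx _ (uQn θ a).2)
    have h2 := congrArg θ h1
    rwa [map_mul, map_mul, MulEquiv.apply_symm_apply] at h2
  rcases cent_kerN _ hc with h | h
  · left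
    have : (⟨x, hxC⟩ : ↥(Subgroup.centralizer ({z} : Set G))) = 1 := θ.injective (by rw [h, map_one])
    exact congrArg Subtype.val this
  · right
    rw [← thetaN_z θ hz1] at h
    exact congrArg Subtype.val (θ.injective h)

include θ in
/-- the centraliser of the element normalises the largest normal 2-subgroup -/
theorem conj_mem_QCn (x : G) (hx : x * z = z * x) (q : G) (hq : q ∈ QCn z) : x * q * x⁻¹ ∈ QCn z := by
  have hxC : x ∈ Subgroup.centralizer ({z} : Set G) := Subgroup.mem_centralizer_singleton_iff.mpr hx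
  rw [QCn, pCore_centN θ] at hq ⊢
  obtain ⟨y, hy, rfl⟩ := hq
  refine ⟨⟨x, hxC⟩ * y * ⟨x, hxC⟩⁻¹, ?_, rfl⟩
  exact (MonoidHom.normal_ker (nuCN θ)).conj_mem y hy ⟨x, hxC⟩

include θ in
theorem isExtraspecial_QCn [Finite G] (hn : 1 ≤ n) : Cfsg.IsExtraspecial 2 ↥(QCn z) :=
  Cfsg.Agent.S5396.isExtraspecial_of_es2 (es2_QCn θ hn)

include θ in
theorem mem_center_QCn_iff (hn : 1 ≤ n) (hz1 : z ≠ 1) (g : G) :
    g ∈ (Subgroup.center ↥(QCn z)).map (QCn z).subtype ↔ g = 1 ∨ g = z := by
  have hes := es2_QCn θ hn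
  have hzq := uQn_hz θ hz1
  constructor
  · rintro ⟨q, hq, rfl⟩
    rcases hes.center_sub q (fun r => (Subgroup.mem_center_iff.mp hq r).symm) with h | h
    · left; rw [h]; rfl
    · right; rw [h]; exact hzq
  · rintro (rfl | rfl)
    · exact one_mem _
    · refine ⟨uQn θ (hzN n), Subgroup.mem_center_iff.mpr (fun r => hes.central r), hzq⟩

include θ in
theorem centralizer_QCn (hn : 1 ≤ n) (hz1 : z ≠ 1) :
    Subgroup.centralizer (QCn z : Set G) = (Subgroup.center ↥(QCn z)).map (QCn z).subtype := by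
  ext g
  rw [mem_center_QCn_iff θ hn hz1, Subgroup.mem_centralizer_iff]
  constructor
  · intro h
    exact cent_QCn θ hz1 g (fun q hq => (h q hq).symm)
  · rintro (h | h) q hq
    · rw [h, mul_one, one_mul]
    · rw [h]
      have := (es2_QCn θ hn).central ⟨q, hq⟩
      have h2 := congrArg (fun x : ↥(QCn z) => (x : G)) this
      simp only [Subgroup.coe_mul] at h2
      rw [uQn_hz θ hz1] at h2
      exact h2

include θ in
theorem centralizer_center_leN (hn : 1 ≤ n) (hz1 : z ≠ 1) :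
    Subgroup.centralizer (((Subgroup.center ↥(QCn z)).map (QCn z).subtype : Subgroup G) : Set G) ≤
      Subgroup.normalizer (QCn z : Set G) := by
  intro g hg
  have hgz : g * z = z * g := by
    have := Subgroup.mem_centralizer_iff.mp hg z ((mem_center_QCn_iff θ hn hz1 z).mpr (Or.inr rfl))
    exact this.symm
  have hgz' : g⁻¹ * z = z * g⁻¹ := by
    have : g⁻¹ * z = g⁻¹ * (z * g) * g⁻¹ := by group
    rw [this, ← hgz]
    group
  rw [Subgroup.mem_normalizer_iff]
  intro q
  constructor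
  · exact conj_mem_QCn θ g hgz q
  · intro h
    have := conj_mem_QCn θ g⁻¹ hgz' _ h
    have e : g⁻¹ * (g * q * g⁻¹) * g⁻¹⁻¹ = q := by group
    rwa [e] at this

include θ in
/-- the largest normal 2-subgroup normalises no nontrivial subgroup of odd order -/
theorem odd_normalized_QCn [Finite G] (hn : 1 ≤ n) (hz1 : z ≠ 1) (b : G) (T : Subgroup G) (hbb : b * b = 1)
    (hb1 : b ≠ 1) (hbz : b ≠ z) (hbQ : b ∈ QCn z) (hzT : z ∈ T) (hT2 : IsPGroup 2 T)
    (hTb : ∀ x : G, x * b = b * x → ∀ t ∈ T, x * t * x⁻¹ ∈ T)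
    (K : Subgroup G) (hK : Odd (Nat.card K)) (hQK : QCn z ≤ Subgroup.normalizer (K : Set G)) : K = ⊥ := by
  have hzq := uQn_hz θ hz1
  refine Cfsg.Agent.Helper3.LargeES.odd_normalized_eq_bot (es2_QCn θ hn) ?_ ?_ hbQ hb1 ?_ hbb T hT2 ?_ hTb K hK hQK
  · intro x hx
    rw [hzq]
    exact cent_QCn θ hz1 x hx
  · intro x hx q hq
    rw [hzq] at hx
    exact conj_mem_QCn θ x hx q hq
  · rw [hzq]; exact hbz
  · rw [hzq]; exact hzT

include θ in
/-- an elementary abelian subgroup of order `2 ^ (n + 1)` of the largest normal 2-subgroup -/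
theorem exists_elemAb_QCn :
    ∃ E : Subgroup G, E ≤ QCn z ∧ Cfsg.IsElementaryAbelian 2 E ∧ Nat.card ↥E = 2 ^ (n + 1) := by
  refine ⟨((EBn n).comap θ.toMonoidHom).map (Subgroup.centralizer ({z} : Set G)).subtype, ?_, ⟨?_, ?_⟩, ?_⟩
  · rw [QCn, pCore_centN θ]
    apply Subgroup.map_mono
    intro x hx
    have hx' : θ x ∈ EBn n := hx
    exact EBn_le_ker hx'
  · refine ⟨⟨fun a b => ?_⟩⟩
    obtain ⟨x, hx, hxa⟩ := a.2
    obtain ⟨y, hy, hyb⟩ := b.2
    apply Subtype.ext
    show (a : G) * b = b * a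
    rw [← hxa, ← hyb]
    have hx' : θ x ∈ EBn n := hx
    have hy' : θ y ∈ EBn n := hy
    have h1 : x * y = y * x := θ.injective (by rw [map_mul, map_mul, EBn_comm hx' hy'])
    exact congrArg Subtype.val h1
  · rintro _ ⟨x, hx, rfl⟩
    have hx' : θ x ∈ EBn n := hx
    have h1 : x * x = 1 := θ.injective (by rw [map_mul, map_one, EBn_sq hx'])
    rw [pow_two]
    exact congrArg Subtype.val h1
  · rw [Subgroup.card_map_of_injective (Subgroup.subtype_injective _), ← card_EBn]
    exact Nat.card_congr (Equiv.subtypeEquiv θ.toEquiv (fun _ => Iff.rfl))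

/-- the section of the block homomorphism on the centraliser -/
def jCN : SLb n →* ↥(Subgroup.centralizer ({z} : Set G)) := θ.symm.toMonoidHom.comp jHomN

theorem nuCN_jCN (N : SLb n) : nuCN θ (jCN θ N) = N := by
  show nuHomN (θ (θ.symm (jHomN N))) = N
  rw [MulEquiv.apply_symm_apply, nuHomN_jHomN]

include θ in
/-- a complement isomorphic to `SL(n, 2)` -/
theorem exists_complement_QCn : ∃ K : Subgroup G, K ≤ Subgroup.centralizer ({z} : Set G) ∧ QCn z ⊓ K = ⊥ ∧
    QCn z ⊔ K = Subgroup.centralizer ({z} : Set G) ∧ Nonempty (↥K ≃* SLb n) := by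
  obtain ⟨h1, h2, ⟨e⟩⟩ := split_complement (nuCN θ) (jCN θ) (nuCN_jCN θ)
  have hinj := Subgroup.subtype_injective (Subgroup.centralizer ({z} : Set G))
  refine ⟨(jCN θ).range.map (Subgroup.centralizer ({z} : Set G)).subtype, Subgroup.map_subtype_le _, ?_, ?_, ?_⟩
  · rw [QCn, pCore_centN θ, ← Subgroup.map_inf _ _ _ hinj, h1, Subgroup.map_bot]
  · rw [QCn, pCore_centN θ, ← Subgroup.map_sup, h2, ← MonoidHom.range_eq_map, Subgroup.range_subtype]
  · exact ⟨(((jCN θ).range.equivMapOfInjective _ hinj).symm).trans e⟩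

include θ in
/-- the structure of the centraliser -/
theorem tv_structN [Finite G] (hn : 1 ≤ n) (hz1 : z ≠ 1) (b : G) (T : Subgroup G) (hbb : b * b = 1) (hb1 : b ≠ 1)
    (hbz : b ≠ z) (hbQ : b ∈ QCn z) (hzT : z ∈ T) (hT2 : IsPGroup 2 T)
    (hTb : ∀ x : G, x * b = b * x → ∀ t ∈ T, x * t * x⁻¹ ∈ T)
    (Q : Subgroup G) (hQ : Q = (Cfsg.pCore 2 ↥(Subgroup.centralizer ({z} : Set G))).map
      (Subgroup.centralizer ({z} : Set G)).subtype) :
    Cfsg.IsExtraspecial 2 ↥Q ∧ Nat.card ↥Q = 2 ^ (2 * n + 1) ∧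
      (∃ E : Subgroup G, E ≤ Q ∧ Cfsg.IsElementaryAbelian 2 E ∧ Nat.card ↥E = 2 ^ (n + 1)) ∧
      Cfsg.IsLargeExtraspecial Q ∧
      ∃ K : Subgroup G, K ≤ Subgroup.centralizer ({z} : Set G) ∧ Q ⊓ K = ⊥ ∧
        Q ⊔ K = Subgroup.centralizer ({z} : Set G) ∧ Nonempty (↥K ≃* SLb n) := by
  have hQ' : Q = QCn z := hQ
  subst hQ'
  exact ⟨isExtraspecial_QCn θ hn, card_QCn θ, exists_elemAb_QCn θ,
    ⟨isExtraspecial_QCn θ hn, centralizer_QCn θ hn hz1, centralizer_center_leN θ hn hz1,
      fun K hK hQK => odd_normalized_QCn θ hn hz1 b T hbb hb1 hbz hbQ hzT hT2 hTb K hK hQK⟩,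
    exists_complement_QCn θ⟩

end

end Cfsg.Agent.Helper27
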