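import Cfsg.Agent.Helper27.AffEmbed
import Cfsg.Agent.Helper27.ElemAbCoord
import Cfsg.Agent.Helper27.TvStructN

/-!
The split extension of an elementary abelian 2-group of order `2 ^ (n + 1)` by its full automorphism group: the largest
normal 2-subgroup of the centraliser of an involution of the normal subgroup is a large extraspecial subgroup.
-/

set_option autoImplicit false
set_option linter.style.haveILetI false

namespace Cfsg.Agent.Helper27

open Cfsg

/-- the centraliser isomorphism induced by an injective homomorphism that is onto the centraliser of the image -/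
theorem exists_centralizer_equiv {G H : Type*} [Group G] [Group H] (Θ : G →* H) (hinj : Function.Injective Θ)
    (z : G) (s : H) (hz : Θ z = s) (hsurj : ∀ c ∈ Subgroup.centralizer ({s} : Set H), ∃ x : G, Θ x = c) :
    ∃ θ : ↥(Subgroup.centralizer ({z} : Set G)) ≃* ↥(Subgroup.centralizer ({s} : Set H)),
      ∀ x, ((θ x : ↥(Subgroup.centralizer ({s} : Set H))) : H) = Θ (x : G) := by
  have hmem : ∀ x : ↥(Subgroup.centralizer ({z} : Set G)), Θ (x : G) ∈ Subgroup.centralizer ({s} : Set H) := by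
    intro x
    rw [Subgroup.mem_centralizer_singleton_iff, ← hz, ← map_mul, ← map_mul,
      Subgroup.mem_centralizer_singleton_iff.mp x.2]
  let f : ↥(Subgroup.centralizer ({z} : Set G)) →* ↥(Subgroup.centralizer ({s} : Set H)) :=
    { toFun := fun x => ⟨Θ (x : G), hmem x⟩
      map_one' := Subtype.ext (map_one Θ)
      map_mul' := fun x y => Subtype.ext (map_mul Θ (x : G) (y : G)) }
  have hbij : Function.Bijective f := by
    constructor
    · intro x y hxy
      exact Subtype.ext (hinj (congrArg Subtype.val hxy))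
    · intro c
      obtain ⟨x, hx⟩ := hsurj c c.2
      have hxz : x ∈ Subgroup.centralizer ({z} : Set G) := by
        rw [Subgroup.mem_centralizer_singleton_iff]
        apply hinj
        rw [map_mul, map_mul, hz, hx]
        exact Subgroup.mem_centralizer_singleton_iff.mp c.2
      exact ⟨⟨x, hxz⟩, Subtype.ext hx⟩
  exact ⟨MulEquiv.ofBijective f hbij, fun x => rfl⟩

/-- a 2-subgroup of the centraliser normalised by it lies in the largest normal 2-subgroup -/
theorem le_QCn_of_normal {G : Type*} [Group G] {z : G} (T : Subgroup G) (hT2 : IsPGroup 2 T)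
    (hTC : T ≤ Subgroup.centralizer ({z} : Set G))
    (hTn : ∀ x : G, x * z = z * x → ∀ t ∈ T, x * t * x⁻¹ ∈ T) : T ≤ QCn z := by
  intro t ht
  have hmem : T.subgroupOf (Subgroup.centralizer ({z} : Set G)) ≤
      Cfsg.pCore 2 ↥(Subgroup.centralizer ({z} : Set G)) := by
    apply le_sSup
    refine ⟨⟨?_⟩, ?_⟩
    · intro n hn g
      rw [Subgroup.mem_subgroupOf] at hn ⊢
      exact hTn g (Subgroup.mem_centralizer_singleton_iff.mp g.2) n hn
    · exact hT2.comap_of_injective _ (Subgroup.subtype_injective _)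
  exact ⟨⟨t, hTC ht⟩, hmem (Subgroup.mem_subgroupOf.mpr ht), rfl⟩

/-- over the field with two elements the special and the general linear group agree -/
theorem nonempty_sl_equiv_gl (n : ℕ) : Nonempty (SLb n ≃* Matrix.GeneralLinearGroup (Fin n) (ZMod 2)) := by
  refine ⟨MulEquiv.ofBijective (Matrix.SpecialLinearGroup.toGL) ⟨Matrix.SpecialLinearGroup.toGL_injective, ?_⟩⟩
  intro g
  have hdet : (g : Matrix (Fin n) (Fin n) (ZMod 2)).det = 1 := by
    have h1 : Matrix.GeneralLinearGroup.det g = 1 := Subsingleton.elim _ _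
    have h2 := congrArg (fun u : (ZMod 2)ˣ => (u : ZMod 2)) h1
    simpa using h2
  refine ⟨⟨g, hdet⟩, ?_⟩
  apply Units.ext
  rfl

/-- the structure of the centraliser of an involution of the normal subgroup -/
theorem affine_large_z {G : Type*} [Group G] [Finite G] (n : ℕ) (hn : 1 ≤ n) (U M : Subgroup G) [U.Normal]
    (hU : Cfsg.IsElementaryAbelian 2 U) (hUcard : Nat.card ↥U = 2 ^ (n + 1)) (hUM : U ⊓ M = ⊥)
    (hUM' : U ⊔ M = ⊤) (hfaith : ∀ m ∈ M, (∀ u ∈ U, m * u * m⁻¹ = u) → m = 1)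
    (hfull : ∀ φ : ↥U ≃* ↥U, ∃ m ∈ M, ∀ u : ↥U, ((φ u : ↥U) : G) = m * u * m⁻¹)
    (z : G) (hzU : z ∈ U) (hz1 : z ≠ 1) (Q : Subgroup G)
    (hQ : Q = (Cfsg.pCore 2 ↥(Subgroup.centralizer ({z} : Set G))).map
      (Subgroup.centralizer ({z} : Set G)).subtype) :
    Cfsg.IsExtraspecial 2 ↥Q ∧ Nat.card ↥Q = 2 ^ (2 * n + 1) ∧
      (∃ E : Subgroup G, E ≤ Q ∧ Cfsg.IsElementaryAbelian 2 E ∧ Nat.card ↥E = 2 ^ (n + 1)) ∧
      Cfsg.IsLargeExtraspecial Q ∧
      ∃ K : Subgroup G, K ≤ Subgroup.centralizer ({z} : Set G) ∧ Q ⊓ K = ⊥ ∧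
        Q ⊔ K = Subgroup.centralizer ({z} : Set G) ∧
        Nonempty (↥K ≃* Matrix.GeneralLinearGroup (Fin n) (ZMod 2)) := by
  classical
  have hcomm : ∀ a b : ↥U, a * b = b * a := fun a b => hU.1.is_comm.comm a b
  have hcommG : ∀ a ∈ U, ∀ b ∈ U, a * b = b * a := fun a ha b hb =>
    congrArg Subtype.val (hcomm ⟨a, ha⟩ ⟨b, hb⟩)
  obtain ⟨φ, hφ⟩ := exists_coord_elemAb' (A := ↥U) hcomm (fun a => Subtype.ext (hU.2 a a.2)) n hUcard ⟨z, hzU⟩
    (fun h => hz1 (congrArg Subtype.val h))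
  obtain ⟨Θ, hinj, hΘz, hsurj⟩ := exists_affine_embedding U M hUM hUM' hfaith hfull φ ⟨z, hzU⟩ hφ
  obtain ⟨θ, -⟩ := exists_centralizer_equiv Θ hinj z (s0N n) hΘz hsurj
  -- a further involution
  obtain ⟨b, hbU, hb1, hbz⟩ : ∃ b ∈ U, b ≠ 1 ∧ b ≠ z := by
    by_contra hcon
    push Not at hcon
    have hinjB : Function.Injective (fun x : ↥U => decide ((x : G) = 1)) := by
      intro x y hxy
      have hxy : decide ((x : G) = 1) = decide ((y : G) = 1) := hxy
      apply Subtype.ext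
      by_cases hx : (x : G) = 1
      · have hy : (y : G) = 1 := by
          have : decide ((y : G) = 1) = true := by rw [← hxy]; exact decide_eq_true hx
          exact of_decide_eq_true this
        rw [hx, hy]
      · have hy : (y : G) ≠ 1 := by
          intro hy
          have : decide ((x : G) = 1) = true := by
            have h3 : decide ((y : G) = 1) = true := decide_eq_true hy
            rw [← h3]
            exact hxy
          exact hx (of_decide_eq_true this)
        rw [hcon x x.2 hx, hcon y y.2 hy]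
    have hle := Nat.card_le_card_of_injective _ hinjB
    rw [hUcard, Nat.card_eq_fintype_card, Fintype.card_bool] at hle
    have h4 : 2 ^ 2 ≤ 2 ^ (n + 1) := Nat.pow_le_pow_right (by norm_num) (by omega)
    omega
  have hbb : b * b = 1 := by
    have := hU.2 b hbU
    rwa [pow_two] at this
  have hT2 : IsPGroup 2 ↥U := by
    haveI : Fact (Nat.Prime 2) := ⟨Nat.prime_two⟩
    exact IsPGroup.of_card hUcard
  have hTC : U ≤ Subgroup.centralizer ({z} : Set G) := by
    intro u hu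
    rw [Subgroup.mem_centralizer_singleton_iff]
    exact hcommG u hu z hzU
  have hTn : ∀ x : G, ∀ t ∈ U, x * t * x⁻¹ ∈ U := fun x t ht => ‹U.Normal›.conj_mem t ht x
  have hbQ : b ∈ QCn z := le_QCn_of_normal U hT2 hTC (fun x _ => hTn x) hbU
  obtain ⟨h1, h2, h3, h4, K, hK1, hK2, hK3, ⟨e⟩⟩ :=
    tv_structN θ hn hz1 b U hbb hb1 hbz hbQ hzU hT2 (fun x _ => hTn x) Q hQ
  obtain ⟨e'⟩ := nonempty_sl_equiv_gl n
  exact ⟨h1, h2, h3, h4, K, hK1, hK2, hK3, ⟨e.trans e'⟩⟩

/-- the statement for a subgroup of order two of the normal subgroup -/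
theorem affine_large {G : Type*} [Group G] [Finite G] (n : ℕ) (hn : 1 ≤ n) (U M : Subgroup G) [U.Normal]
    (hU : Cfsg.IsElementaryAbelian 2 U) (hUcard : Nat.card ↥U = 2 ^ (n + 1)) (hUM : U ⊓ M = ⊥)
    (hUM' : U ⊔ M = ⊤) (hfaith : ∀ m ∈ M, (∀ u ∈ U, m * u * m⁻¹ = u) → m = 1)
    (hfull : ∀ φ : ↥U ≃* ↥U, ∃ m ∈ M, ∀ u : ↥U, ((φ u : ↥U) : G) = m * u * m⁻¹)
    (Z : Subgroup G) (hZU : Z ≤ U) (hZ : Nat.card ↥Z = 2) (Q : Subgroup G)
    (hQ : Q = (Cfsg.pCore 2 ↥(Subgroup.centralizer (Z : Set G))).map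
      (Subgroup.centralizer (Z : Set G)).subtype) :
    Cfsg.IsExtraspecial 2 ↥Q ∧ Nat.card ↥Q = 2 ^ (2 * n + 1) ∧
      (∃ E : Subgroup G, E ≤ Q ∧ Cfsg.IsElementaryAbelian 2 E ∧ Nat.card ↥E = 2 ^ (n + 1)) ∧
      Cfsg.IsLargeExtraspecial Q ∧
      ∃ K : Subgroup G, K ≤ Subgroup.centralizer (Z : Set G) ∧ Q ⊓ K = ⊥ ∧
        Q ⊔ K = Subgroup.centralizer (Z : Set G) ∧
        Nonempty (↥K ≃* Matrix.GeneralLinearGroup (Fin n) (ZMod 2)) := by
  obtain ⟨z, hzZ, hz1⟩ : ∃ z ∈ Z, z ≠ 1 := by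
    haveI : Nontrivial ↥Z := by
      rw [← Finite.one_lt_card_iff_nontrivial, hZ]
      norm_num
    obtain ⟨x, hx⟩ := exists_ne (1 : ↥Z)
    exact ⟨x, x.2, fun h => hx (Subtype.ext h)⟩
  have hzU : z ∈ U := hZU hzZ
  have hord : orderOf z = 2 := by
    haveI : Fact (Nat.Prime 2) := ⟨Nat.prime_two⟩
    exact orderOf_eq_prime (hU.2 z hzU) hz1
  have hZz : Subgroup.zpowers z = Z := by
    apply Subgroup.eq_of_le_of_card_ge (Subgroup.zpowers_le.mpr hzZ)
    rw [hZ, Nat.card_zpowers, hord]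
  have hcz : Subgroup.centralizer (Z : Set G) = Subgroup.centralizer ({z} : Set G) := by
    rw [← hZz, Subgroup.zpowers_eq_closure, Subgroup.centralizer_closure]
  rw [hcz] at hQ ⊢
  exact affine_large_z n hn U M hU hUcard hUM hUM' hfaith hfull z hzU hz1 Q hQ

end Cfsg.Agent.Helper27
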