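import Cfsg.Agent.Helper27.SL5Cent

/-!
The affine group of the four-dimensional space over the field with two elements inside the general linear group of
the five-dimensional space: a group acting by affine permutations on the former acts linearly on the latter, fixing
the second coordinate.
-/

set_option autoImplicit false

namespace Cfsg.Agent.Helper27

/-- the four-dimensional space over the field with two elements -/
abbrev V4 : Type := Fin 4 → ZMod 2

/-- forgetting the second coordinate -/
def dn (v : V5) : V4 := ![v 0, v 2, v 3, v 4]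

/-- inserting a second coordinate -/
def up (u : V4) (c : ZMod 2) : V5 := ![u 0, c, u 1, u 2, u 3]

theorem dn_up (u : V4) (c : ZMod 2) : dn (up u c) = u := by
  ext i
  fin_cases i <;> rfl

theorem up_one (u : V4) (c : ZMod 2) : up u c 1 = c := rfl

theorem up_dn (v : V5) : up (dn v) (v 1) = v := by
  ext i
  fin_cases i <;> rfl

theorem up_add (u u' : V4) (c c' : ZMod 2) : up (u + u') (c + c') = up u c + up u' c' := by
  ext i
  fin_cases i <;> rfl

theorem dn_add (v w : V5) : dn (v + w) = dn v + dn w := by
  ext i
  fin_cases i <;> rfl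

theorem v4_add_self (x : V4) : x + x = 0 := by
  ext i
  exact CharTwo.add_self_eq_zero (x i)

theorem zmod2_cases (c : ZMod 2) : c = 0 ∨ c = 1 := by
  revert c; decide

/-- affine permutations -/
def IsAff (σ : Equiv.Perm V4) : Prop := ∀ x a, σ (x + a) = σ x + σ a + σ 0

/-- the linear map induced by an affine permutation -/
def liftFun (σ : Equiv.Perm V4) (v : V5) : V5 := up (σ (dn v) + (1 + v 1) • σ 0) (v 1)

theorem liftFun_up_one (σ : Equiv.Perm V4) (h : V4) : liftFun σ (up h 1) = up (σ h) 1 := by
  rw [liftFun, dn_up, up_one]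
  have : (1 + 1 : ZMod 2) = 0 := by decide
  rw [this, zero_smul, add_zero]

theorem liftFun_up_zero (σ : Equiv.Perm V4) (h : V4) : liftFun σ (up h 0) = up (σ h + σ 0) 0 := by
  rw [liftFun, dn_up, up_one, add_zero, one_smul]

theorem liftFun_one (v : V5) : liftFun 1 v = v := by
  rw [liftFun]
  simp only [Equiv.Perm.one_apply, smul_zero, add_zero]
  exact up_dn v

theorem liftFun_mul {σ : Equiv.Perm V4} (hσ : IsAff σ) (ρ : Equiv.Perm V4) (v : V5) :
    liftFun (σ * ρ) v = liftFun σ (liftFun ρ v) := by
  rw [← up_dn v]
  rcases zmod2_cases (v 1) with h | h <;> rw [h]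
  · rw [liftFun_up_zero, liftFun_up_zero, liftFun_up_zero, Equiv.Perm.mul_apply, Equiv.Perm.mul_apply, hσ]
    congr 1
    rw [add_assoc, add_assoc, v4_add_self, add_zero]
  · rw [liftFun_up_one, liftFun_up_one, liftFun_up_one, Equiv.Perm.mul_apply]

theorem liftFun_add {σ : Equiv.Perm V4} (hσ : IsAff σ) (v w : V5) :
    liftFun σ (v + w) = liftFun σ v + liftFun σ w := by
  rw [← up_dn v, ← up_dn w, ← up_add]
  rcases zmod2_cases (v 1) with h | h <;> rcases zmod2_cases (w 1) with h' | h' <;> rw [h, h']
  · rw [add_zero, liftFun_up_zero, liftFun_up_zero, liftFun_up_zero, ← up_add, add_zero, hσ]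
    congr 1
    abel
  · rw [zero_add, liftFun_up_zero, liftFun_up_one, liftFun_up_one, ← up_add, zero_add, hσ]
    congr 1
    abel
  · rw [add_zero, liftFun_up_zero, liftFun_up_one, liftFun_up_one, ← up_add, add_zero, hσ]
    congr 1
    abel
  · have h2 : (1 + 1 : ZMod 2) = 0 := by decide
    rw [h2, liftFun_up_zero, liftFun_up_one, liftFun_up_one, ← up_add, h2, hσ, add_assoc, v4_add_self, add_zero]

theorem liftFun_injective {σ ρ : Equiv.Perm V4} (h : ∀ v, liftFun σ v = liftFun ρ v) : σ = ρ := by
  ext x : 1
  have := h (up x 1)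
  rw [liftFun_up_one, liftFun_up_one] at this
  have h2 := congrArg dn this
  rwa [dn_up, dn_up] at h2

/-- the lift of a translation is a transvection -/
theorem liftFun_translation (σ : Equiv.Perm V4) (a : V4) (hσ : ∀ x, σ x = x + a) (v : V5) :
    liftFun σ v = v + v 1 • up a 0 := by
  conv_lhs => rw [← up_dn v]
  conv_rhs => rw [← up_dn v]
  rcases zmod2_cases (v 1) with h | h <;> rw [h]
  · rw [liftFun_up_zero, hσ, hσ, zero_add, add_assoc, v4_add_self, add_zero, up_one, zero_smul, add_zero]
  · rw [liftFun_up_one, hσ, up_one, one_smul, ← up_add, add_zero]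

/-- a group acting by affine permutations on the four-dimensional space acts linearly on the five-dimensional
space -/
theorem exists_affLift {S : Type*} [Group S] (π : S →* Equiv.Perm V4) (haff : ∀ g, IsAff (π g)) :
    ∃ Φ : S →* Equiv.Perm V5, ∀ g v, Φ g v = liftFun (π g) v := by
  have hm : ∀ g h v, liftFun (π (g * h)) v = liftFun (π g) (liftFun (π h) v) := by
    intro g h v
    rw [map_mul, liftFun_mul (haff g)]
  have h1 : ∀ v, liftFun (π 1) v = v := by
    intro v
    rw [map_one, liftFun_one]
  refine ⟨{ toFun := fun g => ⟨liftFun (π g), liftFun (π g⁻¹), fun v => by rw [← hm, inv_mul_cancel, h1],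
              fun v => by rw [← hm, mul_inv_cancel, h1]⟩
            map_one' := Equiv.ext h1
            map_mul' := fun g h => Equiv.ext (hm g h) }, fun g v => rfl⟩

end Cfsg.Agent.Helper27
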