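import Cfsg.Agent.Helper27.B2Data

/-!
Kernel checks on the table of the 720 matrices of the Chevalley group of type `B₂` over the field with two elements.
-/

set_option autoImplicit false
set_option maxRecDepth 100000

namespace Cfsg.Agent.Helper27

open Cfsg Cfsg.Lie

/-- the matrix with given rows of bit masks, on the index set of type `B₂` -/
abbrev b2Mat (R : List ℕ) : Matrix chevB2.Idx chevB2.Idx (ZMod 2) :=
  toMatS (a := chevB2.rank) (b := chevB2.nroots) R

/-- the row vector with a given bit mask, on the index set of type `B₂` -/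
abbrev b2Vec (m : ℕ) : chevB2.Idx → ZMod 2 := toVecS (a := chevB2.rank) (b := chevB2.nroots) m

theorem b2Gens_entry : ∀ p : Fin chevB2.nroots × chevB2.Idx × chevB2.Idx,
    chevB2.xMat (ZMod 2) p.1 1 p.2.1 p.2.2 = b2Mat (b2Gens.getD p.1.val []) p.2.1 p.2.2 := by
  decide +kernel

theorem b2_xMat_zero_entry : ∀ p : Fin chevB2.nroots × chevB2.Idx × chevB2.Idx,
    chevB2.xMat (ZMod 2) p.1 0 p.2.1 p.2.2 = (1 : Matrix chevB2.Idx chevB2.Idx (ZMod 2)) p.2.1 p.2.2 := by
  decide +kernel

theorem b2Mat_one_entry : ∀ p : chevB2.Idx × chevB2.Idx,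
    b2Mat (b2Elems.getD 0 []) p.1 p.2 = (1 : Matrix chevB2.Idx chevB2.Idx (ZMod 2)) p.1 p.2 := by
  decide +kernel

theorem b2Gens_eq (r : Fin chevB2.nroots) : chevB2.xMat (ZMod 2) r 1 = b2Mat (b2Gens.getD r.val []) :=
  Matrix.ext fun i j => b2Gens_entry (r, i, j)

theorem b2_xMat_zero (r : Fin chevB2.nroots) : chevB2.xMat (ZMod 2) r 0 = 1 :=
  Matrix.ext fun i j => b2_xMat_zero_entry (r, i, j)

theorem b2Mat_one : b2Mat (b2Elems.getD 0 []) = 1 :=
  Matrix.ext fun i j => b2Mat_one_entry (i, j)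

/-- the list is closed under right multiplication by the root elements -/
def b2Closed : Bool :=
  (b2Elems.zip b2Cay).all fun ec => ec.1.length == 10 && ec.2.length == 8 &&
    (b2Gens.zip ec.2).all fun gj => decide (gj.2 < 720) && (mulRowsS 10 ec.1 gj.1 == b2Elems.getD gj.2 [])

theorem b2Closed_eq : b2Closed = true := by decide +kernel

theorem b2Elems_length : b2Elems.length = 720 := by decide +kernel

theorem b2Cay_length : b2Cay.length = 720 := by decide +kernel

theorem b2Gens_length : b2Gens.length = 8 := by decide +kernel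

theorem b2Gens_sq : ∀ r : Fin 8, (b2Gens.getD r.val []).length = 10 ∧
    mulRowsS 10 (b2Gens.getD r.val []) (b2Gens.getD r.val []) = b2Elems.getD 0 [] := by
  decide +kernel

theorem b2Gens_perm : ∀ p : Fin 8 × Fin 6, (b2Perms.getD p.1.val []).getD p.2.val 0 < 6 ∧
    comb 10 (b2Pts.getD p.2.val 0) (b2Gens.getD p.1.val []) =
      b2Pts.getD ((b2Perms.getD p.1.val []).getD p.2.val 0) 0 := by
  decide +kernel

theorem b2Pts_inj : ∀ p : Fin 6 × Fin 6, b2Vec (b2Pts.getD p.1.val 0) = b2Vec (b2Pts.getD p.2.val 0) → p.1 = p.2 := by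
  decide +kernel

end Cfsg.Agent.Helper27
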