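import Cfsg.Agent.Helper27.B2Check

/-!
The Chevalley group of type `B₂` over a field with two elements is the symmetric group of degree six.
-/

set_option autoImplicit false

namespace Cfsg.Agent.Helper27

open Cfsg Cfsg.Lie

/-! ### Reading off the table -/

theorem all_zip_getD {α β : Type*} (l : List α) (m : List β) (p : α × β → Bool)
    (h : (l.zip m).all p = true) (k : ℕ) (hk : k < l.length) (hk' : k < m.length) (da : α) (db : β) :
    p (l.getD k da, m.getD k db) = true := by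
  rw [List.all_eq_true] at h
  have hz : k < (l.zip m).length := by rw [List.length_zip]; exact lt_min hk hk'
  have := h ((l.zip m)[k]) (List.getElem_mem hz)
  rw [List.getElem_zip] at this
  rwa [List.getD_eq_getElem _ _ hk, List.getD_eq_getElem _ _ hk']

theorem b2_closed (k : ℕ) (hk : k < 720) (r : ℕ) (hr : r < 8) :
    (b2Elems.getD k []).length = 10 ∧ (b2Cay.getD k []).getD r 0 < 720 ∧
      mulRowsS 10 (b2Elems.getD k []) (b2Gens.getD r []) = b2Elems.getD ((b2Cay.getD k []).getD r 0) [] := by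
  have h := all_zip_getD b2Elems b2Cay _ b2Closed_eq k (by rw [b2Elems_length]; exact hk)
    (by rw [b2Cay_length]; exact hk) [] []
  simp only [Bool.and_eq_true, beq_iff_eq] at h
  obtain ⟨⟨h1, h2⟩, h3⟩ := h
  have h4 := all_zip_getD b2Gens (b2Cay.getD k []) _ h3 r (by rw [b2Gens_length]; exact hr)
    (by rw [h2]; exact hr) [] 0
  simp only [Bool.and_eq_true, beq_iff_eq, decide_eq_true_eq] at h4
  exact ⟨h1, h4.1, h4.2⟩

theorem b2Mat_mul (R S : List ℕ) (hR : R.length = 10) : b2Mat (mulRowsS 10 R S) = b2Mat R * b2Mat S :=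
  toMatS_mul (a := chevB2.rank) (b := chevB2.nroots) R S hR

theorem b2Vec_mul (m : ℕ) (S : List ℕ) : Matrix.vecMul (b2Vec m) (b2Mat S) = b2Vec (comb 10 m S) :=
  toVecS_vecMul (a := chevB2.rank) (b := chevB2.nroots) m S

theorem mulRowsS_length (n : ℕ) (R S : List ℕ) : (mulRowsS n R S).length = R.length := by
  unfold mulRowsS
  rw [List.length_map]

/-! ### The generators -/

theorem zmod2_cases_b2 (t : ZMod 2) : t = 0 ∨ t = 1 := by
  revert t
  decide

/-- the generating set -/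
def b2S : Set (GL chevB2.Idx (ZMod 2)) :=
  {g | ∃ (r : Fin chevB2.nroots) (t : ZMod 2), (g : Matrix chevB2.Idx chevB2.Idx (ZMod 2)) = chevB2.xMat (ZMod 2) r t}

theorem b2_group_eq : chevB2.group (ZMod 2) = Subgroup.closure b2S := rfl

theorem b2S_cases (y : GL chevB2.Idx (ZMod 2)) (hy : y ∈ b2S) :
    y = 1 ∨ ∃ r : Fin 8, (y : Matrix chevB2.Idx chevB2.Idx (ZMod 2)) = b2Mat (b2Gens.getD r.val []) := by
  obtain ⟨r, t, h⟩ := hy
  rcases zmod2_cases_b2 t with rfl | rfl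
  · left
    apply Units.ext
    rw [h, b2_xMat_zero]
    rfl
  · right
    exact ⟨r, by rw [h, b2Gens_eq]⟩

theorem b2Mat_gen_sq (r : Fin 8) : b2Mat (b2Gens.getD r.val []) * b2Mat (b2Gens.getD r.val []) = 1 := by
  rw [← b2Mat_mul _ _ (b2Gens_sq r).1, (b2Gens_sq r).2, b2Mat_one]

theorem b2S_sq (y : GL chevB2.Idx (ZMod 2)) (hy : y ∈ b2S) : y * y = 1 := by
  rcases b2S_cases y hy with rfl | ⟨r, hr⟩
  · rw [mul_one]
  · apply Units.ext
    rw [Units.val_mul, hr, b2Mat_gen_sq]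
    rfl

theorem b2S_inv (y : GL chevB2.Idx (ZMod 2)) (hy : y ∈ b2S) : y⁻¹ = y :=
  inv_eq_of_mul_eq_one_right (b2S_sq y hy)

/-! ### The enumeration -/

theorem b2_enum (g : GL chevB2.Idx (ZMod 2)) (hg : g ∈ chevB2.group (ZMod 2)) :
    ∃ k, k < 720 ∧ (g : Matrix chevB2.Idx chevB2.Idx (ZMod 2)) = b2Mat (b2Elems.getD k []) := by
  rw [b2_group_eq] at hg
  have step : ∀ (x y : GL chevB2.Idx (ZMod 2)), y ∈ b2S →
      (∃ k, k < 720 ∧ (x : Matrix chevB2.Idx chevB2.Idx (ZMod 2)) = b2Mat (b2Elems.getD k [])) →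
      ∃ k, k < 720 ∧ ((x * y : GL chevB2.Idx (ZMod 2)) : Matrix chevB2.Idx chevB2.Idx (ZMod 2)) =
        b2Mat (b2Elems.getD k []) := by
    rintro x y hy ⟨k, hk, hxk⟩
    rcases b2S_cases y hy with rfl | ⟨r, hr⟩
    · exact ⟨k, hk, by rw [mul_one]; exact hxk⟩
    · obtain ⟨h1, h2, h3⟩ := b2_closed k hk r.val r.2
      exact ⟨_, h2, by rw [Units.val_mul, hxk, hr, ← b2Mat_mul _ _ h1, h3]⟩
  induction hg using Subgroup.closure_induction_right with
  | one => exact ⟨0, by norm_num, b2Mat_one.symm⟩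
  | mul_right x hx y hy ih => exact step x y hy ih
  | mul_inv_cancel x hx y hy ih =>
    rw [b2S_inv y hy]
    exact step x y hy ih

theorem b2_card_le : Nat.card (chevB2.group (ZMod 2)) ≤ 720 := by
  choose f hf using b2_enum
  have hinj : Function.Injective
      (fun g : chevB2.group (ZMod 2) => (⟨f g.1 g.2, (hf g.1 g.2).1⟩ : Fin 720)) := by
    intro g h hgh
    have e : f g.1 g.2 = f h.1 h.2 := congrArg Fin.val hgh
    apply Subtype.ext
    apply Units.ext
    rw [(hf g.1 g.2).2, (hf h.1 h.2).2, e]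
  have := Nat.card_le_card_of_injective _ hinj
  rwa [Nat.card_fin] at this

/-! ### The six points -/

/-- the six row vectors permuted by the group -/
def b2P (i : Fin 6) : chevB2.Idx → ZMod 2 := b2Vec (b2Pts.getD i.val 0)

theorem b2P_injective : Function.Injective b2P := fun i j h => b2Pts_inj (i, j) h

/-- the matrices permuting the six points, with their inverses -/
def b2Stab : Subgroup (GL chevB2.Idx (ZMod 2)) where
  carrier := {g | (∀ i, ∃ j, Matrix.vecMul (b2P i) (g : Matrix chevB2.Idx chevB2.Idx (ZMod 2)) = b2P j) ∧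
    (∀ i, ∃ j, Matrix.vecMul (b2P i) ((g⁻¹ : GL chevB2.Idx (ZMod 2)) : Matrix chevB2.Idx chevB2.Idx (ZMod 2)) = b2P j)}
  one_mem' := ⟨fun i => ⟨i, by rw [Units.val_one, Matrix.vecMul_one]⟩,
    fun i => ⟨i, by rw [inv_one, Units.val_one, Matrix.vecMul_one]⟩⟩
  mul_mem' := by
    rintro g h ⟨hg1, hg2⟩ ⟨hh1, hh2⟩
    refine ⟨fun i => ?_, fun i => ?_⟩
    · obtain ⟨j, hj⟩ := hg1 i
      obtain ⟨k, hk⟩ := hh1 j
      exact ⟨k, by rw [Units.val_mul, ← Matrix.vecMul_vecMul, hj, hk]⟩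
    · obtain ⟨j, hj⟩ := hh2 i
      obtain ⟨k, hk⟩ := hg2 j
      exact ⟨k, by rw [mul_inv_rev, Units.val_mul, ← Matrix.vecMul_vecMul, hj, hk]⟩
  inv_mem' := by
    rintro g ⟨hg1, hg2⟩
    exact ⟨hg2, by rw [inv_inv]; exact hg1⟩

/-- the map of the six points induced by a matrix permuting them -/
noncomputable def b2Sig (g : b2Stab) (i : Fin 6) : Fin 6 := Classical.choose (g.2.1 i)

theorem b2Sig_spec (g : b2Stab) (i : Fin 6) :
    Matrix.vecMul (b2P i) (g.1 : Matrix chevB2.Idx chevB2.Idx (ZMod 2)) = b2P (b2Sig g i) :=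
  Classical.choose_spec (g.2.1 i)

theorem b2Sig_eq (g : b2Stab) (i j : Fin 6)
    (h : Matrix.vecMul (b2P i) (g.1 : Matrix chevB2.Idx chevB2.Idx (ZMod 2)) = b2P j) : b2Sig g i = j :=
  b2P_injective ((b2Sig_spec g i).symm.trans h)

theorem b2Sig_mul (g h : b2Stab) (i : Fin 6) : b2Sig (g * h) i = b2Sig h (b2Sig g i) := by
  apply b2Sig_eq
  rw [Subgroup.coe_mul, Units.val_mul, ← Matrix.vecMul_vecMul, b2Sig_spec, b2Sig_spec]

theorem b2Sig_one (i : Fin 6) : b2Sig 1 i = i := by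
  apply b2Sig_eq
  rw [Subgroup.coe_one, Units.val_one, Matrix.vecMul_one]

/-- the permutation of the six points induced by a matrix permuting them -/
noncomputable def b2Psi : b2Stab →* Equiv.Perm (Fin 6) :=
  MonoidHom.mk' (fun g =>
    { toFun := b2Sig g⁻¹
      invFun := b2Sig g
      left_inv := fun i => by rw [← b2Sig_mul, inv_mul_cancel, b2Sig_one]
      right_inv := fun i => by rw [← b2Sig_mul, mul_inv_cancel, b2Sig_one] })
    (fun g h => by
      apply Equiv.ext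
      intro i
      show b2Sig (g * h)⁻¹ i = b2Sig g⁻¹ (b2Sig h⁻¹ i)
      rw [mul_inv_rev, b2Sig_mul])

theorem b2Psi_eq (g : b2Stab) (i j : Fin 6)
    (h : Matrix.vecMul (b2P i) (g.1 : Matrix chevB2.Idx chevB2.Idx (ZMod 2)) = b2P j) : b2Psi g j = i := by
  have h1 : (b2Psi g).symm i = j := b2Sig_eq g i j h
  rw [← h1, Equiv.apply_symm_apply]

theorem b2_le_stab : chevB2.group (ZMod 2) ≤ b2Stab := by
  rw [b2_group_eq, Subgroup.closure_le]
  intro y hy
  have key : ∀ i, ∃ j, Matrix.vecMul (b2P i) (y : Matrix chevB2.Idx chevB2.Idx (ZMod 2)) = b2P j := by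
    intro i
    rcases b2S_cases y hy with rfl | ⟨r, hr⟩
    · exact ⟨i, by rw [Units.val_one, Matrix.vecMul_one]⟩
    · obtain ⟨h1, h2⟩ := b2Gens_perm (r, i)
      exact ⟨⟨_, h1⟩, by rw [hr]; unfold b2P; rw [b2Vec_mul, h2]⟩
  exact ⟨key, by rw [b2S_inv y hy]; exact key⟩

/-- the action of the group on the six points -/
noncomputable def b2Phi : chevB2.group (ZMod 2) →* Equiv.Perm (Fin 6) :=
  b2Psi.comp (Subgroup.inclusion b2_le_stab)

theorem b2Phi_eq_swap (g : chevB2.group (ZMod 2)) (R : List ℕ)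
    (hg : (g.1 : Matrix chevB2.Idx chevB2.Idx (ZMod 2)) = b2Mat R) (a b : Fin 6)
    (h : ∀ i : Fin 6, comb 10 (b2Pts.getD i.val 0) R = b2Pts.getD (Equiv.swap a b i).val 0) :
    b2Phi g = Equiv.swap a b := by
  apply Equiv.ext
  intro j
  have := b2Psi_eq (Subgroup.inclusion b2_le_stab g) (Equiv.swap a b j) j (by
    show Matrix.vecMul (b2P (Equiv.swap a b j)) (g.1 : Matrix chevB2.Idx chevB2.Idx (ZMod 2)) = b2P j
    rw [hg]
    unfold b2P
    rw [b2Vec_mul, h, Equiv.swap_apply_self])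
  exact this

/-! ### The generators as elements of the group -/

/-- the root elements -/
def b2Y (r : Fin 8) : GL chevB2.Idx (ZMod 2) :=
  ⟨chevB2.xMat (ZMod 2) r 1, chevB2.xMat (ZMod 2) r 1,
    (congrArg (fun M => M * M) (b2Gens_eq r)).trans (b2Mat_gen_sq r),
    (congrArg (fun M => M * M) (b2Gens_eq r)).trans (b2Mat_gen_sq r)⟩

theorem b2Y_mem (r : Fin 8) : b2Y r ∈ chevB2.group (ZMod 2) :=
  Subgroup.subset_closure ⟨r, 1, rfl⟩

theorem b2Y_val (r : Fin 8) : ((b2Y r : GL chevB2.Idx (ZMod 2)) : Matrix chevB2.Idx chevB2.Idx (ZMod 2)) =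
    b2Mat (b2Gens.getD r.val []) := b2Gens_eq r

/-- the root elements, in the group -/
def b2Z (r : Fin 8) : chevB2.group (ZMod 2) := ⟨b2Y r, b2Y_mem r⟩

theorem b2Z_val (r : Fin 8) : ((b2Z r).1 : Matrix chevB2.Idx chevB2.Idx (ZMod 2)) =
    b2Mat (b2Gens.getD r.val []) := b2Gens_eq r

theorem b2Z3_val (r s t : Fin 8) : ((b2Z r * b2Z s * b2Z t).1 : Matrix chevB2.Idx chevB2.Idx (ZMod 2)) =
    b2Mat (mulRowsS 10 (mulRowsS 10 (b2Gens.getD r.val []) (b2Gens.getD s.val [])) (b2Gens.getD t.val [])) := by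
  rw [b2Mat_mul _ _ (by rw [mulRowsS_length]; exact (b2Gens_sq r).1), b2Mat_mul _ _ (b2Gens_sq r).1,
    ← b2Z_val, ← b2Z_val, ← b2Z_val]
  rfl

/-! ### Surjectivity -/

set_option maxRecDepth 100000 in
theorem b2_swap01 : ∀ i : Fin 6, comb 10 (b2Pts.getD i.val 0) (b2Gens.getD (0 : Fin 8).val []) =
    b2Pts.getD (Equiv.swap (0 : Fin 6) 1 i).val 0 := by
  decide +kernel

set_option maxRecDepth 100000 in
theorem b2_swap12 : ∀ i : Fin 6, comb 10 (b2Pts.getD i.val 0) (b2Gens.getD (7 : Fin 8).val []) =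
    b2Pts.getD (Equiv.swap (1 : Fin 6) 2 i).val 0 := by
  decide +kernel

set_option maxRecDepth 100000 in
theorem b2_swap23 : ∀ i : Fin 6, comb 10 (b2Pts.getD i.val 0)
    (mulRowsS 10 (mulRowsS 10 (b2Gens.getD (1 : Fin 8).val []) (b2Gens.getD (0 : Fin 8).val []))
      (b2Gens.getD (3 : Fin 8).val [])) =
    b2Pts.getD (Equiv.swap (2 : Fin 6) 3 i).val 0 := by
  decide +kernel

set_option maxRecDepth 100000 in
theorem b2_swap34 : ∀ i : Fin 6, comb 10 (b2Pts.getD i.val 0) (b2Gens.getD (4 : Fin 8).val []) =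
    b2Pts.getD (Equiv.swap (3 : Fin 6) 4 i).val 0 := by
  decide +kernel

set_option maxRecDepth 100000 in
theorem b2_swap45 : ∀ i : Fin 6, comb 10 (b2Pts.getD i.val 0) (b2Gens.getD (3 : Fin 8).val []) =
    b2Pts.getD (Equiv.swap (4 : Fin 6) 5 i).val 0 := by
  decide +kernel

theorem b2Phi_surjective : Function.Surjective b2Phi := by
  rw [← MonoidHom.mrange_eq_top, eq_top_iff, ← Equiv.Perm.mclosure_swap_castSucc_succ 5, Submonoid.closure_le]
  rintro _ ⟨i, rfl⟩
  have h0 := b2Phi_eq_swap (b2Z 0) _ (b2Z_val 0) 0 1 b2_swap01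
  have h1 := b2Phi_eq_swap (b2Z 7) _ (b2Z_val 7) 1 2 b2_swap12
  have h2 := b2Phi_eq_swap (b2Z 1 * b2Z 0 * b2Z 3) _ (b2Z3_val 1 0 3) 2 3 b2_swap23
  have h3 := b2Phi_eq_swap (b2Z 4) _ (b2Z_val 4) 3 4 b2_swap34
  have h4 := b2Phi_eq_swap (b2Z 3) _ (b2Z_val 3) 4 5 b2_swap45
  fin_cases i
  · exact ⟨_, h0⟩
  · exact ⟨_, h1⟩
  · exact ⟨_, h2⟩
  · exact ⟨_, h3⟩
  · exact ⟨_, h4⟩

/-- over the field with two elements, the group is the symmetric group of degree six -/
theorem b2_zmod2_equiv : Nonempty (chevB2.group (ZMod 2) ≃* Equiv.Perm (Fin 6)) := by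
  have hc : Nat.card (chevB2.group (ZMod 2)) ≤ Nat.card (Equiv.Perm (Fin 6)) := by
    rw [Nat.card_perm, Nat.card_fin]
    exact b2_card_le
  exact ⟨MulEquiv.ofBijective b2Phi (b2Phi_surjective.bijective_of_nat_card_le hc)⟩

/-! ### Base change -/

theorem b2_base_change {F : Type*} [Field F] [Fintype F] (hF : Fintype.card F = 2) :
    Nonempty (chevB2.group (ZMod 2) ≃* chevB2.group F) := by
  let e : ZMod 2 ≃+* F := ZMod.ringEquivOfPrime F Nat.prime_two hF
  let Φ : GL chevB2.Idx (ZMod 2) ≃* GL chevB2.Idx F := Units.mapEquiv (RingEquiv.mapMatrix e).toMulEquiv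
  have hΦ : ∀ g : GL chevB2.Idx (ZMod 2), ((Φ g : GL chevB2.Idx F) : Matrix chevB2.Idx chevB2.Idx F) =
      (g : Matrix chevB2.Idx chevB2.Idx (ZMod 2)).map (e : ZMod 2 →+* F) := fun g => rfl
  have hΦs : ∀ g : GL chevB2.Idx F, ((Φ.symm g : GL chevB2.Idx (ZMod 2)) : Matrix chevB2.Idx chevB2.Idx (ZMod 2)) =
      (g : Matrix chevB2.Idx chevB2.Idx F).map (e.symm : F →+* ZMod 2) := fun g => rfl
  have hmap : (chevB2.group (ZMod 2)).map Φ.toMonoidHom = chevB2.group F := by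
    unfold ChevalleyDatum.group
    rw [MonoidHom.map_closure]
    congr 1
    ext h
    constructor
    · rintro ⟨g, ⟨r, t, hg⟩, rfl⟩
      refine ⟨r, e t, ?_⟩
      rw [MulEquiv.coe_toMonoidHom, hΦ, hg, xMat_map]
      rfl
    · rintro ⟨r, t, hh⟩
      refine ⟨Φ.symm h, ⟨r, e.symm t, ?_⟩, ?_⟩
      · rw [hΦs, hh, xMat_map]
        rfl
      · rw [MulEquiv.coe_toMonoidHom, MulEquiv.apply_symm_apply]
  exact ⟨(Φ.subgroupMap _).trans (MulEquiv.subgroupCongr hmap)⟩

/-- the Chevalley group of type `B₂` over a field with two elements is the symmetric group of degree six -/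
theorem b2_two_equiv {F : Type*} [Field F] [Fintype F] (hF : Fintype.card F = 2) :
    Nonempty (chevB2.group F ≃* Equiv.Perm (Fin 6)) := by
  obtain ⟨e1⟩ := b2_base_change hF
  obtain ⟨e2⟩ := b2_zmod2_equiv
  exact ⟨e1.symm.trans e2⟩

end Cfsg.Agent.Helper27
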