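import Mathlib
import Cfsg.Agent.Helper27.BG15St
import Cfsg.Agent.Helper20.BG16Ta
import Cfsg.Agent.Helper29.BG14F
import Cfsg.Agent.Helper9.BG12g
import Cfsg.Agent.Helper21.BG12h

/-!
# S1436, clause (b): conjugacy of the maximal subgroups `N(x)`, `N(y)` is realised inside `M`
-/

set_option autoImplicit false
set_option linter.unusedSectionVars false
set_option linter.unusedVariables false

namespace Cfsg.Agent.Helper27.BG15

open Subgroup Cfsg Cfsg.Agent.Lead Cfsg.Agent.Helper14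

universe u

variable {G : Type u} [Group G] [Finite G]

/-- **S1436 (b)**: if `x, y ∈ M_σ#` have `C_G(x), C_G(y) ⊄ M` and the maximal subgroups `N ⊇ C_G(x)`,
`N' ⊇ C_G(y)` are conjugate in `G`, then they are conjugate by an element of `M`. -/
theorem s1436_b (hG : Cfsg.IsMinSimpleOddOrder G) (h1374 : St1374 G) (h1375 : St1375 G)
    (M : Subgroup G) (hM : IsCoatom M) (x : G) (hx : x ∈ Cfsg.sigmaCore M) (hx1 : x ≠ 1)
    (hxM : ¬ Subgroup.centralizer ({x} : Set G) ≤ M)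
    (N : Subgroup G) (hN : IsCoatom N) (hxN : Subgroup.centralizer ({x} : Set G) ≤ N) :
    ∀ (y : G) (N' : Subgroup G) (g : G), y ∈ Cfsg.sigmaCore M → y ≠ 1 →
      ¬ Subgroup.centralizer ({y} : Set G) ≤ M → IsCoatom N' →
      Subgroup.centralizer ({y} : Set G) ≤ N' →
      N'.map (MulAut.conj g).toMonoidHom = N →
      ∃ m ∈ M, N'.map (MulAut.conj m).toMonoidHom = N := by
  intro y N' g hy hy1 hyM hN' hyN' hg
  have h1350 := Cfsg.Agent.Helper21.BG12.st1350 hG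
  -- Theorem D for `x` and `y`
  obtain ⟨N₀, ⟨hN₀, hCN₀⟩, huniq, -, -, -, hcompl, -⟩ := h1375 M hM x hx hx1 hxM
  have hNN₀ : N = N₀ := huniq N hN hxN
  rw [← hNN₀] at hcompl
  obtain ⟨N₁, ⟨hN₁, hCN₁⟩, huniq', -, -, -, hcompl', -⟩ := h1375 M hM y hy hy1 hyM
  have hNN₁ : N' = N₁ := huniq' N' hN' hyN'
  rw [← hNN₁] at hcompl'
  -- transport the complement of `N'_σ` to `N`
  have hg' : N'.map (cj g) = N := hg
  have hc2 := Cfsg.Agent.Helper20.BG16T.isComplIn_map_cj hcompl' g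
  rw [← Cfsg.Agent.Helper29.BG14.sigmaCore_map_cj hG hN' g, hg'] at hc2
  have hH1 := Cfsg.Agent.H9.BG12.isPiHallOf_compl h1350 hN hcompl
  have hH2 := Cfsg.Agent.H9.BG12.isPiHallOf_compl h1350 hN hc2
  have hsolvN : Group.IsSolvable N := hG.2.2.2 N hN.1
  obtain ⟨n, hn, hnE⟩ := Cfsg.Agent.Lead.isPiHallOf_trans hsolvN hH2 hH1
  rw [Cfsg.Agent.H9.BG12.smul_eq_map_cj] at hnE
  -- `x ∈ M^{ng}`
  have hxMN : x ∈ M ⊓ N :=
    ⟨Cfsg.Agent.H9.BG12.sigmaCore_le M hx, hxN (mem_centralizer_singleton_iff.mpr rfl)⟩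
  have hx2 : x ∈ M.map (cj (n * g)) := by
    rw [← map_cj_mul]
    rw [← hnE] at hxMN
    exact Subgroup.map_mono (Subgroup.map_mono inf_le_left) hxMN
  -- `R(x)` is transitive on the conjugates of `M` containing `x`
  obtain ⟨-, R, -, hRc, hRt⟩ := h1374 M hM x hx hx1
  obtain ⟨r, ⟨hrR, hrM⟩, -⟩ := hRt (n * g) hx2
  have hrM' : M.map (cj r) = M.map (cj (n * g)) := hrM
  have hrN : r ∈ N := hxN (hRc.2.1 hrR)
  refine ⟨r⁻¹ * (n * g), ?_, ?_⟩
  · apply Cfsg.Agent.Helper29.BG14.mem_of_map_cj_eq hG hM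
    rw [← map_cj_mul, ← hrM', map_cj_map_cj_inv]
  · show N'.map (cj (r⁻¹ * (n * g))) = N
    rw [← map_cj_mul, ← map_cj_mul, hg', map_cj_eq_self_of_mem hn,
      map_cj_eq_self_of_mem (N.inv_mem hrN)]

end Cfsg.Agent.Helper27.BG15
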