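import Mathlib
import Cfsg.Prelude.Def_OddOrderLocal
import Cfsg.Agent.Helper14.Conj

/-!
# Packaging lemmas for S1376: a complement acting regularly is a Frobenius complement
-/

set_option autoImplicit false
set_option linter.unusedSectionVars false
set_option linter.unusedVariables false

namespace Cfsg.Agent.Helper27.BG15

open Subgroup Cfsg Cfsg.Agent.Helper14
open scoped Pointwise

universe u

variable {G : Type u} [Group G]

/-- If `E` is a complement in `M` of the normal subgroup `N ≠ 1`, `E ≠ 1`, and no non-identity element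
of `E` centralizes a non-identity element of `N`, then `E` (as a subgroup of `↥M`) is a Frobenius
complement. -/
theorem isFrobeniusComplement_subgroupOf_of_regular {M E N : Subgroup G}
    (hE : Cfsg.IsComplIn E N M) (hNn : M ≤ normalizer (N : Set G)) (hE1 : E ≠ ⊥) (hN1 : N ≠ ⊥)
    (hreg : ∀ e ∈ E, e ≠ 1 → ∀ y ∈ N, e * y = y * e → y = 1) :
    Cfsg.IsFrobeniusComplement (E.subgroupOf M) := by
  obtain ⟨hEM, hNM, hdisj, hprod⟩ := hE
  refine ⟨?_, ?_, ?_⟩
  · intro h
    apply hE1
    rw [eq_bot_iff]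
    intro e he
    have : (⟨e, hEM he⟩ : M) ∈ E.subgroupOf M := mem_subgroupOf.mpr he
    rw [h, mem_bot] at this
    rw [mem_bot]
    exact congrArg Subtype.val this
  · intro h
    apply hN1
    rw [eq_bot_iff]
    intro n hn
    have : (⟨n, hNM hn⟩ : M) ∈ E.subgroupOf M := by rw [h]; exact mem_top _
    have hnE : n ∈ E := mem_subgroupOf.mp this
    have : n ∈ E ⊓ N := ⟨hnE, hn⟩
    rw [hdisj] at this
    exact this
  · intro g hg
    rw [eq_bot_iff]
    intro a ha
    rw [mem_bot]
    obtain ⟨ha1, ha2⟩ := ha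
    have haE : (a : G) ∈ E := mem_subgroupOf.mp ha1
    -- `a = g b g⁻¹` with `b ∈ E`
    obtain ⟨b, hb, hba⟩ : ∃ b : M, b ∈ E.subgroupOf M ∧ g * b * g⁻¹ = a := by
      have ha2' : a ∈ MulAut.conj g • E.subgroupOf M := ha2
      rw [Subgroup.mem_pointwise_smul_iff_inv_smul_mem] at ha2'
      refine ⟨(MulAut.conj g)⁻¹ • a, ha2', ?_⟩
      simp [MulAut.smul_def, mul_assoc]
    have hbE : (b : G) ∈ E := mem_subgroupOf.mp hb
    -- `g = e n`
    obtain ⟨e, he, n, hn, hgen⟩ := hprod g g.2
    have hn1 : n ≠ 1 := by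
      intro h1
      apply hg
      rw [mem_subgroupOf, hgen, h1, mul_one]
      exact he
    -- `b' = e b e⁻¹ ∈ E`, and `a = e (n b n⁻¹) e⁻¹`
    have hba' : (a : G) = (g : G) * (b : G) * (g : G)⁻¹ := by
      rw [← hba]; simp
    -- let `c = e⁻¹ a e ∈ E`; then `c = n b n⁻¹`
    set c : G := e⁻¹ * (a : G) * e with hc
    have hcE : c ∈ E := E.mul_mem (E.mul_mem (E.inv_mem he) haE) he
    have hcn : c = n * (b : G) * n⁻¹ := by
      rw [hc, hba', hgen]; group
    -- `c b⁻¹ ∈ E ∩ N`
    have h1 : c * (b : G)⁻¹ ∈ E := E.mul_mem hcE (E.inv_mem hbE)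
    have h2 : c * (b : G)⁻¹ ∈ N := by
      have h3 : (b : G) * n⁻¹ * (b : G)⁻¹ ∈ N :=
        (mem_normalizer_iff.mp (hNn b.2) n⁻¹).mp (N.inv_mem hn)
      have h4 : c * (b : G)⁻¹ = n * ((b : G) * n⁻¹ * (b : G)⁻¹) := by rw [hcn]; group
      rw [h4]; exact N.mul_mem hn h3
    have h5 : c * (b : G)⁻¹ ∈ E ⊓ N := ⟨h1, h2⟩
    rw [hdisj, mem_bot] at h5
    have hcb : c = (b : G) := by
      have := mul_inv_eq_one.mp h5
      exact this
    -- so `b` commutes with `n ≠ 1`
    have hcomm : (b : G) * n = n * (b : G) := by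
      have : n * (b : G) * n⁻¹ = (b : G) := by rw [← hcn, hcb]
      calc (b : G) * n = (n * (b : G) * n⁻¹) * n := by rw [this]
        _ = n * (b : G) := by group
    have hb1 : (b : G) = 1 := by
      by_contra hb1
      exact hn1 (hreg _ hbE hb1 n hn hcomm)
    have : (a : G) = 1 := by rw [hba', hb1]; group
    exact Subtype.ext this

/-- cyclicity passes to `subgroupOf` -/
theorem isCyclic_subgroupOf {M E : Subgroup G} (hEM : E ≤ M) (hc : IsCyclic E) :
    IsCyclic (E.subgroupOf M) :=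
  isCyclic_of_surjective (Subgroup.subgroupOfEquivOfLe hEM).symm
    (Subgroup.subgroupOfEquivOfLe hEM).symm.surjective

end Cfsg.Agent.Helper27.BG15
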