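import Mathlib
import Cfsg.Agent.Helper27.BG15R
import Cfsg.Agent.Helper9.BG12n
import Cfsg.Agent.Helper9.BG12f
import Cfsg.Agent.Helper7.RankSylow
import Cfsg.Agent.Helper4.BG10f
import Cfsg.Agent.Helper21.BG12h
import Cfsg.Agent.Helper27.BG15St
import Cfsg.Agent.Helper10.BG16B

/-!
# Packaging lemmas for S1376, continued: an abelian complement of `M_σ` is cyclic when `τ₂(M) = ∅`
-/

set_option autoImplicit false
set_option linter.unusedSectionVars false
set_option linter.unusedVariables false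

namespace Cfsg.Agent.Helper27.BG15

open Subgroup Cfsg Cfsg.Agent.Helper14
open scoped commutatorElement

universe u

variable {G : Type u} [Group G] [Finite G]

/-- An abelian complement `E` of `M_σ` in a maximal subgroup `M` with `τ₂(M) = ∅` is cyclic. -/
theorem isCyclic_compl_of_tau2_empty (hG : Cfsg.IsMinSimpleOddOrder G) {M E : Subgroup G}
    (hM : IsCoatom M) (hE : Cfsg.IsComplIn E (Cfsg.sigmaCore M) M) (hτ2 : Cfsg.tau2 M = ∅)
    (hab : ∀ a ∈ E, ∀ b ∈ E, a * b = b * a) : IsCyclic E := by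
  have h1350 := Cfsg.Agent.Helper21.BG12.st1350 hG
  have hHall := Cfsg.Agent.H9.BG12.isPiHallOf_compl h1350 hM hE
  have hnil : Group.IsNilpotent E := by
    refine ⟨⟨1, ?_⟩⟩
    rw [Subgroup.upperCentralSeries_one, Subgroup.eq_top_iff']
    intro z
    rw [Subgroup.mem_center_iff]
    intro g
    exact Subtype.ext (hab g g.2 z z.2)
  have hZ : IsZGroup E := by
    refine ⟨fun p hp P => ?_⟩
    have : Fact p.Prime := ⟨hp⟩
    by_cases hP1 : (P : Subgroup E) = ⊥
    · rw [hP1]; infer_instance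
    · have hpd : p ∣ Nat.card E := by
        have h1 : p ∣ Nat.card (P : Subgroup E) := by
          obtain ⟨n, hn⟩ := IsPGroup.iff_card.mp P.isPGroup'
          have hn0 : n ≠ 0 := by
            intro h0
            rw [h0, pow_zero] at hn
            exact hP1 (Subgroup.card_eq_one.mp hn)
          rw [hn]
          exact dvd_pow_self p hn0
        exact h1.trans (Subgroup.card_subgroup_dvd_card _)
      have hpσ : p ∉ Cfsg.sigma M := hHall.2.1 p hp hpd
      have h2 : Cfsg.PRankLE p 2 M :=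
        Cfsg.Agent.Helper4.BG10.sigma'_pRankLE_two hG (Cfsg.Agent.Helper21.BG12.uniq hG) hM hpσ
      have h1 : Cfsg.PRankLE p 1 M := by
        by_contra h
        have : p ∈ Cfsg.tau2 M := ⟨hp, hpσ, h2, h⟩
        rw [hτ2] at this
        exact this
      -- the image of `P` in `G`
      set C : Subgroup G := (P : Subgroup E).map E.subtype with hC
      have hCp : IsPGroup p C := P.isPGroup'.map _
      have hCM : C ≤ M := (Subgroup.map_subtype_le _).trans hE.1
      have hrk : Cfsg.PRankLE p 1 C :=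
        Cfsg.Agent.Helper7.PRankLE.of_injective (Subgroup.inclusion hCM)
          (Subgroup.inclusion_injective hCM) h1
      have hCc : IsCyclic C := Cfsg.Agent.H9.BG12.isCyclic_of_pRankLE_one hG hCp hrk
      have e := ((P : Subgroup E).equivMapOfInjective E.subtype E.subtype_injective)
      exact isCyclic_of_surjective e.symm e.symm.surjective
  infer_instance

/-- a complement of `M_σ` acts regularly on `M_σ` when `κ(M) = τ₂(M) = ∅` -/
theorem regular_of_kappa_tau2_empty (hG : Cfsg.IsMinSimpleOddOrder G) (h1432 : St1432 G)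
    {M E : Subgroup G} (hM : IsCoatom M) (hE : Cfsg.IsComplIn E (Cfsg.sigmaCore M) M)
    (hκ : Cfsg.kappa M = ∅) (hτ2 : Cfsg.tau2 M = ∅) :
    ∀ e ∈ E, e ≠ 1 → ∀ y ∈ Cfsg.sigmaCore M, e * y = y * e → y = 1 := by
  intro e he he1 y hy hey
  by_contra hy1
  have h1350 := Cfsg.Agent.Helper21.BG12.st1350 hG
  have hHall := Cfsg.Agent.H9.BG12.isPiHallOf_compl h1350 hM hE
  have hmem : e ∈ M ⊓ centralizer ({y} : Set G) :=
    ⟨hE.1 he, mem_centralizer_singleton_iff.mpr hey⟩
  have hσ : ∀ p : ℕ, p.Prime → p ∣ orderOf e → p ∉ Cfsg.sigma M := by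
    intro p hp hpd
    exact hHall.2.1 p hp (hpd.trans (E.orderOf_dvd_natCard he))
  have hne : orderOf e ≠ 1 := fun h => he1 (orderOf_eq_one_iff.mp h)
  obtain ⟨p, hp, hpd⟩ := Nat.exists_prime_and_dvd hne
  rcases h1432 M hM y hy hy1 e hmem he1 hσ with ⟨h1, -⟩ | ⟨h1, -, -⟩
  · have := h1 p hp hpd
    rw [hκ] at this
    exact this
  · have := h1 p hp hpd
    rw [hτ2] at this
    exact this

/-- a complement of `M_σ` is abelian when `M' ≤ M_σ` -/
theorem comm_of_commutator_le {M E : Subgroup G} (hE : Cfsg.IsComplIn E (Cfsg.sigmaCore M) M)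
    (hder : ⁅M, M⁆ ≤ Cfsg.sigmaCore M) : ∀ a ∈ E, ∀ b ∈ E, a * b = b * a := by
  intro a ha b hb
  have h1 : ⁅a, b⁆ ∈ Cfsg.sigmaCore M :=
    hder (Subgroup.commutator_mem_commutator (hE.1 ha) (hE.1 hb))
  have h2 : ⁅a, b⁆ ∈ E := by
    rw [commutatorElement_def]
    exact E.mul_mem (E.mul_mem (E.mul_mem ha hb) (E.inv_mem ha)) (E.inv_mem hb)
  have h3 : ⁅a, b⁆ ∈ E ⊓ Cfsg.sigmaCore M := ⟨h2, h1⟩
  rw [hE.2.2.1, mem_bot] at h3
  exact commutatorElement_eq_one_iff_mul_comm.mp h3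

/-- **Packaging for S1376**: if `κ(M) = τ₂(M) = ∅`, `M' ≤ M_σ` and `E ≠ 1` is a complement of `M_σ`
in `M`, then `E` is a cyclic Frobenius complement in `M`. -/
theorem frobeniusComplement_cyclic_of_compl (hG : Cfsg.IsMinSimpleOddOrder G) (h1432 : St1432 G)
    {M E : Subgroup G} (hM : IsCoatom M) (hE : Cfsg.IsComplIn E (Cfsg.sigmaCore M) M)
    (hE1 : E ≠ ⊥) (hκ : Cfsg.kappa M = ∅) (hτ2 : Cfsg.tau2 M = ∅)
    (hder : ⁅M, M⁆ ≤ Cfsg.sigmaCore M) :
    ∃ E' : Subgroup ↥M, Cfsg.IsFrobeniusComplement E' ∧ IsCyclic E' := by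
  have h1350 := Cfsg.Agent.Helper21.BG12.st1350 hG
  have hσ1 : Cfsg.sigmaCore M ≠ ⊥ :=
    Cfsg.Agent.Helper10.BG16.sigmaCore_ne_bot hG (fun M hM => h1350 M hM)
      (Cfsg.Agent.Helper21.BG12.uniq96 hG) hM
  refine ⟨E.subgroupOf M, ?_, ?_⟩
  · exact isFrobeniusComplement_subgroupOf_of_regular hE
      (Cfsg.Agent.H9.BG12.le_normalizer_sigmaCore M) hE1 hσ1
      (regular_of_kappa_tau2_empty hG h1432 hM hE hκ hτ2)
  · exact isCyclic_subgroupOf hE.1
      (isCyclic_compl_of_tau2_empty hG hM hE hτ2 (comm_of_commutator_le hE hder))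

end Cfsg.Agent.Helper27.BG15
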