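import Cfsg.Agent.Helper27.TblList
import Cfsg.Agent.Helper27.SimpleTools

/-!
Subgroups of a permutation group on the 24 points whose elements are listed by their tables (with numeric keys for a
fast membership test); the centre of such a subgroup; a checker for the subgroups closed under the fusion of the
ambient group; and a test for the normaliser.
-/

set_option autoImplicit false

namespace Cfsg.Agent.Helper27

open Cfsg

theorem tblOf_mul_eq (a b : Equiv.Perm GolayPt) : tblOf (a * b) = compT (tblOf a) (tblOf b) :=
  tblOf_eq (represents_compT (represents_tblOf a) (represents_tblOf b))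

theorem tblOf_one_eq : tblOf (1 : Equiv.Perm GolayPt) = idT := tblOf_eq represents_one

/-! ### Fast tests -/

/-- equality of tables, by the accelerated comparison of the entries -/
def eqT : List ℕ → List ℕ → Bool
  | [], [] => true
  | a :: as, b :: bs => Nat.beq a b && eqT as bs
  | [], _ :: _ => false
  | _ :: _, [] => false

theorem eqT_iff (A B : List ℕ) : eqT A B = true ↔ A = B := by
  induction A generalizing B with
  | nil => cases B <;> simp [eqT]
  | cons a as ih =>
    cases B with
    | nil => simp [eqT]
    | cons b bs =>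
      rw [eqT, Bool.and_eq_true, ih]
      constructor
      · rintro ⟨h1, h2⟩
        rw [Nat.eq_of_beq_eq_true h1, h2]
      · intro h
        injection h with h1 h2
        exact ⟨by rw [h1]; exact Nat.beq_refl b, h2⟩

/-- evaluate a number before using it -/
def withNat {β : Type} (n : ℕ) (f : ℕ → β) : β :=
  match n with
  | 0 => f 0
  | k + 1 => f (k + 1)

theorem withNat_eq {β : Type} (n : ℕ) (f : ℕ → β) : withNat n f = f n := by
  cases n <;> rfl

/-- evaluate the entries of a table before using it -/
def forceL {β : Type} : List ℕ → (List ℕ → β) → β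
  | [], k => k []
  | a :: as, k => withNat a (fun a' => forceL as (fun as' => k (a' :: as')))

theorem forceL_eq {β : Type} (T : List ℕ) (k : List ℕ → β) : forceL T k = k T := by
  induction T generalizing k with
  | nil => rfl
  | cons a as ih => rw [forceL, withNat_eq, ih]

/-- the numeric key of a table -/
def keyT (T : List ℕ) : ℕ := T.foldl (fun a t => a * 32 + t) 0

/-- membership in a list of tables with keys -/
def memKT (LK : List (ℕ × List ℕ)) (C : List ℕ) : Bool :=
  withNat (keyT C) (fun k => LK.any (fun p => Nat.beq p.1 k && eqT p.2 C))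

/-- the keys are those of the tables -/
def keysOK (LK : List (ℕ × List ℕ)) : Bool := LK.all (fun p => Nat.beq p.1 (keyT p.2))

theorem memKT_sound {LK : List (ℕ × List ℕ)} {C : List ℕ} (h : memKT LK C = true) : C ∈ LK.map Prod.snd := by
  rw [memKT, withNat_eq, List.any_eq_true] at h
  obtain ⟨p, hp, hpc⟩ := h
  rw [Bool.and_eq_true, eqT_iff] at hpc
  rw [← hpc.2]
  exact List.mem_map_of_mem hp

theorem memKT_complete {LK : List (ℕ × List ℕ)} (hk : keysOK LK = true) {C : List ℕ} (h : C ∈ LK.map Prod.snd) :
    memKT LK C = true := by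
  rw [memKT, withNat_eq, List.any_eq_true]
  obtain ⟨p, hp, rfl⟩ := List.mem_map.mp h
  refine ⟨p, hp, ?_⟩
  rw [Bool.and_eq_true, eqT_iff]
  exact ⟨List.all_eq_true.mp hk p hp, rfl⟩

/-! ### Listed subgroups -/

/-- the tables of the list form a group under composition -/
def ClosedTbl (LK : List (ℕ × List ℕ)) : Prop :=
  idT ∈ LK.map Prod.snd ∧ ∀ A ∈ LK.map Prod.snd, ∀ B ∈ LK.map Prod.snd, compT A B ∈ LK.map Prod.snd

/-- the list of tables is closed under composition and contains the identity -/
def closedL (LK : List (ℕ × List ℕ)) : Bool :=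
  memKT LK idT && LK.all (fun p => LK.all (fun q => memKT LK (compT p.2 q.2)))

theorem closedTbl_of_closedL {LK : List (ℕ × List ℕ)} (hL : closedL LK = true) : ClosedTbl LK := by
  simp only [closedL, Bool.and_eq_true, List.all_eq_true] at hL
  refine ⟨memKT_sound hL.1, ?_⟩
  intro A hA B hB
  obtain ⟨p, hp, rfl⟩ := List.mem_map.mp hA
  obtain ⟨q, hq, rfl⟩ := List.mem_map.mp hB
  exact memKT_sound (hL.2 p hp q hq)

theorem closedL_mul {LK : List (ℕ × List ℕ)} (hL : ClosedTbl LK) {A B : List ℕ} (hA : A ∈ LK.map Prod.snd)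
    (hB : B ∈ LK.map Prod.snd) : compT A B ∈ LK.map Prod.snd := hL.2 A hA B hB

theorem closedL_one {LK : List (ℕ × List ℕ)} (hL : ClosedTbl LK) : idT ∈ LK.map Prod.snd := hL.1

/-- the tables are valid and certified -/
def validL (cert : List ℕ → Bool) (LK : List (ℕ × List ℕ)) : Bool := LK.all (fun p => validTbl p.2 && cert p.2)

theorem validL_mem {cert : List ℕ → Bool} {LK : List (ℕ × List ℕ)} (hv : validL cert LK = true) {T : List ℕ}
    (hT : T ∈ LK.map Prod.snd) : validTbl T = true ∧ cert T = true := by
  obtain ⟨p, hp, rfl⟩ := List.mem_map.mp hT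
  have := List.all_eq_true.mp hv p hp
  simpa using this

/-- the list starts with the identity, is closed under multiplication by the generators from the right, and every
further table is the product of an earlier table, whose position is given, and a generator -/
def genClosedOK (LK : List (ℕ × List ℕ)) (gens : List (List ℕ)) (par : List ℕ) : Bool :=
  eqT (LK.getD 0 (0, [])).2 idT && Nat.blt 0 LK.length &&
  LK.all (fun p => gens.all (fun s => memKT LK (compT p.2 s))) &&
  (List.range LK.length).all (fun i => Nat.beq i 0 ||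
    (Nat.blt (par.getD i 0) i &&
      gens.any (fun s => eqT (LK.getD i (0, [])).2 (compT (LK.getD (par.getD i 0) (0, [])).2 s))))

theorem closedTbl_of_genClosedOK {H : Subgroup (Equiv.Perm GolayPt)} {cert : List ℕ → Bool} (hc : CertSound H cert)
    {LK : List (ℕ × List ℕ)} {gens : List (List ℕ)} {par : List ℕ} (hv : validL cert LK = true)
    (hgv : gens.all (fun s => validTbl s && cert s) = true) (h : genClosedOK LK gens par = true) :
    ClosedTbl LK := by
  simp only [genClosedOK, Bool.and_eq_true, List.all_eq_true, eqT_iff, Nat.blt_eq, List.mem_range,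
    Bool.or_eq_true, List.any_eq_true] at h
  obtain ⟨⟨⟨h0, hpos⟩, hmul⟩, hpar⟩ := h
  have hget : ∀ i, i < LK.length → (LK.getD i (0, [])).2 ∈ LK.map Prod.snd := by
    intro i hi
    rw [List.getD_eq_getElem _ _ hi]
    exact List.mem_map_of_mem (List.getElem_mem _)
  have hid : idT ∈ LK.map Prod.snd := by
    rw [← h0]
    exact hget 0 hpos
  have helt : ∀ T ∈ LK.map Prod.snd, ∃ b : ↥H, Represents b.1 T := by
    intro T hT
    have := validL_mem hv hT
    exact ⟨⟨tblPerm T this.1, hc T this.1 this.2⟩, tblPerm_represents T this.1⟩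
  have hgelt : ∀ s ∈ gens, ∃ b : ↥H, Represents b.1 s := by
    intro s hs
    have := List.all_eq_true.mp hgv s hs
    simp only [Bool.and_eq_true] at this
    exact ⟨⟨tblPerm s this.1, hc s this.1 this.2⟩, tblPerm_represents s this.1⟩
  have key : ∀ i, i < LK.length → ∀ a : ↥H, tblOf a.1 ∈ LK.map Prod.snd →
      ∀ b : ↥H, tblOf b.1 = (LK.getD i (0, [])).2 → tblOf (a * b).1 ∈ LK.map Prod.snd := by
    intro i
    induction i using Nat.strong_induction_on with
    | _ i ih =>
      intro hi a ha b hb
      rcases hpar i hi with hi0 | ⟨hlt, s, hs, hpi⟩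
      · have hi0' : i = 0 := Nat.eq_of_beq_eq_true hi0
        subst hi0'
        rw [h0] at hb
        have hb1 : b.1 = 1 := by
          have := represents_tblOf b.1
          rw [hb] at this
          exact represents_unique this represents_one
        show tblOf (a.1 * b.1) ∈ LK.map Prod.snd
        rw [hb1, mul_one]
        exact ha
      · have hplt : par.getD i 0 < LK.length := lt_trans hlt hi
        obtain ⟨b', hb'⟩ := helt _ (hget _ hplt)
        obtain ⟨s', hs'⟩ := hgelt s hs
        have hbb : b.1 = b'.1 * s'.1 := by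
          have h1 := represents_tblOf b.1
          rw [hb, hpi] at h1
          exact represents_unique h1 (represents_compT hb' hs')
        have h2 := ih _ hlt hplt a ha b' (tblOf_eq hb')
        show tblOf (a.1 * b.1) ∈ LK.map Prod.snd
        rw [hbb, ← mul_assoc, tblOf_mul_eq, tblOf_eq hs']
        obtain ⟨p, hp, hpe⟩ := List.mem_map.mp h2
        have h3 := memKT_sound (hmul p hp s hs)
        rw [hpe] at h3
        exact h3
  refine ⟨hid, ?_⟩
  intro A hA B hB
  obtain ⟨a, har⟩ := helt A hA
  obtain ⟨b, hbr⟩ := helt B hB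
  obtain ⟨q, hq, hqB⟩ := List.mem_map.mp hB
  obtain ⟨i, hi, hiq⟩ := List.mem_iff_getElem.mp hq
  have hbi : tblOf b.1 = (LK.getD i (0, [])).2 := by
    rw [tblOf_eq hbr, List.getD_eq_getElem _ _ hi, hiq, hqB]
  have := key i hi a (by rw [tblOf_eq har]; exact hA) b hbi
  have e : tblOf (a * b).1 = compT A B := by
    show tblOf (a.1 * b.1) = compT A B
    rw [tblOf_mul_eq, tblOf_eq har, tblOf_eq hbr]
  rwa [e] at this

/-- the subgroup of the elements with tables in a closed list -/
def tblSub (H : Subgroup (Equiv.Perm GolayPt)) (LK : List (ℕ × List ℕ)) (hL : ClosedTbl LK) : Subgroup ↥H where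
  carrier := {g | tblOf g.1 ∈ LK.map Prod.snd}
  mul_mem' := by
    intro a b ha hb
    show tblOf (a.1 * b.1) ∈ LK.map Prod.snd
    rw [tblOf_mul_eq]
    exact closedL_mul hL ha hb
  one_mem' := by
    show tblOf (1 : Equiv.Perm GolayPt) ∈ LK.map Prod.snd
    rw [tblOf_one_eq]
    exact closedL_one hL
  inv_mem' := by
    intro a ha
    have hmul : ∀ x y : ↥H, tblOf x.1 ∈ LK.map Prod.snd → tblOf y.1 ∈ LK.map Prod.snd →
        tblOf (x * y).1 ∈ LK.map Prod.snd := by
      intro x y hx hy
      show tblOf (x.1 * y.1) ∈ LK.map Prod.snd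
      rw [tblOf_mul_eq]
      exact closedL_mul hL hx hy
    have hone : tblOf (1 : ↥H).1 ∈ LK.map Prod.snd := by
      show tblOf (1 : Equiv.Perm GolayPt) ∈ LK.map Prod.snd
      rw [tblOf_one_eq]
      exact closedL_one hL
    have hpow : ∀ k : ℕ, tblOf (a ^ k).1 ∈ LK.map Prod.snd := by
      intro k
      induction k with
      | zero => rw [pow_zero]; exact hone
      | succ k ih => rw [pow_succ]; exact hmul _ _ ih ha
    have hinv : a⁻¹ = a ^ (orderOf a - 1) := by
      apply inv_eq_of_mul_eq_one_right
      rw [← pow_succ']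
      have hpos : 0 < orderOf a := orderOf_pos a
      rw [show orderOf a - 1 + 1 = orderOf a by omega]
      exact pow_orderOf_eq_one a
    show tblOf (a⁻¹).1 ∈ LK.map Prod.snd
    rw [hinv]
    exact hpow _

theorem mem_tblSub {H : Subgroup (Equiv.Perm GolayPt)} {LK : List (ℕ × List ℕ)} {hL : ClosedTbl LK} (g : ↥H) :
    g ∈ tblSub H LK hL ↔ tblOf g.1 ∈ LK.map Prod.snd := Iff.rfl

/-- the order of the subgroup of the elements with tables in a list of valid certified tables -/
theorem card_tblSub {H : Subgroup (Equiv.Perm GolayPt)} {cert : List ℕ → Bool} (hc : CertSound H cert)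
    (LK : List (ℕ × List ℕ)) (hL : ClosedTbl LK) (hnd : (LK.map Prod.snd).Nodup)
    (hv : validL cert LK = true) : Nat.card (tblSub H LK hL) = LK.length := by
  have hv1 : ∀ T : {T // T ∈ LK.map Prod.snd}, validTbl T.1 = true := fun T => (validL_mem hv T.2).1
  have hv2 : ∀ T : {T // T ∈ LK.map Prod.snd}, cert T.1 = true := fun T => (validL_mem hv T.2).2
  let f : ↥(tblSub H LK hL) → {T // T ∈ LK.map Prod.snd} := fun n => ⟨tblOf n.1.1, n.2⟩
  have hmem : ∀ T : {T // T ∈ LK.map Prod.snd},
      (⟨tblPerm T.1 (hv1 T), hc T.1 (hv1 T) (hv2 T)⟩ : ↥H) ∈ tblSub H LK hL := by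
    intro T
    show tblOf (tblPerm T.1 (hv1 T)) ∈ LK.map Prod.snd
    rw [tblOf_eq (tblPerm_represents T.1 _)]
    exact T.2
  let g : {T // T ∈ LK.map Prod.snd} → ↥(tblSub H LK hL) := fun T =>
    ⟨⟨tblPerm T.1 (hv1 T), hc T.1 (hv1 T) (hv2 T)⟩, hmem T⟩
  have hfg : ∀ T, f (g T) = T := by
    intro T
    apply Subtype.ext
    show tblOf (tblPerm T.1 (hv1 T)) = T.1
    exact tblOf_eq (tblPerm_represents T.1 _)
  have hgf : ∀ n, g (f n) = n := by
    intro n
    apply Subtype.ext
    apply Subtype.ext
    show tblPerm (tblOf n.1.1) (hv1 (f n)) = n.1.1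
    exact represents_unique (tblPerm_represents _ _) (represents_tblOf n.1.1)
  have e : ↥(tblSub H LK hL) ≃ {T // T ∈ LK.map Prod.snd} := ⟨f, g, hgf, hfg⟩
  rw [Nat.card_congr e, Nat.card_eq_fintype_card,
    Fintype.card_of_subtype (LK.map Prod.snd).toFinset (fun T => List.mem_toFinset),
    List.toFinset_card_of_nodup hnd, List.length_map]

/-- the element of the subgroup with a given table -/
theorem exists_of_mem_tbls {H : Subgroup (Equiv.Perm GolayPt)} {cert : List ℕ → Bool} (hc : CertSound H cert)
    {LK : List (ℕ × List ℕ)} {hL : ClosedTbl LK} (hv : validL cert LK = true)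
    {T : List ℕ} (hT : T ∈ LK.map Prod.snd) : ∃ b : ↥H, b ∈ tblSub H LK hL ∧ Represents b.1 T := by
  have := validL_mem hv hT
  refine ⟨⟨tblPerm T this.1, hc T this.1 this.2⟩, ?_, tblPerm_represents T this.1⟩
  show tblOf (tblPerm T this.1) ∈ LK.map Prod.snd
  rw [tblOf_eq (tblPerm_represents T this.1)]
  exact hT

/-- a valid table whose product with a table is the identity represents the inverse -/
theorem inv_eq_tblPerm {g : Equiv.Perm GolayPt} {G Gi : List ℕ} (hg : Represents g G) (hv : validTbl Gi = true)
    (h : compT G Gi = idT) : g⁻¹ = tblPerm Gi hv := by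
  apply inv_eq_of_mul_eq_one_right
  have := represents_compT hg (tblPerm_represents Gi hv)
  rw [h] at this
  exact represents_unique this represents_one

/-! ### The centre -/

/-- the only tables of the list commuting with the generators are the identity and `Z` -/
def centerOK (LK : List (ℕ × List ℕ)) (gens : List (List ℕ)) (Z : List ℕ) : Bool :=
  gens.all (fun s => memKT LK s) &&
    LK.all (fun p => eqT p.2 idT || eqT p.2 Z || gens.any (fun s => !(eqT (compT p.2 s) (compT s p.2))))

theorem center_cases {H : Subgroup (Equiv.Perm GolayPt)} {cert : List ℕ → Bool} (hc : CertSound H cert)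
    {LK : List (ℕ × List ℕ)} {gens : List (List ℕ)} {Z : List ℕ} {hL : ClosedTbl LK}
    (hv : validL cert LK = true) (hcen : centerOK LK gens Z = true)
    {z : ↥H} (hz : Represents z.1 Z) {c : ↥H} (hcS : c ∈ tblSub H LK hL)
    (hcc : ∀ s ∈ tblSub H LK hL, c * s = s * c) : c = 1 ∨ c = z := by
  simp only [centerOK, Bool.and_eq_true, List.all_eq_true] at hcen
  obtain ⟨p, hp, hpc⟩ := List.mem_map.mp hcS
  have h1 := hcen.2 p hp
  rw [hpc] at h1
  simp only [Bool.or_eq_true, eqT_iff, List.any_eq_true, Bool.not_eq_true', ← Bool.not_eq_true] at h1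
  rcases h1 with (h1 | h1) | ⟨s, hs, hne⟩
  · left
    apply Subtype.ext
    have := represents_tblOf c.1
    rw [h1] at this
    exact represents_unique this represents_one
  · right
    apply Subtype.ext
    have := represents_tblOf c.1
    rw [h1] at this
    exact represents_unique this hz
  · exfalso
    obtain ⟨b, hb, hbr⟩ := exists_of_mem_tbls hc (hL := hL) hv (memKT_sound (hcen.1 s hs))
    have e := congrArg Subtype.val (hcc b hb)
    have e' : c.1 * b.1 = b.1 * c.1 := e
    apply hne
    apply represents_tbl_unique (represents_compT (represents_tblOf c.1) hbr)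
    rw [e']
    exact represents_compT hbr (represents_tblOf c.1)

/-! ### Subgroups closed under fusion -/

/-- one instruction: with `G = []` the product of two earlier tables, otherwise the conjugate of an earlier table by
`G`, whose inverse is `Gi`; the conjugate has to lie in the list -/
def reachStep (LK : List (ℕ × List ℕ)) (cert : List ℕ → Bool) (Z : List ℕ) (acc : List (List ℕ))
    (ins : List ℕ × List ℕ × ℕ × ℕ) : Option (List ℕ) :=
  if ins.1.isEmpty then some (compT (acc.getD ins.2.2.1 Z) (acc.getD ins.2.2.2 Z))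
  else
    if validTbl ins.1 && cert ins.1 && validTbl ins.2.1 && eqT (compT ins.1 ins.2.1) idT &&
      memKT LK (compT (compT ins.1 (acc.getD ins.2.2.1 Z)) ins.2.1)
    then some (compT (compT ins.1 (acc.getD ins.2.2.1 Z)) ins.2.1) else none

/-- run the instructions, starting from the tables in `acc` -/
def reachRun (LK : List (ℕ × List ℕ)) (cert : List ℕ → Bool) (Z : List ℕ) :
    List (List ℕ) → List (List ℕ × List ℕ × ℕ × ℕ) → Option (List (List ℕ))
  | acc, [] => some acc
  | acc, ins :: rest =>
    match reachStep LK cert Z acc ins with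
    | none => none
    | some C => forceL C (fun C' => reachRun LK cert Z (acc ++ [C']) rest)

/-- the instructions produce all tables of the list -/
def reachOK (LK : List (ℕ × List ℕ)) (cert : List ℕ → Bool) (Z : List ℕ) (prog : List (List ℕ × List ℕ × ℕ × ℕ)) :
    Bool :=
  match reachRun LK cert Z [Z] prog with
  | none => false
  | some acc => LK.all (fun p => acc.any (fun B => eqT p.2 B))

theorem reachRun_sound {H : Subgroup (Equiv.Perm GolayPt)} {cert : List ℕ → Bool} (hc : CertSound H cert)
    {LK : List (ℕ × List ℕ)} {hL : ClosedTbl LK} {Z : List ℕ}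
    (T : Subgroup ↥H)
    (hT : ∀ t ∈ T, ∀ g : ↥H, g * t * g⁻¹ ∈ tblSub H LK hL → g * t * g⁻¹ ∈ T)
    {z : ↥H} (hz : z ∈ T) (hzZ : Represents z.1 Z) :
    ∀ (prog : List (List ℕ × List ℕ × ℕ × ℕ)) (acc out : List (List ℕ)),
      (∀ A ∈ acc, ∃ a : ↥H, a ∈ T ∧ Represents a.1 A) → reachRun LK cert Z acc prog = some out →
      ∀ A ∈ out, ∃ a : ↥H, a ∈ T ∧ Represents a.1 A := by
  intro prog
  induction prog with
  | nil =>
    intro acc out hacc hrun
    rw [reachRun] at hrun
    cases hrun
    exact hacc
  | cons ins rest ih =>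
    intro acc out hacc hrun
    rw [reachRun] at hrun
    have hget : ∀ i : ℕ, ∃ a : ↥H, a ∈ T ∧ Represents a.1 (acc.getD i Z) := by
      intro i
      by_cases hi : i < acc.length
      · rw [List.getD_eq_getElem _ _ hi]
        exact hacc _ (List.getElem_mem _)
      · rw [List.getD_eq_default _ _ (by omega)]
        exact ⟨z, hz, hzZ⟩
    cases hstep : reachStep LK cert Z acc ins with
    | none => rw [hstep] at hrun; cases hrun
    | some C =>
      rw [hstep] at hrun
      simp only [forceL_eq] at hrun
      apply ih (acc ++ [C]) out _ hrun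
      intro A hA
      rw [List.mem_append, List.mem_singleton] at hA
      rcases hA with hA | rfl
      · exact hacc A hA
      · rw [reachStep] at hstep
        split_ifs at hstep with h1 h2
        · cases hstep
          obtain ⟨a, ha, har⟩ := hget ins.2.2.1
          obtain ⟨b, hb, hbr⟩ := hget ins.2.2.2
          exact ⟨a * b, T.mul_mem ha hb, represents_compT har hbr⟩
        · cases hstep
          simp only [Bool.and_eq_true, eqT_iff] at h2
          obtain ⟨⟨⟨⟨hvG, hcG⟩, hvGi⟩, hinv⟩, hmem⟩ := h2
          obtain ⟨a, ha, har⟩ := hget ins.2.2.1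
          let g : ↥H := ⟨tblPerm ins.1 hvG, hc ins.1 hvG hcG⟩
          have hgr : Represents g.1 ins.1 := tblPerm_represents ins.1 hvG
          have hgi : g.1⁻¹ = tblPerm ins.2.1 hvGi := inv_eq_tblPerm hgr hvGi hinv
          have hrep : Represents (g * a * g⁻¹).1 (compT (compT ins.1 (acc.getD ins.2.2.1 Z)) ins.2.1) := by
            show Represents (g.1 * a.1 * g.1⁻¹) _
            rw [hgi]
            exact represents_compT (represents_compT hgr har) (tblPerm_represents _ _)
          refine ⟨g * a * g⁻¹, hT a ha g ?_, hrep⟩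
          show tblOf (g * a * g⁻¹).1 ∈ LK.map Prod.snd
          rw [tblOf_eq hrep]
          exact memKT_sound hmem

/-- a subgroup closed under fusion that contains `z` contains the whole listed subgroup -/
theorem tblSub_le_of_reachOK {H : Subgroup (Equiv.Perm GolayPt)} {cert : List ℕ → Bool} (hc : CertSound H cert)
    {LK : List (ℕ × List ℕ)} {hL : ClosedTbl LK} {Z : List ℕ} {prog : List (List ℕ × List ℕ × ℕ × ℕ)}
    (hok : reachOK LK cert Z prog = true) (T : Subgroup ↥H)
    (hT : ∀ t ∈ T, ∀ g : ↥H, g * t * g⁻¹ ∈ tblSub H LK hL → g * t * g⁻¹ ∈ T)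
    {z : ↥H} (hz : z ∈ T) (hzZ : Represents z.1 Z) : tblSub H LK hL ≤ T := by
  rw [reachOK] at hok
  cases hrun : reachRun LK cert Z [Z] prog with
  | none => rw [hrun] at hok; cases hok
  | some out =>
    rw [hrun] at hok
    simp only [List.all_eq_true, List.any_eq_true, eqT_iff] at hok
    have hout := reachRun_sound hc T hT hz hzZ prog [Z] out (by
      intro A hA
      rw [List.mem_singleton] at hA
      subst hA
      exact ⟨z, hz, hzZ⟩) hrun
    intro s hs
    obtain ⟨p, hp, hps⟩ := List.mem_map.mp hs
    obtain ⟨B, hB, hpB⟩ := hok p hp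
    obtain ⟨a, ha, har⟩ := hout B hB
    rw [← hpB, hps] at har
    have : a = s := Subtype.ext (represents_unique har (represents_tblOf s.1))
    rw [← this]
    exact ha

/-! ### The normaliser -/

/-- position of an entry in a table -/
def idxT : List ℕ → ℕ → ℕ
  | [], _ => 0
  | t :: ts, i => cond (Nat.beq t i) 0 (idxT ts i + 1)

/-- the candidate for the inverse table -/
def invT (T : List ℕ) : List ℕ := (List.range 24).map (fun i => idxT T i)

/-- the test for the normaliser, on a table with evaluated entries that commutes with `Z`: the table lies in the list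
or conjugates one of the generators outside of the list -/
def normP0 (LK : List (ℕ × List ℕ)) (gens : List (List ℕ)) (T : List ℕ) : Bool :=
  memKT LK T ||
    forceL (invT T) (fun Ti => validTbl Ti && eqT (compT T Ti) idT &&
      gens.any (fun s => !(memKT LK (compT (compT T s) Ti))))

/-- the test for the normaliser: a table commuting with `Z` lies in the list or conjugates one of the generators
outside of the list -/
def normP (LK : List (ℕ × List ℕ)) (gens : List (List ℕ)) (Z T : List ℕ) : Bool :=
  !(eqT (compT T Z) (compT Z T)) || forceL T (fun T' => normP0 LK gens T')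

/-- the listed subgroup is self-normalising, if all elements of the group commuting with `z` pass the test -/
theorem normalizer_tblSub_le {H : Subgroup (Equiv.Perm GolayPt)} {cert : List ℕ → Bool} (hc : CertSound H cert)
    {LK : List (ℕ × List ℕ)} {gens : List (List ℕ)} {Z : List ℕ} {hL : ClosedTbl LK}
    (hv : validL cert LK = true) (hk : keysOK LK = true) (hcen : centerOK LK gens Z = true)
    (hzc : LK.all (fun p => eqT (compT p.2 Z) (compT Z p.2)) = true) (hZ : memKT LK Z = true) (hZne : Z ≠ idT)
    (henum : ∀ n : ↥H, n ∈ Subgroup.normalizer (tblSub H LK hL : Set ↥H) →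
      compT (tblOf n.1) Z = compT Z (tblOf n.1) → normP LK gens Z (tblOf n.1) = true) :
    Subgroup.normalizer (tblSub H LK hL : Set ↥H) ≤ tblSub H LK hL := by
  intro n hn
  have hn' : n⁻¹ ∈ Subgroup.normalizer (tblSub H LK hL : Set ↥H) := inv_mem hn
  have hconj : ∀ b ∈ tblSub H LK hL, n * b * n⁻¹ ∈ tblSub H LK hL :=
    fun b hb => (Subgroup.mem_normalizer_iff.mp hn b).mp hb
  have hconj' : ∀ b ∈ tblSub H LK hL, n⁻¹ * b * n ∈ tblSub H LK hL := fun b hb => by
    have := (Subgroup.mem_normalizer_iff.mp hn' b).mp hb
    rwa [inv_inv] at this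
  obtain ⟨z0, hz0, hz0r⟩ := exists_of_mem_tbls hc (hL := hL) hv (memKT_sound hZ)
  have hcent : ∀ b ∈ tblSub H LK hL, b * z0 = z0 * b := by
    intro b hb
    apply Subtype.ext
    show b.1 * z0.1 = z0.1 * b.1
    obtain ⟨p, hp, hpb⟩ := List.mem_map.mp hb
    have h1 := List.all_eq_true.mp hzc p hp
    rw [eqT_iff, hpb] at h1
    apply represents_unique (represents_compT (represents_tblOf b.1) hz0r)
    rw [h1]
    exact represents_compT hz0r (represents_tblOf b.1)
  have hc1 : n * z0 * n⁻¹ = z0 := by
    have hccent : ∀ b ∈ tblSub H LK hL, (n * z0 * n⁻¹) * b = b * (n * z0 * n⁻¹) := by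
      intro b hb
      have h1 := hcent _ (hconj' b hb)
      have h2 : n * z0 * n⁻¹ * b = n * (z0 * (n⁻¹ * b * n)) * n⁻¹ := by group
      have h3 : b * (n * z0 * n⁻¹) = n * ((n⁻¹ * b * n) * z0) * n⁻¹ := by group
      rw [h2, h3, h1]
    rcases center_cases hc hv hcen hz0r (hconj z0 hz0) hccent with h | h
    · exfalso
      have h3 : z0 = 1 := by
        have : z0 = n⁻¹ * (n * z0 * n⁻¹) * n := by group
        rw [this, h]; group
      apply hZne
      have h5 := hz0r
      rw [h3] at h5
      exact represents_tbl_unique h5 represents_one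
    · exact h
  have hcomm : n * z0 = z0 * n := by
    have : n * z0 = (n * z0 * n⁻¹) * n := by group
    rw [this, hc1]
  have hcommT : compT (tblOf n.1) Z = compT Z (tblOf n.1) := by
    have e : n.1 * z0.1 = z0.1 * n.1 := congrArg Subtype.val hcomm
    apply represents_tbl_unique (represents_compT (represents_tblOf n.1) hz0r)
    rw [e]
    exact represents_compT hz0r (represents_tblOf n.1)
  have hP := henum n hn hcommT
  rw [normP, forceL_eq, normP0, forceL_eq] at hP
  simp only [Bool.or_eq_true, Bool.not_eq_true', Bool.and_eq_true, eqT_iff, List.any_eq_true,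
    ← Bool.not_eq_true] at hP
  rcases hP with hP | hP | ⟨⟨hvi, hinv⟩, s, hs, hP⟩
  · exact absurd hcommT hP
  · exact memKT_sound hP
  · exfalso
    simp only [centerOK, Bool.and_eq_true, List.all_eq_true] at hcen
    obtain ⟨b, hb, hbr⟩ := exists_of_mem_tbls hc (hL := hL) hv (memKT_sound (hcen.1 s hs))
    have hmem := hconj b hb
    have hni : n.1⁻¹ = tblPerm (invT (tblOf n.1)) hvi := inv_eq_tblPerm (represents_tblOf n.1) hvi hinv
    have hrep : Represents (n * b * n⁻¹).1 (compT (compT (tblOf n.1) s) (invT (tblOf n.1))) := by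
      show Represents (n.1 * b.1 * n.1⁻¹) _
      rw [hni]
      exact represents_compT (represents_compT (represents_tblOf n.1) hbr) (tblPerm_represents _ _)
    apply hP
    apply memKT_complete hk
    have hmem' : tblOf (n * b * n⁻¹).1 ∈ LK.map Prod.snd := hmem
    rwa [tblOf_eq hrep] at hmem'

end Cfsg.Agent.Helper27
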