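import Cfsg.Agent.Helper27.L23Tables
import Cfsg.Agent.Helper27.TblSubgroup
import Cfsg.Agent.Helper17.SchreierSims

/-!
One step of a stabiliser chain for a group of permutations of the 24 points generated by a set, checked on tables.
-/

set_option autoImplicit false

namespace Cfsg.Agent.Helper27

open Cfsg
open scoped Pointwise

/-- the check of one step of a stabiliser chain: the transversal tables move the base point as they should, the
orbit is closed under the generators, and the Schreier generators have tables in the given list -/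
def chainOK (b0 : ℕ) (OL : List ℕ) (gens HL : List (List ℕ)) (TT : ℕ → List ℕ) : Bool :=
  OL.all (fun i => Nat.beq ((TT i).getD b0 0) i) &&
  OL.all (fun i => gens.all (fun Yt => OL.any (fun o => Nat.beq o (Yt.getD i 0)) &&
    HL.any (fun Ht => eqT (compT Yt (TT i)) (compT (TT (Yt.getD i 0)) Ht))))

theorem apply_pt_of_represents {g : Equiv.Perm GolayPt} {T : List ℕ} (h : Represents g T) {i : ℕ} (hi : i < 24) :
    g (pt i) = pt (T.getD i 0) := by
  have := h.2 (pt i)
  rw [idx_pt hi] at this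
  rw [← this, pt_idx]

/-- the hypotheses of the step of the stabiliser chain, from the check on tables -/
theorem chain_of_tables {Y : Set (Equiv.Perm GolayPt)} {H' : Subgroup (Equiv.Perm GolayPt)} {b0 : ℕ} {OL : List ℕ}
    {gens HL : List (List ℕ)} {TT : ℕ → List ℕ} {Tp : ℕ → Equiv.Perm GolayPt}
    (hb0 : b0 < 24) (hOL : ∀ i ∈ OL, i < 24) (hb0O : b0 ∈ OL)
    (hY : ∀ y ∈ Y, ∃ Yt ∈ gens, Represents y Yt)
    (hT : ∀ i ∈ OL, Represents (Tp i) (TT i)) (hT1 : Tp b0 = 1)
    (hH : ∀ Ht ∈ HL, ∃ h ∈ H', Represents h Ht)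
    (hok : chainOK b0 OL gens HL TT = true) :
    pt b0 ∈ (OL.map pt).toFinset ∧ (fun β => Tp (idx β)) (pt b0) = 1 ∧
    (∀ β ∈ (OL.map pt).toFinset, (fun β => Tp (idx β)) β (pt b0) = β) ∧
    (∀ β ∈ (OL.map pt).toFinset, ∀ y ∈ Y, y β ∈ (OL.map pt).toFinset ∧
      ((fun β => Tp (idx β)) (y β))⁻¹ * y * (fun β => Tp (idx β)) β ∈ H') := by
  simp only [chainOK, Bool.and_eq_true, List.all_eq_true, List.any_eq_true, eqT_iff] at hok
  obtain ⟨hok1, hok2⟩ := hok
  have hmemO : ∀ β, β ∈ (OL.map pt).toFinset ↔ ∃ i ∈ OL, pt i = β := by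
    intro β
    rw [List.mem_toFinset, List.mem_map]
  refine ⟨(hmemO _).mpr ⟨b0, hb0O, rfl⟩, ?_, ?_, ?_⟩
  · show Tp (idx (pt b0)) = 1
    rw [idx_pt hb0, hT1]
  · intro β hβ
    obtain ⟨i, hi, rfl⟩ := (hmemO β).mp hβ
    show Tp (idx (pt i)) (pt b0) = pt i
    rw [idx_pt (hOL i hi), apply_pt_of_represents (hT i hi) hb0, Nat.eq_of_beq_eq_true (hok1 i hi)]
  · intro β hβ y hy
    obtain ⟨i, hi, rfl⟩ := (hmemO β).mp hβ
    obtain ⟨Yt, hYt, hyr⟩ := hY y hy
    obtain ⟨⟨o, ho, hoe⟩, Ht, hHt, heq⟩ := hok2 i hi Yt hYt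
    have hyi : y (pt i) = pt (Yt.getD i 0) := apply_pt_of_represents hyr (hOL i hi)
    have hi' : Yt.getD i 0 ∈ OL := by rw [← Nat.eq_of_beq_eq_true hoe]; exact ho
    refine ⟨(hmemO _).mpr ⟨Yt.getD i 0, hi', hyi.symm⟩, ?_⟩
    show (Tp (idx (y (pt i))))⁻¹ * y * Tp (idx (pt i)) ∈ H'
    rw [hyi, idx_pt (hOL _ hi'), idx_pt (hOL i hi)]
    obtain ⟨h, hhH, hhr⟩ := hH Ht hHt
    have h1 : y * Tp i = Tp (Yt.getD i 0) * h := by
      have r1 := represents_compT hyr (hT i hi)
      have r2 := represents_compT (hT _ hi') hhr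
      rw [heq] at r1
      exact represents_inj r1 r2
    have h2 : (Tp (Yt.getD i 0))⁻¹ * y * Tp i = h := by
      rw [mul_assoc, h1]; group
    rw [h2]
    exact hhH

end Cfsg.Agent.Helper27
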