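import Cfsg.Agent.Helper27.M24Enum

/-!
Pruning test for the enumeration of the elements `g` of `Cfsg.M24` with `g * x = y * g`, for permutations `x`, `y`
given by tables.
-/

set_option autoImplicit false

namespace Cfsg.Agent.Helper27

open Cfsg
open scoped Pointwise

/-- pruning for the elements `g` with `g * x = y * g`: the constraints `(j, j')` listed for the newest level say
that `x` maps the `j`-th base point to the `j'`-th base point -/
def okC (Y : List ℕ) (cs : List (List (ℕ × ℕ))) (vs : List ℕ) : Bool :=
  (cs.getD (vs.length - 1) []).all (fun c => vs.getD c.2 0 == Y.getD (vs.getD c.1 0) 0)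

/-- the constraints are valid for the table `X` -/
def consOK (X : List ℕ) (cs : List (List (ℕ × ℕ))) : Bool :=
  (List.range 7).all (fun n => (cs.getD n []).all (fun c =>
    Nat.ble c.1 n && Nat.ble c.2 n && (X.getD (baseL.getD c.1 0) 0 == baseL.getD c.2 0)))

theorem conj_cond {g x y : Equiv.Perm GolayPt} {X Y : List ℕ} (hX : Represents x X) (hY : Represents y Y)
    (hc : g * x = y * g) {a b : ℕ} (ha : a < 24) (hb : b < 24) (h : X.getD a 0 = b) :
    (tblOf g).getD b 0 = Y.getD ((tblOf g).getD a 0) 0 := by
  have h1 := hX.2 (pt a)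
  rw [idx_pt ha, h] at h1
  have h2 : x (pt a) = pt b := by
    apply idx_injective
    rw [h1, idx_pt hb]
  have h3 : g (pt b) = y (g (pt a)) := by
    rw [← h2]
    have := congrArg (fun f : Equiv.Perm GolayPt => f (pt a)) hc
    simpa using this
  have h4 := hY.2 (g (pt a))
  rw [tblOf_getD g hb, tblOf_getD g ha, h3, h4]

theorem baseImgs_length (T : List ℕ) {n : ℕ} (hn : n ≤ 7) : (baseImgs T n).length = n := by
  simp [baseImgs, baseL]
  exact hn

theorem baseL_getD_lt (j : ℕ) : baseL.getD j 0 < 24 := by
  by_cases hj : j < 7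
  · interval_cases j <;> decide
  · have : baseL.getD j 0 = 0 := by
      rw [List.getD_eq_default]
      simp [baseL]; omega
    rw [this]; norm_num

theorem baseImgs_getD (T : List ℕ) {n j : ℕ} (hn : n ≤ 7) (hj : j < n) :
    (baseImgs T n).getD j 0 = T.getD (baseL.getD j 0) 0 := by
  have hl : j < (baseImgs T n).length := by rw [baseImgs_length T hn]; exact hj
  have hl2 : j < baseL.length := by simp [baseL]; omega
  rw [List.getD_eq_getElem _ _ hl, List.getD_eq_getElem _ _ hl2]
  simp [baseImgs]

theorem okC_sound {g x y : Equiv.Perm GolayPt} {X Y : List ℕ} {cs : List (List (ℕ × ℕ))} (hX : Represents x X)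
    (hY : Represents y Y) (hcs : consOK X cs = true) (hc : g * x = y * g) (n : ℕ) (hn1 : 1 ≤ n) (hn : n ≤ 7) :
    okC Y cs (baseImgs (tblOf g) n) = true := by
  simp only [okC, List.all_eq_true, beq_iff_eq]
  rw [baseImgs_length _ hn]
  intro c hcm
  simp only [consOK, List.all_eq_true, List.mem_range, Bool.and_eq_true, beq_iff_eq, Nat.ble_eq] at hcs
  obtain ⟨⟨h1, h2⟩, h3⟩ := hcs (n - 1) (by omega) c hcm
  rw [baseImgs_getD _ hn (by omega), baseImgs_getD _ hn (by omega)]
  exact conj_cond hX hY hc (baseL_getD_lt _) (baseL_getD_lt _) h3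

/-- every element `g` of `M24` with `g * x = y * g` is found by the pruned enumeration -/
theorem conj_enum_sound {g x y : Equiv.Perm GolayPt} {X Y : List ℕ} {cs : List (List (ℕ × ℕ))} (hg : g ∈ M24)
    (hX : Represents x X) (hY : Represents y Y) (hcs : consOK X cs = true) (hc : g * x = y * g) :
    tblOf g ∈ enumL chainL [] idT (okC Y cs) :=
  m24_enum_sound _ hg (fun n hn1 hn => okC_sound hX hY hcs hc n hn1 hn)

end Cfsg.Agent.Helper27
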