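import Cfsg.Agent.Helper27.TblSubgroup
import Cfsg.Agent.Helper27.M24Cent

/-!
The pruned enumeration of `Cfsg.M24` with evaluated intermediate tables, split according to the first two coset
representatives.
-/

set_option autoImplicit false

namespace Cfsg.Agent.Helper27

open Cfsg

/-- the pruned depth-first enumeration, with evaluated intermediate tables -/
def enumF : List (ℕ × List (List ℕ)) → List ℕ → List ℕ → (List ℕ → Bool) → List (List ℕ)
  | [], _, acc, _ => [acc]
  | (b, L) :: rest, vs, acc, ok =>
      L.flatMap (fun T =>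
        withNat (acc.getD (T.getD b 0) 0) (fun v =>
          if ok (vs ++ [v]) then forceL (compT acc T) (fun acc' => enumF rest (vs ++ [v]) acc' ok) else []))

theorem enumF_eq (ch : List (ℕ × List (List ℕ))) (vs acc : List ℕ) (ok : List ℕ → Bool) :
    enumF ch vs acc ok = enumL ch vs acc ok := by
  induction ch generalizing vs acc with
  | nil => rfl
  | cons bl rest ih =>
    obtain ⟨b, L⟩ := bl
    rw [enumF, enumL]
    congr 1
    funext T
    rw [withNat_eq]
    split_ifs
    · rw [forceL_eq, ih]
    · rfl

/-- the chain below the first two levels -/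
def chainTail2 : List (ℕ × List (List ℕ)) :=
  [(2, transL2), (3, transL3), (4, transL4), (5, transL5), (7, transL6)]

theorem chainL_eq2 : chainL = (0, transL0) :: (1, transL1) :: chainTail2 := rfl

/-- the test on the part of the enumeration below the `i`-th and `j`-th coset representatives of the first two
levels -/
def part2 (ok P : List ℕ → Bool) (i j : ℕ) : Bool :=
  !(ok [idT.getD ((transL0.getD i []).getD 0 0) 0]) ||
  !(ok [idT.getD ((transL0.getD i []).getD 0 0) 0,
      (compT idT (transL0.getD i [])).getD ((transL1.getD j []).getD 1 0) 0]) ||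
  (enumF chainTail2 [idT.getD ((transL0.getD i []).getD 0 0) 0,
      (compT idT (transL0.getD i [])).getD ((transL1.getD j []).getD 1 0) 0]
    (compT (compT idT (transL0.getD i [])) (transL1.getD j [])) ok).all P

theorem all_of_part2 {ok P : List ℕ → Bool} (h : ∀ i < transL0.length, ∀ j < transL1.length, part2 ok P i j = true)
    {X : List ℕ} (hX : X ∈ enumL chainL [] idT ok) : P X = true := by
  rw [chainL_eq2, enumL, List.mem_flatMap] at hX
  obtain ⟨T0, hT0, hX⟩ := hX
  obtain ⟨i, hi, rfl⟩ := List.mem_iff_getElem.mp hT0
  split_ifs at hX with hok0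
  · rw [enumL, List.mem_flatMap] at hX
    obtain ⟨T1, hT1, hX⟩ := hX
    obtain ⟨j, hj, rfl⟩ := List.mem_iff_getElem.mp hT1
    split_ifs at hX with hok1
    · have hp := h i hi j hj
      rw [part2, List.getD_eq_getElem _ _ hi, List.getD_eq_getElem _ _ hj] at hp
      simp only [List.nil_append, List.cons_append] at hok0 hok1 hX
      rw [hok0, hok1, enumF_eq] at hp
      simp only [Bool.not_true, Bool.false_or, List.all_eq_true] at hp
      exact hp X hX
    · simp at hX
  · simp at hX

/-- the chain below the first three levels -/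
def chainTail3 : List (ℕ × List (List ℕ)) := [(3, transL3), (4, transL4), (5, transL5), (7, transL6)]

theorem chainL_eq3 : chainL = (0, transL0) :: (1, transL1) :: (2, transL2) :: chainTail3 := rfl

theorem mem_enumL_cons {b : ℕ} {L : List (List ℕ)} {rest : List (ℕ × List (List ℕ))} {vs acc : List ℕ}
    {ok : List ℕ → Bool} {X : List ℕ} (hX : X ∈ enumL ((b, L) :: rest) vs acc ok) :
    ∃ k, k < L.length ∧ ok (vs ++ [acc.getD ((L.getD k []).getD b 0) 0]) = true ∧
      X ∈ enumL rest (vs ++ [acc.getD ((L.getD k []).getD b 0) 0]) (compT acc (L.getD k [])) ok := by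
  rw [enumL, List.mem_flatMap] at hX
  obtain ⟨T, hT, hX⟩ := hX
  obtain ⟨k, hk, rfl⟩ := List.mem_iff_getElem.mp hT
  refine ⟨k, hk, ?_⟩
  rw [List.getD_eq_getElem _ _ hk]
  split_ifs at hX with hok
  · exact ⟨hok, hX⟩
  · simp at hX

/-- the test on the part of the enumeration below the `i`-th, `j`-th and `k`-th coset representatives of the first
three levels -/
def part3 (ok P : List ℕ → Bool) (i j k : ℕ) : Bool :=
  !(ok [idT.getD ((transL0.getD i []).getD 0 0) 0]) ||
  !(ok [idT.getD ((transL0.getD i []).getD 0 0) 0,
      (compT idT (transL0.getD i [])).getD ((transL1.getD j []).getD 1 0) 0]) ||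
  !(ok [idT.getD ((transL0.getD i []).getD 0 0) 0,
      (compT idT (transL0.getD i [])).getD ((transL1.getD j []).getD 1 0) 0,
      (compT (compT idT (transL0.getD i [])) (transL1.getD j [])).getD ((transL2.getD k []).getD 2 0) 0]) ||
  (enumF chainTail3 [idT.getD ((transL0.getD i []).getD 0 0) 0,
      (compT idT (transL0.getD i [])).getD ((transL1.getD j []).getD 1 0) 0,
      (compT (compT idT (transL0.getD i [])) (transL1.getD j [])).getD ((transL2.getD k []).getD 2 0) 0]
    (compT (compT (compT idT (transL0.getD i [])) (transL1.getD j [])) (transL2.getD k [])) ok).all P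

theorem all_of_part3 {ok P : List ℕ → Bool}
    (h : ∀ i < transL0.length, ∀ j < transL1.length, ∀ k < transL2.length, part3 ok P i j k = true)
    {X : List ℕ} (hX : X ∈ enumL chainL [] idT ok) : P X = true := by
  rw [chainL_eq3] at hX
  obtain ⟨i, hi, hok0, hX⟩ := mem_enumL_cons hX
  obtain ⟨j, hj, hok1, hX⟩ := mem_enumL_cons hX
  obtain ⟨k, hk, hok2, hX⟩ := mem_enumL_cons hX
  have hp := h i hi j hj k hk
  simp only [List.nil_append, List.cons_append] at hok0 hok1 hok2 hX
  rw [part3, hok0, hok1, hok2, enumF_eq] at hp
  simp only [Bool.not_true, Bool.false_or, List.all_eq_true] at hp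
  exact hp X hX

end Cfsg.Agent.Helper27
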