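import Cfsg.Agent.Helper27.SextetModel

/-!
Every sextet occurs in the computed list.
-/

set_option autoImplicit false

namespace Cfsg.Agent.Helper27

open Cfsg
open scoped Pointwise

theorem exists_mask (X : Finset GolayPt) : ∃ n < 2 ^ 24, maskSet n = X := by
  classical
  obtain ⟨n, hn, h⟩ := decW_surj (fun p => if p ∈ X then 1 else 0)
  refine ⟨n, hn, ?_⟩
  ext q
  rw [mem_maskSet]
  have := congrFun h q
  rw [decW_apply] at this
  by_cases hq : q ∈ X
  · simp only [hq, if_true, iff_true] at this ⊢
    by_contra hb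
    rw [if_neg hb] at this
    exact zero_ne_one this
  · simp only [hq, if_false, iff_false] at this ⊢
    intro hb
    rw [if_pos hb] at this
    exact one_ne_zero this

theorem mem_tetIdxL {a b c : ℕ} (ha : 0 < a) (hab : a < b) (hbc : b < c) (hc : c < 24) :
    [0, a, b, c] ∈ tetIdxL := by
  simp only [tetIdxL, List.mem_flatMap, List.mem_filterMap, List.mem_range]
  refine ⟨a, by omega, b, by omega, c, hc, ?_⟩
  rw [if_pos ⟨ha, hab, hbc⟩]

/-- a tetrad containing the point with index `0` is given by a list of indices -/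
theorem tetrad_idx {t : Finset GolayPt} (h4 : t.card = 4) (h0 : pt 0 ∈ t) :
    ∃ I ∈ tetIdxL, (∀ f ∈ I, f < 24) ∧ t = ptsOf I := by
  have hJc : ((t.erase (pt 0)).image idx).card = 3 := by
    rw [Finset.card_image_of_injective _ idx_injective, Finset.card_erase_of_mem h0, h4]
  have hJmem : ∀ j ∈ (t.erase (pt 0)).image idx, 0 < j ∧ j < 24 ∧ pt j ∈ t := by
    intro j hj
    obtain ⟨p, hp, rfl⟩ := Finset.mem_image.mp hj
    rw [Finset.mem_erase] at hp
    refine ⟨?_, idx_lt p, by rw [pt_idx]; exact hp.2⟩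
    rcases Nat.eq_zero_or_pos (idx p) with h | h
    · exfalso
      apply hp.1
      apply idx_injective
      rw [h, idx_pt (by norm_num)]
    · exact h
  have hLp : (((t.erase (pt 0)).image idx).sort).Pairwise (· < ·) := (Finset.sortedLT_sort _).pairwise
  have hLl : (((t.erase (pt 0)).image idx).sort).length = 3 := by rw [Finset.length_sort, hJc]
  obtain ⟨a, b, c, hL⟩ := List.length_eq_three.mp hLl
  have hmemL : ∀ j, j ∈ [a, b, c] ↔ j ∈ (t.erase (pt 0)).image idx := by
    intro j
    rw [← hL, Finset.mem_sort]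
  rw [hL] at hLp
  simp only [List.pairwise_cons, List.mem_cons, List.not_mem_nil, or_false, forall_eq_or_imp, forall_eq,
    IsEmpty.forall_iff, implies_true, List.Pairwise.nil, and_true] at hLp
  obtain ⟨⟨hab, hac⟩, hbc⟩ := hLp
  have haJ := hJmem a ((hmemL a).mp (by simp))
  have hbJ := hJmem b ((hmemL b).mp (by simp))
  have hcJ := hJmem c ((hmemL c).mp (by simp))
  refine ⟨[0, a, b, c], mem_tetIdxL haJ.1 hab hbc hcJ.2.1, ?_, ?_⟩
  · intro f hf
    simp only [List.mem_cons, List.not_mem_nil, or_false] at hf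
    rcases hf with rfl | rfl | rfl | rfl
    · norm_num
    · exact haJ.2.1
    · exact hbJ.2.1
    · exact hcJ.2.1
  · ext q
    rw [mem_ptsOf]
    constructor
    · intro hq
      by_cases hq0 : q = pt 0
      · exact ⟨0, by simp, hq0.symm⟩
      · have : idx q ∈ (t.erase (pt 0)).image idx :=
          Finset.mem_image_of_mem idx (Finset.mem_erase.mpr ⟨hq0, hq⟩)
        have h' := (hmemL (idx q)).mpr this
        exact ⟨idx q, List.mem_cons_of_mem _ h', pt_idx q⟩
    · rintro ⟨f, hf, rfl⟩
      simp only [List.mem_cons, List.not_mem_nil, or_false] at hf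
      rcases hf with rfl | rfl | rfl | rfl
      · exact h0
      · exact haJ.2.2
      · exact hbJ.2.2
      · exact hcJ.2.2

/-- every sextet is in the list -/
theorem sextL_complete {S : Finset (Finset GolayPt)} (hS : S ∈ sextets) : ∃ L ∈ sextL, famOf L = S := by
  obtain ⟨h6, h4, hoct⟩ := hS
  have hdisj : ∀ t ∈ S, ∀ u ∈ S, t ≠ u → Disjoint t u := by
    intro t ht u hu htu
    rw [← Finset.card_union_eq_card_add_card, (hoct t ht u hu htu).2, h4 t ht, h4 u hu]
  have hcover : S.biUnion id = Finset.univ := by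
    apply Finset.eq_univ_of_card
    have hcb := Finset.card_biUnion (s := S) (t := id) (fun t ht u hu htu => hdisj t ht u hu htu)
    rw [hcb]
    have hsum : ∑ u ∈ S, (id u).card = ∑ _u ∈ S, 4 := Finset.sum_congr rfl (fun t ht => h4 t ht)
    rw [hsum, Finset.sum_const, h6]
    rfl
  obtain ⟨t, ht, h0⟩ : ∃ t ∈ S, pt 0 ∈ t := by
    have : pt 0 ∈ S.biUnion id := by rw [hcover]; exact Finset.mem_univ _
    obtain ⟨t, ht, h0⟩ := Finset.mem_biUnion.mp this
    exact ⟨t, ht, h0⟩
  obtain ⟨I, hI, hIlt, htI⟩ := tetrad_idx (h4 t ht) h0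
  rw [ptsOf_eq_maskSet hIlt] at htI
  set t0 := tblMask I with ht0
  have ht0lt : t0 < 2 ^ 24 := by
    apply Nat.lt_pow_two_of_testBit
    intro i hi
    rw [ht0, testBit_tblMask, decide_eq_false_iff_not]
    intro hmem
    have := hIlt i hmem
    omega
  have hL : sextetOf t0 ∈ sextL := List.mem_map.mpr ⟨I, hI, rfl⟩
  refine ⟨sextetOf t0, hL, ?_⟩
  have hsound := sextL_sound hL
  symm
  apply Finset.eq_of_subset_of_card_le
  · intro u hu
    rw [mem_famOf]
    by_cases hut : u = t
    · refine ⟨t0, ?_, by rw [hut, htI]⟩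
      rw [sextetOf, List.mem_insertionSort]
      exact List.mem_cons_self
    · obtain ⟨m, hm, hom⟩ := (octad_iff_octL _).mp (hoct t ht u hu (Ne.symm hut))
      have hmlt := octL_lt hm
      have hm0 : m.testBit 0 = true := by
        have : pt 0 ∈ maskSet m := by rw [← hom]; exact Finset.mem_union_left _ h0
        rwa [mem_maskSet, idx_pt (by norm_num)] at this
      have hmt : m &&& t0 = t0 := by
        apply maskSet_injOn (lt_of_le_of_lt Nat.and_le_left hmlt) ht0lt
        rw [maskSet_and, ← hom, ← htI]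
        exact Finset.inter_eq_right.mpr Finset.subset_union_left
      refine ⟨m ^^^ t0, ?_, ?_⟩
      · rw [sextetOf, List.mem_insertionSort]
        apply List.mem_cons_of_mem
        rw [List.mem_map]
        refine ⟨m, ?_, rfl⟩
        rw [List.mem_filter, octL0, List.mem_filter]
        exact ⟨⟨hm, hm0⟩, by rw [hmt]; exact beq_self_eq_true _⟩
      · conv_lhs => rw [← hmt]
        rw [maskSet_xor_and, ← hom, ← htI, Finset.union_sdiff_left]
        exact Finset.sdiff_eq_self_of_disjoint (hdisj u hu t ht hut)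
  · rw [hsound.2.1, h6]

end Cfsg.Agent.Helper27
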