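import Cfsg.Agent.Helper27.TrioData
import Cfsg.Agent.Helper27.SextData
import Cfsg.Agent.Helper27.SextetComplete
import Cfsg.Agent.Helper27.M12Hexads

/-!
Counting the octads, dodecads, trios and sextets invariant under a permutation given by a table.
-/

set_option autoImplicit false

namespace Cfsg.Agent.Helper27

open Cfsg
open scoped Pointwise

theorem trios_invariant_ncard {g : Equiv.Perm GolayPt} {T : List ℕ} (hT : Represents g T) :
    {X : Finset (Finset GolayPt) | X ∈ trios ∧ g • X = X}.ncard = ((trioData.filter (invB T)).dedup).length := by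
  rw [trioData_eq]
  exact ncard_invariant (fun L hL => trioL_sound hL) (fun X hX => trioL_complete hX) hT

theorem sextets_invariant_ncard {g : Equiv.Perm GolayPt} {T : List ℕ} (hT : Represents g T) :
    {X : Finset (Finset GolayPt) | X ∈ sextets ∧ g • X = X}.ncard =
      ((sextData.filter (invB T)).dedup).length := by
  rw [sextData_eq]
  exact ncard_invariant (fun L hL => sextL_sound hL) (fun X hX => sextL_complete hX) hT

/-- the number of supports of codewords of a given weight invariant under a permutation -/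
theorem codewords_invariant_ncard {g : Equiv.Perm GolayPt} {T : List ℕ} (hT : Represents g T) (w : ℕ) :
    {b : Finset GolayPt | b ∈ wordsOfWeight (golayCode : Set (GolayPt → ZMod 2)) w ∧ g • b = b}.ncard =
      countBelow (fun k => (popc 24 (cw k) == w) && (applyTbl T (cw k) == cw k)) 4096 := by
  rw [← ncard_codeword_masks (fun n => (popc 24 n == w) && (applyTbl T n == n))]
  congr 1
  ext b
  simp only [Set.mem_ofPred_eq, Bool.and_eq_true, beq_iff_eq]
  constructor
  · rintro ⟨hb, hg⟩
    obtain ⟨k, hk, hp, rfl⟩ := (mem_wordsOfWeight_iff w b).mp hb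
    exact ⟨k, hk, ⟨hp, applyTbl_eq_of_smul hT (cw_lt k) hg⟩, rfl⟩
  · rintro ⟨k, hk, ⟨hp, ha⟩, rfl⟩
    refine ⟨(mem_wordsOfWeight_iff w _).mpr ⟨k, hk, hp, rfl⟩, ?_⟩
    have := maskSet_applyTbl' hT (cw k)
    rw [ha] at this
    rw [eq_comm, inv_smul_eq_iff] at this
    exact this.symm

theorem octads_invariant_ncard {g : Equiv.Perm GolayPt} {T : List ℕ} (hT : Represents g T) :
    {o : Finset GolayPt | o ∈ octads ∧ g • o = o}.ncard =
      countBelow (fun k => (popc 24 (cw k) == 8) && (applyTbl T (cw k) == cw k)) 4096 :=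
  codewords_invariant_ncard hT 8

theorem dodecads_invariant_ncard {g : Equiv.Perm GolayPt} {T : List ℕ} (hT : Represents g T) :
    {d : Finset GolayPt | d ∈ dodecads ∧ g • d = d}.ncard =
      countBelow (fun k => (popc 24 (cw k) == 12) && (applyTbl T (cw k) == cw k)) 4096 :=
  codewords_invariant_ncard hT 12

/-! ### Conjugation -/

theorem ncard_fixed_conj {α : Type*} [MulAction (Equiv.Perm GolayPt) α] (fam : Set α) (k g : Equiv.Perm GolayPt)
    (hk : ∀ X, X ∈ fam → k • X ∈ fam) (hk' : ∀ X, X ∈ fam → k⁻¹ • X ∈ fam) :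
    {X | X ∈ fam ∧ g • X = X}.ncard = {X | X ∈ fam ∧ (k * g * k⁻¹) • X = X}.ncard := by
  have himg : (fun X : α => k • X) '' {X | X ∈ fam ∧ g • X = X} = {X | X ∈ fam ∧ (k * g * k⁻¹) • X = X} := by
    ext Y
    simp only [Set.mem_image, Set.mem_ofPred_eq]
    constructor
    · rintro ⟨X, ⟨hX, hg⟩, rfl⟩
      refine ⟨hk X hX, ?_⟩
      rw [mul_smul, mul_smul, inv_smul_smul, hg]
    · rintro ⟨hY, hg⟩
      refine ⟨k⁻¹ • Y, ⟨hk' Y hY, ?_⟩, smul_inv_smul k Y⟩
      rw [mul_smul, mul_smul] at hg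
      have := congrArg (fun Z => k⁻¹ • Z) hg
      simp only [inv_smul_smul] at this
      exact this
  rw [← himg, Set.ncard_image_of_injective _ (MulAction.injective k)]

theorem smul_mem_trios {k : Equiv.Perm GolayPt} (hk : k ∈ M24) {T : Finset (Finset GolayPt)} (hT : T ∈ trios) :
    k • T ∈ trios := by
  obtain ⟨h3, hoct, hdisj⟩ := hT
  refine ⟨by rw [Finset.card_smul_finset, h3], ?_, ?_⟩
  · intro o ho
    obtain ⟨o', ho', rfl⟩ := Finset.mem_smul_finset.mp ho
    exact smul_octad_mem hk (hoct o' ho')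
  · intro o ho o' ho' hne
    obtain ⟨a, ha, rfl⟩ := Finset.mem_smul_finset.mp ho
    obtain ⟨b, hb, rfl⟩ := Finset.mem_smul_finset.mp ho'
    have hab : a ≠ b := fun h => hne (by rw [h])
    have := hdisj a ha b hb hab
    rw [Finset.disjoint_iff_inter_eq_empty] at this ⊢
    rw [← Finset.smul_finset_inter, this, Finset.smul_finset_empty]

theorem smul_mem_sextets {k : Equiv.Perm GolayPt} (hk : k ∈ M24) {S : Finset (Finset GolayPt)} (hS : S ∈ sextets) :
    k • S ∈ sextets := by
  obtain ⟨h6, h4, hoct⟩ := hS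
  refine ⟨by rw [Finset.card_smul_finset, h6], ?_, ?_⟩
  · intro t ht
    obtain ⟨t', ht', rfl⟩ := Finset.mem_smul_finset.mp ht
    rw [Finset.card_smul_finset]
    exact h4 t' ht'
  · intro t ht u hu hne
    obtain ⟨a, ha, rfl⟩ := Finset.mem_smul_finset.mp ht
    obtain ⟨b, hb, rfl⟩ := Finset.mem_smul_finset.mp hu
    have hab : a ≠ b := fun h => hne (by rw [h])
    rw [← Finset.smul_finset_union]
    exact smul_octad_mem hk (hoct a ha b hb hab)

theorem trios_ncard_conj {k : Equiv.Perm GolayPt} (hk : k ∈ M24) (g : Equiv.Perm GolayPt) :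
    {X : Finset (Finset GolayPt) | X ∈ trios ∧ g • X = X}.ncard =
      {X : Finset (Finset GolayPt) | X ∈ trios ∧ (k * g * k⁻¹) • X = X}.ncard :=
  ncard_fixed_conj trios k g (fun _ h => smul_mem_trios hk h) (fun _ h => smul_mem_trios (M24.inv_mem hk) h)

theorem sextets_ncard_conj {k : Equiv.Perm GolayPt} (hk : k ∈ M24) (g : Equiv.Perm GolayPt) :
    {X : Finset (Finset GolayPt) | X ∈ sextets ∧ g • X = X}.ncard =
      {X : Finset (Finset GolayPt) | X ∈ sextets ∧ (k * g * k⁻¹) • X = X}.ncard :=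
  ncard_fixed_conj sextets k g (fun _ h => smul_mem_sextets hk h) (fun _ h => smul_mem_sextets (M24.inv_mem hk) h)

theorem octads_ncard_conj {k : Equiv.Perm GolayPt} (hk : k ∈ M24) (g : Equiv.Perm GolayPt) :
    {X : Finset GolayPt | X ∈ octads ∧ g • X = X}.ncard =
      {X : Finset GolayPt | X ∈ octads ∧ (k * g * k⁻¹) • X = X}.ncard :=
  ncard_fixed_conj octads k g (fun _ h => smul_octad_mem hk h) (fun _ h => smul_octad_mem (M24.inv_mem hk) h)

theorem dodecads_ncard_conj {k : Equiv.Perm GolayPt} (hk : k ∈ M24) (g : Equiv.Perm GolayPt) :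
    {X : Finset GolayPt | X ∈ dodecads ∧ g • X = X}.ncard =
      {X : Finset GolayPt | X ∈ dodecads ∧ (k * g * k⁻¹) • X = X}.ncard :=
  ncard_fixed_conj dodecads k g (fun _ h => smul_wordsOfWeight_mem hk h)
    (fun _ h => smul_wordsOfWeight_mem (M24.inv_mem hk) h)

end Cfsg.Agent.Helper27
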