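import Cfsg.Agent.Helper27.FamCount
import Cfsg.Agent.Helper27.M24ThreeClass

/-!
The numbers of octads, dodecads, trios and sextets invariant under the elements of orders two and three of `Cfsg.M24`.
-/

set_option autoImplicit false

namespace Cfsg.Agent.Helper27

open Cfsg
open scoped Pointwise

set_option maxRecDepth 100000

theorem zA_octads : {o : Finset GolayPt | o ∈ octads ∧ zA • o = o}.ncard = 71 := by
  rw [zA, octads_invariant_ncard (tblPerm_represents zAT zAT_valid)]; decide +kernel
theorem zA_trios : {X : Finset (Finset GolayPt) | X ∈ trios ∧ zA • X = X}.ncard = 99 := by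
  rw [zA, trios_invariant_ncard (tblPerm_represents zAT zAT_valid)]; decide +kernel
theorem zA_sextets : {X : Finset (Finset GolayPt) | X ∈ sextets ∧ zA • X = X}.ncard = 91 := by
  rw [zA, sextets_invariant_ncard (tblPerm_represents zAT zAT_valid)]; decide +kernel

theorem zB_octads : {o : Finset GolayPt | o ∈ octads ∧ zB • o = o}.ncard = 15 := by
  rw [zB, octads_invariant_ncard (tblPerm_represents zBT zBT_valid)]; decide +kernel
theorem zB_trios : {X : Finset (Finset GolayPt) | X ∈ trios ∧ zB • X = X}.ncard = 75 := by
  rw [zB, trios_invariant_ncard (tblPerm_represents zBT zBT_valid)]; decide +kernel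
theorem zB_sextets : {X : Finset (Finset GolayPt) | X ∈ sextets ∧ zB • X = X}.ncard = 51 := by
  rw [zB, sextets_invariant_ncard (tblPerm_represents zBT zBT_valid)]; decide +kernel

theorem wA_octads : {o : Finset GolayPt | o ∈ octads ∧ wA • o = o}.ncard = 21 := by
  rw [wA, octads_invariant_ncard (tblPerm_represents wAT wAT_valid)]; decide +kernel
theorem wA_trios : {X : Finset (Finset GolayPt) | X ∈ trios ∧ wA • X = X}.ncard = 15 := by
  rw [wA, trios_invariant_ncard (tblPerm_represents wAT wAT_valid)]; decide +kernel
theorem wA_sextets : {X : Finset (Finset GolayPt) | X ∈ sextets ∧ wA • X = X}.ncard = 16 := by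
  rw [wA, sextets_invariant_ncard (tblPerm_represents wAT wAT_valid)]; decide +kernel
theorem wA_dodecads : {d : Finset GolayPt | d ∈ dodecads ∧ wA • d = d}.ncard = 20 := by
  rw [wA, dodecads_invariant_ncard (tblPerm_represents wAT wAT_valid)]; decide +kernel

theorem wB_trios : {X : Finset (Finset GolayPt) | X ∈ trios ∧ wB • X = X}.ncard = 15 := by
  rw [wB, trios_invariant_ncard (tblPerm_represents wBT wBT_valid)]; decide +kernel
theorem wB_sextets : {X : Finset (Finset GolayPt) | X ∈ sextets ∧ wB • X = X}.ncard = 7 := by
  rw [wB, sextets_invariant_ncard (tblPerm_represents wBT wBT_valid)]; decide +kernel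

end Cfsg.Agent.Helper27
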