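import Mathlib

/-!
Counting a subgroup by the conjugates of an element: if all conjugates of `z` under a subgroup `H` lie in a finite
set `F`, then `H` has at most `|F|` times as many elements as the centraliser of `z` in `H`.
-/

set_option autoImplicit false

namespace Cfsg.Agent.Helper27

theorem card_le_mul_of_conj {G : Type*} [Group G] [Finite G] (H : Subgroup G) (z : G) (F : Finset G)
    (hF : ∀ h ∈ H, h * z * h⁻¹ ∈ F) :
    Nat.card H ≤ F.card * Nat.card (Subgroup.centralizer ({z} : Set G) ⊓ H : Subgroup G) := by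
  classical
  have : Fintype ↥H := Fintype.ofFinite _
  have hfib : ∀ b ∈ F, (Finset.univ.filter fun h : ↥H => (h : G) * z * (h : G)⁻¹ = b).card ≤
      Nat.card (Subgroup.centralizer ({z} : Set G) ⊓ H : Subgroup G) := by
    intro b _
    rcases Finset.eq_empty_or_nonempty (Finset.univ.filter fun h : ↥H => (h : G) * z * (h : G)⁻¹ = b) with he | hne
    · rw [he, Finset.card_empty]
      exact Nat.zero_le _
    · obtain ⟨h0, hh0⟩ := hne
      rw [Finset.mem_filter] at hh0
      rw [← Fintype.card_subtype, ← Nat.card_eq_fintype_card]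
      let φ : {h : ↥H // (h : G) * z * (h : G)⁻¹ = b} → ↥(Subgroup.centralizer ({z} : Set G) ⊓ H : Subgroup G) :=
        fun h => ⟨(h0 : G)⁻¹ * (h.1 : G), by
          rw [Subgroup.mem_inf, Subgroup.mem_centralizer_singleton_iff]
          refine ⟨?_, H.mul_mem (H.inv_mem h0.2) h.1.2⟩
          have e1 : (h0 : G) * z = b * (h0 : G) := mul_inv_eq_iff_eq_mul.mp hh0.2
          have e3 : (h.1 : G) * z = b * (h.1 : G) := mul_inv_eq_iff_eq_mul.mp h.2
          have e4 : (h0 : G)⁻¹ * b = z * (h0 : G)⁻¹ := by
            rw [eq_mul_inv_iff_mul_eq, mul_assoc, ← e1, ← mul_assoc, inv_mul_cancel, one_mul]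
          rw [mul_assoc, e3, ← mul_assoc, e4, mul_assoc]⟩
      apply Nat.card_le_card_of_injective φ
      intro a a' haa
      have := congrArg (fun x : ↥(Subgroup.centralizer ({z} : Set G) ⊓ H : Subgroup G) => (x : G)) haa
      apply Subtype.ext
      apply Subtype.ext
      exact mul_left_cancel this
  calc Nat.card H = (Finset.univ : Finset ↥H).card := by rw [Nat.card_eq_fintype_card, Finset.card_univ]
    _ = ∑ b ∈ F, (Finset.univ.filter fun h : ↥H => (h : G) * z * (h : G)⁻¹ = b).card :=
        Finset.card_eq_sum_card_fiberwise (fun h _ => hF h.1 h.2)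
    _ ≤ ∑ _b ∈ F, Nat.card (Subgroup.centralizer ({z} : Set G) ⊓ H : Subgroup G) := Finset.sum_le_sum hfib
    _ = F.card * Nat.card (Subgroup.centralizer ({z} : Set G) ⊓ H : Subgroup G) := by
        rw [Finset.sum_const, smul_eq_mul]

end Cfsg.Agent.Helper27
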