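import Cfsg.Agent.Helper25.InvPatFusion

/-!
The hypotheses of the simplicity criterion for the fusion system of a group on a Sylow subgroup (self-normalising,
no proper nontrivial subgroup closed under fusion), their invariance under isomorphisms, and the reduction to one
Sylow subgroup of an isomorphic group.
-/

set_option autoImplicit false

namespace Cfsg.Agent.Helper27

open Cfsg
open scoped Pointwise

/-- a normal subgroup of a nilpotent group meets the centre -/
theorem normal_inf_center_ne_bot {G : Type*} [Group G] [Group.IsNilpotent G]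
    (N : Subgroup G) [N.Normal] (hN : N ≠ ⊥) : N ⊓ Subgroup.center G ≠ ⊥ := by
  classical
  have hex : ∃ n, N ⊓ Subgroup.upperCentralSeries G n ≠ ⊥ := by
    obtain ⟨n, hn⟩ := Group.IsNilpotent.nilpotent G
    exact ⟨n, by rw [hn, inf_top_eq]; exact hN⟩
  have hmin : ∀ m, m < Nat.find hex → ¬ (N ⊓ Subgroup.upperCentralSeries G m ≠ ⊥) :=
    fun m hm => Nat.find_min hex hm
  have hspec := Nat.find_spec hex
  set n := Nat.find hex with hn
  cases hn' : n with
  | zero =>
    rw [hn'] at hspec
    simp at hspec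
  | succ m =>
    rw [hn'] at hspec
    have hm : N ⊓ Subgroup.upperCentralSeries G m = ⊥ := by
      by_contra h
      exact hmin m (by omega) h
    obtain ⟨x, hx1⟩ := (Subgroup.ne_bot_iff_exists_ne_one).mp hspec
    have hx1' : (x : G) ≠ 1 := fun h => hx1 (Subtype.ext h)
    obtain ⟨hxN, hxZ⟩ := Subgroup.mem_inf.mp x.2
    rw [Subgroup.mem_upperCentralSeries_succ_iff] at hxZ
    intro hbot
    have hxc : (x : G) ∈ Subgroup.center G := by
      rw [Subgroup.mem_center_iff]
      intro y
      have h1 : (x : G) * y * (x : G)⁻¹ * y⁻¹ ∈ N ⊓ Subgroup.upperCentralSeries G m := by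
        refine Subgroup.mem_inf.mpr ⟨?_, hxZ y⟩
        have h2 : y * (x : G)⁻¹ * y⁻¹ ∈ N := ‹N.Normal›.conj_mem _ (N.inv_mem hxN) y
        have h3 := N.mul_mem hxN h2
        have h4 : (x : G) * (y * (x : G)⁻¹ * y⁻¹) = (x : G) * y * (x : G)⁻¹ * y⁻¹ := by group
        rwa [h4] at h3
      rw [hm, Subgroup.mem_bot] at h1
      have h5 : (x : G) * y = y * (x : G) := by
        have : (x : G) * y = ((x : G) * y * (x : G)⁻¹ * y⁻¹) * (y * (x : G)) := by group
        rw [this, h1, one_mul]
      exact h5.symm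
    have hmem : (x : G) ∈ N ⊓ Subgroup.center G := Subgroup.mem_inf.mpr ⟨hxN, hxc⟩
    rw [hbot, Subgroup.mem_bot] at hmem
    exact hx1' hmem

/-- the hypotheses of the simplicity criterion -/
def FusHyp {G : Type*} [Group G] (S : Subgroup G) : Prop :=
  S ≠ ⊥ ∧
  (∀ T : Subgroup G, T ≤ S → (∀ t ∈ T, ∀ g : G, g * t * g⁻¹ ∈ S → g * t * g⁻¹ ∈ T) → T = ⊥ ∨ T = S) ∧
  Subgroup.normalizer (S : Set G) ≤ S

theorem FusHyp.map {G H : Type*} [Group G] [Group H] (e : G ≃* H) {S : Subgroup G} (h : FusHyp S) :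
    FusHyp (S.map e.toMonoidHom) := by
  obtain ⟨h1, h2, h3⟩ := h
  refine ⟨?_, ?_, ?_⟩
  · intro hbot
    apply h1
    exact (Subgroup.map_eq_bot_iff_of_injective S e.injective).mp hbot
  · intro T hTS hT
    have hsurj : Function.Surjective e.toMonoidHom := e.surjective
    have hle : T.comap e.toMonoidHom ≤ S := by
      intro x hx
      obtain ⟨s, hs, hsx⟩ := hTS (Subgroup.mem_comap.mp hx)
      have : s = x := e.injective hsx
      rwa [← this]
    have hcl : ∀ t ∈ T.comap e.toMonoidHom, ∀ g : G, g * t * g⁻¹ ∈ S → g * t * g⁻¹ ∈ T.comap e.toMonoidHom := by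
      intro t ht g hg
      rw [Subgroup.mem_comap]
      have h4 : e.toMonoidHom (g * t * g⁻¹) = e g * e t * (e g)⁻¹ := by simp
      rw [h4]
      apply hT (e t) (Subgroup.mem_comap.mp ht) (e g)
      rw [← h4]
      exact Subgroup.mem_map_of_mem _ hg
    rcases h2 _ hle hcl with h5 | h5
    · left
      rw [← Subgroup.map_comap_eq_self_of_surjective hsurj T, h5, Subgroup.map_bot]
    · right
      rw [← Subgroup.map_comap_eq_self_of_surjective hsurj T, h5]
  · rw [← Subgroup.map_equiv_normalizer_eq]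
    exact Subgroup.map_mono h3

/-- the criterion for all Sylow subgroups of a group isomorphic to one in which one subgroup of Sylow order satisfies
the hypotheses -/
theorem isSimple_fusion_of_fusHyp {G H : Type*} [Group G] [Finite G] [Group H] (e : G ≃* H) (p : ℕ)
    [hp : Fact p.Prime] {k m : ℕ} (hcard : Nat.card H = p ^ k * m) (hm : ¬ p ∣ m)
    (S0 : Subgroup H) (hS0 : Nat.card S0 = p ^ k) (h0 : FusHyp S0) (S : Sylow p G) :
    (groupFusionSystem (S : Subgroup G)).IsSimple p := by
  have hfin : Finite H := Finite.of_equiv G e.toEquiv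
  have hcardG : Nat.card G = p ^ k * m := by rw [Nat.card_congr e.toEquiv, hcard]
  have hnd : ¬ p ^ (k + 1) ∣ Nat.card H := by
    rw [hcard, pow_succ]
    intro hd
    exact hm ((Nat.mul_dvd_mul_iff_left (pow_pos hp.out.pos k)).mp hd)
  have hS : Nat.card (S : Subgroup G) = p ^ k := by
    have h1 := S.card_eq_multiplicity
    rw [h1, hcardG]
    congr 1
    rw [Nat.factorization_mul (pow_ne_zero _ hp.out.ne_zero) (by rintro rfl; exact hm (dvd_zero p))]
    simp [hp.out.factorization, Nat.factorization_eq_zero_of_not_dvd hm]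
  have hS' : Nat.card ((S : Subgroup G).map e.toMonoidHom) = p ^ k := by
    rw [← hS]
    exact Nat.card_congr (Subgroup.equivMapOfInjective _ _ e.injective).toEquiv.symm
  obtain ⟨g, hg⟩ := exists_conj_of_card_eq (p := p) (k := k) ((S : Subgroup G).map e.toMonoidHom) S0 hS' hS0 hnd
  have h1 : FusHyp ((S : Subgroup G).map e.toMonoidHom) := by
    rw [hg]
    exact FusHyp.map (MulAut.conj g) h0
  have h2 : FusHyp (((S : Subgroup G).map e.toMonoidHom).map e.symm.toMonoidHom) := FusHyp.map e.symm h1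
  have h3 : ((S : Subgroup G).map e.toMonoidHom).map e.symm.toMonoidHom = (S : Subgroup G) := by
    rw [Subgroup.map_map]
    have : e.symm.toMonoidHom.comp e.toMonoidHom = MonoidHom.id G := by
      ext x; simp
    rw [this, Subgroup.map_id]
  rw [h3] at h2
  exact Cfsg.Agent.Helper25.groupFusionSystem_isSimple_of_selfnorm p S h2.1 h2.2.1 h2.2.2

/-- in a `p`-group whose centre has only one nontrivial element `z`, a nontrivial subgroup closed under conjugation
contains `z` -/
theorem mem_of_closed_of_center {G : Type*} [Group G] (p : ℕ) [hp : Fact p.Prime] (S : Subgroup G) [Finite S]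
    (hS : IsPGroup p S) (z : G) (hcen : ∀ c ∈ S, (∀ s ∈ S, c * s = s * c) → c = 1 ∨ c = z)
    (T : Subgroup G) (hTS : T ≤ S) (hT : ∀ t ∈ T, ∀ g ∈ S, g * t * g⁻¹ ∈ T) (hne : T ≠ ⊥) : z ∈ T := by
  have hnil : Group.IsNilpotent S := hS.isNilpotent
  have hnorm : (T.subgroupOf S).Normal := by
    constructor
    intro n hn s
    rw [Subgroup.mem_subgroupOf] at hn ⊢
    exact hT _ hn s.1 s.2
  have hne' : T.subgroupOf S ≠ ⊥ := by
    intro h
    apply hne
    rw [Subgroup.subgroupOf_eq_bot] at h
    rw [eq_bot_iff]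
    intro x hx
    have := h.le_bot ⟨hx, hTS hx⟩
    exact this
  have h1 := normal_inf_center_ne_bot (T.subgroupOf S) hne'
  obtain ⟨x', hx'1⟩ := (Subgroup.ne_bot_iff_exists_ne_one).mp h1
  have hx : x'.1 ∈ T.subgroupOf S ⊓ Subgroup.center S := x'.2
  have hx1 : x'.1 ≠ 1 := fun h => hx'1 (Subtype.ext h)
  set x : ↥S := x'.1 with hxdef
  obtain ⟨hxT, hxZ⟩ := Subgroup.mem_inf.mp hx
  rw [Subgroup.mem_subgroupOf] at hxT
  rw [Subgroup.mem_center_iff] at hxZ
  have hc := hcen x.1 x.2 (fun s hs => by
    have := hxZ ⟨s, hs⟩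
    have h2 := congrArg Subtype.val this
    exact h2.symm)
  rcases hc with hc | hc
  · exfalso
    exact hx1 (Subtype.ext hc)
  · rw [← hc]; exact hxT

end Cfsg.Agent.Helper27
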