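import Mathlib

/-!
Generic tools to identify a quotient of a finite group with a general linear group over `ZMod p` (times another
group): the general linear group as the group of additive permutations of `Fin n → ZMod p`, permutation
representations on an index set from an invariant injective family, and the quotient of a group by the kernel of a
homomorphism whose range lies in the range of an injective homomorphism of the right order.
-/

set_option autoImplicit false

namespace Cfsg.Agent.Helper27

/-- linear automorphisms as permutations -/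
def linEquivToPerm (R V : Type*) [Semiring R] [AddCommMonoid V] [Module R V] : (V ≃ₗ[R] V) →* Equiv.Perm V where
  toFun e := e.toEquiv
  map_one' := rfl
  map_mul' _ _ := rfl

theorem linEquivToPerm_injective (R V : Type*) [Semiring R] [AddCommMonoid V] [Module R V] :
    Function.Injective (linEquivToPerm R V) := by
  intro e f h
  apply LinearEquiv.toEquiv_injective
  exact h

/-- the general linear group over `ZMod p` acting on vectors -/
def glPerm (n p : ℕ) : GL (Fin n) (ZMod p) →* Equiv.Perm (Fin n → ZMod p) :=
  (linEquivToPerm (ZMod p) (Fin n → ZMod p)).comp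
    ((LinearMap.GeneralLinearGroup.generalLinearEquiv (ZMod p) (Fin n → ZMod p)).toMonoidHom.comp
      (Matrix.GeneralLinearGroup.toLin (n := Fin n) (R := ZMod p)).toMonoidHom)

theorem glPerm_injective (n p : ℕ) : Function.Injective (glPerm n p) := by
  unfold glPerm
  rw [MonoidHom.coe_comp, MonoidHom.coe_comp]
  exact (linEquivToPerm_injective _ _).comp
    ((LinearMap.GeneralLinearGroup.generalLinearEquiv (ZMod p) (Fin n → ZMod p)).injective.comp
      (Matrix.GeneralLinearGroup.toLin (n := Fin n) (R := ZMod p)).injective)

/-- the range of `glPerm` consists of the additive permutations -/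
theorem mem_range_glPerm (n p : ℕ) (σ : Equiv.Perm (Fin n → ZMod p)) (h : ∀ x y, σ (x + y) = σ x + σ y) :
    σ ∈ (glPerm n p).range := by
  let e : (Fin n → ZMod p) ≃ₗ[ZMod p] (Fin n → ZMod p) :=
    { toFun := σ
      map_add' := h
      map_smul' := fun c x => ZMod.map_smul (AddMonoidHom.mk' σ h) c x
      invFun := σ.symm
      left_inv := σ.left_inv
      right_inv := σ.right_inv }
  refine ⟨(Matrix.GeneralLinearGroup.toLin (n := Fin n) (R := ZMod p)).symm
    ((LinearMap.GeneralLinearGroup.generalLinearEquiv (ZMod p) (Fin n → ZMod p)).symm e), ?_⟩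
  unfold glPerm
  simp only [MonoidHom.coe_comp, MulEquiv.toMonoidHom_eq_coe, MonoidHom.coe_coe, Function.comp_apply,
    MulEquiv.apply_symm_apply]
  rfl

/-- a permutation representation on the index set of an injective family with invariant range -/
theorem exists_permHom {G α ι : Type*} [Group G] [MulAction G α] (f : ι → α) (hf : Function.Injective f)
    (hinv : ∀ (g : G) (i : ι), ∃ j, g • f i = f j) :
    ∃ ρ : G →* Equiv.Perm ι, ∀ g i, f (ρ g i) = g • f i := by
  classical
  let σ : G → ι → ι := fun g i => Classical.choose (hinv g i)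
  have hσ : ∀ g i, f (σ g i) = g • f i := fun g i => (Classical.choose_spec (hinv g i)).symm
  have h1 : ∀ i, σ 1 i = i := fun i => hf (by rw [hσ, one_smul])
  have hm : ∀ g h i, σ (g * h) i = σ g (σ h i) := fun g h i => hf (by rw [hσ, hσ, hσ, mul_smul])
  refine ⟨{ toFun := fun g => ⟨σ g, σ g⁻¹, fun i => by rw [← hm, inv_mul_cancel, h1],
              fun i => by rw [← hm, mul_inv_cancel, h1]⟩
            map_one' := Equiv.ext h1
            map_mul' := fun g h => Equiv.ext (hm g h) }, fun g i => hσ g i⟩

/-- the quotient by the kernel of a homomorphism whose range lies in the range of an injective homomorphism from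
a group that is not too large -/
theorem quot_iso_of_range_le {S A B : Type*} [Group S] [Group A] [Group B] [Finite S] [Finite B]
    (Φ : S →* A) (Ψ : B →* A) (hΨ : Function.Injective Ψ) (hle : Φ.range ≤ Ψ.range)
    (hcard : Nat.card B * Nat.card Φ.ker ≤ Nat.card S) :
    Nonempty (S ⧸ Φ.ker ≃* B) ∧ Nat.card S = Nat.card B * Nat.card Φ.ker := by
  have e1 : S ⧸ Φ.ker ≃* Φ.range := QuotientGroup.quotientKerEquivRange Φ
  have e2 : B ≃* Ψ.range := MonoidHom.ofInjective hΨ
  have hS : Nat.card S = Nat.card Φ.range * Nat.card Φ.ker := by
    rw [← Nat.card_congr e1.toEquiv]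
    exact Subgroup.card_eq_card_quotient_mul_card_subgroup Φ.ker
  have hfinr : Finite Ψ.range := Finite.of_equiv B e2.toEquiv
  have hker : 0 < Nat.card Φ.ker := Nat.card_pos
  have hBr : Nat.card B = Nat.card Ψ.range := Nat.card_congr e2.toEquiv
  have hle2 : Nat.card Φ.range ≤ Nat.card Ψ.range := Subgroup.card_le_of_le hle
  have hge : Nat.card Ψ.range ≤ Nat.card Φ.range := by
    rw [← hBr]
    rw [hS] at hcard
    exact Nat.le_of_mul_le_mul_right hcard hker
  have heq : Φ.range = Ψ.range := Subgroup.eq_of_le_of_card_ge hle hge
  refine ⟨⟨e1.trans ((MulEquiv.subgroupCongr heq).trans e2.symm)⟩, ?_⟩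
  rw [hS, hBr, heq]

end Cfsg.Agent.Helper27
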