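import Cfsg.Agent.Helper27.GLIso

/-!
More generic tools: an isomorphism from an injective homomorphism whose range lies in the range of another injective
homomorphism from a group that is not larger, and the transport of the centraliser of an element along an
isomorphism.
-/

set_option autoImplicit false

namespace Cfsg.Agent.Helper27

/-- an injective homomorphism whose range lies in the range of an injective homomorphism from a group of at most
the same order gives an isomorphism -/
theorem iso_of_injective_range_le {S A B : Type*} [Group S] [Group A] [Group B] [Finite S] [Finite B]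
    (Φ : S →* A) (Ψ : B →* A) (hΦ : Function.Injective Φ) (hΨ : Function.Injective Ψ) (hle : Φ.range ≤ Ψ.range)
    (hcard : Nat.card B ≤ Nat.card S) : Nonempty (S ≃* B) := by
  have e1 : S ≃* Φ.range := MonoidHom.ofInjective hΦ
  have e2 : B ≃* Ψ.range := MonoidHom.ofInjective hΨ
  have hfinr : Finite Ψ.range := Finite.of_equiv B e2.toEquiv
  have hge : Nat.card Ψ.range ≤ Nat.card Φ.range := by
    rw [← Nat.card_congr e1.toEquiv, ← Nat.card_congr e2.toEquiv]
    exact hcard
  have heq : Φ.range = Ψ.range := Subgroup.eq_of_le_of_card_ge hle hge
  exact ⟨e1.trans ((MulEquiv.subgroupCongr heq).trans e2.symm)⟩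

/-- the centraliser of an element is carried to the centraliser of its image by an isomorphism -/
theorem centralizer_singleton_map {A B : Type*} [Group A] [Group B] (ε : A ≃* B) (x : A) :
    (Subgroup.centralizer ({x} : Set A)).map ε.toMonoidHom = Subgroup.centralizer ({ε x} : Set B) := by
  ext y
  rw [Subgroup.mem_map_equiv, Subgroup.mem_centralizer_singleton_iff, Subgroup.mem_centralizer_singleton_iff]
  constructor
  · intro h
    have := congrArg ε h
    simpa using this
  · intro h
    apply ε.injective
    simpa using h

/-- the centralisers of an element and of its image under an isomorphism are isomorphic -/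
noncomputable def centralizerSingletonEquiv {A B : Type*} [Group A] [Group B] (ε : A ≃* B) (x : A) :
    ↥(Subgroup.centralizer ({x} : Set A)) ≃* ↥(Subgroup.centralizer ({ε x} : Set B)) :=
  (ε.subgroupMap (Subgroup.centralizer ({x} : Set A))).trans
    (MulEquiv.subgroupCongr (centralizer_singleton_map ε x))

end Cfsg.Agent.Helper27
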