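import Mathlib
import Cfsg.Prelude.Def_Sporadic_a

/-!
Bit-mask model of the length-24 binary code `Cfsg.golayCode`: words are encoded as natural numbers below `2 ^ 24`
(bit `i < 23` is the residue `i`, bit `23` the extra point).  All heavy facts are reduced to kernel computations on
natural numbers.
-/

set_option autoImplicit false

namespace Cfsg.Agent.Helper27

open Cfsg

/-! ### Points and indices -/

/-- index of a point: residues `0..22`, the extra point is `23` -/
def idx : GolayPt → ℕ
  | none => 23
  | some x => x.val

/-- the point with a given index -/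
def pt (i : ℕ) : GolayPt := if i < 23 then some (i : ZMod 23) else none

theorem idx_lt (p : GolayPt) : idx p < 24 := by
  cases p with
  | none => simp [idx]
  | some x =>
    have : x.val < 23 := ZMod.val_lt x
    simp only [idx]; omega

theorem idx_pt {i : ℕ} (h : i < 24) : idx (pt i) = i := by
  unfold pt
  split_ifs with h23
  · simp only [idx]
    exact ZMod.val_natCast_of_lt h23
  · simp only [idx]; omega

theorem pt_idx (p : GolayPt) : pt (idx p) = p := by
  cases p with
  | none => simp [idx, pt]
  | some x =>
    have : x.val < 23 := ZMod.val_lt x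
    simp [idx, pt, this]

theorem idx_injective : Function.Injective idx := by
  intro p q h
  rw [← pt_idx p, ← pt_idx q, h]

/-! ### Decoding bit masks to words -/

/-- the word encoded by a bit mask -/
def decW (n : ℕ) : GolayPt → ZMod 2 := fun p => if n.testBit (idx p) then 1 else 0

theorem decW_apply (n : ℕ) (p : GolayPt) : decW n p = if n.testBit (idx p) then 1 else 0 := rfl

theorem decW_zero : decW 0 = 0 := by
  funext p
  simp [decW]

theorem decW_xor (a b : ℕ) : decW (a ^^^ b) = decW a + decW b := by
  funext p
  simp only [decW, Nat.testBit_xor, Pi.add_apply]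
  cases a.testBit (idx p) <;> cases b.testBit (idx p) <;> decide

theorem decW_and (a b : ℕ) : decW (a &&& b) = decW a * decW b := by
  funext p
  simp only [decW, Nat.testBit_and, Pi.mul_apply]
  cases a.testBit (idx p) <;> cases b.testBit (idx p) <;> decide

theorem decW_ne_zero_iff (n : ℕ) (p : GolayPt) : decW n p ≠ 0 ↔ n.testBit (idx p) = true := by
  simp only [decW]
  cases n.testBit (idx p) <;> decide

theorem decW_eq_one_iff (n : ℕ) (p : GolayPt) : decW n p = 1 ↔ n.testBit (idx p) = true := by
  simp only [decW]
  cases n.testBit (idx p) <;> decide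

theorem decW_injOn {a b : ℕ} (ha : a < 2 ^ 24) (hb : b < 2 ^ 24) (h : decW a = decW b) : a = b := by
  apply Nat.eq_of_testBit_eq
  intro i
  by_cases hi : i < 24
  · have h1 := congrFun h (pt i)
    simp only [decW, idx_pt hi] at h1
    cases ha' : a.testBit i <;> cases hb' : b.testBit i <;> simp_all
  · have h24 : 24 ≤ i := by omega
    have h2 : (2 : ℕ) ^ 24 ≤ 2 ^ i := Nat.pow_le_pow_right (by norm_num) h24
    rw [Nat.testBit_lt_two_pow (lt_of_lt_of_le ha h2), Nat.testBit_lt_two_pow (lt_of_lt_of_le hb h2)]

/-- every word is encoded by a mask below `2 ^ 24` -/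
theorem decW_surj (w : GolayPt → ZMod 2) : ∃ n < 2 ^ 24, decW n = w := by
  refine ⟨Nat.ofBits (fun i : Fin 24 => decide (w (pt i) = 1)), Nat.ofBits_lt_two_pow _, ?_⟩
  funext p
  have hp := idx_lt p
  simp only [decW, Nat.testBit_ofBits_lt _ _ hp, pt_idx]
  have : w p = 0 ∨ w p = 1 := by
    have : ∀ z : ZMod 2, z = 0 ∨ z = 1 := by decide
    exact this _
  rcases this with h | h <;> simp [h]

/-! ### Population count -/

/-- number of set bits among the lowest `f` bits -/
def popc : ℕ → ℕ → ℕ
  | 0, _ => 0
  | (f+1), n => n % 2 + popc f (n / 2)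

theorem popc_eq_sum (f n : ℕ) : popc f n = ∑ i ∈ Finset.range f, if n.testBit i then 1 else 0 := by
  induction f generalizing n with
  | zero => simp [popc]
  | succ f ih =>
    rw [popc, ih, Finset.sum_range_succ']
    have h0 : (if n.testBit 0 = true then 1 else 0) = n % 2 := by
      rw [Nat.testBit_zero]
      rcases Nat.mod_two_eq_zero_or_one n with h | h <;> simp [h]
    rw [h0, add_comm]
    congr 1
    apply Finset.sum_congr rfl
    intro i _
    rw [Nat.testBit_div_two]

theorem sum_golayPt {M : Type*} [AddCommMonoid M] (f : GolayPt → M) :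
    ∑ p, f p = ∑ i ∈ Finset.range 24, f (pt i) := by
  have h2 : ∑ i : ZMod 23, f (some i) = ∑ i : Fin 23, f (pt (i : ℕ)) := by
    show ∑ i : Fin 23, f (some (i : ZMod 23)) = ∑ i : Fin 23, f (pt (i : ℕ))
    apply Finset.sum_congr rfl
    intro i _
    have : pt (i : ℕ) = (some i : GolayPt) := pt_idx (some i)
    rw [this]
  have h1 : f (pt 23) = f none := by simp [pt]
  rw [Fintype.sum_option, Finset.sum_range_succ, h1, h2,
    Fin.sum_univ_eq_sum_range (fun i => f (pt i)) 23, add_comm]

theorem card_support_decW (n : ℕ) : (support₂ (decW n)).card = popc 24 n := by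
  rw [support₂, Finset.card_filter, sum_golayPt, popc_eq_sum]
  apply Finset.sum_congr rfl
  intro i hi
  have hi' : i < 24 := Finset.mem_range.mp hi
  simp only [decW_ne_zero_iff, idx_pt hi']

theorem hammingNorm_decW (n : ℕ) : hammingNorm (decW n) = popc 24 n := by
  rw [← card_support_decW]
  rfl

theorem sum_decW (n : ℕ) : ∑ p, decW n p = (popc 24 n : ZMod 2) := by
  rw [sum_golayPt, popc_eq_sum, Nat.cast_sum]
  apply Finset.sum_congr rfl
  intro i hi
  have hi' : i < 24 := Finset.mem_range.mp hi
  simp only [decW, idx_pt hi']
  split_ifs <;> simp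

theorem dot_decW (a b : ℕ) : ∑ p, decW a p * decW b p = (popc 24 (a &&& b) : ZMod 2) := by
  rw [← sum_decW, decW_and]
  rfl

theorem mem_support_decW (n : ℕ) (p : GolayPt) : p ∈ support₂ (decW n) ↔ n.testBit (idx p) = true := by
  simp [support₂, decW_ne_zero_iff]

/-! ### Linear combinations of masks -/

/-- xor of the masks of a list selected by the bits of `k` -/
def combo : List ℕ → ℕ → ℕ
  | [], _ => 0
  | b :: bs, k => (if k % 2 = 1 then b else 0) ^^^ combo bs (k / 2)

theorem combo_xor (bs : List ℕ) (k k' : ℕ) : combo bs k ^^^ combo bs k' = combo bs (k ^^^ k') := by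
  induction bs generalizing k k' with
  | nil => simp [combo]
  | cons b bs ih =>
    simp only [combo]
    rw [Nat.xor_div_two, ← ih]
    have hx : (if (k ^^^ k') % 2 = 1 then b else 0) = (if k % 2 = 1 then b else 0) ^^^ (if k' % 2 = 1 then b else 0) := by
      by_cases h1 : k % 2 = 1 <;> by_cases h2 : k' % 2 = 1
      · have h3 : ¬ (k ^^^ k') % 2 = 1 := by rw [Nat.xor_mod_two_eq_one]; tauto
        rw [if_pos h1, if_pos h2, if_neg h3, Nat.xor_self]
      · have h3 : (k ^^^ k') % 2 = 1 := by rw [Nat.xor_mod_two_eq_one]; tauto
        rw [if_pos h1, if_neg h2, if_pos h3, Nat.xor_zero]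
      · have h3 : (k ^^^ k') % 2 = 1 := by rw [Nat.xor_mod_two_eq_one]; tauto
        rw [if_neg h1, if_pos h2, if_pos h3, Nat.zero_xor]
      · have h3 : ¬ (k ^^^ k') % 2 = 1 := by rw [Nat.xor_mod_two_eq_one]; tauto
        rw [if_neg h1, if_neg h2, if_neg h3, Nat.xor_self]
    rw [hx]
    ac_rfl

theorem combo_lt (bs : List ℕ) (m : ℕ) (h : ∀ b ∈ bs, b < 2 ^ m) (k : ℕ) : combo bs k < 2 ^ m := by
  induction bs generalizing k with
  | nil => simp [combo]
  | cons b bs ih =>
    simp only [combo]
    apply Nat.xor_lt_two_pow
    · split_ifs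
      · exact h b (by simp)
      · exact Nat.two_pow_pos m
    · exact ih (fun b' hb' => h b' (by simp [hb'])) _

theorem decW_combo_mem (S : Submodule (ZMod 2) (GolayPt → ZMod 2)) (bs : List ℕ)
    (h : ∀ b ∈ bs, decW b ∈ S) (k : ℕ) : decW (combo bs k) ∈ S := by
  induction bs generalizing k with
  | nil => simp only [combo, decW_zero]; exact S.zero_mem
  | cons b bs ih =>
    simp only [combo, decW_xor]
    apply S.add_mem
    · split_ifs
      · exact h b (by simp)
      · rw [decW_zero]; exact S.zero_mem
    · exact ih (fun b' hb' => h b' (by simp [hb'])) _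

/-! ### The generators and the systematic basis -/

/-- masks of the 23 translates of the squares -/
def qrMaskL : List ℕ := [340831, 681662, 1363324, 2726648, 5453296, 2517985, 5035970, 1683333, 3366666, 6733332,
  5078057, 1767507, 3535014, 7070028, 5751449, 3114291, 6228582, 4068557, 8137114, 7885621, 7382635, 6376663, 4364719]

/-- mask of `qrWord t` -/
def qrMask (t : ZMod 23) : ℕ := qrMaskL.getD t.val 0

/-- mask of the all-ones word -/
def onesMask : ℕ := 16777215

/-- the 24 generators: the translates and the all-ones word -/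
def gensL : List ℕ := qrMaskL ++ [onesMask]

/-- a basis in systematic form: `basisL[j]` has bit `j` set and no other bit below `12` -/
def basisL : List ℕ := [13062145, 4845570, 13938692, 7221256, 10170384, 11952160, 15515712, 2019456, 4038912,
  8077824, 11654144, 14919680]

/-- the codeword with information bits `k` -/
def cw (k : ℕ) : ℕ := combo basisL k

theorem qrWord_eq_aux : ∀ t : ZMod 23, ∀ p : GolayPt, qrWord t p = decW (qrMask t) p := by
  decide +kernel

theorem qrWord_eq (t : ZMod 23) : qrWord t = decW (qrMask t) := funext (qrWord_eq_aux t)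

theorem one_eq_aux : ∀ p : GolayPt, (1 : GolayPt → ZMod 2) p = decW onesMask p := by
  decide +kernel

theorem one_eq : (1 : GolayPt → ZMod 2) = decW onesMask := funext one_eq_aux

theorem qrMask_mem_gensL (t : ZMod 23) : qrMask t ∈ gensL := by
  revert t; decide +kernel

theorem decW_gens_mem : ∀ b ∈ gensL, decW b ∈ golayCode := by
  intro b hb
  simp only [gensL, List.mem_append, List.mem_singleton] at hb
  rcases hb with hb | hb
  · have : ∃ t : ZMod 23, qrMask t = b := by
      revert b; decide +kernel
    obtain ⟨t, rfl⟩ := this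
    rw [← qrWord_eq]
    exact Submodule.subset_span (Or.inl ⟨t, rfl⟩)
  · subst hb
    rw [← one_eq]
    exact Submodule.subset_span (Or.inr rfl)

/-- coefficients expressing the systematic basis through the generators -/
def basisCoeffL : List ℕ := [8390313, 280, 8389785, 1400, 8390330, 8390551, 8390093, 2000, 1347, 101, 8390243, 8390181]

theorem basis_eq_combo : basisL = basisCoeffL.map (combo gensL) := by
  decide +kernel

theorem decW_basis_mem : ∀ b ∈ basisL, decW b ∈ golayCode := by
  intro b hb
  rw [basis_eq_combo, List.mem_map] at hb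
  obtain ⟨k, _, rfl⟩ := hb
  exact decW_combo_mem _ _ decW_gens_mem k

theorem decW_cw_mem (k : ℕ) : decW (cw k) ∈ golayCode :=
  decW_combo_mem _ _ decW_basis_mem k

theorem cw_xor (k k' : ℕ) : cw k ^^^ cw k' = cw (k ^^^ k') := combo_xor _ _ _

theorem cw_lt (k : ℕ) : cw k < 2 ^ 24 := by
  apply combo_lt
  decide +kernel

theorem cw_zero : cw 0 = 0 := by decide +kernel

/-- each generator is a codeword with information bits its low 12 bits -/
theorem gens_eq_cw : ∀ b ∈ gensL, cw (b % 4096) = b := by
  decide +kernel

/-- loop: a Boolean predicate holds for all numbers below `n` -/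
def allBelow (P : ℕ → Bool) : ℕ → Bool
  | 0 => true
  | n+1 => P n && allBelow P n

theorem allBelow_spec {P : ℕ → Bool} {n : ℕ} (h : allBelow P n = true) : ∀ k < n, P k = true := by
  induction n with
  | zero => intro k hk; omega
  | succ n ih =>
    simp only [allBelow, Bool.and_eq_true] at h
    intro k hk
    rcases Nat.lt_succ_iff_lt_or_eq.mp hk with h1 | h1
    · exact ih h.2 k h1
    · rw [h1]; exact h.1

/-- number of `k < n` satisfying a Boolean predicate -/
def countBelow (P : ℕ → Bool) : ℕ → ℕ
  | 0 => 0
  | n+1 => (if P n then 1 else 0) + countBelow P n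

theorem countBelow_spec (P : ℕ → Bool) (n : ℕ) :
    countBelow P n = ((Finset.range n).filter (fun k => P k = true)).card := by
  induction n with
  | zero => simp [countBelow]
  | succ n ih =>
    rw [countBelow, ih, Finset.range_add_one, Finset.filter_insert]
    by_cases h : P n = true
    · rw [if_pos h, if_pos h, Finset.card_insert_of_notMem]
      · omega
      · simp
    · rw [if_neg h, if_neg h]; omega

/-- the information bits of a codeword are its low 12 bits -/
theorem cw_mod_aux : allBelow (fun k => cw k % 4096 == k) 4096 = true := by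
  decide +kernel

theorem cw_mod {k : ℕ} (hk : k < 4096) : cw k % 4096 = k := by
  have := allBelow_spec cw_mod_aux k hk
  simpa using this

/-- the set of decoded codewords -/
theorem mem_golayCode_iff (w : GolayPt → ZMod 2) : w ∈ golayCode ↔ ∃ k < 4096, w = decW (cw k) := by
  constructor
  · intro hw
    -- the decoded codewords form a submodule containing the generators
    let S : Submodule (ZMod 2) (GolayPt → ZMod 2) :=
      { carrier := {w | ∃ k < 4096, w = decW (cw k)}
        zero_mem' := ⟨0, by norm_num, by rw [cw_zero, decW_zero]⟩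
        add_mem' := by
          rintro _ _ ⟨k, hk, rfl⟩ ⟨k', hk', rfl⟩
          refine ⟨k ^^^ k', ?_, ?_⟩
          · exact Nat.xor_lt_two_pow (n := 12) hk hk'
          · rw [← cw_xor, decW_xor]
        smul_mem' := by
          rintro c _ ⟨k, hk, rfl⟩
          have hc : c = 0 ∨ c = 1 := by
            have : ∀ z : ZMod 2, z = 0 ∨ z = 1 := by decide
            exact this c
          rcases hc with rfl | rfl
          · exact ⟨0, by norm_num, by rw [zero_smul, cw_zero, decW_zero]⟩
          · exact ⟨k, hk, by rw [one_smul]⟩ }
    have hle : golayCode ≤ S := by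
      apply Submodule.span_le.mpr
      rintro g (⟨t, rfl⟩ | hg)
      · refine ⟨qrMask t % 4096, Nat.mod_lt _ (by norm_num), ?_⟩
        rw [gens_eq_cw _ (qrMask_mem_gensL t), qrWord_eq]
      · rw [Set.mem_singleton_iff] at hg
        subst hg
        refine ⟨onesMask % 4096, Nat.mod_lt _ (by norm_num), ?_⟩
        rw [gens_eq_cw _ (by simp [gensL]), one_eq]
    exact hle hw
  · rintro ⟨k, _, rfl⟩
    exact decW_cw_mem k

end Cfsg.Agent.Helper27
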