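import Cfsg.Agent.Helper27.OctadPair
import Cfsg.Agent.Helper27.M12
import Cfsg.Agent.Helper27.M24Gen

/-!
The stabiliser in `Cfsg.M24` of a codeword fixes no non-zero coset of the code.
-/

set_option autoImplicit false

namespace Cfsg.Agent.Helper27

open Cfsg
open scoped Pointwise

/-- the action of a permutation on words -/
def actW (σ : Equiv.Perm GolayPt) (w : GolayPt → ZMod 2) : GolayPt → ZMod 2 := fun p => w (σ.symm p)

theorem actW_mul (σ τ : Equiv.Perm GolayPt) (w : GolayPt → ZMod 2) : actW (σ * τ) w = actW σ (actW τ w) := by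
  funext p
  simp [actW, Equiv.Perm.mul_def, Equiv.symm_trans_apply]

theorem actW_one (w : GolayPt → ZMod 2) : actW 1 w = w := rfl

theorem actW_sub (σ : Equiv.Perm GolayPt) (v w : GolayPt → ZMod 2) : actW σ (v - w) = actW σ v - actW σ w := rfl

theorem actW_add (σ : Equiv.Perm GolayPt) (v w : GolayPt → ZMod 2) : actW σ (v + w) = actW σ v + actW σ w := rfl

theorem actW_mem {σ : Equiv.Perm GolayPt} (hσ : σ ∈ M24) {w : GolayPt → ZMod 2} (hw : w ∈ golayCode) :
    actW σ w ∈ golayCode := comp_symm_mem_of_mem_M24 hσ hw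

theorem actW_mem_iff {σ : Equiv.Perm GolayPt} (hσ : σ ∈ M24) (w : GolayPt → ZMod 2) :
    actW σ w ∈ golayCode ↔ w ∈ golayCode := by
  constructor
  · intro h
    have := actW_mem (M24.inv_mem hσ) h
    rwa [← actW_mul, inv_mul_cancel, actW_one] at this
  · exact actW_mem hσ

theorem sub_eq_add_word (v w : GolayPt → ZMod 2) : v - w = v + w := by
  funext p
  exact CharTwo.sub_eq_add _ _

/-- the action of the inverse of a table permutation on a word given by a mask -/
theorem actW_tblPerm_inv {T : List ℕ} (hv : validTbl T = true) (n : ℕ) :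
    actW (tblPerm T hv)⁻¹ (decW n) = decW (applyTbl T n) := by
  have := decW_comp (tblPerm_represents T hv) n
  rw [← this]
  rfl

/-- the generators fix the word with mask `u0` and move every non-zero coset of the code -/
def cosetCheck (gens : List (List ℕ)) (u0 : ℕ) : Bool :=
  gens.all (fun T => validTbl T && tblInCode T && (applyTbl T u0 == u0)) &&
  allBelow (fun s => s == 0 || gens.any (fun T =>
    !(cw ((applyTbl T (s * 4096) ^^^ (s * 4096)) % 4096) == (applyTbl T (s * 4096) ^^^ (s * 4096)))) ) 4096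

theorem coset_rep {n : ℕ} (hn : n < 2 ^ 24) :
    ∃ s < 4096, n = cw (n % 4096) ^^^ (s * 4096) ∧ (cw (n % 4096) ≠ n → s ≠ 0) := by
  set k := n % 4096 with hk
  have hk4 : k < 4096 := Nat.mod_lt _ (by norm_num)
  have hlow : (n ^^^ cw k) % 4096 = 0 := by
    have : (4096 : ℕ) = 2 ^ 12 := by norm_num
    rw [this, Nat.xor_mod_two_pow, ← this, cw_mod hk4, ← hk, Nat.xor_self]
  have hlt : n ^^^ cw k < 2 ^ 24 := Nat.xor_lt_two_pow hn (cw_lt k)
  refine ⟨(n ^^^ cw k) / 4096, ?_, ?_, ?_⟩
  · omega
  · have h1 : (n ^^^ cw k) / 4096 * 4096 = n ^^^ cw k := by omega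
    rw [h1, Nat.xor_comm n, ← Nat.xor_assoc, Nat.xor_self, Nat.zero_xor]
  · intro hne h0
    have h1 : n ^^^ cw k = 0 := by omega
    apply hne
    have := congrArg (fun x => x ^^^ cw k) h1
    simp only [Nat.xor_assoc, Nat.xor_self, Nat.xor_zero, Nat.zero_xor] at this
    exact this.symm

/-- the standard case -/
theorem coset_moved_std {gens : List (List ℕ)} {u0 : ℕ} (h : cosetCheck gens u0 = true) {w : GolayPt → ZMod 2}
    (hw : w ∉ golayCode) :
    ∃ σ ∈ M24, actW σ (decW u0) = decW u0 ∧ actW σ w - w ∉ golayCode := by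
  simp only [cosetCheck, Bool.and_eq_true, List.all_eq_true, beq_iff_eq] at h
  obtain ⟨hgens, hall⟩ := h
  obtain ⟨n, hn, rfl⟩ := decW_surj w
  rw [decW_mem_iff hn] at hw
  obtain ⟨s, hs, hns, hs0⟩ := coset_rep hn
  have hP := allBelow_spec hall s hs
  simp only [Bool.or_eq_true, beq_iff_eq, List.any_eq_true, Bool.not_eq_true', beq_eq_false_iff_ne] at hP
  rcases hP with h0 | ⟨T, hT, hmove⟩
  · exact absurd h0 (hs0 hw)
  · obtain ⟨⟨hv, hcode⟩, hfix⟩ := hgens T hT
    have hσ : (tblPerm T hv)⁻¹ ∈ M24 := M24.inv_mem (tblPerm_mem_M24 T hv hcode)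
    refine ⟨(tblPerm T hv)⁻¹, hσ, ?_, ?_⟩
    · rw [actW_tblPerm_inv hv, hfix]
    · intro hmem
      have hdec : decW n = decW (cw (n % 4096)) + decW (s * 4096) := by
        conv_lhs => rw [hns]
        rw [decW_xor]
      rw [hdec, actW_add, add_sub_add_comm] at hmem
      have h1 : actW (tblPerm T hv)⁻¹ (decW (cw (n % 4096))) - decW (cw (n % 4096)) ∈ golayCode :=
        golayCode.sub_mem (actW_mem hσ (decW_cw_mem _)) (decW_cw_mem _)
      have h2 := (golayCode.add_mem_iff_right h1).mp hmem
      rw [actW_tblPerm_inv hv, sub_eq_add_word, ← decW_xor] at h2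
      have hlt : applyTbl T (s * 4096) ^^^ (s * 4096) < 2 ^ 24 := by
        apply Nat.xor_lt_two_pow
        · have := applyTbl_lt T (s * 4096)
          rwa [validTbl_length hv] at this
        · omega
      rw [decW_mem_iff hlt] at h2
      exact hmove h2

/-- transport along an element of the group -/
theorem coset_moved_of_conj {gens : List (List ℕ)} {u0 : ℕ} (h : cosetCheck gens u0 = true)
    {u : GolayPt → ZMod 2} {k : Equiv.Perm GolayPt} (hk : k ∈ M24) (hku : actW k u = decW u0)
    {w : GolayPt → ZMod 2} (hw : w ∉ golayCode) :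
    ∃ σ ∈ M24, (fun p => u (σ.symm p)) = u ∧ (fun p => w (σ.symm p)) - w ∉ golayCode := by
  have hw0 : actW k w ∉ golayCode := fun hc => hw ((actW_mem_iff hk w).mp hc)
  obtain ⟨σ0, hσ0, hfix, hmove⟩ := coset_moved_std h hw0
  refine ⟨k⁻¹ * σ0 * k, M24.mul_mem (M24.mul_mem (M24.inv_mem hk) hσ0) hk, ?_, ?_⟩
  · show actW (k⁻¹ * σ0 * k) u = u
    rw [actW_mul, actW_mul, hku, hfix, ← hku, ← actW_mul, inv_mul_cancel, actW_one]
  · show actW (k⁻¹ * σ0 * k) w - w ∉ golayCode
    intro hc
    apply hmove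
    have := actW_mem hk hc
    rwa [actW_sub, ← actW_mul, ← mul_assoc, ← mul_assoc, mul_inv_cancel, one_mul, actW_mul] at this

theorem actW_eq_of_smul_support {k : Equiv.Perm GolayPt} {u : GolayPt → ZMod 2} {m : ℕ}
    (h : k • support₂ u = maskSet m) : actW k u = decW m := by
  apply support₂_injective
  rw [smul_support₂] at h
  exact h

/-! ### The generators -/

theorem check_M24_zero : cosetCheck [tblShift, tblProjInv, tblCubeTwist] 0 = true := by decide +kernel
theorem check_M24_ones : cosetCheck [tblShift, tblProjInv, tblCubeTwist] onesMask = true := by decide +kernel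
theorem check_oct : cosetCheck octGens oct0 = true := by decide +kernel
theorem check_cooct : cosetCheck octGens (onesMask ^^^ oct0) = true := by decide +kernel
theorem check_dod : cosetCheck (m12L0 ++ m12L1 ++ m12L2 ++ m12L3 ++ m12L4) dod0 = true := by decide +kernel

end Cfsg.Agent.Helper27
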