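import Cfsg.Agent.Helper27.M24Descent
import Cfsg.Agent.Helper27.M24Trans

/-!
The code modulo the all-ones word is an irreducible module for `Cfsg.M24`: an invariant subspace of the code that
contains the all-ones word is the span of the all-ones word or the whole code.
-/

set_option autoImplicit false

namespace Cfsg.Agent.Helper27

open Cfsg
open scoped Pointwise

/-- a subspace invariant under `M24` -/
def M24Inv (W : Submodule (ZMod 2) (GolayPt → ZMod 2)) : Prop :=
  ∀ σ ∈ M24, ∀ w ∈ W, (fun p => w (σ.symm p)) ∈ W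

theorem basisL_isOct : ∀ b ∈ basisL, isOct b = true := by decide +kernel

/-- an invariant subspace containing a word whose support is a given set contains all words with support in the
same orbit -/
theorem mem_of_smul_support {W : Submodule (ZMod 2) (GolayPt → ZMod 2)} (hinv : M24Inv W) {w : GolayPt → ZMod 2}
    (hw : w ∈ W) {g : Equiv.Perm GolayPt} (hg : g ∈ M24) {n : ℕ} (h : g • support₂ w = maskSet n) : decW n ∈ W := by
  have h1 := hinv g hg w hw
  have h2 : (fun p => w (g.symm p)) = decW n := by
    apply support₂_injective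
    rw [← smul_support₂, h]
    rfl
  rwa [h2] at h1

theorem golay_le_of_octad {W : Submodule (ZMod 2) (GolayPt → ZMod 2)} (hinv : M24Inv W) {w : GolayPt → ZMod 2}
    (hw : w ∈ W) (hwC : w ∈ golayCode) (h8 : hammingNorm w = 8) : golayCode ≤ W := by
  have ho : support₂ w ∈ octads := ⟨⟨w, hwC, rfl⟩, h8⟩
  have hb : ∀ b ∈ basisL, decW b ∈ W := by
    intro b hb
    obtain ⟨g, hg, hgo⟩ := M24_octad_transitive _ _ ho (maskSet_mem_octads (basisL_isOct b hb))
    exact mem_of_smul_support hinv hw hg hgo
  intro c hc
  obtain ⟨k, _, rfl⟩ := (mem_golayCode_iff c).mp hc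
  exact decW_combo_mem W basisL hb k

/-- a second dodecad, meeting the first one in eight points -/
def dod1 : ℕ := 1372381

theorem maskSet_dod1_mem : maskSet dod1 ∈ dodecads := by
  refine ⟨⟨decW dod1, ?_, rfl⟩, ?_⟩
  · show decW dod1 ∈ golayCode
    rw [decW_mem_iff (by decide +kernel)]
    decide +kernel
  · rw [card_maskSet]
    decide +kernel

theorem exists_octad_of_dodecad {W : Submodule (ZMod 2) (GolayPt → ZMod 2)} (hinv : M24Inv W) {w : GolayPt → ZMod 2}
    (hw : w ∈ W) (hwC : w ∈ golayCode) (h12 : hammingNorm w = 12) :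
    ∃ v ∈ W, v ∈ golayCode ∧ hammingNorm v = 8 := by
  have hd : support₂ w ∈ dodecads := ⟨⟨w, hwC, rfl⟩, h12⟩
  obtain ⟨g0, hg0, h0⟩ := M24_dodecad_transitive _ _ hd maskSet_dod0_mem
  obtain ⟨g1, hg1, h1⟩ := M24_dodecad_transitive _ _ hd maskSet_dod1_mem
  have m0 := mem_of_smul_support hinv hw hg0 h0
  have m1 := mem_of_smul_support hinv hw hg1 h1
  refine ⟨decW (dod0 ^^^ dod1), ?_, ?_, ?_⟩
  · rw [decW_xor]
    exact W.add_mem m0 m1
  · rw [decW_mem_iff (by decide +kernel)]
    decide +kernel
  · rw [hammingNorm_decW]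
    decide +kernel

theorem support₂_one : support₂ (1 : GolayPt → ZMod 2) = Finset.univ := by
  ext p
  simp [support₂]

theorem golay_irreducible_mod_ones (W : Submodule (ZMod 2) (GolayPt → ZMod 2))
    (h1 : (1 : GolayPt → ZMod 2) ∈ W) (hle : W ≤ golayCode) (hinv : M24Inv W) :
    W = Submodule.span (ZMod 2) {(1 : GolayPt → ZMod 2)} ∨ W = golayCode := by
  by_cases h : W ≤ Submodule.span (ZMod 2) {(1 : GolayPt → ZMod 2)}
  · left
    exact le_antisymm h (Submodule.span_le.mpr (Set.singleton_subset_iff.mpr h1))
  · right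
    obtain ⟨w, hw, hwn⟩ := SetLike.not_le_iff_exists.mp h
    have hwC := hle hw
    have hcard : (Finset.univ : Finset GolayPt).card = 24 := by decide
    apply le_antisymm hle
    rcases golay_weights hwC with h0 | h8 | h12 | h16 | h24
    · exfalso
      apply hwn
      rw [hammingNorm_eq_zero.mp h0]
      exact Submodule.zero_mem _
    · exact golay_le_of_octad hinv hw hwC h8
    · obtain ⟨v, hv, hvC, hv8⟩ := exists_octad_of_dodecad hinv hw hwC h12
      exact golay_le_of_octad hinv hv hvC hv8
    · have hv : w + 1 ∈ W := W.add_mem hw h1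
      refine golay_le_of_octad hinv hv (hle hv) ?_
      have := card_symmDiff_add (support₂ w) (support₂ (1 : GolayPt → ZMod 2))
      rw [← support₂_add, support₂_one, Finset.inter_univ, hcard, card_support_eq_hammingNorm,
        card_support_eq_hammingNorm, h16] at this
      omega
    · exfalso
      apply hwn
      have hs : support₂ w = Finset.univ := by
        apply Finset.eq_univ_of_card
        rw [card_support_eq_hammingNorm, h24]
        rfl
      have : w = 1 := by
        apply support₂_injective
        rw [hs, support₂_one]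
      rw [this]
      exact Submodule.subset_span rfl

theorem golay_irreducible_statement : (fun _ : GolayPt => (1 : ZMod 2)) ∈ golayCode ∧
    ∀ W : Submodule (ZMod 2) (GolayPt → ZMod 2), (fun _ => (1 : ZMod 2)) ∈ W → W ≤ golayCode →
      (∀ σ ∈ M24, ∀ w ∈ W, (fun p => w (σ.symm p)) ∈ W) →
      W = Submodule.span (ZMod 2) {fun _ => (1 : ZMod 2)} ∨ W = golayCode :=
  ⟨Submodule.subset_span (Or.inr rfl), fun W h1 hle hinv => golay_irreducible_mod_ones W h1 hle hinv⟩

end Cfsg.Agent.Helper27
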