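import Cfsg.Agent.Helper27.LeaderData
import Cfsg.Agent.Helper27.GolayIrred
import Cfsg.Agent.Helper27.GolayCosets
import Cfsg.Agent.Helper27.M24InvolClass

/-!
The subspaces of the space of binary words of length 24 invariant under `Cfsg.M24`.
-/

set_option autoImplicit false

namespace Cfsg.Agent.Helper27

open Cfsg
open scoped Pointwise

/-! ### Indicator words -/

/-- the indicator word of a set of points -/
def ind (s : Finset GolayPt) : GolayPt → ZMod 2 := fun p => if p ∈ s then 1 else 0

theorem support₂_ind (s : Finset GolayPt) : support₂ (ind s) = s := by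
  ext p
  simp [support₂, ind]

theorem ind_add (s t : Finset GolayPt) : ind s + ind t = ind (symmDiff s t) := by
  apply support₂_injective
  rw [support₂_add, support₂_ind, support₂_ind, support₂_ind]

theorem add_add_self (a b : GolayPt → ZMod 2) : a + b + b = a := by
  funext p
  simp only [Pi.add_apply]
  have : ∀ x y : ZMod 2, x + y + y = x := by decide
  exact this _ _

theorem add_self_word (a : GolayPt → ZMod 2) : a + a = 0 := by
  funext p
  simp only [Pi.add_apply, Pi.zero_apply]
  have : ∀ x : ZMod 2, x + x = 0 := by decide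
  exact this _

theorem sum_eq_card (w : GolayPt → ZMod 2) : ∑ p, w p = ((support₂ w).card : ZMod 2) := by
  have h1 : ∑ p, w p = ∑ p ∈ support₂ w, w p := by
    symm
    apply Finset.sum_subset (Finset.subset_univ _)
    intro p _ hp
    simpa [support₂] using hp
  rw [h1]
  have h2 : ∀ p ∈ support₂ w, w p = 1 := by
    intro p hp
    have hne : w p ≠ 0 := by simpa [support₂] using hp
    have : ∀ x : ZMod 2, x ≠ 0 → x = 1 := by decide
    exact this _ hne
  rw [Finset.sum_congr rfl h2, Finset.sum_const, nsmul_eq_mul, mul_one]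

/-! ### Light representatives of the cosets of the code -/

/-- the check on the leader data, along the list -/
def leadOK : List ℕ → ℕ → Bool
  | [], _ => true
  | k :: l, s => decide (popc 24 (cw k ^^^ (s * 4096)) ≤ 4) && leadOK l (s + 1)

theorem leadOK_spec : ∀ (l : List ℕ) (s : ℕ), leadOK l s = true →
    ∀ i < l.length, popc 24 (cw (l.getD i 0) ^^^ ((s + i) * 4096)) ≤ 4 := by
  intro l
  induction l with
  | nil => intro s _ i hi; simp at hi
  | cons k l ih =>
    intro s h i hi
    simp only [leadOK, Bool.and_eq_true, decide_eq_true_eq] at h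
    cases i with
    | zero => simpa using h.1
    | succ i =>
      have := ih (s + 1) h.2 i (by simpa using hi)
      rw [List.getD_cons_succ]
      have e : s + (i + 1) = s + 1 + i := by omega
      rw [e]
      exact this

set_option maxRecDepth 100000 in
theorem leader_check2 : leadOK leadK 0 = true := by decide +kernel

theorem leadK_length : leadK.length = 4096 := by decide +kernel

theorem leader_check {s : ℕ} (hs : s < 4096) : popc 24 (cw (leadK.getD s 0) ^^^ (s * 4096)) ≤ 4 := by
  have := leadOK_spec leadK 0 leader_check2 s (by rw [leadK_length]; exact hs)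
  rwa [Nat.zero_add] at this

theorem exists_light_rep {w : GolayPt → ZMod 2} (hw : w ∉ golayCode) :
    ∃ e : GolayPt → ZMod 2, w + e ∈ golayCode ∧ 1 ≤ (support₂ e).card ∧ (support₂ e).card ≤ 4 := by
  obtain ⟨n, hn, rfl⟩ := decW_surj w
  obtain ⟨s, hs, hrep, -⟩ := coset_rep hn
  set k := leadK.getD s 0 with hk
  have hmem : decW n + decW (cw k ^^^ (s * 4096)) ∈ golayCode := by
    have h1 : n ^^^ (cw k ^^^ (s * 4096)) = cw (n % 4096) ^^^ cw k := by
      conv_lhs => rw [hrep]
      rw [Nat.xor_assoc, Nat.xor_comm (cw k), ← Nat.xor_assoc (s * 4096), Nat.xor_self, Nat.zero_xor]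
    rw [← decW_xor, h1, decW_xor]
    exact golayCode.add_mem (decW_cw_mem _) (decW_cw_mem _)
  refine ⟨decW (cw k ^^^ (s * 4096)), hmem, ?_, ?_⟩
  · rw [Nat.one_le_iff_ne_zero, Ne, Finset.card_eq_zero]
    intro h0
    have : decW (cw k ^^^ (s * 4096)) = 0 := by
      apply support₂_injective
      rw [h0]
      simp [support₂]
    rw [this, add_zero] at hmem
    exact hw hmem
  · rw [card_support_eq_hammingNorm, hammingNorm_decW]
    exact leader_check hs

/-! ### Transitivity on small sets -/

theorem exists_M24_smul_finset {j : ℕ} (hj : j ≤ 5) {s s' : Finset GolayPt} (hs : s.card = j) (hs' : s'.card = j) :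
    ∃ g ∈ M24, g • s = s' := by
  let e := s.equivFinOfCardEq hs
  let e' := s'.equivFinOfCardEq hs'
  obtain ⟨g, hg, hmap⟩ := exists_M24_map_k hj (fun i => (e.symm i).1) (fun i => (e'.symm i).1)
    (fun a b h => e.symm.injective (Subtype.ext h)) (fun a b h => e'.symm.injective (Subtype.ext h))
  refine ⟨g, hg, ?_⟩
  apply Finset.eq_of_subset_of_card_le
  · intro p hp
    obtain ⟨q, hq, rfl⟩ := Finset.mem_smul_finset.mp hp
    have h1 : q = (e.symm (e ⟨q, hq⟩)).1 := by simp
    rw [Equiv.Perm.smul_def, h1, hmap]
    exact (e'.symm _).2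
  · rw [Finset.card_smul_finset, hs, hs']

theorem mem_of_card_eq {W : Submodule (ZMod 2) (GolayPt → ZMod 2)} (hinv : M24Inv W) {e : GolayPt → ZMod 2}
    (he : e ∈ W) {j : ℕ} (hj : j ≤ 5) (hcard : (support₂ e).card = j) {w : GolayPt → ZMod 2}
    (hw : (support₂ w).card = j) : w ∈ W := by
  obtain ⟨g, hg, hgs⟩ := exists_M24_smul_finset hj hcard hw
  have h1 := hinv g hg e he
  have : (fun p => e (g.symm p)) = w := support₂_injective (by rw [← smul_support₂, hgs])
  rwa [this] at h1

theorem card_compl_pair {p q : GolayPt} (hpq : p ≠ q) : (Finset.univ \ {p, q} : Finset GolayPt).card = 22 := by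
  rw [Finset.card_sdiff_of_subset (Finset.subset_univ _), Finset.card_pair hpq]
  rfl

theorem pairs_mem {W : Submodule (ZMod 2) (GolayPt → ZMod 2)} (hinv : M24Inv W) {e : GolayPt → ZMod 2}
    (he : e ∈ W) (h1 : 1 ≤ (support₂ e).card) (h4 : (support₂ e).card ≤ 4) {p q : GolayPt} (hpq : p ≠ q) :
    ind {p, q} ∈ W := by
  have hbig : (support₂ e).card - 1 ≤ (Finset.univ \ {p, q} : Finset GolayPt).card := by
    rw [card_compl_pair hpq]; omega
  obtain ⟨R, hR, hRc⟩ := Finset.exists_subset_card_eq hbig
  have hp : p ∉ R := fun h => by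
    have := hR h
    simp at this
  have hq : q ∉ R := fun h => by
    have := hR h
    simp at this
  have e1 : ind (insert p R) ∈ W := mem_of_card_eq hinv he (by omega) rfl
    (by rw [support₂_ind, Finset.card_insert_of_notMem hp, hRc]; omega)
  have e2 : ind (insert q R) ∈ W := mem_of_card_eq hinv he (by omega) rfl
    (by rw [support₂_ind, Finset.card_insert_of_notMem hq, hRc]; omega)
  have : ind {p, q} = ind (insert p R) + ind (insert q R) := by
    rw [ind_add]
    congr 1
    ext x
    simp only [Finset.mem_insert, Finset.mem_singleton, Finset.mem_symmDiff, not_or]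
    constructor
    · rintro (rfl | rfl)
      · exact Or.inl ⟨Or.inl rfl, hpq, hp⟩
      · exact Or.inr ⟨Or.inl rfl, fun h => hpq h.symm, hq⟩
    · rintro (⟨h1 | h1, h2, h3⟩ | ⟨h1 | h1, h2, h3⟩)
      · exact Or.inl h1
      · exact absurd h1 h3
      · exact Or.inr h1
      · exact absurd h1 h3
  rw [this]
  exact W.add_mem e1 e2

theorem even_mem {W : Submodule (ZMod 2) (GolayPt → ZMod 2)} (hpairs : ∀ p q : GolayPt, p ≠ q → ind {p, q} ∈ W) :
    ∀ n : ℕ, ∀ w : GolayPt → ZMod 2, (support₂ w).card = n → ∑ p, w p = 0 → w ∈ W := by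
  intro n
  induction n using Nat.strong_induction_on with
  | _ n ih =>
    intro w hn hsum
    rcases Nat.lt_or_ge n 2 with h | h
    · rw [sum_eq_card, hn] at hsum
      interval_cases n
      · have : w = 0 := by
          apply support₂_injective
          rw [Finset.card_eq_zero.mp hn]
          simp [support₂]
        rw [this]
        exact W.zero_mem
      · exact absurd hsum (by decide)
    · obtain ⟨p, hp, q, hq, hpq⟩ := Finset.one_lt_card.mp (by omega : 1 < (support₂ w).card)
      have hsub : ({p, q} : Finset GolayPt) ⊆ support₂ w := by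
        intro x hx
        simp only [Finset.mem_insert, Finset.mem_singleton] at hx
        rcases hx with rfl | rfl
        · exact hp
        · exact hq
      have hsupp : support₂ (w + ind {p, q}) = support₂ w \ {p, q} := by
        rw [support₂_add, support₂_ind]
        ext x
        simp only [Finset.mem_symmDiff, Finset.mem_sdiff]
        constructor
        · rintro (h1 | ⟨h1, h2⟩)
          · exact h1
          · exact absurd (hsub h1) h2
        · intro h1
          exact Or.inl h1
      have hw' : w + ind {p, q} ∈ W := by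
        apply ih (n - 2) (by omega) _
        · rw [hsupp, Finset.card_sdiff_of_subset hsub, hn, Finset.card_pair hpq]
        · rw [Finset.sum_congr rfl (fun x _ => Pi.add_apply w (ind {p, q}) x), Finset.sum_add_distrib, hsum,
            sum_eq_card (ind {p, q}), support₂_ind, Finset.card_pair hpq]
          decide
      have : w = (w + ind {p, q}) + ind {p, q} := (add_add_self _ _).symm
      rw [this]
      exact W.add_mem hw' (hpairs p q hpq)

/-! ### Invariance of sums and intersections -/

theorem M24Inv_golay : M24Inv golayCode := fun _ hσ _ hw => actW_mem hσ hw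

theorem M24Inv_sup {W₁ W₂ : Submodule (ZMod 2) (GolayPt → ZMod 2)} (h₁ : M24Inv W₁) (h₂ : M24Inv W₂) :
    M24Inv (W₁ ⊔ W₂) := by
  intro σ hσ w hw
  obtain ⟨a, ha, b, hb, rfl⟩ := Submodule.mem_sup.mp hw
  exact Submodule.mem_sup.mpr ⟨_, h₁ σ hσ a ha, _, h₂ σ hσ b hb, rfl⟩

theorem M24Inv_inf {W₁ W₂ : Submodule (ZMod 2) (GolayPt → ZMod 2)} (h₁ : M24Inv W₁) (h₂ : M24Inv W₂) :
    M24Inv (W₁ ⊓ W₂) := by
  intro σ hσ w hw
  exact ⟨h₁ σ hσ w hw.1, h₂ σ hσ w hw.2⟩

theorem M24Inv_ones : M24Inv (Submodule.span (ZMod 2) {(1 : GolayPt → ZMod 2)}) := by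
  intro σ _ w hw
  obtain ⟨a, rfl⟩ := Submodule.mem_span_singleton.mp hw
  exact Submodule.mem_span_singleton.mpr ⟨a, rfl⟩

theorem one_mem_golay : (1 : GolayPt → ZMod 2) ∈ golayCode := golay_irreducible_statement.1

theorem mem_span_one_iff (w : GolayPt → ZMod 2) :
    w ∈ Submodule.span (ZMod 2) {(1 : GolayPt → ZMod 2)} ↔ w = 0 ∨ w = 1 := by
  rw [Submodule.mem_span_singleton]
  constructor
  · rintro ⟨a, rfl⟩
    have : ∀ x : ZMod 2, x = 0 ∨ x = 1 := by decide
    rcases this a with rfl | rfl
    · left; simp
    · right; simp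
  · rintro (rfl | rfl)
    · exact ⟨0, by simp⟩
    · exact ⟨1, by simp⟩

/-- three octads with sum zero -/
def octA : ℕ := 5279
def octB : ℕ := 10558

theorem octs_ok : isOct octA = true ∧ isOct octB = true ∧ isOct (octA ^^^ octB) = true := by decide +kernel

/-- an invariant subspace of the code not containing the all-ones word is zero -/
theorem inv_le_golay_eq_bot {U : Submodule (ZMod 2) (GolayPt → ZMod 2)} (hinv : M24Inv U) (hle : U ≤ golayCode)
    (h1 : (1 : GolayPt → ZMod 2) ∉ U) : U = ⊥ := by
  have hinv' : M24Inv (U ⊔ Submodule.span (ZMod 2) {(1 : GolayPt → ZMod 2)}) := M24Inv_sup hinv M24Inv_ones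
  have hle' : U ⊔ Submodule.span (ZMod 2) {(1 : GolayPt → ZMod 2)} ≤ golayCode :=
    sup_le hle (Submodule.span_le.mpr (Set.singleton_subset_iff.mpr one_mem_golay))
  have h1' : (1 : GolayPt → ZMod 2) ∈ U ⊔ Submodule.span (ZMod 2) {(1 : GolayPt → ZMod 2)} :=
    (le_sup_right : _ ≤ U ⊔ _) (Submodule.subset_span rfl)
  rcases golay_irreducible_mod_ones _ h1' hle' hinv' with h | h
  · rw [eq_bot_iff]
    intro u hu
    have : u ∈ Submodule.span (ZMod 2) {(1 : GolayPt → ZMod 2)} := by
      rw [← h]; exact (le_sup_left : U ≤ _) hu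
    rcases (mem_span_one_iff u).mp this with rfl | rfl
    · exact Submodule.zero_mem _
    · exact absurd hu h1
  · exfalso
    have key : ∀ o : ℕ, isOct o = true → decW o + 1 ∈ U := by
      intro o ho
      have hoC : decW o ∈ golayCode := by
        have := maskSet_mem_octads ho
        obtain ⟨⟨w, hw, hs⟩, -⟩ := this
        have : w = decW o := support₂_injective hs
        rwa [← this]
      have hmem : decW o ∈ U ⊔ Submodule.span (ZMod 2) {(1 : GolayPt → ZMod 2)} := by rw [h]; exact hoC
      obtain ⟨u, hu, t, ht, hut⟩ := Submodule.mem_sup.mp hmem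
      rcases (mem_span_one_iff t).mp ht with rfl | rfl
      · exfalso
        rw [add_zero] at hut
        rw [hut] at hu
        have h8 : hammingNorm (decW o) = 8 := (maskSet_mem_octads ho).2
        exact h1 (golay_le_of_octad hinv hu hoC h8 one_mem_golay)
      · have : decW o + 1 = u := by rw [← hut, add_add_self]
        rw [this]; exact hu
    obtain ⟨hA, hB, hAB⟩ := octs_ok
    have hsum := U.add_mem (U.add_mem (key _ hA) (key _ hB)) (key _ hAB)
    have : decW octA + 1 + (decW octB + 1) + (decW (octA ^^^ octB) + 1) = 1 := by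
      rw [decW_xor]
      funext p
      simp only [Pi.add_apply, Pi.one_apply]
      have : ∀ x y : ZMod 2, x + 1 + (y + 1) + (x + y + 1) = 1 := by decide
      exact this _ _
    rw [this] at hsum
    exact h1 hsum

end Cfsg.Agent.Helper27
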