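import Cfsg.Agent.Helper27.GolayInvariant

/-!
The classification of the subspaces of the space of binary words of length 24 invariant under `Cfsg.M24`.
-/

set_option autoImplicit false

namespace Cfsg.Agent.Helper27

open Cfsg
open scoped Pointwise

/-- an invariant subspace not inside the code, together with the code, contains all even words -/
theorem even_mem_sup {W : Submodule (ZMod 2) (GolayPt → ZMod 2)} (hinv : M24Inv W) (hW : ¬ W ≤ golayCode)
    (w : GolayPt → ZMod 2) (hw : ∑ p, w p = 0) : w ∈ W ⊔ golayCode := by
  obtain ⟨w0, hw0, hw0C⟩ := SetLike.not_le_iff_exists.mp hW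
  obtain ⟨e, he, h1, h4⟩ := exists_light_rep hw0C
  have heU : e ∈ W ⊔ golayCode := by
    have : e = w0 + (w0 + e) := by
      rw [← add_assoc, add_self_word, zero_add]
    rw [this]
    exact Submodule.add_mem_sup hw0 he
  have hinvU := M24Inv_sup hinv M24Inv_golay
  exact even_mem (fun p q hpq => pairs_mem hinvU heU h1 h4 hpq) _ w rfl hw

theorem sum_eq_zero_of_mem_golay {c : GolayPt → ZMod 2} (hc : c ∈ golayCode) : ∑ p, c p = 0 := by
  rw [sum_eq_card, card_support_eq_hammingNorm]
  rcases golay_weights hc with h | h | h | h | h <;> rw [h] <;> decide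

/-- an invariant subspace containing a word of weight two contains the code -/
theorem golay_le_of_pair {W : Submodule (ZMod 2) (GolayPt → ZMod 2)} (hinv : M24Inv W) {p q : GolayPt} (hpq : p ≠ q)
    (h : ind {p, q} ∈ W) : golayCode ≤ W := by
  intro c hc
  have h2 : (support₂ (ind {p, q})).card = 2 := by rw [support₂_ind, Finset.card_pair hpq]
  apply even_mem (W := W) _ _ c rfl (sum_eq_zero_of_mem_golay hc)
  intro a b hab
  exact mem_of_card_eq hinv h (by norm_num) h2 (by rw [support₂_ind, Finset.card_pair hab])

theorem actW_ind {σ : Equiv.Perm GolayPt} (s : Finset GolayPt) : (fun p => ind s (σ.symm p)) = ind (σ • s) := by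
  apply support₂_injective
  rw [← smul_support₂, support₂_ind, support₂_ind]

theorem pt_ne {i j : ℕ} (hi : i < 24) (hj : j < 24) (hij : i ≠ j) : pt i ≠ pt j := by
  intro h
  apply hij
  have := congrArg idx h
  rwa [idx_pt hi, idx_pt hj] at this

/-- the case to be excluded -/
theorem no_mixed {W : Submodule (ZMod 2) (GolayPt → ZMod 2)} (hinv : M24Inv W) (hW : ¬ W ≤ golayCode)
    (hC : ¬ golayCode ≤ W) : False := by
  -- the intersection with the code lies in the span of the all-ones word
  have hcap : W ⊓ golayCode ≤ Submodule.span (ZMod 2) {(1 : GolayPt → ZMod 2)} := by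
    have hinvU := M24Inv_inf hinv M24Inv_golay
    by_cases h1 : (1 : GolayPt → ZMod 2) ∈ W ⊓ golayCode
    · rcases golay_irreducible_mod_ones _ h1 inf_le_right hinvU with h | h
      · exact le_of_eq h
      · exact absurd (h ▸ inf_le_left : golayCode ≤ W) hC
    · rw [inv_le_golay_eq_bot hinvU inf_le_right h1]
      exact bot_le
  have h01 : pt 0 ≠ pt 1 := pt_ne (by norm_num) (by norm_num) (by norm_num)
  have h02 : pt 0 ≠ pt 2 := pt_ne (by norm_num) (by norm_num) (by norm_num)
  have h12 : pt 1 ≠ pt 2 := pt_ne (by norm_num) (by norm_num) (by norm_num)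
  have heven : ∑ p, ind {pt 0, pt 1} p = 0 := by
    rw [sum_eq_card, support₂_ind, Finset.card_pair h01]
    decide
  obtain ⟨w, hw, c, hc, hwc⟩ := Submodule.mem_sup.mp (even_mem_sup hinv hW _ heven)
  -- `c` is fixed modulo the all-ones word by the stabiliser of the two points
  have hfix : ∀ σ ∈ M24, σ (pt 0) = pt 0 → σ (pt 1) = pt 1 →
      (fun p => c (σ.symm p)) + c ∈ Submodule.span (ZMod 2) {(1 : GolayPt → ZMod 2)} := by
    intro σ hσ h0 h1
    apply hcap
    have hind : (fun p => ind {pt 0, pt 1} (σ.symm p)) = ind {pt 0, pt 1} := by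
      rw [actW_ind]
      congr 1
      rw [Finset.smul_finset_insert, Finset.smul_finset_singleton, Equiv.Perm.smul_def, Equiv.Perm.smul_def, h0, h1]
    have hsum : (fun p => w (σ.symm p)) + (fun p => c (σ.symm p)) = w + c := by
      rw [hwc]
      have : (fun p => w (σ.symm p)) + (fun p => c (σ.symm p)) = fun p => (w + c) (σ.symm p) := rfl
      rw [this, hwc, hind]
    have hkey : (fun p => c (σ.symm p)) + c = (fun p => w (σ.symm p)) + w := by
      funext p
      have := congrFun hsum p
      simp only [Pi.add_apply] at this ⊢
      have hz : ∀ a b x y : ZMod 2, a + b = x + y → b + y = a + x := by decide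
      exact hz _ _ _ _ this
    refine ⟨?_, golayCode.add_mem (M24Inv_golay σ hσ c hc) hc⟩
    rw [hkey]
    exact W.add_mem (hinv σ hσ w hw) hw
  -- hence `c` is zero or the all-ones word
  have hc01 : c = 0 ∨ c = 1 := by
    by_contra hne
    rw [not_or] at hne
    have hwt : 8 ≤ (support₂ c).card ∧ (support₂ c).card ≤ 16 := by
      rw [card_support_eq_hammingNorm]
      rcases golay_weights hc with h | h | h | h | h
      · exact absurd (hammingNorm_eq_zero.mp h) hne.1
      · omega
      · omega
      · omega
      · exfalso
        apply hne.2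
        apply support₂_injective
        rw [support₂_one]
        apply Finset.eq_univ_of_card
        rw [card_support_eq_hammingNorm, h]
        rfl
    -- two points of the support and a point outside, all different from the two fixed points
    have hS : 1 < (support₂ c \ {pt 0, pt 1}).card := by
      have := Finset.le_card_sdiff ({pt 0, pt 1} : Finset GolayPt) (support₂ c)
      rw [Finset.card_pair h01] at this
      omega
    obtain ⟨a, ha, b, hb, hab⟩ := Finset.one_lt_card.mp hS
    have hS' : 0 < ((Finset.univ \ support₂ c) \ {pt 0, pt 1}).card := by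
      have h1 := Finset.le_card_sdiff ({pt 0, pt 1} : Finset GolayPt) (Finset.univ \ support₂ c)
      have h2 : (Finset.univ \ support₂ c).card = 24 - (support₂ c).card := by
        rw [Finset.card_sdiff_of_subset (Finset.subset_univ _)]
        rfl
      rw [Finset.card_pair h01, h2] at h1
      omega
    obtain ⟨b', hb'⟩ := Finset.card_pos.mp hS'
    simp only [Finset.mem_sdiff, Finset.mem_univ, true_and, Finset.mem_insert, Finset.mem_singleton, not_or] at ha hb hb'
    have hca : c a = 1 := by
      have : c a ≠ 0 := by simpa [support₂] using ha.1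
      have hz : ∀ x : ZMod 2, x ≠ 0 → x = 1 := by decide
      exact hz _ this
    have hcb : c b = 1 := by
      have : c b ≠ 0 := by simpa [support₂] using hb.1
      have hz : ∀ x : ZMod 2, x ≠ 0 → x = 1 := by decide
      exact hz _ this
    have hcb' : c b' = 0 := by
      have : ¬ c b' ≠ 0 := by simpa [support₂] using hb'.1
      exact not_not.mp this
    have hab' : a ≠ b' := by
      intro h
      rw [h, hcb'] at hca
      exact absurd hca (by decide)
    let x : Fin 4 → GolayPt := ![pt 0, pt 1, a, b]
    let y : Fin 4 → GolayPt := ![pt 0, pt 1, a, b']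
    have hx : Function.Injective x := by
      intro i j hij
      fin_cases i <;> fin_cases j <;> simp [x] at hij ⊢ <;>
        first
        | exact absurd hij h01
        | exact absurd hij.symm h01
        | exact absurd hij.symm ha.2.1
        | exact absurd hij.symm ha.2.2
        | exact absurd hij.symm hb.2.1
        | exact absurd hij.symm hb.2.2
        | exact absurd hij ha.2.1
        | exact absurd hij ha.2.2
        | exact absurd hij hb.2.1
        | exact absurd hij hb.2.2
        | exact absurd hij hab
        | exact absurd hij.symm hab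
    have hy : Function.Injective y := by
      intro i j hij
      fin_cases i <;> fin_cases j <;> simp [y] at hij ⊢ <;>
        first
        | exact absurd hij h01
        | exact absurd hij.symm h01
        | exact absurd hij.symm ha.2.1
        | exact absurd hij.symm ha.2.2
        | exact absurd hij.symm hb'.2.1
        | exact absurd hij.symm hb'.2.2
        | exact absurd hij ha.2.1
        | exact absurd hij ha.2.2
        | exact absurd hij hb'.2.1
        | exact absurd hij hb'.2.2
        | exact absurd hij hab'
        | exact absurd hij.symm hab'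
    obtain ⟨σ, hσ, hmap⟩ := exists_M24_map_k (by norm_num : 4 ≤ 5) x y hx hy
    have m0 : σ (pt 0) = pt 0 := hmap 0
    have m1 : σ (pt 1) = pt 1 := hmap 1
    have m2 : σ a = a := hmap 2
    have m3 : σ b = b' := hmap 3
    have s2 : σ.symm a = a := by rw [Equiv.symm_apply_eq, m2]
    have s3 : σ.symm b' = b := by rw [Equiv.symm_apply_eq, m3]
    rcases (mem_span_one_iff _).mp (hfix σ hσ m0 m1) with h | h
    · have := congrFun h b'
      simp only [Pi.add_apply, Pi.zero_apply, s3, hcb, hcb'] at this
      exact absurd this (by decide)
    · have := congrFun h a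
      simp only [Pi.add_apply, Pi.one_apply, s2, hca] at this
      exact absurd this (by decide)
  rcases hc01 with rfl | rfl
  · rw [add_zero] at hwc
    rw [hwc] at hw
    exact hC (golay_le_of_pair hinv h01 hw)
  · -- the complement of a pair lies in `W`; move it and add
    let x : Fin 2 → GolayPt := ![pt 0, pt 1]
    let y : Fin 2 → GolayPt := ![pt 0, pt 2]
    have hx : Function.Injective x := by
      intro i j hij
      fin_cases i <;> fin_cases j <;> simp [x] at hij ⊢ <;>
        first | exact absurd hij h01 | exact absurd hij.symm h01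
    have hy : Function.Injective y := by
      intro i j hij
      fin_cases i <;> fin_cases j <;> simp [y] at hij ⊢ <;>
        first | exact absurd hij h02 | exact absurd hij.symm h02
    obtain ⟨σ, hσ, hmap⟩ := exists_M24_map_k (by norm_num : 2 ≤ 5) x y hx hy
    have m0 : σ (pt 0) = pt 0 := hmap 0
    have m1 : σ (pt 1) = pt 2 := hmap 1
    have hw' := hinv σ hσ w hw
    have hw_eq : w = ind {pt 0, pt 1} + 1 := by rw [← hwc, add_add_self]
    have hww : (fun p => w (σ.symm p)) = ind {pt 0, pt 2} + 1 := by
      rw [hw_eq]
      have : (fun p => (ind {pt 0, pt 1} + 1) (σ.symm p)) = (fun p => ind {pt 0, pt 1} (σ.symm p)) + 1 := rfl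
      rw [this, actW_ind, Finset.smul_finset_insert, Finset.smul_finset_singleton, Equiv.Perm.smul_def,
        Equiv.Perm.smul_def, m0, m1]
    have hsum := W.add_mem hw hw'
    rw [hww] at hsum
    have : w + (ind {pt 0, pt 2} + 1) = ind {pt 1, pt 2} := by
      rw [hw_eq]
      have e1 : ind {pt 0, pt 1} + 1 + (ind {pt 0, pt 2} + 1) = ind {pt 0, pt 1} + ind {pt 0, pt 2} := by
        funext p
        simp only [Pi.add_apply, Pi.one_apply]
        have hz : ∀ a b : ZMod 2, a + 1 + (b + 1) = a + b := by decide
        exact hz _ _
      rw [e1, ind_add]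
      congr 1
    rw [this] at hsum
    exact hC (golay_le_of_pair hinv h12 hsum)

/-- the invariant subspaces -/
theorem invariant_subspaces (W : Submodule (ZMod 2) (GolayPt → ZMod 2))
    (hW : ∀ σ ∈ M24, ∀ w ∈ W, (fun p => w (σ.symm p)) ∈ W) :
    W = ⊥ ∨ W = Submodule.span (ZMod 2) {fun _ => (1 : ZMod 2)} ∨ W = golayCode ∨
      (W : Set (GolayPt → ZMod 2)) = {w | ∑ p, w p = 0} ∨ W = ⊤ := by
  have hinv : M24Inv W := hW
  by_cases hle : W ≤ golayCode
  · by_cases h1 : (1 : GolayPt → ZMod 2) ∈ W
    · rcases golay_irreducible_mod_ones W h1 hle hinv with h | h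
      · exact Or.inr (Or.inl h)
      · exact Or.inr (Or.inr (Or.inl h))
    · exact Or.inl (inv_le_golay_eq_bot hinv hle h1)
  · by_cases hC : golayCode ≤ W
    · have heven : ∀ w : GolayPt → ZMod 2, ∑ p, w p = 0 → w ∈ W := by
        intro w hw
        have := even_mem_sup hinv hle w hw
        rwa [sup_eq_left.mpr hC] at this
      by_cases hall : ∀ w ∈ W, ∑ p, w p = 0
      · right; right; right; left
        ext w
        exact ⟨fun h => hall w h, fun h => heven w h⟩
      · right; right; right; right
        push Not at hall
        obtain ⟨w0, hw0, hs0⟩ := hall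
        have hs1 : ∑ p, w0 p = 1 := by
          have hz : ∀ x : ZMod 2, x ≠ 0 → x = 1 := by decide
          exact hz _ hs0
        rw [eq_top_iff]
        intro v _
        by_cases hv : ∑ p, v p = 0
        · exact heven v hv
        · have hv1 : ∑ p, v p = 1 := by
            have hz : ∀ x : ZMod 2, x ≠ 0 → x = 1 := by decide
            exact hz _ hv
          have hsum : ∑ p, (v + w0) p = 0 := by
            rw [Finset.sum_congr rfl (fun x _ => Pi.add_apply v w0 x), Finset.sum_add_distrib, hv1, hs1]
            decide
          have := W.add_mem (heven _ hsum) hw0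
          rwa [add_add_self] at this
    · exact (no_mixed hinv hle hC).elim

end Cfsg.Agent.Helper27
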