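import Cfsg.Agent.Helper27.GolayFacts

/-!
Membership in `Cfsg.M24` through the action on words, and permutations given by explicit tables.
-/

set_option autoImplicit false

namespace Cfsg.Agent.Helper27

open Cfsg
open scoped Pointwise

/-! ### The action on supports -/

theorem smul_support₂ (σ : Equiv.Perm GolayPt) (w : GolayPt → ZMod 2) :
    σ • support₂ w = support₂ (fun p => w (σ.symm p)) := by
  ext p
  simp only [support₂, Finset.mem_smul_finset, Finset.mem_filter, Finset.mem_univ, true_and, Equiv.Perm.smul_def]
  constructor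
  · rintro ⟨q, hq, rfl⟩
    simpa using hq
  · intro h
    exact ⟨σ.symm p, h, by simp⟩

theorem supports_finite : (supports (golayCode : Set (GolayPt → ZMod 2))).Finite := Set.toFinite _

/-- `σ` lies in `M24` iff precomposition with `σ⁻¹` preserves the code -/
theorem mem_M24_iff_symm (σ : Equiv.Perm GolayPt) :
    σ ∈ M24 ↔ ∀ w ∈ golayCode, (fun p => w (σ.symm p)) ∈ golayCode := by
  show σ ∈ MulAction.stabilizer (Equiv.Perm GolayPt) (supports (golayCode : Set (GolayPt → ZMod 2))) ↔ _
  rw [MulAction.mem_stabilizer_set' supports_finite]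
  constructor
  · intro h w hw
    have h1 := h (b := support₂ w) ⟨w, hw, rfl⟩
    rw [smul_support₂] at h1
    obtain ⟨w', hw', hww'⟩ := h1
    rw [← support₂_injective hww']
    exact hw'
  · rintro h b ⟨w, hw, rfl⟩
    rw [smul_support₂]
    exact ⟨_, h w hw, rfl⟩

/-- `σ` lies in `M24` iff precomposition with `σ` preserves the code -/
theorem mem_M24_iff (σ : Equiv.Perm GolayPt) :
    σ ∈ M24 ↔ ∀ w ∈ golayCode, (fun p => w (σ p)) ∈ golayCode := by
  rw [← Subgroup.inv_mem_iff, mem_M24_iff_symm]
  exact Iff.rfl

/-- it suffices to check the generators -/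
theorem mem_M24_of_gens (σ : Equiv.Perm GolayPt)
    (h : ∀ g ∈ Set.range qrWord ∪ {1}, (fun p => g (σ p)) ∈ golayCode) : σ ∈ M24 := by
  rw [mem_M24_iff]
  intro w hw
  induction hw using Submodule.span_induction with
  | mem x hx => exact h x hx
  | zero => exact golayCode.zero_mem
  | add x y _ _ hx hy => exact golayCode.add_mem hx hy
  | smul c x _ hx => exact golayCode.smul_mem c hx

/-- members of `M24` map codewords to codewords -/
theorem comp_mem_of_mem_M24 {σ : Equiv.Perm GolayPt} (hσ : σ ∈ M24) {w : GolayPt → ZMod 2} (hw : w ∈ golayCode) :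
    (fun p => w (σ p)) ∈ golayCode := (mem_M24_iff σ).mp hσ w hw

theorem comp_symm_mem_of_mem_M24 {σ : Equiv.Perm GolayPt} (hσ : σ ∈ M24) {w : GolayPt → ZMod 2}
    (hw : w ∈ golayCode) : (fun p => w (σ.symm p)) ∈ golayCode := (mem_M24_iff_symm σ).mp hσ w hw

/-! ### Tables -/

/-- the mask whose bit `i` is bit `T[i]` of `n` -/
def applyTbl : List ℕ → ℕ → ℕ
  | [], _ => 0
  | t :: ts, n => (if n.testBit t then 1 else 0) + 2 * applyTbl ts n

theorem testBit_applyTbl (T : List ℕ) (n i : ℕ) (hi : i < T.length) :
    (applyTbl T n).testBit i = n.testBit (T.getD i 0) := by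
  induction T generalizing i with
  | nil => simp at hi
  | cons t ts ih =>
    cases i with
    | zero =>
      simp only [applyTbl, Nat.testBit_zero, List.getD_cons_zero]
      by_cases h : n.testBit t = true
      · simp [h, Nat.add_mul_mod_self_left]
      · simp [h]
    | succ i =>
      have hi' : i < ts.length := by simpa using hi
      simp only [applyTbl, List.getD_cons_succ]
      rw [Nat.testBit_succ, ← ih i hi']
      congr 1
      by_cases h : n.testBit t = true
      · simp only [h, if_true]; omega
      · simp only [h]; simp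

/-- a function on points is represented by a table -/
def Represents (f : GolayPt → GolayPt) (T : List ℕ) : Prop :=
  T.length = 24 ∧ ∀ p, idx (f p) = T.getD (idx p) 0

theorem decW_comp {f : GolayPt → GolayPt} {T : List ℕ} (h : Represents f T) (n : ℕ) :
    (fun p => decW n (f p)) = decW (applyTbl T n) := by
  funext p
  simp only [decW]
  rw [testBit_applyTbl T n (idx p) (by rw [h.1]; exact idx_lt p), h.2 p]

/-- all generators stay in the code under the table -/
def tblInCode (T : List ℕ) : Bool :=
  gensL.all (fun g => cw (applyTbl T g % 4096) == applyTbl T g)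

theorem applyTbl_lt (T : List ℕ) (n : ℕ) : applyTbl T n < 2 ^ T.length := by
  induction T with
  | nil => simp [applyTbl]
  | cons t ts ih =>
    simp only [applyTbl, List.length_cons, pow_succ]
    split_ifs <;> omega

theorem mem_M24_of_table (σ : Equiv.Perm GolayPt) (T : List ℕ) (h : Represents σ T) (hT : tblInCode T = true) :
    σ ∈ M24 := by
  apply mem_M24_of_gens
  intro g hg
  obtain ⟨a, ha, rfl⟩ := gen_cases hg
  rw [decW_comp h a]
  have hlt : applyTbl T a < 2 ^ 24 := by
    have := applyTbl_lt T a
    rwa [h.1] at this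
  rw [decW_mem_iff hlt]
  simp only [tblInCode, List.all_eq_true, beq_iff_eq] at hT
  exact hT a ha

end Cfsg.Agent.Helper27
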