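import Mathlib
import Cfsg.Agent.Helper3.ES2

/-!
The extraspecial group of order `2 ^ (2 n + 1)` of plus type, on parameters: a scalar and two vectors of length `n`
over the field with two elements, with the product twisted by the dot product. A group parametrised bijectively and
multiplicatively by these parameters is extraspecial.
-/

set_option autoImplicit false

namespace Cfsg.Agent.Helper27

open Cfsg.Agent.Helper3

/-- parameters: a scalar and two vectors -/
abbrev HPn (n : ℕ) : Type := ZMod 2 × (Fin n → ZMod 2) × (Fin n → ZMod 2)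

/-- the product on parameters -/
def hmulN {n : ℕ} (a b : HPn n) : HPn n := (a.1 + b.1 + a.2.1 ⬝ᵥ b.2.2, a.2.1 + b.2.1, a.2.2 + b.2.2)

/-- the central parameter -/
def hzN (n : ℕ) : HPn n := (1, 0, 0)

theorem zmod2_add_self (c : ZMod 2) : c + c = 0 := CharTwo.add_self_eq_zero c

theorem vec2_add_self {n : ℕ} (v : Fin n → ZMod 2) : v + v = 0 := by
  ext i
  exact CharTwo.add_self_eq_zero (v i)

theorem zmod2_eq_zero_or_one (c : ZMod 2) : c = 0 ∨ c = 1 := by
  revert c; decide

theorem hmulN_zero {n : ℕ} : hmulN ((0, 0, 0) : HPn n) ((0, 0, 0) : HPn n) = ((0, 0, 0) : HPn n) := by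
  simp [hmulN]

theorem hmulN_central {n : ℕ} (a : HPn n) : hmulN a (hzN n) = hmulN (hzN n) a := by
  simp [hmulN, hzN, add_comm]

theorem hmulN_sq {n : ℕ} (a : HPn n) : hmulN a a = ((0, 0, 0) : HPn n) ∨ hmulN a a = hzN n := by
  have h : hmulN a a = ((a.2.1 ⬝ᵥ a.2.2, 0, 0) : HPn n) := by
    simp only [hmulN, zmod2_add_self, vec2_add_self, zero_add]
  rw [h]
  rcases zmod2_eq_zero_or_one (a.2.1 ⬝ᵥ a.2.2) with h1 | h1 <;> rw [h1]
  · left; rfl
  · right; rfl

theorem hmulN_comm {n : ℕ} (a b : HPn n) : hmulN a b = hmulN b a ∨ hmulN a b = hmulN (hmulN b a) (hzN n) := by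
  rcases zmod2_eq_zero_or_one (a.2.1 ⬝ᵥ b.2.2 + b.2.1 ⬝ᵥ a.2.2) with h | h
  · left
    have h1 : a.2.1 ⬝ᵥ b.2.2 = b.2.1 ⬝ᵥ a.2.2 := by
      have := congrArg (· + b.2.1 ⬝ᵥ a.2.2) h
      simpa [add_assoc, zmod2_add_self] using this
    simp only [hmulN, h1]
    refine Prod.ext ?_ (Prod.ext (add_comm _ _) (add_comm _ _))
    show a.1 + b.1 + _ = b.1 + a.1 + _
    rw [add_comm a.1]
  · right
    have h1 : a.2.1 ⬝ᵥ b.2.2 = b.2.1 ⬝ᵥ a.2.2 + 1 := by
      have := congrArg (· + b.2.1 ⬝ᵥ a.2.2) h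
      simp only [add_assoc, zmod2_add_self, add_zero] at this
      rw [this, add_comm]
    simp only [hmulN, hzN, h1, dotProduct_zero, add_zero]
    refine Prod.ext ?_ (Prod.ext (add_comm _ _) (add_comm _ _))
    show a.1 + b.1 + _ = b.1 + a.1 + _ + 1
    ring

theorem hmulN_center {n : ℕ} (a : HPn n) (h : ∀ b : HPn n, hmulN a b = hmulN b a) :
    a = ((0, 0, 0) : HPn n) ∨ a = hzN n := by
  have key : ∀ b : HPn n, a.2.1 ⬝ᵥ b.2.2 = b.2.1 ⬝ᵥ a.2.2 := by
    intro b
    have h1 := congrArg Prod.fst (h b)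
    simp only [hmulN] at h1
    have h2 : a.1 + b.1 = b.1 + a.1 := add_comm _ _
    rw [h2] at h1
    exact add_left_cancel h1
  have hr : a.2.1 = 0 := by
    ext k
    have := key ((0, 0, Pi.single k 1) : HPn n)
    simpa using this
  have hy : a.2.2 = 0 := by
    ext k
    have := key ((0, Pi.single k 1, 0) : HPn n)
    simpa using this.symm
  rcases zmod2_eq_zero_or_one a.1 with h1 | h1
  · left
    exact Prod.ext h1 (Prod.ext hr hy)
  · right
    exact Prod.ext h1 (Prod.ext hr hy)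

/-- a group parametrised bijectively and multiplicatively by the parameters is extraspecial -/
theorem es2_of_paramN {n : ℕ} (hn : 1 ≤ n) {K : Type*} [Group K] (u : HPn n → K) (hu : Function.Bijective u)
    (hmulu : ∀ a b, u a * u b = u (hmulN a b)) : ES2 K (u (hzN n)) := by
  have h0 : u ((0, 0, 0) : HPn n) = 1 := by
    have := hmulu ((0, 0, 0) : HPn n) ((0, 0, 0) : HPn n)
    rw [hmulN_zero] at this
    exact mul_left_cancel (a := u ((0, 0, 0) : HPn n)) (by rw [this, mul_one])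
  refine ⟨?_, ?_, ?_, ?_, ?_, ?_⟩
  · rw [← h0]
    intro h
    have := congrArg Prod.fst (hu.1 h)
    revert this
    simp [hzN]
  · intro g
    obtain ⟨a, rfl⟩ := hu.2 g
    rw [hmulu, hmulu, hmulN_central]
  · intro g hg
    obtain ⟨a, rfl⟩ := hu.2 g
    have : ∀ b : HPn n, hmulN a b = hmulN b a := by
      intro b
      apply hu.1
      rw [← hmulu, ← hmulu]
      exact hg (u b)
    rcases hmulN_center a this with h | h
    · left; rw [h, h0]
    · right; rw [h]
  · intro x
    obtain ⟨a, rfl⟩ := hu.2 x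
    rw [pow_two, hmulu]
    rcases hmulN_sq a with h | h
    · left; rw [h, h0]
    · right; rw [h]
  · intro x y
    obtain ⟨a, rfl⟩ := hu.2 x
    obtain ⟨b, rfl⟩ := hu.2 y
    rw [hmulu, hmulu, hmulu]
    rcases hmulN_comm a b with h | h
    · left; rw [h]
    · right; rw [h]
  · refine ⟨u ((0, Pi.single ⟨0, hn⟩ 1, 0) : HPn n), u ((0, 0, Pi.single ⟨0, hn⟩ 1) : HPn n), ?_⟩
    rw [hmulu, hmulu]
    intro h
    have := congrArg Prod.fst (hu.1 h)
    revert this
    simp [hmulN]

theorem card_HPn (n : ℕ) : Nat.card (HPn n) = 2 ^ (2 * n + 1) := by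
  simp [Nat.card_eq_fintype_card, ZMod.card]
  ring

end Cfsg.Agent.Helper27
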