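import Mathlib
import Cfsg.Prelude.Def_GeometricClasses
import Cfsg.Prelude.Def_Classical
import Cfsg.Agent.Helper27.Inv2Main

/-! Inv2 (helper27): the `hsuff` / `hder` hypotheses of helper16's `main_two_even` for the three
statements S5974 (`ε = +, θ = +`), S5988 (`ε = +, θ = -`), S5990 (`ε = -, θ = -`), `q` even. -/

set_option autoImplicit false
open scoped MatrixGroups

namespace Cfsg.Agent.Inv2P

open Cfsg.Agent.Helper2.SympInvol Cfsg.Agent.Helper2.SympUnits Cfsg.Agent.S5961P Cfsg.Agent.S5992P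
open Cfsg.Agent.Helper28.Spin

variable {F : Type*} [Field F] [Fintype F]

theorem plus_top_iff_isHyp {V : Type*} [AddCommGroup V] [Module F V] (Q : QuadraticForm F V) :
    Plus Q ⊤ ↔ Cfsg.Agent.S5973P.IsHyp Q := by
  constructor
  · rintro ⟨U, -, hU, hfr⟩
    exact ⟨U, hU, by rw [hfr, finrank_top]⟩
  · rintro ⟨U, hU, hfr⟩
    exact ⟨U, le_top, hU, by rw [hfr, finrank_top]⟩

/-- the standard minus form is not of plus type (every characteristic) -/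
theorem not_plus_top_QfMinus2 (k : ℕ) (a b : F)
    (hab : ∀ x y : F, x ^ 2 + a * x * y + b * y ^ 2 = 0 → x = 0 ∧ y = 0) :
    ¬ Plus (QfMinus k F a b) ⊤ := by
  rw [plus_top_iff_isHyp]
  exact (Cfsg.Agent.S5973P.std_minus k a b hab).2

/-- S5974, sufficiency: `d` odd or `4 ∣ m` -/
theorem hsuff74 (h2 : (2 : F) = 0) (d m : ℕ) (hd : 4 ≤ d) (hm : 2 ≤ m) (hme : Even m)
    (hmn : m + 2 ≤ 2 * d) (hc : Odd d ∨ m % 4 = 0) (x : GL (Fin d ⊕ Fin d) F)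
    (hx : x ∈ Cfsg.Geo.omegaGL (Cfsg.quadFormPlus d F)) (hxx : x * x = 1) :
    ∃ W : Submodule F (Fin d ⊕ Fin d → F), IsTy (QfPlus d F) true m W ∧
      W.map (Matrix.toLin' (x : Matrix (Fin d ⊕ Fin d) (Fin d ⊕ Fin d) F)) ≤ W := by
  refine exists_ty_of_invol2 h2 (QfPlus d F) (QfPlus_nondeg d) d
    (by rw [Fintype.card_sum, Fintype.card_fin]; omega) hd true
    (iff_of_true (Cfsg.Agent.S5989P.plus_top_QfPlus d) rfl) x hx hxx true m hme hm hmn ?_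
  unfold Inv2Cond
  rw [if_pos rfl]
  rcases hc with h | h
  · exact Or.inr (iff_of_true rfl h)
  · exact Or.inl h

/-- S5974, derangement: `d` even and `m ≡ 2 (mod 4)` -/
theorem hder74 (h2 : (2 : F) = 0) (d m : ℕ) (hd : 4 ≤ d) (hc : ¬ (Odd d ∨ m % 4 = 0)) :
    ∃ x : GL (Fin d ⊕ Fin d) F, x ∈ Cfsg.Geo.omegaGL (Cfsg.quadFormPlus d F) ∧ x * x = 1 ∧
      x ≠ 1 ∧ ∀ W : Submodule F (Fin d ⊕ Fin d → F), IsTy (QfPlus d F) true m W →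
        ¬ W.map (Matrix.toLin' (x : Matrix (Fin d ⊕ Fin d) (Fin d ⊕ Fin d) F)) ≤ W := by
  obtain ⟨x, hxΩ, hxx, hx1, hW⟩ := exists_invol2_derangement_plus (F := F) h2 d hd
  refine ⟨x, hxΩ, hxx, hx1, ?_⟩
  intro W hWty hWx
  push Not at hc
  obtain ⟨hd', hm'⟩ := hc
  have h4 := (hW W hWty.2.1 hWx).2 (Nat.not_odd_iff_even.mp hd')
  rw [hWty.1] at h4
  exact hm' (Nat.mod_eq_zero_of_dvd h4)

/-- S5988, derangement: always -/
theorem hder88 (h2 : (2 : F) = 0) (d m : ℕ) (hd : 4 ≤ d) :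
    ∃ x : GL (Fin d ⊕ Fin d) F, x ∈ Cfsg.Geo.omegaGL (Cfsg.quadFormPlus d F) ∧ x * x = 1 ∧
      x ≠ 1 ∧ ∀ W : Submodule F (Fin d ⊕ Fin d → F), IsTy (QfPlus d F) false m W →
        ¬ W.map (Matrix.toLin' (x : Matrix (Fin d ⊕ Fin d) (Fin d ⊕ Fin d) F)) ≤ W := by
  obtain ⟨x, hxΩ, hxx, hx1, hW⟩ := exists_invol2_derangement_plus (F := F) h2 d hd
  refine ⟨x, hxΩ, hxx, hx1, ?_⟩
  intro W hWty hWx
  have hp := (hW W hWty.2.1 hWx).1
  exact absurd (hWty.2.2.mp hp) (by decide)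

/-- S5990, sufficiency: `d` even or `m ≡ 2 (mod 4)` -/
theorem hsuff90 (h2 : (2 : F) = 0) (d m : ℕ) (hd : 4 ≤ d) (hm : 2 ≤ m) (hme : Even m)
    (hmn : m + 2 ≤ 2 * d) (a b : F)
    (hab : ∀ x y : F, x ^ 2 + a * x * y + b * y ^ 2 = 0 → x = 0 ∧ y = 0)
    (hc : Even d ∨ m % 4 = 2) (x : GL ((Fin (d - 1) ⊕ Fin (d - 1)) ⊕ Fin 2) F)
    (hx : x ∈ Cfsg.Geo.omegaGL (Cfsg.quadFormMinus (d - 1) F a b)) (hxx : x * x = 1) :
    ∃ W : Submodule F ((Fin (d - 1) ⊕ Fin (d - 1)) ⊕ Fin 2 → F),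
      IsTy (QfMinus (d - 1) F a b) false m W ∧
      W.map (Matrix.toLin' (x : Matrix ((Fin (d - 1) ⊕ Fin (d - 1)) ⊕ Fin 2)
        ((Fin (d - 1) ⊕ Fin (d - 1)) ⊕ Fin 2) F)) ≤ W := by
  refine exists_ty_of_invol2 h2 (QfMinus (d - 1) F a b)
    (Cfsg.Agent.S5973P.std_minus (d - 1) a b hab).1 d
    (by rw [Fintype.card_sum, Fintype.card_sum, Fintype.card_fin, Fintype.card_fin]; omega) hd
    false (iff_of_false (not_plus_top_QfMinus2 (d - 1) a b hab) (by decide))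
    x hx hxx false m hme hm hmn ?_
  unfold Inv2Cond
  rw [if_neg (by decide)]
  exact ⟨rfl, hc⟩

/-- S5990, derangement: `d` odd and `4 ∣ m` -/
theorem hder90 (h2 : (2 : F) = 0) (d m : ℕ) (hd : 4 ≤ d) (hme : Even m) (a b : F)
    (hab : ∀ x y : F, x ^ 2 + a * x * y + b * y ^ 2 = 0 → x = 0 ∧ y = 0)
    (hc : ¬ (Even d ∨ m % 4 = 2)) :
    ∃ x : GL ((Fin (d - 1) ⊕ Fin (d - 1)) ⊕ Fin 2) F,
      x ∈ Cfsg.Geo.omegaGL (Cfsg.quadFormMinus (d - 1) F a b) ∧ x * x = 1 ∧ x ≠ 1 ∧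
      ∀ W : Submodule F ((Fin (d - 1) ⊕ Fin (d - 1)) ⊕ Fin 2 → F),
        IsTy (QfMinus (d - 1) F a b) false m W →
        ¬ W.map (Matrix.toLin' (x : Matrix ((Fin (d - 1) ⊕ Fin (d - 1)) ⊕ Fin 2)
          ((Fin (d - 1) ⊕ Fin (d - 1)) ⊕ Fin 2) F)) ≤ W := by
  push Not at hc
  obtain ⟨hd', hm'⟩ := hc
  obtain ⟨x, hxΩ, hxx, hx1, hW⟩ := exists_invol2_derangement_minus (F := F) h2 d hd
    (Nat.not_even_iff_odd.mp hd') a b hab
  refine ⟨x, hxΩ, hxx, hx1, ?_⟩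
  intro W hWty hWx
  have hnp : ¬ Plus (QfMinus (d - 1) F a b) W := fun hp => absurd (hWty.2.2.mp hp) (by decide)
  have h4 := hW W hWty.2.1 hWx hnp
  rw [hWty.1] at h4
  exact hm' h4

end Cfsg.Agent.Inv2P
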