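import Mathlib

set_option autoImplicit false

/-!
# S3278 piece LOCA: a normal Klein-four Sylow 2-subgroup of `C(x)` contains every 2-element of `C(x)`
-/

namespace Cfsg.Agent.Helper27.K4C

variable {G : Type*} [Group G] [Finite G]

theorem mem_of_pow_two (x : G) (S₀ : Subgroup G)
    (hle : S₀ ≤ Subgroup.centralizer ({x} : Set G)) (hK : IsKleinFour ↥S₀)
    (hodd : ¬ 2 ∣ S₀.relIndex (Subgroup.centralizer ({x} : Set G)))
    (hn : (S₀.subgroupOf (Subgroup.centralizer ({x} : Set G))).Normal)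
    (u : G) (hu : u ∈ Subgroup.centralizer ({x} : Set G)) (k : ℕ) (huk : u ^ (2 ^ k) = 1) :
    u ∈ S₀ := by
  haveI := hn
  set C := Subgroup.centralizer ({x} : Set G) with hC
  set N := S₀.subgroupOf C with hN
  let q : C ⧸ N := ((⟨u, hu⟩ : C) : C ⧸ N)
  have hq : q ^ (2 ^ k) = 1 := by
    change (((⟨u, hu⟩ : C) : C ⧸ N)) ^ (2 ^ k) = 1
    rw [← QuotientGroup.mk_pow]
    have : (⟨u, hu⟩ : C) ^ (2 ^ k) = 1 := by
      apply Subtype.ext
      simpa using huk
    rw [this]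
    rfl
  have h1 : orderOf q ∣ 2 ^ k := orderOf_dvd_of_pow_eq_one hq
  have h2 : orderOf q ∣ S₀.relIndex C := by
    have := orderOf_dvd_natCard q
    rwa [← Subgroup.index_eq_card] at this
  have hcop : Nat.Coprime (2 ^ k) (S₀.relIndex C) := by
    apply Nat.Coprime.pow_left
    exact (Nat.Prime.coprime_iff_not_dvd Nat.prime_two).mpr hodd
  have h3 : orderOf q = 1 := Nat.eq_one_of_dvd_coprimes hcop h1 h2
  have h4 : q = 1 := orderOf_eq_one_iff.mp h3
  have h5 : (⟨u, hu⟩ : C) ∈ N := (QuotientGroup.eq_one_iff _).mp h4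
  exact Subgroup.mem_subgroupOf.mp h5

end Cfsg.Agent.Helper27.K4C

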