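import Mathlib

set_option autoImplicit false

/-!
# S3278 piece LOCB: at most three involutions in `C(x)`
-/

namespace Cfsg.Agent.Helper27.K4C

variable {G : Type*} [Group G] [Finite G]

theorem card_involutions_le (x : G) (S₀ : Subgroup G)
    (hK : IsKleinFour ↥S₀)
    (hmem : ∀ u ∈ Subgroup.centralizer ({x} : Set G), ∀ k : ℕ, u ^ (2 ^ k) = 1 → u ∈ S₀) :
    Nat.card {u : ↥(Subgroup.centralizer ({x} : Set G)) // orderOf u = 2} ≤ 3 := by
  classical
  have hcard : Nat.card {s : ↥S₀ // s ≠ 1} = 3 := by
    haveI : Fintype ↥S₀ := Fintype.ofFinite _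
    have h4 : Fintype.card ↥S₀ = 4 := by
      rw [← Nat.card_eq_fintype_card]; exact hK.card_four
    rw [Nat.card_eq_fintype_card, Fintype.card_subtype_compl, Fintype.card_subtype_eq, h4]
  have hpow : ∀ u : {u : ↥(Subgroup.centralizer ({x} : Set G)) // orderOf u = 2},
      ((u : ↥(Subgroup.centralizer ({x} : Set G))) : G) ^ (2 ^ 1) = 1 := by
    intro u
    have h := pow_orderOf_eq_one (u : ↥(Subgroup.centralizer ({x} : Set G)))
    rw [u.2] at h
    have h' := congrArg Subtype.val h
    simpa using h'
  let f : {u : ↥(Subgroup.centralizer ({x} : Set G)) // orderOf u = 2} → {s : ↥S₀ // s ≠ 1} :=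
    fun u => ⟨⟨((u : ↥(Subgroup.centralizer ({x} : Set G))) : G),
      hmem _ (u : ↥(Subgroup.centralizer ({x} : Set G))).2 1 (hpow u)⟩, by
        intro h
        have h1 : ((u : ↥(Subgroup.centralizer ({x} : Set G))) : G) = 1 := by
          have := congrArg Subtype.val h
          simpa using this
        have h2 : (u : ↥(Subgroup.centralizer ({x} : Set G))) = 1 := Subtype.ext h1
        have h3 := u.2
        rw [h2, orderOf_one] at h3
        exact absurd h3 (by norm_num)⟩
  have hf : Function.Injective f := by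
    intro a b hab
    have h1 : ((a : ↥(Subgroup.centralizer ({x} : Set G))) : G) =
        ((b : ↥(Subgroup.centralizer ({x} : Set G))) : G) := by
      have := congrArg (fun s : {s : ↥S₀ // s ≠ 1} => ((s : ↥S₀) : G)) hab
      simpa [f] using this
    exact Subtype.ext (Subtype.ext h1)
  calc Nat.card {u : ↥(Subgroup.centralizer ({x} : Set G)) // orderOf u = 2}
      ≤ Nat.card {s : ↥S₀ // s ≠ 1} := Nat.card_le_card_of_injective f hf
    _ = 3 := hcard

end Cfsg.Agent.Helper27.K4C

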