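import Cfsg.Agent.Helper27.L23Norm

/-!
The normaliser in the Mathieu group of degree 23 of the subgroup of order 11 generated by the multiplication by 2.
-/

set_option autoImplicit false

namespace Cfsg.Agent.Helper27

open Cfsg
open scoped Pointwise

/-- discrete logarithms: `i = ± 2 ^ dlT[i]` -/
def dlT : List ℕ := [0, 0, 1, 8, 2, 6, 9, 4, 3, 5, 7, 10, 10, 7, 5, 3, 4, 9, 6, 2, 8, 1, 0]

/-- the squares -/
def isqT : List ℕ := [0, 1, 1, 1, 1, 0, 1, 0, 1, 1, 0, 0, 1, 1, 0, 0, 1, 0, 1, 0, 0, 0, 0]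

/-- the table of the map fixing `∞` and `0` with `2 ^ n ↦ 2 ^ (k n) c` and `- 2 ^ n ↦ 2 ^ (k n) d` -/
def candT (k c d : ℕ) : List ℕ :=
  (List.range 23).map (fun i => if i = 0 then 0 else
    (2 ^ (k * dlT.getD i 0) % 23 * (if isqT.getD i 0 = 1 then c else d)) % 23) ++ [23]

theorem candT_length (k c d : ℕ) : (candT k c d).length = 24 := by simp [candT]

theorem candT_getD_lt (k c d : ℕ) {i : ℕ} (hi : i < 23) : (candT k c d).getD i 0 = if i = 0 then 0 else
    (2 ^ (k * dlT.getD i 0) % 23 * (if isqT.getD i 0 = 1 then c else d)) % 23 := by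
  unfold candT
  rw [List.getD_append _ _ _ _ (by simpa using hi), List.getD_eq_getElem _ _ (by simpa using hi)]
  simp

theorem candT_getD_last (k c d : ℕ) : (candT k c d).getD 23 0 = 23 := by
  unfold candT
  rw [List.getD_append_right _ _ _ _ (by simp)]
  simp

theorem dl_spec : ∀ t : ZMod 23, t ≠ 0 →
    (isqT.getD t.val 0 = 1 ∧ t = 2 ^ (dlT.getD t.val 0) * 1) ∨
    (isqT.getD t.val 0 ≠ 1 ∧ t = 2 ^ (dlT.getD t.val 0) * (-1)) := by decide

theorem two_pow_ne_one : ∀ k : Fin 11, k ≠ 0 → (2 : ZMod 23) ^ (k : ℕ) ≠ 1 := by decide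

theorem m2_orderOf : orderOf m2 = 11 :=
  orderOf_of_represents represents_m2 (by norm_num) (by decide +kernel)

theorem exists_pow_of_normalizer_m2 {g : Equiv.Perm GolayPt}
    (hnorm : g ∈ Subgroup.normalizer ((Subgroup.zpowers m2 : Subgroup (Equiv.Perm GolayPt)) : Set (Equiv.Perm GolayPt))) :
    ∃ k : ℕ, 0 < k ∧ k < 11 ∧ g * m2 = m2 ^ k * g := by
  have h1 : g * m2 * g⁻¹ ∈ Subgroup.zpowers m2 :=
    (Subgroup.mem_normalizer_iff.mp hnorm m2).mp (Subgroup.mem_zpowers m2)
  obtain ⟨k, hk⟩ := Subgroup.mem_zpowers_iff.mp h1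
  have h2 : m2 ^ (k % 11) = m2 ^ k := by
    have := zpow_mod_orderOf m2 k
    rwa [m2_orderOf] at this
  have h3 : 0 ≤ k % 11 := Int.emod_nonneg _ (by norm_num)
  have h4 : k % 11 < 11 := Int.emod_lt_of_pos _ (by norm_num)
  have h5 : ((k % 11).toNat : ℤ) = k % 11 := Int.toNat_of_nonneg h3
  have h6 : m2 ^ (k % 11).toNat = g * m2 * g⁻¹ := by
    rw [← zpow_natCast, h5, h2, hk]
  refine ⟨(k % 11).toNat, ?_, by omega, ?_⟩
  · rcases Nat.eq_zero_or_pos (k % 11).toNat with h0 | h0
    · exfalso
      rw [h0, pow_zero] at h6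
      have h7 : m2 = 1 := by
        have : g * m2 = g := by
          have := congrArg (fun σ => σ * g) h6
          simpa using this.symm
        exact mul_left_cancel (a := g) (by rw [this, mul_one])
      have h8 := congrArg (fun σ : Equiv.Perm GolayPt => σ (some 1)) h7
      simp only [m2_some, Equiv.Perm.coe_one, id_eq] at h8
      exact absurd h8 (by decide)
    · exact h0
  · rw [h6]; group

/-- the table of an element of `M₂₃` normalising the subgroup of order 11 -/
theorem table_of_normalizer_m2 {g : Equiv.Perm GolayPt} (hn : g none = none)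
    (hnorm : g ∈ Subgroup.normalizer ((Subgroup.zpowers m2 : Subgroup (Equiv.Perm GolayPt)) : Set (Equiv.Perm GolayPt))) :
    ∃ k < 11, ∃ c < 23, ∃ d < 23, Represents g (candT k c d) := by
  haveI := fact_prime_23
  obtain ⟨k, hk0, hk11, hk⟩ := exists_pow_of_normalizer_m2 hnorm
  obtain ⟨f, hf⟩ := exists_fun_of_fix_none hn
  have h3 : ∀ t, f (2 * t) = 2 ^ k * f t := by
    intro t
    have := congrArg (fun σ : Equiv.Perm GolayPt => σ (some t)) hk
    simp only [Equiv.Perm.mul_apply, m2_some, hf, m2_pow_some] at this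
    exact Option.some_injective _ this
  have h0 : f 0 = 0 := by
    have h4 := h3 0
    rw [mul_zero] at h4
    have h5 : (2 ^ k - 1) * f 0 = 0 := by
      rw [sub_mul, one_mul, ← h4, sub_self]
    rcases mul_eq_zero.mp h5 with h6 | h6
    · exfalso
      have := two_pow_ne_one ⟨k, hk11⟩ (by
        intro h
        have := congrArg Fin.val h
        simp at this
        omega)
      exact this (sub_eq_zero.mp h6)
    · exact h6
  have h4 : ∀ (n : ℕ) (x : ZMod 23), f (2 ^ n * x) = 2 ^ (k * n) * f x := by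
    intro n
    induction n with
    | zero => intro x; simp
    | succ n ih =>
      intro x
      have e : (2 : ZMod 23) ^ (n + 1) * x = 2 * (2 ^ n * x) := by ring
      rw [e, h3, ih]
      ring
  refine ⟨k, hk11, (f 1).val, ZMod.val_lt _, (f (-1)).val, ZMod.val_lt _, candT_length _ _ _, ?_⟩
  intro p
  cases p with
  | none =>
    rw [hn]
    show 23 = (candT k (f 1).val (f (-1)).val).getD 23 0
    rw [candT_getD_last]
  | some t =>
    rw [hf t]
    show (f t).val = (candT k (f 1).val (f (-1)).val).getD t.val 0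
    rw [candT_getD_lt _ _ _ (ZMod.val_lt t)]
    by_cases ht : t = 0
    · rw [ht, h0]
      simp
    · have htv : t.val ≠ 0 := by
        intro h
        exact ht ((ZMod.val_eq_zero t).mp h)
      rw [if_neg htv]
      have key : ∀ (n : ℕ) (x : ZMod 23), (f (2 ^ n * x)).val = (2 ^ (k * n) % 23 * (f x).val) % 23 := by
        intro n x
        rw [h4, ZMod.val_mul]
        congr 2
        have : ((2 : ZMod 23) ^ (k * n)) = (((2 ^ (k * n) : ℕ)) : ZMod 23) := by push_cast; rfl
        rw [this, ZMod.val_natCast]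
      rcases dl_spec t ht with ⟨h1, h2⟩ | ⟨h1, h2⟩
      · rw [if_pos h1]
        conv_lhs => rw [h2]
        exact key _ _
      · rw [if_neg h1]
        conv_lhs => rw [h2]
        exact key _ _

end Cfsg.Agent.Helper27
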