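import Cfsg.Agent.Helper27.ChainTables
import Cfsg.Agent.Helper27.L23Norm11

/-!
The groups `23:11` and `PSL(2,23)` of permutations of the 24 points: orders and stabilisers, by stabiliser chains.
-/

set_option autoImplicit false

namespace Cfsg.Agent.Helper27

open Cfsg
open scoped Pointwise

/-- the generators of the affine group `23:11` -/
def YB : Set (Equiv.Perm GolayPt) :=
  {Equiv.optionCongr (Equiv.addRight (1 : ZMod 23))} ∪
    {g : Equiv.Perm GolayPt | ∃ u : (ZMod 23)ˣ, IsSquare u ∧ g = Equiv.optionCongr (Units.mulLeft u)}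

/-- the generators of `PSL(2,23)` -/
def YA : Set (Equiv.Perm GolayPt) :=
  {Equiv.optionCongr (Equiv.addRight (1 : ZMod 23)), projInv} ∪
    {g : Equiv.Perm GolayPt | ∃ u : (ZMod 23)ˣ, IsSquare u ∧ g = Equiv.optionCongr (Units.mulLeft u)}

/-- the affine group `23:11` -/
def grpB : Subgroup (Equiv.Perm GolayPt) := Subgroup.closure YB

/-- the group `PSL(2,23)` -/
def grpA : Subgroup (Equiv.Perm GolayPt) := Subgroup.closure YA

/-- the tables of the generators -/
def gensB : List (List ℕ) := affT 1 1 :: qrL.map (fun a => affT a 0)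

/-- the tables of the generators -/
def gensA : List (List ℕ) := affT 1 1 :: tblProjInv :: qrL.map (fun a => affT a 0)

theorem sP_mem_YB : sP ∈ YB := Or.inl rfl

theorem m2_mem_YB : m2 ∈ YB := Or.inr ⟨u2, u2_isSquare, rfl⟩

theorem YB_subset_YA : YB ⊆ YA := by
  intro y hy
  rcases hy with hy | hy
  · left
    rw [Set.mem_singleton_iff] at hy
    rw [hy]
    exact Or.inl rfl
  · exact Or.inr hy

theorem grpB_le_grpA : grpB ≤ grpA := Subgroup.closure_mono YB_subset_YA

theorem tables_YB : ∀ y ∈ YB, ∃ Yt ∈ gensB, Represents y Yt := by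
  intro y hy
  rcases hy with hy | ⟨u, hu, rfl⟩
  · rw [Set.mem_singleton_iff] at hy
    rw [hy]
    exact ⟨affT 1 1, List.mem_cons_self, represents_sP⟩
  · refine ⟨affT (u : ZMod 23).val 0, List.mem_cons_of_mem _ ?_, represents_mP u⟩
    exact List.mem_map.mpr ⟨_, val_mem_qrL_of_isSquare hu, rfl⟩

theorem tables_YA : ∀ y ∈ YA, ∃ Yt ∈ gensA, Represents y Yt := by
  intro y hy
  rcases hy with hy | ⟨u, hu, rfl⟩
  · rcases hy with hy | hy
    · rw [hy]
      exact ⟨affT 1 1, List.mem_cons_self, represents_sP⟩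
    · rw [Set.mem_singleton_iff] at hy
      rw [hy]
      exact ⟨tblProjInv, List.mem_cons_of_mem _ List.mem_cons_self, represents_projInv⟩
  · refine ⟨affT (u : ZMod 23).val 0, List.mem_cons_of_mem _ (List.mem_cons_of_mem _ ?_), represents_mP u⟩
    exact List.mem_map.mpr ⟨_, val_mem_qrL_of_isSquare hu, rfl⟩

theorem represents_sP_pow {i : ℕ} (hi : i < 23) : Represents ((sP ^ i : Equiv.Perm GolayPt)) (affT 1 i) := by
  have h := represents_aff (g := sP ^ i) (sP_pow_none i) 1 (i : ZMod 23) (by
    intro t
    rw [sP_pow_some, one_mul])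
  have e1 : (1 : ZMod 23).val = 1 := rfl
  have e2 : ((i : ZMod 23)).val = i := by rw [ZMod.val_natCast, Nat.mod_eq_of_lt hi]
  rwa [e1, e2] at h

/-! ### The affine group -/

theorem m2_pow_tables : ∀ a ∈ qrL, ∃ k < 11, affT a 0 = powT (affT 2 0) k := by decide +kernel

theorem aff_tables : ∀ a ∈ qrL, ∀ b < 23, ∃ k < 11, affT a b = compT (affT 1 b) (powT (affT 2 0) k) := by
  decide +kernel

/-- an element with an affine table with square multiplier lies in the affine group -/
theorem mem_grpB_of_affT {g : Equiv.Perm GolayPt} {a b : ℕ} (ha : a ∈ qrL) (hb : b < 23)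
    (h : Represents g (affT a b)) : g ∈ grpB := by
  obtain ⟨k, -, hk⟩ := aff_tables a ha b hb
  have h1 : Represents ((sP ^ b * m2 ^ k : Equiv.Perm GolayPt)) (compT (affT 1 b) (powT (affT 2 0) k)) :=
    represents_compT (represents_sP_pow hb) (represents_powT represents_m2 k)
  rw [← hk] at h1
  rw [represents_inj h h1]
  exact Subgroup.mul_mem _ (Subgroup.pow_mem _ (Subgroup.subset_closure sP_mem_YB) _)
    (Subgroup.pow_mem _ (Subgroup.subset_closure m2_mem_YB) _)

theorem grpB_fix_none : ∀ h ∈ grpB, h none = none := by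
  intro h hh
  have hle : grpB ≤ MulAction.stabilizer (Equiv.Perm GolayPt) (none : GolayPt) := by
    rw [grpB, Subgroup.closure_le]
    intro y hy
    rcases hy with hy | ⟨u, -, rfl⟩
    · rw [Set.mem_singleton_iff] at hy
      rw [hy]
      exact sP_none
    · exact mP_none u
  exact hle hh

theorem chainB_ok : chainOK 0 (List.range 23) gensB (qrL.map (fun a => affT a 0)) (fun i => affT 1 i) = true := by
  decide +kernel

theorem zpowers_m2_fix_zero : ∀ h ∈ Subgroup.zpowers m2, h (pt 0) = pt 0 := by
  intro h hh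
  have hle : Subgroup.zpowers m2 ≤ MulAction.stabilizer (Equiv.Perm GolayPt) (pt 0) := by
    rw [Subgroup.zpowers_le, MulAction.mem_stabilizer_iff]
    show m2 (some 0) = some 0
    rw [m2_some, mul_zero]
  exact hle hh

theorem chainB_hyp :
    pt 0 ∈ ((List.range 23).map pt).toFinset ∧ (fun β => sP ^ (idx β)) (pt 0) = 1 ∧
    (∀ β ∈ ((List.range 23).map pt).toFinset, (fun β => sP ^ (idx β)) β (pt 0) = β) ∧
    (∀ β ∈ ((List.range 23).map pt).toFinset, ∀ y ∈ YB, y β ∈ ((List.range 23).map pt).toFinset ∧
      ((fun β => sP ^ (idx β)) (y β))⁻¹ * y * (fun β => sP ^ (idx β)) β ∈ Subgroup.zpowers m2) :=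
  chain_of_tables (Y := YB) (H' := Subgroup.zpowers m2) (b0 := 0) (OL := List.range 23)
    (gens := gensB) (HL := qrL.map (fun a => affT a 0)) (TT := fun i => affT 1 i) (Tp := fun i => sP ^ i)
    (by norm_num) (fun i hi => by rw [List.mem_range] at hi; omega) (by simp) tables_YB
    (fun i hi => represents_sP_pow (List.mem_range.mp hi)) (pow_zero _)
    (by
      intro Ht hHt
      obtain ⟨a, ha, rfl⟩ := List.mem_map.mp hHt
      obtain ⟨k, -, hk⟩ := m2_pow_tables a ha
      exact ⟨m2 ^ k, Subgroup.pow_mem _ (Subgroup.mem_zpowers m2) _, hk ▸ represents_powT represents_m2 k⟩)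
    chainB_ok

theorem card_grpB : Nat.card grpB = 253 := by
  obtain ⟨h1, h2, h3, h4⟩ := chainB_hyp
  have h := Cfsg.Agent.Helper17.SchreierSims.card_eq YB (Subgroup.zpowers m2) (pt 0)
    ((List.range 23).map pt).toFinset (fun β => sP ^ (idx β)) h1 h2 h3
    (fun β _ => Subgroup.pow_mem _ (Subgroup.subset_closure sP_mem_YB) _) h4 zpowers_m2_fix_zero
    (by rw [Subgroup.zpowers_le]; exact Subgroup.subset_closure m2_mem_YB)
  rw [grpB, h, Nat.card_zpowers, m2_orderOf]
  have : ((List.range 23).map pt).toFinset.card = 23 := by decide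
  rw [this]

/-! ### The projective group -/

theorem chainA_ok : chainOK 23 (List.range 24) gensA
    (qrL.flatMap (fun a => (List.range 23).map (fun b => affT a b)))
    (fun i => if i = 23 then idT else compT (affT 1 i) tblProjInv) = true := by
  decide +kernel

/-- the transversal of the stabiliser of the extra point -/
noncomputable def TpA (i : ℕ) : Equiv.Perm GolayPt := if i = 23 then 1 else sP ^ i * projInv

theorem chainA_hyp :
    pt 23 ∈ ((List.range 24).map pt).toFinset ∧ (fun β => TpA (idx β)) (pt 23) = 1 ∧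
    (∀ β ∈ ((List.range 24).map pt).toFinset, (fun β => TpA (idx β)) β (pt 23) = β) ∧
    (∀ β ∈ ((List.range 24).map pt).toFinset, ∀ y ∈ YA, y β ∈ ((List.range 24).map pt).toFinset ∧
      ((fun β => TpA (idx β)) (y β))⁻¹ * y * (fun β => TpA (idx β)) β ∈ grpB) :=
  chain_of_tables (Y := YA) (H' := grpB) (b0 := 23) (OL := List.range 24)
    (gens := gensA) (HL := qrL.flatMap (fun a => (List.range 23).map (fun b => affT a b)))
    (TT := fun i => if i = 23 then idT else compT (affT 1 i) tblProjInv)
    (Tp := TpA)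
    (by norm_num) (fun i hi => by rw [List.mem_range] at hi; omega) (by simp) tables_YA
    (by
      intro i hi
      rw [List.mem_range] at hi
      by_cases h23 : i = 23
      · simp only [TpA, h23, if_true]
        exact represents_one
      · simp only [TpA, h23, if_false]
        exact represents_compT (represents_sP_pow (by omega)) represents_projInv)
    (by simp [TpA])
    (by
      intro Ht hHt
      obtain ⟨a, ha, hHt'⟩ := List.mem_flatMap.mp hHt
      obtain ⟨b, hb, rfl⟩ := List.mem_map.mp hHt'
      have hv : validTbl (affT a b) = true := by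
        have : ∀ a ∈ qrL, ∀ b < 23, validTbl (affT a b) = true := by decide +kernel
        exact this a ha b (List.mem_range.mp hb)
      exact ⟨tblPerm (affT a b) hv, mem_grpB_of_affT ha (List.mem_range.mp hb) (tblPerm_represents _ _),
        tblPerm_represents _ _⟩)
    chainA_ok

theorem sP_mem_YA : sP ∈ YA := Or.inl (Or.inl rfl)

theorem projInv_mem_YA : projInv ∈ YA := Or.inl (Or.inr rfl)

theorem transversalA_mem (β : GolayPt) : (fun β : GolayPt => TpA (idx β)) β ∈ Subgroup.closure YA := by
  show (if idx β = 23 then (1 : Equiv.Perm GolayPt) else sP ^ (idx β) * projInv) ∈ Subgroup.closure YA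
  split_ifs
  · exact Subgroup.one_mem _
  · exact Subgroup.mul_mem _ (Subgroup.pow_mem _ (Subgroup.subset_closure sP_mem_YA) _)
      (Subgroup.subset_closure projInv_mem_YA)

theorem card_grpA : Nat.card grpA = 6072 := by
  obtain ⟨h1, h2, h3, h4⟩ := chainA_hyp
  have h := Cfsg.Agent.Helper17.SchreierSims.card_eq YA grpB (pt 23)
    ((List.range 24).map pt).toFinset (fun β => TpA (idx β)) h1 h2 h3
    (fun β _ => transversalA_mem β) h4 grpB_fix_none grpB_le_grpA
  rw [grpA, h, card_grpB]
  have : ((List.range 24).map pt).toFinset.card = 24 := by decide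
  rw [this]

theorem grpA_inf_stabilizer : grpA ⊓ MulAction.stabilizer (Equiv.Perm GolayPt) (none : GolayPt) = grpB := by
  obtain ⟨h1, h2, h3, h4⟩ := chainA_hyp
  exact Cfsg.Agent.Helper17.SchreierSims.stabilizer_eq YA grpB (pt 23)
    ((List.range 24).map pt).toFinset (fun β => TpA (idx β)) h1 h2 h3
    h4 grpB_fix_none grpB_le_grpA

end Cfsg.Agent.Helper27
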