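import Cfsg.Agent.Helper27.L23Chain

/-!
The normaliser of order 55 of the subgroup of order 11 of `23:11` in the Mathieu group of degree 23.
-/

set_option autoImplicit false

namespace Cfsg.Agent.Helper27

open Cfsg
open scoped Pointwise

/-- an element of order 5 normalising the multiplication by 2 -/
def h5T : List ℕ := [0, 1, 8, 4, 18, 5, 9, 22, 6, 16, 17, 10, 3, 12, 15, 20, 2, 7, 13, 14, 21, 19, 11, 23]

theorem h5T_valid : validTbl h5T = true := by decide +kernel

/-- the element of order 5 -/
noncomputable def h5P : Equiv.Perm GolayPt := tblPerm h5T h5T_valid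

theorem represents_h5P : Represents h5P h5T := tblPerm_represents _ _

theorem h5P_orderOf : orderOf h5P = 5 :=
  orderOf_of_represents represents_h5P (by norm_num) (by decide +kernel)

/-- the group of order 55 -/
noncomputable def grpF : Subgroup (Equiv.Perm GolayPt) := Subgroup.closure {m2, h5P}

/-- the tables of the elements of the group of order 55 -/
def lfL : List (List ℕ) :=
  (List.range 11).flatMap (fun i => (List.range 5).map (fun j => compT (powT (affT 2 0) i) (powT h5T j)))

theorem mem_grpF_of_lfL {g : Equiv.Perm GolayPt} {T : List ℕ} (h : Represents g T) (hT : T ∈ lfL) : g ∈ grpF := by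
  obtain ⟨i, -, hT'⟩ := List.mem_flatMap.mp hT
  obtain ⟨j, -, rfl⟩ := List.mem_map.mp hT'
  have h1 : Represents ((m2 ^ i * h5P ^ j : Equiv.Perm GolayPt)) (compT (powT (affT 2 0) i) (powT h5T j)) :=
    represents_compT (represents_powT represents_m2 i) (represents_powT represents_h5P j)
  rw [represents_inj h h1]
  exact Subgroup.mul_mem _ (Subgroup.pow_mem _ (Subgroup.subset_closure (by simp)) _)
    (Subgroup.pow_mem _ (Subgroup.subset_closure (by simp)) _)

theorem cand_check : (List.range 11).all (fun k => (List.range 23).all (fun c => (List.range 23).all (fun d =>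
    !(tblInCode (candT k c d)) || lfL.any (fun T => eqT T (candT k c d))))) = true := by
  decide +kernel

/-- the elements of `M₂₃` normalising the subgroup of order 11 lie in the group of order 55 -/
theorem mem_grpF_of_normalizer {g : Equiv.Perm GolayPt} (hg : g ∈ Spor.M23)
    (hnorm : g ∈ Subgroup.normalizer ((Subgroup.zpowers m2 : Subgroup (Equiv.Perm GolayPt)) : Set (Equiv.Perm GolayPt))) :
    g ∈ grpF := by
  rw [Spor.M23, Subgroup.mem_inf, MulAction.mem_stabilizer_iff] at hg
  obtain ⟨k, hk, c, hc, d, hd, hr⟩ := table_of_normalizer_m2 hg.2 hnorm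
  have hcode := tblInCode_of_mem_M24 hr hg.1
  have h := cand_check
  simp only [List.all_eq_true, List.mem_range, Bool.or_eq_true, Bool.not_eq_true', List.any_eq_true, eqT_iff] at h
  rcases h k hk c hc d hd with h1 | ⟨T, hT, hTe⟩
  · rw [hcode] at h1
    exact absurd h1 (by simp)
  · rw [← hTe] at hr
    exact mem_grpF_of_lfL hr hT

theorem chainF_ok : chainOK 1 [1, 2, 4, 8, 16, 9, 18, 13, 3, 6, 12] [affT 2 0, h5T]
    ((List.range 5).map (fun j => powT h5T j)) (fun i => powT (affT 2 0) (dlT.getD i 0)) = true := by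
  decide +kernel

theorem zpowers_h5P_fix_one : ∀ h ∈ Subgroup.zpowers h5P, h (pt 1) = pt 1 := by
  intro h hh
  have hle : Subgroup.zpowers h5P ≤ MulAction.stabilizer (Equiv.Perm GolayPt) (pt 1) := by
    rw [Subgroup.zpowers_le, MulAction.mem_stabilizer_iff]
    show h5P (pt 1) = pt 1
    rw [apply_pt_of_represents represents_h5P (by norm_num)]
    rfl
  exact hle hh

theorem card_grpF : Nat.card grpF = 55 := by
  have hyp := chain_of_tables (Y := ({m2, h5P} : Set (Equiv.Perm GolayPt))) (H' := Subgroup.zpowers h5P) (b0 := 1)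
    (OL := [1, 2, 4, 8, 16, 9, 18, 13, 3, 6, 12]) (gens := [affT 2 0, h5T])
    (HL := (List.range 5).map (fun j => powT h5T j)) (TT := fun i => powT (affT 2 0) (dlT.getD i 0))
    (Tp := fun i => m2 ^ (dlT.getD i 0))
    (by norm_num) (by decide) (by simp)
    (by
      intro y hy
      rcases hy with rfl | hy
      · exact ⟨affT 2 0, by simp, represents_m2⟩
      · rw [Set.mem_singleton_iff] at hy
        rw [hy]
        exact ⟨h5T, by simp, represents_h5P⟩)
    (fun i _ => represents_powT represents_m2 _) (by simp [dlT])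
    (by
      intro Ht hHt
      obtain ⟨j, -, rfl⟩ := List.mem_map.mp hHt
      exact ⟨h5P ^ j, Subgroup.pow_mem _ (Subgroup.mem_zpowers h5P) _, represents_powT represents_h5P j⟩)
    chainF_ok
  obtain ⟨h1, h2, h3, h4⟩ := hyp
  have h := Cfsg.Agent.Helper17.SchreierSims.card_eq ({m2, h5P} : Set (Equiv.Perm GolayPt)) (Subgroup.zpowers h5P) (pt 1)
    (([1, 2, 4, 8, 16, 9, 18, 13, 3, 6, 12] : List ℕ).map pt).toFinset (fun β => m2 ^ (dlT.getD (idx β) 0)) h1 h2 h3
    (fun β _ => Subgroup.pow_mem _ (Subgroup.subset_closure (by simp)) _) h4 zpowers_h5P_fix_one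
    (by rw [Subgroup.zpowers_le]; exact Subgroup.subset_closure (by simp))
  rw [grpF, h, Nat.card_zpowers, h5P_orderOf]
  have : (([1, 2, 4, 8, 16, 9, 18, 13, 3, 6, 12] : List ℕ).map pt).toFinset.card = 11 := by decide
  rw [this]

end Cfsg.Agent.Helper27
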