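import Mathlib

/-!
Counting Sylow subgroups of prime order in a subgroup, and the maximality of a subgroup `23:11` in a group of order
`10200960` from the normalisers of its subgroups of orders 23 and 11.
-/

set_option autoImplicit false

namespace Cfsg.Agent.Helper27

open Subgroup

/-- the order of a group with a Sylow subgroup of prime order -/
theorem card_eq_card_normalizer_mul {K : Type*} [Group K] [Finite K] (p : ℕ) [hp : Fact p.Prime] (x : K)
    (hx : orderOf x = p) (hp2 : ¬ p ^ 2 ∣ Nat.card K) :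
    ∃ n, n % p = 1 ∧ Nat.card K = Nat.card (normalizer ((zpowers x : Subgroup K) : Set K)) * n := by
  have hcard_pos : Nat.card K ≠ 0 := Nat.card_pos.ne'
  have hpdvd : p ∣ Nat.card K := hx ▸ orderOf_dvd_natCard x
  have hfac : (Nat.card K).factorization p = 1 := by
    have h1 : 1 ≤ (Nat.card K).factorization p :=
      (hp.out.pow_dvd_iff_le_factorization hcard_pos).mp (by simpa using hpdvd)
    have h2 : ¬ 2 ≤ (Nat.card K).factorization p := fun h =>
      hp2 ((hp.out.pow_dvd_iff_le_factorization hcard_pos).mpr h)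
    omega
  have hcardz : Nat.card (zpowers x) = p ^ (Nat.card K).factorization p := by
    rw [hfac, pow_one, Nat.card_zpowers, hx]
  let P : Sylow p K := Sylow.ofCard (zpowers x) hcardz
  have hPcoe : (P : Subgroup K) = zpowers x := Sylow.coe_ofCard _ _
  refine ⟨Nat.card (Sylow p K), ?_, ?_⟩
  · have h := card_sylow_modEq_one p K
    unfold Nat.ModEq at h
    rw [h, Nat.mod_eq_of_lt hp.out.one_lt]
  · have e : (P : Set K) = ((zpowers x : Subgroup K) : Set K) := by rw [← hPcoe]; rfl
    rw [Sylow.card_eq_index_normalizer P, e, Subgroup.card_mul_index]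

/-- the version for a subgroup -/
theorem card_subgroup_eq_card_normalizer_mul {G : Type*} [Group G] [Finite G] (K : Subgroup G) (p : ℕ)
    [hp : Fact p.Prime] (x : G) (hxK : x ∈ K) (hx : orderOf x = p) (hp2 : ¬ p ^ 2 ∣ Nat.card K) :
    ∃ n, n % p = 1 ∧
      Nat.card K = Nat.card (normalizer ((zpowers x : Subgroup G) : Set G) ⊓ K : Subgroup G) * n := by
  have hx' : orderOf (⟨x, hxK⟩ : K) = p := by
    rw [← hx]
    exact (Subgroup.orderOf_coe (⟨x, hxK⟩ : K)).symm
  obtain ⟨n, hn, hK⟩ := card_eq_card_normalizer_mul p (⟨x, hxK⟩ : K) hx' hp2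
  refine ⟨n, hn, ?_⟩
  rw [hK]
  congr 1
  have hle : zpowers x ≤ K := by rw [zpowers_le]; exact hxK
  have h1 : (zpowers (⟨x, hxK⟩ : K) : Subgroup K) = (zpowers x).subgroupOf K := by
    ext g
    rw [mem_subgroupOf, mem_zpowers_iff, mem_zpowers_iff]
    constructor
    · rintro ⟨k, hk⟩
      exact ⟨k, by rw [← hk]; simp⟩
    · rintro ⟨k, hk⟩
      exact ⟨k, Subtype.ext (by rw [← hk]; simp)⟩
  rw [h1, ← subgroupOf_normalizer_eq hle, ← inf_subgroupOf_right]
  exact Nat.card_congr (subgroupOfEquivOfLe inf_le_right).toEquiv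

theorem divisors_check : ∀ n ∈ Nat.divisors 40320, n % 23 = 1 →
    (n % 11 = 1 ∨ (n % 5 = 0 ∧ (23 * n / 5) % 11 = 1)) → n = 1 ∨ n = 40320 := by decide +kernel

/-- the maximality of `23:11` in a group of order `10200960` -/
theorem max_of_sylow_data {G : Type*} [Group G] [Finite G] (M K B F : Subgroup G) (hBK : B ≤ K) (hKM : K ≤ M)
    (hM : Nat.card M = 10200960) (hB : Nat.card B = 253) (x y : G) (hxB : x ∈ B) (hyB : y ∈ B)
    (hx : orderOf x = 23) (hy : orderOf y = 11)
    (hBN : B ≤ normalizer ((zpowers x : Subgroup G) : Set G))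
    (hNx : ∀ g ∈ M, g ∈ normalizer ((zpowers x : Subgroup G) : Set G) → g ∈ B)
    (hF : Nat.card F = 55)
    (hNy : ∀ g ∈ M, g ∈ normalizer ((zpowers y : Subgroup G) : Set G) → g ∈ F) :
    K = B ∨ K = M := by
  have hKd : Nat.card K ∣ 10200960 := hM ▸ card_dvd_of_le hKM
  haveI : Fact (Nat.Prime 23) := ⟨by norm_num⟩
  haveI : Fact (Nat.Prime 11) := ⟨by norm_num⟩
  have h23 : ¬ 23 ^ 2 ∣ Nat.card K := fun h => absurd (dvd_trans h hKd) (by norm_num)
  have h11 : ¬ 11 ^ 2 ∣ Nat.card K := fun h => absurd (dvd_trans h hKd) (by norm_num)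
  obtain ⟨n, hn, hKn⟩ := card_subgroup_eq_card_normalizer_mul K 23 x (hBK hxB) hx h23
  obtain ⟨n', hn', hKn'⟩ := card_subgroup_eq_card_normalizer_mul K 11 y (hBK hyB) hy h11
  have e1 : (normalizer ((zpowers x : Subgroup G) : Set G) ⊓ K : Subgroup G) = B := by
    apply le_antisymm
    · intro g hg
      exact hNx g (hKM hg.2) hg.1
    · exact le_inf hBN hBK
  rw [e1, hB] at hKn
  set c := Nat.card (normalizer ((zpowers y : Subgroup G) : Set G) ⊓ K : Subgroup G) with hc
  have hc55 : c ∣ 55 := by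
    rw [← hF]
    apply card_dvd_of_le
    intro g hg
    exact hNy g (hKM hg.2) hg.1
  have hc11 : 11 ∣ c := by
    have hle : zpowers y ≤ normalizer ((zpowers y : Subgroup G) : Set G) ⊓ K :=
      le_inf le_normalizer (by rw [zpowers_le]; exact hBK hyB)
    have := card_dvd_of_le hle
    rwa [Nat.card_zpowers, hy] at this
  have hcc : c = 11 ∨ c = 55 := by
    obtain ⟨e, he⟩ := hc11
    rw [he] at hc55
    have h5 : e ∣ 5 := Nat.dvd_of_mul_dvd_mul_left (by norm_num : 0 < 11) (by simpa using hc55)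
    rcases (Nat.dvd_prime (by norm_num : Nat.Prime 5)).mp h5 with h | h
    · left; rw [he, h]
    · right; rw [he, h]
  have hnd : n ∣ 40320 := by
    rw [hKn] at hKd
    exact Nat.dvd_of_mul_dvd_mul_left (by norm_num : 0 < 253) (by simpa using hKd)
  have hn0 : n ≠ 0 := by
    intro h; rw [h] at hn; omega
  have hmem : n ∈ Nat.divisors 40320 := Nat.mem_divisors.mpr ⟨hnd, by norm_num⟩
  have hcond : n % 11 = 1 ∨ (n % 5 = 0 ∧ (23 * n / 5) % 11 = 1) := by
    rcases hcc with h | h
    · left
      rw [h] at hKn'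
      omega
    · right
      rw [h] at hKn'
      omega
  rcases divisors_check n hmem hn hcond with h | h
  · left
    rw [h] at hKn
    exact (eq_of_le_of_card_ge hBK (by rw [hKn, hB])).symm
  · right
    rw [h] at hKn
    exact eq_of_le_of_card_ge hKM (by rw [hKn, hM])

end Cfsg.Agent.Helper27
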