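import Cfsg.Agent.Helper27.L23F
import Cfsg.Agent.Helper27.SylowMax

/-!
The maximality of `23:11` in the Mathieu group of degree 23 and of `PSL(2,23)` in the Mathieu group of degree 24.
-/

set_option autoImplicit false

namespace Cfsg.Agent.Helper27

open Cfsg
open scoped Pointwise

theorem card_sporM23 : Nat.card Spor.M23 = 10200960 := by
  obtain ⟨e⟩ := nonempty_sporM23_equiv_G1
  rw [Nat.card_congr e.toEquiv]
  exact card_fix24_1

theorem sporM23_eq : Spor.M23 = M24 ⊓ MulAction.stabilizer (Equiv.Perm GolayPt) (none : GolayPt) := rfl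

theorem sP_mem_M24 : sP ∈ M24 := mem_M24_of_table _ _ represents_sP (by decide +kernel)

theorem mP_mem_M24 {u : (ZMod 23)ˣ} (hu : IsSquare u) : mP u ∈ M24 := by
  have h : ∀ a ∈ qrL, tblInCode (affT a 0) = true := by decide +kernel
  exact mem_M24_of_table _ _ (represents_mP u) (h _ (val_mem_qrL_of_isSquare hu))

theorem grpA_le_M24 : grpA ≤ M24 := by
  rw [grpA, Subgroup.closure_le]
  intro y hy
  rcases hy with hy | ⟨u, hu, rfl⟩
  · rcases hy with hy | hy
    · rw [hy]; exact sP_mem_M24
    · rw [Set.mem_singleton_iff] at hy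
      rw [hy]; exact projInv_mem_M24
  · exact mP_mem_M24 hu

theorem grpB_le_sporM23 : grpB ≤ Spor.M23 := by
  rw [sporM23_eq]
  refine le_inf (le_trans grpB_le_grpA grpA_le_M24) ?_
  intro g hg
  exact grpB_fix_none g hg

theorem sP_orderOf : orderOf sP = 23 :=
  orderOf_of_represents represents_sP (by norm_num) (by decide +kernel)

theorem sP_mem_grpB : sP ∈ grpB := Subgroup.subset_closure sP_mem_YB

theorem m2_mem_grpB : m2 ∈ grpB := Subgroup.subset_closure m2_mem_YB

/-- the affine group normalises its subgroup of order 23 -/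
theorem grpB_le_normalizer :
    grpB ≤ Subgroup.normalizer ((Subgroup.zpowers sP : Subgroup (Equiv.Perm GolayPt)) : Set (Equiv.Perm GolayPt)) := by
  rw [grpB, Subgroup.closure_le]
  have key : ∀ (y : Equiv.Perm GolayPt) (k : ℕ), y * sP * y⁻¹ = sP ^ k →
      y ∈ Subgroup.normalizer ((Subgroup.zpowers sP : Subgroup (Equiv.Perm GolayPt)) : Set (Equiv.Perm GolayPt)) := by
    intro y k hyk
    -- conjugation by `y` maps the finite group generated by the shift into itself
    have hle : Subgroup.zpowers sP ≤ (Subgroup.zpowers sP).comap (MulAut.conj y).toMonoidHom := by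
      rw [Subgroup.zpowers_le, Subgroup.mem_comap]
      show y * sP * y⁻¹ ∈ Subgroup.zpowers sP
      rw [hyk]
      exact Subgroup.pow_mem _ (Subgroup.mem_zpowers sP) _
    rw [Subgroup.mem_normalizer_iff]
    intro h
    constructor
    · intro hh
      exact hle hh
    · intro hh
      -- injectivity and finiteness
      have hinj : Function.Injective (fun z : Subgroup.zpowers sP =>
          (⟨y * z.1 * y⁻¹, hle z.2⟩ : Subgroup.zpowers sP)) := by
        intro a b hab
        have := congrArg Subtype.val hab
        simp only at this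
        apply Subtype.ext
        have h2 : y * a.1 = y * b.1 := mul_right_cancel this
        exact mul_left_cancel h2
      have hsurj := Finite.surjective_of_injective hinj
      obtain ⟨z, hz⟩ := hsurj ⟨y * h * y⁻¹, hh⟩
      have h3 : y * z.1 * y⁻¹ = y * h * y⁻¹ := congrArg Subtype.val hz
      have h4 : z.1 = h := mul_left_cancel (mul_right_cancel h3)
      rw [← h4]
      exact z.2
  intro y hy
  rcases hy with hy | ⟨u, hu, rfl⟩
  · rw [Set.mem_singleton_iff] at hy
    rw [hy]
    apply key sP 1
    rw [pow_one]; group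
  · apply key (mP u) (u : ZMod 23).val
    have h1 : mP u * sP = sP ^ (u : ZMod 23).val * mP u := by
      apply Equiv.ext
      intro p
      cases p with
      | none => rw [Equiv.Perm.mul_apply, Equiv.Perm.mul_apply, sP_none, mP_none, sP_pow_none]
      | some t =>
        rw [Equiv.Perm.mul_apply, Equiv.Perm.mul_apply, sP_some, mP_some, mP_some, sP_pow_some,
          ZMod.natCast_zmod_val]
        congr 1
        ring
    rw [h1]; group

/-- the maximality of `23:11` in the Mathieu group of degree 23 -/
theorem grpB_max (K : Subgroup (Equiv.Perm GolayPt)) (hBK : grpB ≤ K) (hKM : K ≤ Spor.M23) :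
    K = grpB ∨ K = Spor.M23 :=
  max_of_sylow_data Spor.M23 K grpB grpF hBK hKM card_sporM23 card_grpB sP m2 sP_mem_grpB m2_mem_grpB
    sP_orderOf m2_orderOf grpB_le_normalizer
    (fun g hg hn => by
      obtain ⟨a, ha, b, hb, hr⟩ := table_of_normalizer_sP hg hn
      exact mem_grpB_of_affT ha hb hr)
    card_grpF (fun g hg hn => mem_grpF_of_normalizer hg hn)

theorem grpB_ne_sporM23 : grpB ≠ Spor.M23 := by
  intro h
  have h1 := card_grpB
  rw [h, card_sporM23] at h1
  exact absurd h1 (by norm_num)

/-! ### The projective group -/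

/-- the order of a transitive group of permutations of the 24 points -/
theorem card_eq_mul_card_stabilizer (K : Subgroup (Equiv.Perm GolayPt))
    (htr : ∀ a : GolayPt, ∃ g ∈ K, g none = a) :
    Nat.card K = 24 * Nat.card (K ⊓ MulAction.stabilizer (Equiv.Perm GolayPt) (none : GolayPt) : Subgroup (Equiv.Perm GolayPt)) := by
  haveI : MulAction.IsPretransitive K GolayPt := by
    refine ⟨fun a b => ?_⟩
    obtain ⟨g, hg, hga⟩ := htr a
    obtain ⟨h, hh, hhb⟩ := htr b
    refine ⟨⟨h * g⁻¹, K.mul_mem hh (K.inv_mem hg)⟩, ?_⟩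
    show (h * g⁻¹) a = b
    rw [Equiv.Perm.mul_apply, ← hga]
    simp [hhb]
  have h1 := MulAction.index_stabilizer_of_transitive K (none : GolayPt)
  have h2 := Subgroup.card_mul_index (MulAction.stabilizer K (none : GolayPt))
  rw [h1] at h2
  have h3 : Nat.card GolayPt = 24 := by
    rw [Nat.card_eq_fintype_card]; rfl
  rw [h3] at h2
  have h4 : MulAction.stabilizer K (none : GolayPt) =
      (K ⊓ MulAction.stabilizer (Equiv.Perm GolayPt) (none : GolayPt)).subgroupOf K := by
    ext g
    rw [Subgroup.mem_subgroupOf, Subgroup.mem_inf, MulAction.mem_stabilizer_iff, MulAction.mem_stabilizer_iff]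
    constructor
    · intro h
      exact ⟨g.2, h⟩
    · intro h
      exact h.2
  have h5 : Nat.card (MulAction.stabilizer K (none : GolayPt)) =
      Nat.card (K ⊓ MulAction.stabilizer (Equiv.Perm GolayPt) (none : GolayPt) : Subgroup (Equiv.Perm GolayPt)) := by
    rw [h4]
    exact Nat.card_congr (Subgroup.subgroupOfEquivOfLe inf_le_left).toEquiv
  rw [← h2, h5, mul_comm]

theorem grpA_transitive : ∀ a : GolayPt, ∃ g ∈ grpA, g none = a := by
  intro a
  obtain ⟨h1, h2, h3, h4⟩ := chainA_hyp
  have ha : a ∈ ((List.range 24).map pt).toFinset := by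
    rw [List.mem_toFinset, List.mem_map]
    exact ⟨idx a, List.mem_range.mpr (idx_lt a), pt_idx a⟩
  exact ⟨TpA (idx a), transversalA_mem a, h3 a ha⟩

/-- the maximality of `PSL(2,23)` in the Mathieu group of degree 24 -/
theorem grpA_max (K : Subgroup (Equiv.Perm GolayPt)) (hAK : grpA ≤ K) (hKM : K ≤ M24) :
    K = grpA ∨ K = M24 := by
  have htr : ∀ a : GolayPt, ∃ g ∈ K, g none = a := by
    intro a
    obtain ⟨g, hg, hga⟩ := grpA_transitive a
    exact ⟨g, hAK hg, hga⟩
  have hK := card_eq_mul_card_stabilizer K htr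
  have hB : grpB ≤ K ⊓ MulAction.stabilizer (Equiv.Perm GolayPt) (none : GolayPt) := by
    rw [← grpA_inf_stabilizer]
    exact inf_le_inf_right _ hAK
  have hM : K ⊓ MulAction.stabilizer (Equiv.Perm GolayPt) (none : GolayPt) ≤ Spor.M23 := by
    rw [sporM23_eq]
    exact inf_le_inf_right _ hKM
  rcases grpB_max _ hB hM with h | h
  · left
    rw [h, card_grpB] at hK
    exact (Subgroup.eq_of_le_of_card_ge hAK (by rw [hK, card_grpA])).symm
  · right
    rw [h, card_sporM23] at hK
    exact Subgroup.eq_of_le_of_card_ge hKM (by rw [hK, card_M24])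

theorem grpA_ne_M24 : grpA ≠ M24 := by
  intro h
  have h1 := card_grpA
  rw [h, card_M24] at h1
  exact absurd h1 (by norm_num)

/-- a subgroup is a coatom in the lattice of subgroups of a larger one, if no subgroup lies strictly between them -/
theorem isCoatom_subgroupOf {G : Type*} [Group G] {A H : Subgroup G} (hAH : A ≤ H) (hne : A ≠ H)
    (hmax : ∀ K : Subgroup G, A ≤ K → K ≤ H → K = A ∨ K = H) : IsCoatom (A.subgroupOf H) := by
  constructor
  · intro h
    rw [Subgroup.subgroupOf_eq_top] at h
    exact hne (le_antisymm hAH h)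
  · intro y hy
    have hAK : A ≤ y.map H.subtype := by
      intro a ha
      exact ⟨⟨a, hAH ha⟩, hy.le (Subgroup.mem_subgroupOf.mpr ha), rfl⟩
    have hy2 : (y.map H.subtype).subgroupOf H = y := by
      ext g
      rw [Subgroup.mem_subgroupOf]
      constructor
      · rintro ⟨z, hz, hzg⟩
        have : z = g := Subtype.ext hzg
        rwa [← this]
      · intro hg
        exact ⟨g, hg, rfl⟩
    rcases hmax _ hAK (Subgroup.map_subtype_le y) with h | h
    · exfalso
      rw [h] at hy2
      exact hy.ne hy2
    · rw [← hy2, h, Subgroup.subgroupOf_self]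

end Cfsg.Agent.Helper27
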