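import Cfsg.Agent.Helper27.L23Tables

/-!
The normalisers in the Mathieu group of degree 23 of the subgroups of orders 23 and 11 of the affine group
of the line with 23 points.
-/

set_option autoImplicit false

namespace Cfsg.Agent.Helper27

open Cfsg
open scoped Pointwise

/-- the unit `2 = 5 ^ 2` -/
def u2 : (ZMod 23)ˣ := (ZMod.unitOfCoprime 5 (by norm_num)) ^ 2

theorem u2_val : (u2 : ZMod 23) = 2 := by
  rw [u2, Units.val_pow_eq_pow_val, ZMod.coe_unitOfCoprime]
  decide

theorem u2_isSquare : IsSquare u2 := ⟨ZMod.unitOfCoprime 5 (by norm_num), sq _⟩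

/-- the multiplication by 2 -/
abbrev m2 : Equiv.Perm GolayPt := mP u2

theorem m2_some (x : ZMod 23) : m2 (some x) = some (2 * x) := by
  rw [mP_some, u2_val]

theorem m2_pow_some (n : ℕ) (x : ZMod 23) : (m2 ^ n) (some x) = some (2 ^ n * x) := by
  rw [mP_pow_some, u2_val]

theorem represents_sP_pow_mul_mP (n : ℕ) (u : (ZMod 23)ˣ) :
    Represents ((sP ^ n * mP u : Equiv.Perm GolayPt)) (affT (u : ZMod 23).val ((n : ZMod 23)).val) := by
  apply represents_aff
  · rw [Equiv.Perm.mul_apply, mP_none, sP_pow_none]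
  · intro t
    rw [Equiv.Perm.mul_apply, mP_some, sP_pow_some]

theorem represents_mP (u : (ZMod 23)ˣ) : Represents (mP u) (affT (u : ZMod 23).val 0) := by
  have := represents_sP_pow_mul_mP 0 u
  simpa using this

theorem represents_m2 : Represents m2 (affT 2 0) := by
  have := represents_mP u2
  rw [u2_val] at this
  exact this

theorem represents_sP : Represents sP (affT 1 1) := by
  have h := represents_aff (g := sP) sP_none 1 1 (by intro t; rw [sP_some, one_mul])
  exact h

theorem sq_val_mem_qrL : ∀ x : ZMod 23, x ≠ 0 → (x * x).val ∈ qrL := by decide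

theorem val_mem_qrL_of_isSquare {u : (ZMod 23)ˣ} (hu : IsSquare u) : (u : ZMod 23).val ∈ qrL := by
  obtain ⟨r, rfl⟩ := hu
  rw [Units.val_mul]
  haveI := fact_prime_23
  exact sq_val_mem_qrL _ r.ne_zero

/-! ### The normaliser of the subgroup of order 23 -/

theorem affine_of_normalizer_sP {g : Equiv.Perm GolayPt} (hn : g none = none)
    (hnorm : g ∈ Subgroup.normalizer ((Subgroup.zpowers sP : Subgroup (Equiv.Perm GolayPt)) : Set (Equiv.Perm GolayPt))) :
    ∃ a b : ZMod 23, ∀ t, g (some t) = some (a * t + b) := by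
  have h1 : g * sP * g⁻¹ ∈ Subgroup.zpowers sP :=
    (Subgroup.mem_normalizer_iff.mp hnorm sP).mp (Subgroup.mem_zpowers sP)
  obtain ⟨k, hk⟩ := Subgroup.mem_zpowers_iff.mp h1
  have h2 : g * sP = sP ^ k * g := by
    rw [hk]; group
  obtain ⟨f, hf⟩ := exists_fun_of_fix_none hn
  have h3 : ∀ t, f (t + 1) = f t + (k : ZMod 23) := by
    intro t
    have := congrArg (fun σ : Equiv.Perm GolayPt => σ (some t)) h2
    simp only [Equiv.Perm.mul_apply, sP_some, hf, sP_zpow_some] at this
    exact Option.some_injective _ this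
  have h4 : ∀ n : ℕ, f (n : ZMod 23) = (k : ZMod 23) * n + f 0 := by
    intro n
    induction n with
    | zero => simp
    | succ n ih =>
      push_cast
      rw [h3, ih]
      ring
  refine ⟨(k : ZMod 23), f 0, fun t => ?_⟩
  rw [hf]
  congr 1
  have := h4 t.val
  rwa [ZMod.natCast_zmod_val] at this

theorem affT_inCode : ∀ a < 23, ∀ b < 23, tblInCode (affT a b) = true → a ∈ qrL := by decide +kernel

/-- the table of an element of `M₂₃` normalising the subgroup of order 23 -/
theorem table_of_normalizer_sP {g : Equiv.Perm GolayPt} (hg : g ∈ Spor.M23)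
    (hnorm : g ∈ Subgroup.normalizer ((Subgroup.zpowers sP : Subgroup (Equiv.Perm GolayPt)) : Set (Equiv.Perm GolayPt))) :
    ∃ a ∈ qrL, ∃ b < 23, Represents g (affT a b) := by
  rw [Spor.M23, Subgroup.mem_inf, MulAction.mem_stabilizer_iff] at hg
  obtain ⟨a, b, hab⟩ := affine_of_normalizer_sP hg.2 hnorm
  have hr := represents_aff hg.2 a b hab
  have hc := tblInCode_of_mem_M24 hr hg.1
  exact ⟨a.val, affT_inCode _ (ZMod.val_lt a) _ (ZMod.val_lt b) hc, b.val, ZMod.val_lt b, hr⟩

end Cfsg.Agent.Helper27
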