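import Mathlib
import Cfsg.Prelude.Def_KGroupFacts

/-! # The universal property of a Schur cover of a finite perfect group

If `σ₀ : Γ →* G` is a finite stem extension of a perfect group `G` whose kernel is at least as large as the kernel
of every finite stem extension of `G`, then every finite stem extension `π : L →* G` is a quotient of `Γ` over `G`
(`exists_lift`). The proof is the classical fibre product argument. -/

set_option autoImplicit false

namespace Cfsg.Agent.Helper27.UnivCover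

open Cfsg
open scoped commutatorElement

universe u

/-- A stem extension of a perfect group is perfect. -/
theorem commutator_eq_top_of_stem {Γ G : Type*} [Group Γ] [Group G] (σ : Γ →* G)
    (hσ : IsStemExtension σ) (hG : commutator G = ⊤) : commutator Γ = ⊤ := by
  obtain ⟨hsurj, -, hcomm⟩ := hσ
  have hmap : (commutator Γ).map σ = ⊤ := by
    rw [commutator_def, Subgroup.map_commutator, ← MonoidHom.range_eq_map,
      MonoidHom.range_eq_top.mpr hsurj, ← commutator_def, hG]
  rw [eq_top_iff]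
  intro γ _
  have h1 : σ γ ∈ (commutator Γ).map σ := by rw [hmap]; trivial
  obtain ⟨c, hc, hcγ⟩ := h1
  have hk : c⁻¹ * γ ∈ σ.ker := by rw [MonoidHom.mem_ker, map_mul, map_inv, hcγ, inv_mul_cancel]
  have h2 := (commutator Γ).mul_mem hc (hcomm hk)
  rwa [mul_inv_cancel_left] at h2

/-- the commutator of two elements does not change when they are multiplied by central elements -/
theorem commutatorElement_mul_central {E : Type*} [Group E] (a b k l : E)
    (hk : k ∈ Subgroup.center E) (hl : l ∈ Subgroup.center E) : ⁅a * k, b * l⁆ = ⁅a, b⁆ := by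
  have hk' : ∀ g, g * k = k * g := fun g => (Subgroup.mem_center_iff.mp hk g)
  have hl' : ∀ g, g * l = l * g := fun g => (Subgroup.mem_center_iff.mp hl g)
  rw [commutatorElement_def, commutatorElement_def, mul_inv_rev, mul_inv_rev]
  calc a * k * (b * l) * (k⁻¹ * a⁻¹) * (l⁻¹ * b⁻¹)
      = a * (k * (b * l) * k⁻¹) * a⁻¹ * l⁻¹ * b⁻¹ := by group
    _ = a * (b * l) * a⁻¹ * l⁻¹ * b⁻¹ := by
        rw [← hk' (b * l), mul_inv_cancel_right]
    _ = a * b * (l * a⁻¹ * l⁻¹) * b⁻¹ := by group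
    _ = a * b * a⁻¹ * b⁻¹ := by
        rw [← hl' a⁻¹, mul_inv_cancel_right]

/-- **Universal property of a largest stem extension of a perfect group.** -/
theorem exists_lift {G Γ L : Type u} [Group G] [Group Γ] [Finite Γ] [Group L] [Finite L]
    (hG : commutator G = ⊤)
    (σ₀ : Γ →* G) (hσ₀ : IsStemExtension σ₀)
    (hbound : ∀ (Δ : Type u) [Group Δ] [Finite Δ] (τ : Δ →* G), IsStemExtension τ →
      Nat.card τ.ker ≤ Nat.card σ₀.ker)
    (π : L →* G) (hπ : IsStemExtension π) :
    ∃ φ : Γ →* L, (∀ γ, π (φ γ) = σ₀ γ) ∧ Function.Surjective φ := by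
  classical
  have hΓ : commutator Γ = ⊤ := commutator_eq_top_of_stem σ₀ hσ₀ hG
  have hL : commutator L = ⊤ := commutator_eq_top_of_stem π hπ hG
  obtain ⟨hs0, hc0, -⟩ := hσ₀
  obtain ⟨hsπ, hcπ, -⟩ := hπ
  -- the fibre product
  let f1 : Γ × L →* G := σ₀.comp (MonoidHom.fst Γ L)
  let f2 : Γ × L →* G := π.comp (MonoidHom.snd Γ L)
  let P : Subgroup (Γ × L) := MonoidHom.eqLocus f1 f2
  have hP : ∀ p : Γ × L, p ∈ P ↔ σ₀ p.1 = π p.2 := fun p => Iff.rfl
  let P1 : Subgroup (Γ × L) := ⁅P, P⁆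
  have hP1P : P1 ≤ P := Subgroup.commutator_le_self P
  -- the projections of P are onto
  have hPfst : P.map (MonoidHom.fst Γ L) = ⊤ := by
    rw [eq_top_iff]
    intro γ _
    obtain ⟨l, hl⟩ := hsπ (σ₀ γ)
    exact ⟨(γ, l), (hP _).mpr hl.symm, rfl⟩
  have hPsnd : P.map (MonoidHom.snd Γ L) = ⊤ := by
    rw [eq_top_iff]
    intro l _
    obtain ⟨γ, hγ⟩ := hs0 (π l)
    exact ⟨(γ, l), (hP _).mpr hγ, rfl⟩
  have hP1fst : P1.map (MonoidHom.fst Γ L) = ⊤ := by
    rw [Subgroup.map_commutator, hPfst, ← commutator_def, hΓ]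
  have hP1snd : P1.map (MonoidHom.snd Γ L) = ⊤ := by
    rw [Subgroup.map_commutator, hPsnd, ← commutator_def, hL]
  -- central elements
  have hcentral : ∀ p : Γ × L, σ₀ p.1 = 1 → π p.2 = 1 → p ∈ Subgroup.center (Γ × L) := by
    intro p h1 h2
    rw [Subgroup.mem_center_iff]
    intro q
    have e1 := Subgroup.mem_center_iff.mp (hc0 (MonoidHom.mem_ker.mpr h1)) q.1
    have e2 := Subgroup.mem_center_iff.mp (hcπ (MonoidHom.mem_ker.mpr h2)) q.2
    exact Prod.ext e1 e2
  -- every element of P is an element of P1 times a central element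
  have hdecomp : ∀ a ∈ P, ∃ a' ∈ P1, ∃ k ∈ Subgroup.center (Γ × L), a = a' * k := by
    intro a ha
    have h1 : a.1 ∈ P1.map (MonoidHom.fst Γ L) := by rw [hP1fst]; trivial
    obtain ⟨a', ha', hfst⟩ := h1
    have hfst' : a'.1 = a.1 := hfst
    have ha'P : a' ∈ P := hP1P ha'
    refine ⟨a', ha', a'⁻¹ * a, ?_, by rw [mul_inv_cancel_left]⟩
    have hkP : a'⁻¹ * a ∈ P := P.mul_mem (P.inv_mem ha'P) ha
    have hk1 : σ₀ (a'⁻¹ * a).1 = 1 := by
      rw [Prod.fst_mul, Prod.fst_inv, hfst', inv_mul_cancel, map_one]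
    have hk2 : π (a'⁻¹ * a).2 = 1 := by rw [← (hP _).mp hkP, hk1]
    exact hcentral _ hk1 hk2
  -- P1 is perfect
  have hperf : ⁅P1, P1⁆ = P1 := by
    apply le_antisymm (Subgroup.commutator_le_self P1)
    show ⁅P, P⁆ ≤ ⁅P1, P1⁆
    rw [Subgroup.commutator_le]
    intro a ha b hb
    obtain ⟨a', ha', k, hk, rfl⟩ := hdecomp a ha
    obtain ⟨b', hb', l, hl, rfl⟩ := hdecomp b hb
    rw [commutatorElement_mul_central a' b' k l hk hl]
    exact Subgroup.commutator_mem_commutator ha' hb'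
  have hperf' : commutator ↥P1 = ⊤ := (Group.isPerfect_def).mp ((Subgroup.isPerfect_iff).mpr hperf)
  -- the stem extension P1 → G
  let τ : ↥P1 →* G := f1.comp P1.subtype
  have hτ_apply : ∀ d : ↥P1, τ d = σ₀ (d : Γ × L).1 := fun d => rfl
  have hτ_apply2 : ∀ d : ↥P1, τ d = π (d : Γ × L).2 := fun d => (hP _).mp (hP1P d.2)
  have hτstem : IsStemExtension τ := by
    refine ⟨?_, ?_, ?_⟩
    · intro g
      obtain ⟨γ, hγ⟩ := hs0 g
      have h1 : γ ∈ P1.map (MonoidHom.fst Γ L) := by rw [hP1fst]; trivial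
      obtain ⟨d, hd, hfst⟩ := h1
      have hfst' : d.1 = γ := hfst
      exact ⟨⟨d, hd⟩, by rw [hτ_apply]; show σ₀ d.1 = g; rw [hfst', hγ]⟩
    · intro d hd
      have h1 : σ₀ (d : Γ × L).1 = 1 := by rw [← hτ_apply]; exact MonoidHom.mem_ker.mp hd
      have h2 : π (d : Γ × L).2 = 1 := by rw [← hτ_apply2]; exact MonoidHom.mem_ker.mp hd
      have h3 := hcentral _ h1 h2
      rw [Subgroup.mem_center_iff]
      intro q
      apply Subtype.ext
      exact Subgroup.mem_center_iff.mp h3 q.1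
    · rw [hperf']
      exact le_top
  have hcardker := hbound ↥P1 τ hτstem
  -- cardinalities
  have hcard1 : Nat.card ↥P1 = Nat.card G * Nat.card τ.ker := by
    rw [← Nat.card_congr (QuotientGroup.quotientKerEquivOfSurjective τ hτstem.1).toEquiv]
    exact Subgroup.card_eq_card_quotient_mul_card_subgroup τ.ker
  have hcard2 : Nat.card Γ = Nat.card G * Nat.card σ₀.ker := by
    rw [← Nat.card_congr (QuotientGroup.quotientKerEquivOfSurjective σ₀ hs0).toEquiv]
    exact Subgroup.card_eq_card_quotient_mul_card_subgroup σ₀.ker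
  have hle : Nat.card ↥P1 ≤ Nat.card Γ := by
    rw [hcard1, hcard2]
    exact Nat.mul_le_mul_left _ hcardker
  -- the first projection is bijective on P1
  let p1 : ↥P1 →* Γ := (MonoidHom.fst Γ L).comp P1.subtype
  let p2 : ↥P1 →* L := (MonoidHom.snd Γ L).comp P1.subtype
  have hp1surj : Function.Surjective p1 := by
    intro γ
    have h1 : γ ∈ P1.map (MonoidHom.fst Γ L) := by rw [hP1fst]; trivial
    obtain ⟨d, hd, hfst⟩ := h1
    exact ⟨⟨d, hd⟩, hfst⟩
  have hp2surj : Function.Surjective p2 := by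
    intro l
    have h1 : l ∈ P1.map (MonoidHom.snd Γ L) := by rw [hP1snd]; trivial
    obtain ⟨d, hd, hsnd⟩ := h1
    exact ⟨⟨d, hd⟩, hsnd⟩
  have hp1bij : Function.Bijective p1 := by
    rw [Nat.bijective_iff_surjective_and_card]
    exact ⟨hp1surj, le_antisymm hle (Nat.card_le_card_of_surjective p1 hp1surj)⟩
  let e : ↥P1 ≃* Γ := MulEquiv.ofBijective p1 hp1bij
  refine ⟨p2.comp e.symm.toMonoidHom, ?_, ?_⟩
  · intro γ
    show π ((e.symm γ : Γ × L)).2 = σ₀ γ
    rw [← hτ_apply2, hτ_apply]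
    have : ((e.symm γ : ↥P1) : Γ × L).1 = γ := by
      have := e.apply_symm_apply γ
      exact this
    rw [this]
  · exact hp2surj.comp e.symm.surjective

end Cfsg.Agent.Helper27.UnivCover
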