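import Mathlib
import Cfsg.Prelude.Def_KGroupFacts
import Cfsg.Prelude.Def_CaseTheorems
import Cfsg.Agent.Helper27.UnivCover

/-! # Uniqueness of the quasisimple group `2² . G` when the Schur multiplier of `G` is `3 × 4 × 4`

Any quasisimple group `L` with `L / Z(L) ≅ G` is a quotient of a fixed largest stem extension `Γ` of `G`; when the
multiplier is `3 × 4 × 4` and `Z(L)` is a four-group, the kernel of `Γ → L` is the set of squares of the
multiplier, whatever `L` is. Hence two such `L` are isomorphic. -/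

set_option autoImplicit false

namespace Cfsg.Agent.Helper27.UnivCover

open Cfsg

universe v v₁ v₂

/-- the abelian group `3 × 4 × 4`, written multiplicatively -/
abbrev A344 : Type := Multiplicative (ZMod 3 × ZMod 4 × ZMod 4)

/-- the subgroup of squares -/
def sqRange : Subgroup A344 := (powMonoidHom 2 : A344 →* A344).range

theorem card_A344 : Nat.card A344 = 48 := by
  rw [Nat.card_eq_fintype_card]
  rfl

theorem card_sqRange : Nat.card ↥sqRange = 12 := by
  unfold sqRange
  rw [Nat.card_eq_fintype_card]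
  decide +kernel

theorem ker_eq_sqRange {Z : Type*} [Group Z] (hZ : Nat.card Z = 4) (hexp : ∀ z : Z, z * z = 1)
    (ψ : A344 →* Z) (hψ : Function.Surjective ψ) : ψ.ker = sqRange := by
  have hle : sqRange ≤ ψ.ker := by
    rintro _ ⟨b, rfl⟩
    rw [MonoidHom.mem_ker]
    show ψ (b ^ 2) = 1
    rw [map_pow, pow_two, hexp]
  have hcard : Nat.card A344 = Nat.card Z * Nat.card ψ.ker := by
    rw [← Nat.card_congr (QuotientGroup.quotientKerEquivOfSurjective ψ hψ).toEquiv]
    exact Subgroup.card_eq_card_quotient_mul_card_subgroup ψ.ker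
  rw [card_A344, hZ] at hcard
  have h12 : Nat.card ψ.ker = 12 := by omega
  exact (Subgroup.eq_of_le_of_card_ge hle (by rw [h12, card_sqRange])).symm

/-- every quasisimple group with central quotient `G` and centre a four-group is the quotient of the largest stem
extension by the squares of its kernel -/
theorem exists_quotient_map {G Γ : Type} [Group G] [Group Γ] [Finite Γ] (σ₀ : Γ →* G)
    (hσ₀ : IsStemExtension σ₀) (ε : σ₀.ker ≃* A344)
    (huniv : ∀ (Δ : Type) [Group Δ] [Finite Δ] (τ : Δ →* G), IsStemExtension τ →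
      ∃ π : A344 →* τ.ker, Function.Surjective π)
    {L : Type v} [Group L] [Finite L] (hq : IsQuasisimple L)
    (hc : Nat.card (Subgroup.center L) = 4) (he : ∀ x ∈ Subgroup.center L, x * x = 1)
    (e : L ⧸ Subgroup.center L ≃* G) :
    ∃ φ : Γ →* L, Function.Surjective φ ∧
      ∀ γ, γ ∈ φ.ker ↔ ∃ h : γ ∈ σ₀.ker, ε ⟨γ, h⟩ ∈ sqRange := by
  classical
  obtain ⟨hperf, -⟩ := hq
  -- a copy of `L` in the lowest universe
  let L' : Type := Shrink.{0} L
  let s : L' ≃* L := Shrink.mulEquiv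
  have : Finite L' := Finite.of_equiv L s.symm.toEquiv
  have hperfL' : commutator L' = ⊤ := by
    have : Group.IsPerfect L := hperf
    have : Group.IsPerfect L' := Group.IsPerfect.ofSurjective (f := s.symm.toMonoidHom) s.symm.surjective
    exact this.commutator_eq_top
  let π' : L' →* G := e.toMonoidHom.comp ((QuotientGroup.mk' (Subgroup.center L)).comp s.toMonoidHom)
  have hπ'_apply : ∀ x : L', π' x = e (QuotientGroup.mk (s x)) := fun x => rfl
  have hπ'surj : Function.Surjective π' := by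
    intro g
    obtain ⟨l, hl⟩ := QuotientGroup.mk_surjective (e.symm g)
    refine ⟨s.symm l, ?_⟩
    rw [hπ'_apply, s.apply_symm_apply, hl, e.apply_symm_apply]
  have hker : ∀ x : L', π' x = 1 ↔ s x ∈ Subgroup.center L := by
    intro x
    rw [hπ'_apply, e.map_eq_one_iff, QuotientGroup.eq_one_iff]
  have hGperf : commutator G = ⊤ := by
    have : Group.IsPerfect L' := ⟨hperfL'⟩
    have : Group.IsPerfect G := Group.IsPerfect.ofSurjective (f := π') hπ'surj
    exact this.commutator_eq_top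
  have hπ'stem : IsStemExtension π' := by
    refine ⟨hπ'surj, ?_, ?_⟩
    · intro x hx
      have hx' := (hker x).mp (MonoidHom.mem_ker.mp hx)
      rw [Subgroup.mem_center_iff]
      intro y
      apply s.injective
      rw [map_mul, map_mul]
      exact Subgroup.mem_center_iff.mp hx' (s y)
    · rw [hperfL']
      exact le_top
  have hbound : ∀ (Δ : Type) [Group Δ] [Finite Δ] (τ : Δ →* G), IsStemExtension τ →
      Nat.card τ.ker ≤ Nat.card σ₀.ker := by
    intro Δ _ _ τ hτ
    obtain ⟨p, hp⟩ := huniv Δ τ hτ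
    rw [Nat.card_congr ε.toEquiv]
    exact Nat.card_le_card_of_surjective p hp
  obtain ⟨φ', hφ', hφ'surj⟩ := exists_lift hGperf σ₀ hσ₀ hbound π' hπ'stem
  let φ : Γ →* L := s.toMonoidHom.comp φ'
  have hφ_apply : ∀ γ, φ γ = s (φ' γ) := fun γ => rfl
  have hφsurj : Function.Surjective φ := s.surjective.comp hφ'surj
  have hφcen : ∀ γ, φ γ ∈ Subgroup.center L ↔ γ ∈ σ₀.ker := by
    intro γ
    rw [hφ_apply, ← hker, hφ', MonoidHom.mem_ker]
  -- the map from the multiplier onto the centre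
  let ψ₀ : A344 →* L := φ.comp (σ₀.ker.subtype.comp ε.symm.toMonoidHom)
  have hψ₀ : ∀ a, ψ₀ a ∈ Subgroup.center L := by
    intro a
    show φ ((ε.symm a : σ₀.ker) : Γ) ∈ Subgroup.center L
    rw [hφcen]
    exact (ε.symm a).2
  let ψ : A344 →* ↥(Subgroup.center L) := ψ₀.codRestrict (Subgroup.center L) hψ₀
  have hψ_apply : ∀ a, ((ψ a : ↥(Subgroup.center L)) : L) = φ ((ε.symm a : σ₀.ker) : Γ) := fun a => rfl
  have hψsurj : Function.Surjective ψ := by
    rintro ⟨z, hz⟩
    obtain ⟨γ, rfl⟩ := hφsurj z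
    have hγ : γ ∈ σ₀.ker := (hφcen γ).mp hz
    refine ⟨ε ⟨γ, hγ⟩, ?_⟩
    apply Subtype.ext
    rw [hψ_apply, ε.symm_apply_apply]
  have hψker : ψ.ker = sqRange := by
    apply ker_eq_sqRange hc _ ψ hψsurj
    rintro ⟨z, hz⟩
    apply Subtype.ext
    exact he z hz
  refine ⟨φ, hφsurj, ?_⟩
  intro γ
  constructor
  · intro hγ
    have hγ1 : φ γ = 1 := MonoidHom.mem_ker.mp hγ
    have hγ' : γ ∈ σ₀.ker := (hφcen γ).mp (by rw [hγ1]; exact Subgroup.one_mem _)
    refine ⟨hγ', ?_⟩
    rw [← hψker, MonoidHom.mem_ker]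
    apply Subtype.ext
    rw [hψ_apply, ε.symm_apply_apply]
    exact hγ1
  · rintro ⟨h, hmem⟩
    rw [← hψker, MonoidHom.mem_ker] at hmem
    have := congrArg Subtype.val hmem
    rw [hψ_apply, ε.symm_apply_apply] at this
    exact MonoidHom.mem_ker.mpr this

/-- **Uniqueness of `2² . G`** when the multiplier of `G` is `3 × 4 × 4`. -/
theorem unique_fourGroup_cover {G : Type} [Group G] (hS : HasSchurMultiplier G A344)
    {L₁ : Type v₁} {L₂ : Type v₂} [Group L₁] [Finite L₁] [Group L₂] [Finite L₂]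
    (h₁ : IsQuasisimple L₁) (h₂ : IsQuasisimple L₂)
    (hc₁ : Nat.card (Subgroup.center L₁) = 4) (hc₂ : Nat.card (Subgroup.center L₂) = 4)
    (he₁ : ∀ x ∈ Subgroup.center L₁, x * x = 1) (he₂ : ∀ x ∈ Subgroup.center L₂, x * x = 1)
    (e₁ : L₁ ⧸ Subgroup.center L₁ ≃* G) (e₂ : L₂ ⧸ Subgroup.center L₂ ≃* G) :
    Nonempty (L₁ ≃* L₂) := by
  obtain ⟨⟨Γ, _, _, σ₀, hσ₀, ⟨ε⟩⟩, huniv⟩ := hS
  obtain ⟨φ₁, hs₁, hk₁⟩ := exists_quotient_map σ₀ hσ₀ ε huniv h₁ hc₁ he₁ e₁
  obtain ⟨φ₂, hs₂, hk₂⟩ := exists_quotient_map σ₀ hσ₀ ε huniv h₂ hc₂ he₂ e₂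
  have hker : φ₁.ker = φ₂.ker := by
    ext γ
    rw [hk₁, hk₂]
  exact ⟨(QuotientGroup.quotientKerEquivOfSurjective φ₁ hs₁).symm.trans
    ((QuotientGroup.quotientMulEquivOfEq hker).trans (QuotientGroup.quotientKerEquivOfSurjective φ₂ hs₂))⟩

end Cfsg.Agent.Helper27.UnivCover
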