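import Mathlib
import Cfsg.Agent.Helper27.LChDefs
import Cfsg.Agent.Helper18.LChQ3
import Cfsg.Agent.Helper23.LChQ5a
import Cfsg.Agent.Helper23.LChQ5bCore
import Cfsg.Agent.Helper1.LChQ5c

set_option autoImplicit false
set_option linter.unusedVariables false
set_option linter.unusedSectionVars false

/-!
# S0406, piece Q5c with the corrected Q5b hypothesis (`O.card = 8`)

The proof of `even_count_of8` is helper1's proof of `Cfsg.Agent.Helper1.LCh.even_count_of`, with the
hypothesis on octad vectors restricted to sets of `8` points (the only case used).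
-/

namespace Cfsg.Agent.Helper27.LCh

open Cfsg Matrix
open Cfsg.Agent.Helper1.LCh

variable {L : AddSubgroup (Fin 24 → ℤ)}

/-- Q5c with the other pieces as hypotheses -/
theorem even_count_of8 (hL : Lat L)
    (hQ3 : ∀ {c : Fin 24 → ZMod 2}, c ∈ code L → c ≠ 0 → 4 ∣ hammingNorm c ∧ 8 ≤ hammingNorm c)
    (hQ5a : {c | c ∈ code L ∧ hammingNorm c = 8}.ncard ≤ 759)
    (hQ5b : ∀ O : Finset (Fin 24), O.card = 8 →
      {v | v ∈ L ∧ ∀ i, (i ∈ O → v i = 2 ∨ v i = -2) ∧ (i ∉ O → v i = 0)}.ncard ≤ 128) :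
    {v | v ∈ L ∧ v ⬝ᵥ v = 32 ∧ ∀ i, Even (v i)}.ncard ≤ 98256 := by
  classical
  obtain ⟨Oct, hOct⟩ : ∃ Oct : Finset (Fin 24 → ZMod 2),
      Oct = (Set.toFinite {c | c ∈ code L ∧ hammingNorm c = 8}).toFinset := ⟨_, rfl⟩
  have hOctcard : Oct.card ≤ 759 := by
    rw [hOct, ← Set.ncard_eq_toFinset_card]
    exact hQ5a
  obtain ⟨U, hU⟩ : ∃ U : Set (Fin 24 → ℤ),
      U = ⋃ c ∈ Oct, octVecs L (Finset.univ.filter (fun i => c i ≠ 0)) := ⟨_, rfl⟩
  have hUfin : U.Finite := by
    rw [hU]
    exact Set.Finite.biUnion (Finset.finite_toSet Oct) (fun c _ => octVecs_finite _)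
  have hUcard : U.ncard ≤ 128 * 759 := by
    rw [hU]
    calc (⋃ c ∈ Oct, octVecs L (Finset.univ.filter (fun i => c i ≠ 0))).ncard
        ≤ ∑ c ∈ Oct, (octVecs L (Finset.univ.filter (fun i => c i ≠ 0))).ncard :=
          Finset.set_ncard_biUnion_le Oct _
      _ ≤ ∑ c ∈ Oct, 128 := Finset.sum_le_sum (fun c hc => hQ5b _ (by
          rw [hOct, Set.Finite.mem_toFinset] at hc
          exact hc.2))
      _ = 128 * Oct.card := by rw [Finset.sum_const, smul_eq_mul, mul_comm]
      _ ≤ 128 * 759 := Nat.mul_le_mul_left _ hOctcard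
  have hsub : {v | v ∈ L ∧ v ⬝ᵥ v = 32 ∧ ∀ i, Even (v i)} ⊆ U ∪ pairVecs := by
    rintro v ⟨hvL, h32, hev⟩
    have h2 : ∀ i, ∃ u : ℤ, v i = 2 * u := fun i => even_iff_two_dvd.1 (hev i)
    choose u hu using h2
    have hsum : ∑ i, u i ^ 2 = 8 := sum_sq_of_even hu h32
    obtain ⟨c, hc⟩ : ∃ c : Fin 24 → ZMod 2, c = fun i => ((u i : ℤ) : ZMod 2) := ⟨_, rfl⟩
    have hci : ∀ i, c i = ((u i : ℤ) : ZMod 2) := fun i => by rw [hc]
    have hcL : c ∈ code L := by
      refine ⟨u, ?_, fun i => (hci i).symm⟩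
      have : (fun i => 2 * u i) = v := by funext i; exact (hu i).symm
      rw [this]
      exact hvL
    have hind : ∀ i, (if c i ≠ 0 then (1 : ℤ) else 0) ≤ u i ^ 2 := by
      intro i
      split_ifs with h
      · have h0 : u i ≠ 0 := by
          intro h0
          apply h
          rw [hci i, h0]
          simp
        have := sq_pos_of_ne_zero h0
        linarith
      · exact sq_nonneg _
    have hwt : (hammingNorm c : ℤ) = ∑ i, (if c i ≠ 0 then (1 : ℤ) else 0) := by
      rw [hammingNorm, Finset.card_filter]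
      push_cast
      rfl
    have hwt8 : hammingNorm c ≤ 8 := by
      have : (hammingNorm c : ℤ) ≤ 8 := by
        rw [hwt, ← hsum]
        exact Finset.sum_le_sum (fun i _ => hind i)
      exact_mod_cast this
    by_cases hc0 : c = 0
    · right
      have h3 : ∀ i, ∃ w : ℤ, u i = 2 * w := by
        intro i
        have h1 : ((u i : ℤ) : ZMod 2) = 0 := by rw [← hci i, hc0]; rfl
        rw [ZMod.intCast_zmod_eq_zero_iff_dvd] at h1
        exact h1
      choose w hw using h3
      have hsum2 : ∑ i, w i ^ 2 = 2 := by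
        have : ∑ i, u i ^ 2 = 4 * ∑ i, w i ^ 2 := by
          rw [Finset.mul_sum]
          apply Finset.sum_congr rfl
          intro i _
          rw [hw i]
          ring
        linarith
      obtain ⟨i, j, hij, hi, hj, hk⟩ := two_entries hsum2
      exact mem_pairVecs_of hij (fun k => by rw [hu k, hw k]; ring) hi hj hk
    · left
      have h8 : hammingNorm c = 8 := le_antisymm hwt8 (hQ3 hcL hc0).2
      have hzero : ∑ i, (u i ^ 2 - (if c i ≠ 0 then (1 : ℤ) else 0)) = 0 := by
        rw [Finset.sum_sub_distrib, hsum, ← hwt, h8]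
        norm_num
      rw [Finset.sum_eq_zero_iff_of_nonneg (fun i _ => sub_nonneg.2 (hind i))] at hzero
      have hcO : c ∈ Oct := by
        rw [hOct, Set.Finite.mem_toFinset]
        exact ⟨hcL, h8⟩
      rw [hU]
      refine Set.mem_biUnion hcO ⟨hvL, fun i => ⟨fun hi => ?_, fun hi => ?_⟩⟩
      · have hci' : c i ≠ 0 := (Finset.mem_filter.1 hi).2
        have h1 := hzero i (Finset.mem_univ i)
        rw [if_pos hci'] at h1
        have h2 : (u i - 1) * (u i + 1) = 0 := by ring_nf; linarith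
        rcases mul_eq_zero.1 h2 with h | h
        · left; rw [hu i]; omega
        · right; rw [hu i]; omega
      · have hci' : ¬ c i ≠ 0 := fun h => hi (Finset.mem_filter.2 ⟨Finset.mem_univ i, h⟩)
        have h1 := hzero i (Finset.mem_univ i)
        rw [if_neg hci', sub_zero] at h1
        have h2 : u i = 0 := pow_eq_zero_iff (by norm_num) |>.1 h1
        rw [hu i, h2]
        norm_num
  calc {v | v ∈ L ∧ v ⬝ᵥ v = 32 ∧ ∀ i, Even (v i)}.ncard
      ≤ (U ∪ pairVecs).ncard := Set.ncard_le_ncard hsub (hUfin.union pairVecs_finite)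
    _ ≤ U.ncard + pairVecs.ncard := Set.ncard_union_le _ _
    _ ≤ 128 * 759 + 1104 := Nat.add_le_add hUcard pairVecs_ncard_le
    _ = 98256 := by norm_num


/-- Q5c: at most `98256` even vectors of norm `4` -/
theorem even_count (hL : Lat L) :
    {v | v ∈ L ∧ v ⬝ᵥ v = 32 ∧ ∀ i, Even (v i)}.ncard ≤ 98256 :=
  even_count_of8 hL (fun hc h0 => Cfsg.Agent.Helper18.LCh.code_weight hL hc h0)
    (Cfsg.Agent.Helper23.LCh.octad_count_le (code L)
      (fun c hc h0 => (Cfsg.Agent.Helper18.LCh.code_weight hL hc h0).2))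
    (fun O hO => Cfsg.Agent.Helper23.LCh.octad_vectors_le_of hL
      (Cfsg.Agent.Helper18.LCh.mem_of_four_dvd' hL) O hO)

end Cfsg.Agent.Helper27.LCh
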