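import Cfsg.Agent.Helper27.GolayPerm

/-!
Basic facts on `Cfsg.leechSet` and `Cfsg.leechLattice`: an alternative description `x = m + 2 t` with `t mod 2` a codeword,
closure under addition, divisibility of norms by 16, minimal norm 32.
-/

set_option autoImplicit false

namespace Cfsg.Agent.Helper27

open Cfsg

/-- the word `t mod 2` -/
def redW (t : GolayPt → ℤ) : GolayPt → ZMod 2 := fun i => (t i : ZMod 2)

theorem redW_add (t t' : GolayPt → ℤ) : redW (t + t') = redW t + redW t' := by
  funext i; simp [redW]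

theorem redW_neg (t : GolayPt → ℤ) : redW (-t) = redW t := by
  funext i
  simp only [redW, Pi.neg_apply, Int.cast_neg]
  have hz : ∀ z : ZMod 2, -z = z := by decide
  exact hz _

theorem redW_ne_zero_iff (t : GolayPt → ℤ) (i : GolayPt) : redW t i ≠ 0 ↔ t i % 2 = 1 := by
  simp only [redW, ne_eq, ZMod.intCast_zmod_eq_zero_iff_dvd]
  constructor
  · intro h
    rcases Int.emod_two_eq_zero_or_one (t i) with h0 | h1
    · exact absurd (Int.dvd_of_emod_eq_zero h0) h
    · exact h1
  · intro h hd
    have := Int.emod_eq_zero_of_dvd hd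
    omega

theorem mem_support₂_redW (t : GolayPt → ℤ) (i : GolayPt) : i ∈ support₂ (redW t) ↔ t i % 2 = 1 := by
  simp only [support₂, Finset.mem_filter, Finset.mem_univ, true_and]
  exact redW_ne_zero_iff t i

theorem mem_filter_modEq (x : GolayPt → ℤ) (k : ℤ) (i : GolayPt) :
    i ∈ (Finset.univ.filter fun i => x i ≡ k [ZMOD 4]) ↔ x i % 4 = k % 4 := by
  rw [Finset.mem_filter]
  simp only [Finset.mem_univ, true_and]
  rfl

theorem mem_support₂_iff (w : GolayPt → ZMod 2) (i : GolayPt) : i ∈ support₂ w ↔ w i ≠ 0 := by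
  simp [support₂]

/-- the alternative description of `leechSet` -/
def IsLeechVec (x : GolayPt → ℤ) : Prop :=
  ∃ (m : ℤ) (t : GolayPt → ℤ), (∀ i, x i = m + 2 * t i) ∧ (∑ i, x i ≡ 4 * m [ZMOD 8]) ∧ redW t ∈ golayCode

theorem one_mem_golayCode : (1 : GolayPt → ZMod 2) ∈ golayCode := Submodule.subset_span (Or.inr rfl)

theorem mem_leechSet_iff (x : GolayPt → ℤ) : x ∈ leechSet ↔ IsLeechVec x := by
  constructor
  · rintro ⟨m, h1, h2, h3⟩
    have ht : ∀ i, ∃ t : ℤ, x i = m + 2 * t := by
      intro i
      have := Int.modEq_iff_dvd.mp (h1 i).symm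
      obtain ⟨t, ht⟩ := this
      exact ⟨t, by linarith⟩
    choose t ht using ht
    refine ⟨m, t, ht, h2, ?_⟩
    obtain ⟨w, hw, hww⟩ := h3 (m + 2)
    have : w = redW t := by
      apply support₂_injective
      rw [hww]
      ext i
      rw [mem_support₂_redW, mem_filter_modEq, ht i]
      omega
    rw [← this]
    exact hw
  · rintro ⟨m, t, ht, h2, h3⟩
    refine ⟨m, ?_, h2, ?_⟩
    · intro i
      rw [ht i, Int.ModEq]
      omega
    · intro k
      by_cases hk : (k - m) % 2 = 0
      · by_cases hk4 : (k - m) % 4 = 0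
        · -- positions with t even: complement
          refine ⟨1 + redW t, golayCode.add_mem one_mem_golayCode h3, ?_⟩
          ext i
          have hz : ∀ z : ZMod 2, (1 + z ≠ 0 ↔ ¬ z ≠ 0) := by decide
          rw [mem_filter_modEq, mem_support₂_iff, Pi.add_apply, Pi.one_apply, hz, redW_ne_zero_iff, ht i]
          omega
        · refine ⟨redW t, h3, ?_⟩
          ext i
          rw [mem_support₂_redW, mem_filter_modEq, ht i]
          omega
      · refine ⟨0, golayCode.zero_mem, ?_⟩
        ext i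
        rw [mem_filter_modEq, mem_support₂_iff, ht i]
        simp only [Pi.zero_apply, ne_eq, not_true_eq_false, false_iff]
        omega

theorem isLeechVec_zero : IsLeechVec 0 :=
  ⟨0, 0, by simp, by simp, by
    have : redW 0 = 0 := by funext i; simp [redW]
    rw [this]; exact golayCode.zero_mem⟩

theorem isLeechVec_add {x y : GolayPt → ℤ} (hx : IsLeechVec x) (hy : IsLeechVec y) : IsLeechVec (x + y) := by
  obtain ⟨m, t, ht, h2, h3⟩ := hx
  obtain ⟨m', t', ht', h2', h3'⟩ := hy
  refine ⟨m + m', t + t', ?_, ?_, ?_⟩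
  · intro i
    simp only [Pi.add_apply, ht i, ht' i]; ring
  · simp only [Pi.add_apply, Finset.sum_add_distrib]
    have := Int.ModEq.add h2 h2'
    rw [show 4 * (m + m') = 4 * m + 4 * m' by ring]
    exact this
  · rw [redW_add]
    exact golayCode.add_mem h3 h3'

theorem isLeechVec_neg {x : GolayPt → ℤ} (hx : IsLeechVec x) : IsLeechVec (-x) := by
  obtain ⟨m, t, ht, h2, h3⟩ := hx
  refine ⟨-m, -t, ?_, ?_, ?_⟩
  · intro i
    simp only [Pi.neg_apply, ht i]; ring
  · simp only [Pi.neg_apply, Finset.sum_neg_distrib]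
    have := Int.ModEq.neg h2
    rw [show 4 * -m = -(4 * m) by ring]
    exact this
  · rw [redW_neg]
    exact h3

/-- `leechSet` as an additive subgroup -/
def leechSub : AddSubgroup (GolayPt → ℤ) where
  carrier := leechSet
  zero_mem' := (mem_leechSet_iff 0).mpr isLeechVec_zero
  add_mem' := fun {a b} ha hb =>
    (mem_leechSet_iff _).mpr (isLeechVec_add ((mem_leechSet_iff a).mp ha) ((mem_leechSet_iff b).mp hb))
  neg_mem' := fun {a} ha => (mem_leechSet_iff _).mpr (isLeechVec_neg ((mem_leechSet_iff a).mp ha))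

theorem leechLattice_eq : leechLattice = leechSub := by
  apply le_antisymm
  · exact (AddSubgroup.closure_le leechSub).mpr (fun x hx => hx)
  · intro x hx
    exact AddSubgroup.subset_closure hx

theorem mem_leechLattice_iff (x : GolayPt → ℤ) : x ∈ leechLattice ↔ IsLeechVec x := by
  rw [leechLattice_eq]
  exact mem_leechSet_iff x

/-! ### Norms -/

/-- the weight of a codeword is divisible by four -/
theorem golay_four_dvd {w : GolayPt → ZMod 2} (hw : w ∈ golayCode) : 4 ∣ hammingNorm w := by
  rcases golay_weights hw with h | h | h | h | h <;> rw [h] <;> decide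

theorem sum_sq_mod_four (t : GolayPt → ℤ) : (∑ i, t i ^ 2) ≡ (hammingNorm (redW t) : ℤ) [ZMOD 4] := by
  have h1 : (hammingNorm (redW t) : ℤ) = ∑ i, (if t i % 2 = 1 then (1 : ℤ) else 0) := by
    rw [hammingNorm, Finset.card_filter]
    push_cast
    apply Finset.sum_congr rfl
    intro i _
    by_cases h : t i % 2 = 1
    · rw [if_pos h, if_pos ((redW_ne_zero_iff t i).mpr h)]
    · rw [if_neg h, if_neg (fun h' => h ((redW_ne_zero_iff t i).mp h'))]
  rw [h1]
  apply Int.ModEq.sum
  intro i _
  rw [Int.ModEq]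
  rcases Int.emod_two_eq_zero_or_one (t i) with h | h
  · obtain ⟨s, hs⟩ := Int.dvd_of_emod_eq_zero h
    have h' : ¬ t i % 2 = 1 := by omega
    rw [if_neg h', hs]
    ring_nf
    omega
  · have hs : t i = 2 * (t i / 2) + 1 := by omega
    rw [if_pos h, hs]
    ring_nf
    omega

theorem sqNorm_dvd_of_isLeechVec {x : GolayPt → ℤ} (hx : IsLeechVec x) : (16 : ℤ) ∣ sqNorm x := by
  obtain ⟨m, t, ht, h2, h3⟩ := hx
  have hsum : ∑ i, x i = 24 * m + 2 * ∑ i, t i := by
    simp only [ht, Finset.sum_add_distrib, ← Finset.mul_sum, Finset.sum_const, Finset.card_univ]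
    simp [GolayPt]
  have hsq : sqNorm x = 24 * m ^ 2 + 4 * m * ∑ i, t i + 4 * ∑ i, t i ^ 2 := by
    simp only [sqNorm, ht]
    have : ∀ i, (m + 2 * t i) ^ 2 = m ^ 2 + 4 * m * t i + 4 * t i ^ 2 := fun i => by ring
    simp only [this, Finset.sum_add_distrib, ← Finset.mul_sum, Finset.sum_const, Finset.card_univ]
    simp [GolayPt]
  have h4 : (4 : ℤ) ∣ ∑ i, t i ^ 2 := by
    have h5 := sum_sq_mod_four t
    have h6 : (4 : ℤ) ∣ (hammingNorm (redW t) : ℤ) := by exact_mod_cast golay_four_dvd h3
    exact (Int.ModEq.dvd_iff h5).mpr h6 |> fun h => by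
      have := (Int.modEq_zero_iff_dvd.mpr h6)
      exact Int.modEq_zero_iff_dvd.mp (h5.trans this)
  obtain ⟨s, hs⟩ := h4
  rw [hsum] at h2
  have h7 : (24 * m + 2 * ∑ i, t i) % 8 = (4 * m) % 8 := h2
  rw [hsq, hs]
  set T := ∑ i, t i with hT
  -- T ≡ 2 m mod 4
  have h8 : ∃ r, T = 2 * m + 4 * r := ⟨(T - 2 * m) / 4, by omega⟩
  obtain ⟨r, hr⟩ := h8
  rw [hr]
  exact ⟨2 * m ^ 2 + m * r + s, by ring⟩

theorem sqNorm_dvd {x : GolayPt → ℤ} (hx : x ∈ leechLattice) : (16 : ℤ) ∣ sqNorm x :=
  sqNorm_dvd_of_isLeechVec ((mem_leechLattice_iff x).mp hx)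

/-- nonzero codewords have weight at least eight -/
theorem golay_weight_ge {w : GolayPt → ZMod 2} (hw : w ∈ golayCode) (h0 : w ≠ 0) : 8 ≤ hammingNorm w := by
  by_contra h
  exact h0 (golay_eq_zero_of_weight_lt hw (by omega))

theorem card_golayPt : (Finset.univ : Finset GolayPt).card = 24 := by
  rw [Finset.card_univ]; simp [GolayPt]

theorem sqNorm_ge {x : GolayPt → ℤ} (hx : x ∈ leechLattice) (h0 : x ≠ 0) : 32 ≤ sqNorm x := by
  have h16 := sqNorm_dvd hx
  rw [leechLattice_eq] at hx
  obtain ⟨m, h1, h2, h3⟩ := hx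
  obtain ⟨q, hq⟩ := h16
  rcases Int.emod_two_eq_zero_or_one m with hm | hm
  · -- even case
    obtain ⟨w, hw, hww⟩ := h3 2
    by_cases hw0 : w = 0
    · -- all coordinates divisible by four
      have hall : ∀ i, x i % 4 = 0 := by
        intro i
        have hi : i ∉ support₂ w := by rw [hw0]; simp [support₂]
        rw [hww, mem_filter_modEq] at hi
        have := h1 i
        rw [Int.ModEq] at this
        omega
      have hj : ∃ j, x j ≠ 0 := by
        by_contra hcon
        push Not at hcon
        exact h0 (funext hcon)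
      obtain ⟨j, hj⟩ := hj
      have hj16 : 16 ≤ x j ^ 2 := by
        have h4 := hall j
        obtain ⟨c, hc⟩ : ∃ c, x j = 4 * c := ⟨x j / 4, by omega⟩
        have hc0 : c ≠ 0 := by rintro rfl; exact hj (by rw [hc]; ring)
        have : 1 ≤ c ^ 2 := by
          have := sq_nonneg c
          have h1' : c ^ 2 ≠ 0 := pow_ne_zero 2 hc0
          omega
        rw [hc]; nlinarith
      have hsplit : sqNorm x = x j ^ 2 + ∑ i ∈ Finset.univ.erase j, x i ^ 2 := by
        rw [sqNorm, ← Finset.add_sum_erase _ _ (Finset.mem_univ j)]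
      have hrest : 0 ≤ ∑ i ∈ Finset.univ.erase j, x i ^ 2 := Finset.sum_nonneg (fun i _ => sq_nonneg _)
      by_contra hlt
      -- sqNorm = 16
      have hq1 : q = 1 := by omega
      have hrest0 : ∑ i ∈ Finset.univ.erase j, x i ^ 2 = 0 := by omega
      have hxj : x j ^ 2 = 16 := by omega
      have hz : ∀ i ∈ Finset.univ.erase j, x i = 0 := by
        intro i hi
        have := (Finset.sum_eq_zero_iff_of_nonneg (fun i _ => sq_nonneg (x i))).mp hrest0 i hi
        exact pow_eq_zero_iff (two_ne_zero) |>.mp this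
      have hsum : ∑ i, x i = x j := by
        rw [← Finset.add_sum_erase _ _ (Finset.mem_univ j), Finset.sum_eq_zero hz, add_zero]
      rw [hsum, Int.ModEq] at h2
      have hx4 : x j = 4 ∨ x j = -4 := by
        have h5 : (x j - 4) * (x j + 4) = 0 := by nlinarith
        rcases mul_eq_zero.mp h5 with h | h
        · left; omega
        · right; omega
      rcases hx4 with h | h <;> rw [h] at h2 <;> omega
    · have h8 := golay_weight_ge hw hw0
      have hS : ∀ i ∈ support₂ w, 4 ≤ x i ^ 2 := by
        intro i hi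
        rw [hww, mem_filter_modEq] at hi
        obtain ⟨c, hc⟩ : ∃ c, x i = 4 * c + 2 := ⟨x i / 4, by omega⟩
        have hne : 2 * c + 1 ≠ 0 := by omega
        have hpos : 0 < (2 * c + 1) ^ 2 := lt_of_le_of_ne (sq_nonneg _) (Ne.symm (pow_ne_zero 2 hne))
        rw [hc]; nlinarith
      have h9 : (support₂ w).card • (4 : ℤ) ≤ ∑ i ∈ support₂ w, x i ^ 2 := Finset.card_nsmul_le_sum _ _ _ hS
      have h10 : ∑ i ∈ support₂ w, x i ^ 2 ≤ sqNorm x := by
        rw [sqNorm]
        exact Finset.sum_le_sum_of_subset_of_nonneg (Finset.subset_univ _) (fun i _ _ => sq_nonneg _)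
      rw [card_support_eq_hammingNorm] at h9
      have h11 : (8 : ℤ) ≤ (hammingNorm w : ℤ) := by exact_mod_cast h8
      simp only [nsmul_eq_mul] at h9
      omega
  · -- odd case
    have hall : ∀ i ∈ (Finset.univ : Finset GolayPt), (1 : ℤ) ≤ x i ^ 2 := by
      intro i _
      have := h1 i
      rw [Int.ModEq] at this
      obtain ⟨c, hc⟩ : ∃ c, x i = 2 * c + 1 := ⟨x i / 2, by omega⟩
      have hne : 2 * c + 1 ≠ 0 := by omega
      have hpos : 0 < (2 * c + 1) ^ 2 := lt_of_le_of_ne (sq_nonneg _) (Ne.symm (pow_ne_zero 2 hne))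
      rw [hc]; omega
    have h9 : (Finset.univ : Finset GolayPt).card • (1 : ℤ) ≤ ∑ i, x i ^ 2 := Finset.card_nsmul_le_sum _ _ _ hall
    rw [card_golayPt] at h9
    simp only [nsmul_eq_mul] at h9
    have : sqNorm x = ∑ i, x i ^ 2 := rfl
    omega

/-! ### Invariance -/

theorem isLeechVec_perm {σ : Equiv.Perm GolayPt} (hσ : σ ∈ M24) {x : GolayPt → ℤ} (hx : IsLeechVec x) :
    IsLeechVec (fun i => x (σ i)) := by
  obtain ⟨m, t, ht, h2, h3⟩ := hx
  refine ⟨m, fun i => t (σ i), fun i => ht (σ i), ?_, ?_⟩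
  · rw [Equiv.sum_comp σ x]
    exact h2
  · exact comp_mem_of_mem_M24 hσ h3

theorem isLeechVec_signChange {c : Finset GolayPt} (hc : c ∈ supports (golayCode : Set (GolayPt → ZMod 2)))
    {x : GolayPt → ℤ} (hx : IsLeechVec x) : IsLeechVec (fun i => if i ∈ c then -x i else x i) := by
  obtain ⟨w, hw, rfl⟩ := hc
  obtain ⟨m, t, ht, h2, h3⟩ := hx
  refine ⟨m, fun i => if i ∈ support₂ w then -m - t i else t i, ?_, ?_, ?_⟩
  · intro i
    by_cases hi : i ∈ support₂ w
    · simp only [hi, if_true, ht i]; ring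
    · simp only [hi, if_false, ht i]
  · -- the sum changes by twice the sum over the support
    have hsum : ∑ i, (if i ∈ support₂ w then -x i else x i) = ∑ i, x i - 2 * ∑ i ∈ support₂ w, x i := by
      have : ∀ i, (if i ∈ support₂ w then -x i else x i) = x i - 2 * (if i ∈ support₂ w then x i else 0) := by
        intro i; split_ifs <;> ring
      simp only [this, Finset.sum_sub_distrib, ← Finset.mul_sum]
      rw [Finset.sum_ite_mem Finset.univ (support₂ w) x, Finset.univ_inter]
    rw [hsum]
    -- the sum over the support is divisible by four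
    have h4 : (4 : ℤ) ∣ ∑ i ∈ support₂ w, x i := by
      have h5 : ∑ i ∈ support₂ w, x i = (support₂ w).card * m + 2 * ∑ i ∈ support₂ w, t i := by
        simp only [ht, Finset.sum_add_distrib, ← Finset.mul_sum, Finset.sum_const, nsmul_eq_mul]
      rw [h5]
      have h6 : (4 : ℤ) ∣ ((support₂ w).card : ℤ) := by
        rw [card_support_eq_hammingNorm]
        exact_mod_cast golay_four_dvd hw
      have h7 : (2 : ℤ) ∣ ∑ i ∈ support₂ w, t i := by
        have horth := golay_orth hw h3
        have h8 : ∑ i, w i * redW t i = ((∑ i ∈ support₂ w, t i : ℤ) : ZMod 2) := by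
          rw [Int.cast_sum, ← Finset.sum_subset (Finset.subset_univ (support₂ w))]
          · apply Finset.sum_congr rfl
            intro i hi
            rw [mem_support₂_iff] at hi
            have hz : ∀ z : ZMod 2, z ≠ 0 → z = 1 := by decide
            rw [hz _ hi, one_mul]; rfl
          · intro i _ hi
            rw [mem_support₂_iff, not_not] at hi
            rw [hi, zero_mul]
        rw [h8] at horth
        exact (ZMod.intCast_zmod_eq_zero_iff_dvd _ 2).mp horth
      obtain ⟨a, ha⟩ := h6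
      obtain ⟨b, hb⟩ := h7
      exact ⟨a * m + b, by rw [ha, hb]; ring⟩
    obtain ⟨a, ha⟩ := h4
    rw [ha, Int.ModEq] at *
    omega
  · have : redW (fun i => if i ∈ support₂ w then -m - t i else t i) = redW t + (m : ZMod 2) • w := by
      funext i
      simp only [redW, Pi.add_apply, Pi.smul_apply, smul_eq_mul]
      by_cases hi : i ∈ support₂ w
      · have hz : ∀ z : ZMod 2, z ≠ 0 → z = 1 := by decide
        have hw1 : w i = 1 := hz _ ((mem_support₂_iff w i).mp hi)
        have hneg : ∀ a b : ZMod 2, -a - b = b + a := by decide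
        simp only [hi, if_true, hw1, mul_one]
        push_cast
        exact hneg _ _
      · have hw0 : w i = 0 := by
          rw [mem_support₂_iff, not_not] at hi; exact hi
        simp only [hi, if_false, hw0, mul_zero, add_zero]
    rw [this]
    exact golayCode.add_mem h3 (golayCode.smul_mem _ hw)

end Cfsg.Agent.Helper27
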