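import Cfsg.Agent.Helper27.LChDefs
import Cfsg.Agent.Helper27.Leech
import Cfsg.Agent.S0375

set_option autoImplicit false

/-!
# S0406, piece Q8: identification of the coordinatised lattice with `Cfsg.leechLattice`
-/

namespace Cfsg.Agent.Helper27.LCh

open Cfsg Matrix

variable {L : AddSubgroup (Fin 24 → ℤ)}

/-- the transport of a vector of `ℤ^24` to `GolayPt → ℤ` by a bijection and sign changes -/
def tr (σ : Fin 24 ≃ GolayPt) (ε : Fin 24 → ℤ) (v : Fin 24 → ℤ) : GolayPt → ℤ :=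
  fun q => ε (σ.symm q) * v (σ.symm q)

theorem tr_add (σ : Fin 24 ≃ GolayPt) (ε : Fin 24 → ℤ) (v w : Fin 24 → ℤ) :
    tr σ ε (v + w) = tr σ ε v + tr σ ε w := by
  funext q; simp [tr, mul_add]

theorem tr_sub (σ : Fin 24 ≃ GolayPt) (ε : Fin 24 → ℤ) (v w : Fin 24 → ℤ) :
    tr σ ε (v - w) = tr σ ε v - tr σ ε w := by
  funext q; simp [tr, mul_sub]

theorem sum_tr (σ : Fin 24 ≃ GolayPt) (ε : Fin 24 → ℤ) (v : Fin 24 → ℤ) :
    ∑ q, tr σ ε v q = ∑ i, ε i * v i := by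
  rw [← Equiv.sum_comp σ]
  simp [tr]

/-- even Leech vectors -/
theorem isLeechVec_of_even {x t : GolayPt → ℤ} (hx : ∀ q, x q = 2 * t q) (ht : redW t ∈ golayCode)
    (hs : (8 : ℤ) ∣ ∑ q, x q) : IsLeechVec x := by
  refine ⟨0, t, fun q => by rw [hx q]; ring, ?_, ht⟩
  rw [mul_zero]
  exact (Int.modEq_zero_iff_dvd).mpr hs

theorem even_of_isLeechVec {x : GolayPt → ℤ} (hx : IsLeechVec x) (he : ∀ q, (2 : ℤ) ∣ x q) :
    ∃ t : GolayPt → ℤ, (∀ q, x q = 2 * t q) ∧ redW t ∈ golayCode ∧ (8 : ℤ) ∣ ∑ q, x q := by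
  obtain ⟨m, t, hxt, hsum, hC⟩ := hx
  -- `m` is even
  have hm : (2 : ℤ) ∣ m := by
    have := he none
    rw [hxt none] at this
    omega
  obtain ⟨m', rfl⟩ := hm
  refine ⟨fun q => m' + t q, fun q => by rw [hxt q]; ring, ?_, ?_⟩
  · have hsplit : redW (fun q => m' + t q) = redW (fun _ => m') + redW t := by
      funext q; simp [redW]
    rw [hsplit]
    refine golayCode.add_mem ?_ hC
    rcases Int.emod_two_eq_zero_or_one m' with h | h
    · have : redW (fun _ : GolayPt => m') = 0 := by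
        funext q
        simp only [redW, Pi.zero_apply]
        rw [ZMod.intCast_zmod_eq_zero_iff_dvd]
        exact Int.dvd_of_emod_eq_zero h
      rw [this]; exact golayCode.zero_mem
    · have : redW (fun _ : GolayPt => m') = 1 := by
        funext q
        simp only [redW, Pi.one_apply]
        have : ((m' : ℤ) : ZMod 2) = ((1 : ℤ) : ZMod 2) := by
          rw [ZMod.intCast_eq_intCast_iff_dvd_sub]
          omega
        simpa using this
      rw [this]; exact one_mem_golayCode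
  · have h1 := hsum.dvd
    omega


/-- the sign vector attached to an odd vector: `ε i * v₀ i ≡ 1 (mod 4)` -/
def sgn (v₀ : Fin 24 → ℤ) : Fin 24 → ℤ := fun i => if v₀ i % 4 = 1 then 1 else -1

theorem sgn_cases (v₀ : Fin 24 → ℤ) (i : Fin 24) : sgn v₀ i = 1 ∨ sgn v₀ i = -1 := by
  unfold sgn; split_ifs <;> simp

theorem sgn_mul_self (v₀ : Fin 24 → ℤ) (i : Fin 24) : sgn v₀ i * sgn v₀ i = 1 := by
  rcases sgn_cases v₀ i with h | h <;> rw [h] <;> norm_num

theorem sgn_mul_mod {v₀ : Fin 24 → ℤ} (hodd : ∀ i, Odd (v₀ i)) (i : Fin 24) :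
    (sgn v₀ i * v₀ i) % 4 = 1 := by
  obtain ⟨k, hk⟩ := hodd i
  unfold sgn
  split_ifs with h
  · omega
  · omega

theorem sgn_sub_dvd {v₀ : Fin 24 → ℤ} (hodd : ∀ i, Odd (v₀ i)) (i : Fin 24) :
    (4 : ℤ) ∣ v₀ i - sgn v₀ i := by
  obtain ⟨k, hk⟩ := hodd i
  unfold sgn
  split_ifs with h
  · omega
  · omega

/-- the signed coordinate sum of an even vector of `L` is divisible by `8` -/
theorem signed_sum (hL : Lat L) {v₀ : Fin 24 → ℤ} (hv₀ : v₀ ∈ L) (hodd : ∀ i, Odd (v₀ i))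
    {v : Fin 24 → ℤ} (hv : v ∈ L) (he : ∀ i, (2 : ℤ) ∣ v i) : (8 : ℤ) ∣ ∑ i, sgn v₀ i * v i := by
  have h1 : (8 : ℤ) ∣ v ⬝ᵥ v₀ := hL.int8 v hv v₀ hv₀
  have h2 : (8 : ℤ) ∣ v ⬝ᵥ v₀ - ∑ i, sgn v₀ i * v i := by
    unfold dotProduct
    rw [← Finset.sum_sub_distrib]
    apply Finset.dvd_sum
    intro i _
    obtain ⟨a, ha⟩ := he i
    obtain ⟨b, hb⟩ := sgn_sub_dvd hodd i
    refine ⟨a * b, ?_⟩
    have : v i * v₀ i - sgn v₀ i * v i = v i * (v₀ i - sgn v₀ i) := by ring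
    rw [this, ha, hb]; ring
  have := dvd_sub h1 h2
  simpa using this

theorem cast_sgn_mul (v₀ : Fin 24 → ℤ) (i : Fin 24) (a : ℤ) :
    ((sgn v₀ i * a : ℤ) : ZMod 2) = (a : ZMod 2) := by
  rcases sgn_cases v₀ i with h | h
  · rw [h, one_mul]
  · rw [h]
    push_cast
    have : (-1 : ZMod 2) = 1 := by decide
    rw [this, one_mul]

/-- even vectors of `L` are transported to Leech vectors -/
theorem even_fwd (hL : Lat L) {v₀ : Fin 24 → ℤ} (hv₀ : v₀ ∈ L) (hodd : ∀ i, Odd (v₀ i))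
    (σ : Fin 24 ≃ GolayPt)
    (hσ : ∀ w : GolayPt → ZMod 2, w ∈ golayCode ↔ (fun i => w (σ i)) ∈ code L)
    {v : Fin 24 → ℤ} (hv : v ∈ L) (he : ∀ i, (2 : ℤ) ∣ v i) : IsLeechVec (tr σ (sgn v₀) v) := by
  choose s hs using he
  refine isLeechVec_of_even (t := fun q => sgn v₀ (σ.symm q) * s (σ.symm q)) ?_ ?_ ?_
  · intro q
    simp only [tr]
    rw [hs (σ.symm q)]; ring
  · rw [hσ]
    refine ⟨s, ?_, fun i => ?_⟩
    · convert hv using 1
      funext i; exact (hs i).symm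
    · simp only [redW, Equiv.symm_apply_apply]
      exact (cast_sgn_mul v₀ i (s i)).symm
  · rw [sum_tr]
    exact signed_sum hL hv₀ hodd hv (fun i => ⟨s i, hs i⟩)

theorem tr_apply (σ : Fin 24 ≃ GolayPt) (ε : Fin 24 → ℤ) (v : Fin 24 → ℤ) (i : Fin 24) :
    tr σ ε v (σ i) = ε i * v i := by
  simp [tr]

/-- conversely, a vector transported to an even Leech vector lies in `L` -/
theorem even_bwd (hL : Lat L)
    (hsub : ∀ v : Fin 24 → ℤ, (∀ i, (4 : ℤ) ∣ v i) → (8 : ℤ) ∣ ∑ i, v i → v ∈ L)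
    {v₀ : Fin 24 → ℤ} (hv₀ : v₀ ∈ L) (hodd : ∀ i, Odd (v₀ i))
    (σ : Fin 24 ≃ GolayPt)
    (hσ : ∀ w : GolayPt → ZMod 2, w ∈ golayCode ↔ (fun i => w (σ i)) ∈ code L)
    {v : Fin 24 → ℤ} (hx : IsLeechVec (tr σ (sgn v₀) v)) (he : ∀ i, (2 : ℤ) ∣ v i) : v ∈ L := by
  have he' : ∀ q, (2 : ℤ) ∣ tr σ (sgn v₀) v q := fun q => Dvd.dvd.mul_left (he _) _
  obtain ⟨t, htr, hC, h8⟩ := even_of_isLeechVec hx he'
  rw [hσ] at hC
  obtain ⟨s, hsL, hst⟩ := hC
  -- `v i = 2 * (ε i * t (σ i))`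
  have hvi : ∀ i, v i = 2 * (sgn v₀ i * t (σ i)) := by
    intro i
    have h1 := htr (σ i)
    rw [tr_apply] at h1
    calc v i = (sgn v₀ i * sgn v₀ i) * v i := by rw [sgn_mul_self, one_mul]
      _ = sgn v₀ i * (sgn v₀ i * v i) := by ring
      _ = 2 * (sgn v₀ i * t (σ i)) := by rw [h1]; ring
  -- the difference `d = v - 2 s`
  have hd4 : ∀ i, (4 : ℤ) ∣ (v - fun i => 2 * s i) i := by
    intro i
    simp only [Pi.sub_apply]
    rw [hvi i]
    have h2 : ((sgn v₀ i * t (σ i) : ℤ) : ZMod 2) = ((s i : ℤ) : ZMod 2) := by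
      rw [cast_sgn_mul]
      have := hst i
      simp only [redW] at this
      exact this.symm
    rw [ZMod.intCast_eq_intCast_iff_dvd_sub] at h2
    obtain ⟨k, hk⟩ := h2
    refine ⟨-k, ?_⟩
    push_cast at hk
    linarith
  have hsum1 : (8 : ℤ) ∣ ∑ i, sgn v₀ i * (v - fun i => 2 * s i) i := by
    have h1 : (8 : ℤ) ∣ ∑ i, sgn v₀ i * v i := by
      rw [← sum_tr σ]; exact h8
    have h2 : (8 : ℤ) ∣ ∑ i, sgn v₀ i * (2 * s i) :=
      signed_sum hL hv₀ hodd hsL (fun i => ⟨s i, rfl⟩)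
    have : ∑ i, sgn v₀ i * (v - fun i => 2 * s i) i
        = ∑ i, sgn v₀ i * v i - ∑ i, sgn v₀ i * (2 * s i) := by
      rw [← Finset.sum_sub_distrib]
      apply Finset.sum_congr rfl
      intro i _
      simp only [Pi.sub_apply]; ring
    rw [this]
    exact dvd_sub h1 h2
  have hsum2 : (8 : ℤ) ∣ ∑ i, (v - fun i => 2 * s i) i := by
    have : (8 : ℤ) ∣ ∑ i, (v - fun i => 2 * s i) i - ∑ i, sgn v₀ i * (v - fun i => 2 * s i) i := by
      rw [← Finset.sum_sub_distrib]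
      apply Finset.dvd_sum
      intro i _
      obtain ⟨k, hk⟩ := hd4 i
      rw [hk]
      rcases sgn_cases v₀ i with h | h
      · rw [h]; exact ⟨0, by ring⟩
      · rw [h]; exact ⟨k, by ring⟩
    have := dvd_add this hsum1
    simpa using this
  have hd := hsub _ hd4 hsum2
  have := L.add_mem hd hsL
  convert this using 1
  funext i
  simp

/-- the odd vector `v₀` is transported to a Leech vector -/
theorem isLeechVec_tr_odd (hL : Lat L) {v₀ : Fin 24 → ℤ} (hv₀ : v₀ ∈ L) (hodd : ∀ i, Odd (v₀ i))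
    (σ : Fin 24 ≃ GolayPt) : IsLeechVec (tr σ (sgn v₀) v₀) := by
  -- `ε i * v₀ i = 1 + 4 * b i`
  have hb : ∀ i, ∃ b : ℤ, sgn v₀ i * v₀ i = 1 + 4 * b := by
    intro i
    have := sgn_mul_mod hodd i
    exact ⟨(sgn v₀ i * v₀ i) / 4, by omega⟩
  choose b hb using hb
  have h16 : (16 : ℤ) ∣ v₀ ⬝ᵥ v₀ := hL.even16 v₀ hv₀
  have hsq : v₀ ⬝ᵥ v₀ = ∑ i, (1 + 8 * b i + 16 * (b i * b i)) := by
    unfold dotProduct
    apply Finset.sum_congr rfl
    intro i _
    calc v₀ i * v₀ i = (sgn v₀ i * sgn v₀ i) * (v₀ i * v₀ i) := by rw [sgn_mul_self, one_mul]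
      _ = (sgn v₀ i * v₀ i) * (sgn v₀ i * v₀ i) := by ring
      _ = 1 + 8 * b i + 16 * (b i * b i) := by rw [hb i]; ring
  have hsq' : v₀ ⬝ᵥ v₀ = 24 + 8 * ∑ i, b i + 16 * ∑ i, b i * b i := by
    rw [hsq, Finset.sum_add_distrib, Finset.sum_add_distrib, ← Finset.mul_sum, ← Finset.mul_sum]
    simp
  have hsum : ∑ i, sgn v₀ i * v₀ i = 24 + 4 * ∑ i, b i := by
    simp_rw [hb]
    rw [Finset.sum_add_distrib, ← Finset.mul_sum]
    simp
  refine ⟨1, fun q => 2 * b (σ.symm q), ?_, ?_, ?_⟩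
  · intro q
    simp only [tr]
    rw [hb]; ring
  · rw [sum_tr, hsum]
    rw [hsq'] at h16
    apply Int.ModEq.symm
    rw [Int.modEq_iff_dvd]
    omega
  · have : redW (fun q => 2 * b (σ.symm q)) = 0 := by
      funext q
      simp only [redW, Pi.zero_apply]
      rw [ZMod.intCast_zmod_eq_zero_iff_dvd]
      exact ⟨_, rfl⟩
    rw [this]; exact golayCode.zero_mem

/-- identification, from the conclusions of the pieces Q1--Q4 -/
theorem identify_aux (hL : Lat L)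
    (hpar : ∀ v ∈ L, ∀ i j, (2 : ℤ) ∣ v i - v j)
    (hsub : ∀ v : Fin 24 → ℤ, (∀ i, (4 : ℤ) ∣ v i) → (8 : ℤ) ∣ ∑ i, v i → v ∈ L)
    (hwt : ∀ c ∈ code L, c ≠ 0 → 4 ∣ hammingNorm c ∧ 8 ≤ hammingNorm c)
    (horth : ∀ v ∈ code L, ∀ w ∈ code L, ∑ i, v i * w i = 0)
    (hdim : Module.finrank (ZMod 2) (code L) = 12)
    (v₀ : Fin 24 → ℤ) (hv₀ : v₀ ∈ L) (hodd : ∀ i, Odd (v₀ i)) :
    ∃ (σ : Fin 24 ≃ GolayPt) (ε : Fin 24 → ℤ), (∀ i, ε i = 1 ∨ ε i = -1) ∧
      ∀ v : Fin 24 → ℤ, v ∈ L ↔ IsLeechVec (fun q => ε (σ.symm q) * v (σ.symm q)) := by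
  have h4 : ∀ w ∈ code L, 4 ∣ hammingNorm w := by
    intro w hw
    by_cases h0 : w = 0
    · rw [h0]; simp
    · exact (hwt w hw h0).1
  have hno4 : ∀ w ∈ code L, hammingNorm w ≠ 4 := by
    intro w hw
    by_cases h0 : w = 0
    · rw [h0]; simp
    · have := (hwt w hw h0).2; omega
  obtain ⟨σ, hσ⟩ := Cfsg.Agent.S0375.result (code L) hdim horth h4 hno4
  refine ⟨σ, sgn v₀, sgn_cases v₀, fun v => ?_⟩
  change v ∈ L ↔ IsLeechVec (tr σ (sgn v₀) v)
  have h0 := isLeechVec_tr_odd hL hv₀ hodd σ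
  constructor
  · intro hv
    by_cases he : (2 : ℤ) ∣ v 0
    · have he' : ∀ i, (2 : ℤ) ∣ v i := by
        intro i
        have := hpar v hv i 0
        omega
      exact even_fwd hL hv₀ hodd σ hσ hv he'
    · have he' : ∀ i, (2 : ℤ) ∣ (v - v₀) i := by
        intro i
        have h1 := hpar v hv i 0
        obtain ⟨k, hk⟩ := hodd i
        simp only [Pi.sub_apply]
        omega
      have h1 := even_fwd hL hv₀ hodd σ hσ (L.sub_mem hv hv₀) he'
      have h2 := isLeechVec_add h1 h0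
      rw [← tr_add] at h2
      simpa using h2
  · intro hx
    by_cases he : (2 : ℤ) ∣ v 0
    · have he' : ∀ i, (2 : ℤ) ∣ v i := by
        intro i
        obtain ⟨m, t, hxt, -, -⟩ := hx
        have h1 := hxt (σ i)
        have h2 := hxt (σ 0)
        rw [tr_apply] at h1 h2
        rcases sgn_cases v₀ i with hi | hi <;> rcases sgn_cases v₀ 0 with hj | hj <;>
          rw [hi] at h1 <;> rw [hj] at h2 <;> omega
      exact even_bwd hL hsub hv₀ hodd σ hσ hx he'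
    · have he' : ∀ i, (2 : ℤ) ∣ (v - v₀) i := by
        intro i
        obtain ⟨m, t, hxt, -, -⟩ := hx
        have h1 := hxt (σ i)
        have h2 := hxt (σ 0)
        rw [tr_apply] at h1 h2
        obtain ⟨k, hk⟩ := hodd i
        simp only [Pi.sub_apply]
        rcases sgn_cases v₀ i with hi | hi <;> rcases sgn_cases v₀ 0 with hj | hj <;>
          rw [hi] at h1 <;> rw [hj] at h2 <;> omega
      have h1 : IsLeechVec (tr σ (sgn v₀) (v - v₀)) := by
        rw [tr_sub, sub_eq_add_neg]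
        exact isLeechVec_add hx (isLeechVec_neg h0)
      have h2 := even_bwd hL hsub hv₀ hodd σ hσ h1 he'
      have := L.add_mem h2 hv₀
      simpa using this

end Cfsg.Agent.Helper27.LCh
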