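import Mathlib
import Cfsg.Prelude.Def_MonsterType
import Cfsg.Agent.Helper3.LargeES
import Cfsg.Agent.Helper7.FStar
import Cfsg.Agent.Helper7.LayerNormalizes
import Cfsg.Agent.Helper14.Conj

/-!
# Large extraspecial 2-subgroups: basic consequences (towards S5426)

`LQ Q z` packages, elementwise, that `Q` is a large extraspecial 2-subgroup with centre `{1, z}`.
-/

set_option autoImplicit false
set_option linter.style.haveILetI false
set_option linter.unusedSectionVars false

namespace Cfsg.Agent.Helper27.LES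

open Cfsg Subgroup Cfsg.Agent.Helper14 Cfsg.Agent.Helper7

universe u

variable {G : Type u} [Group G]

/-- elementwise package for a large extraspecial 2-subgroup `Q` with `Z(Q) = {1, z}` -/
structure LQ (Q : Subgroup G) (z : G) : Prop where
  zQ : z ∈ Q
  z1 : z ≠ 1
  zz : z * z = 1
  central : ∀ q ∈ Q, q * z = z * q
  comm : ∀ a ∈ Q, ∀ b ∈ Q, a * b = b * a ∨ a * b = b * a * z
  sq : ∀ a ∈ Q, a * a = 1 ∨ a * a = z
  pg : IsPGroup 2 Q
  cent : ∀ x : G, (∀ q ∈ Q, x * q = q * x) → x = 1 ∨ x = z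
  nrm : ∀ x : G, x * z = z * x → ∀ q ∈ Q, x * q * x⁻¹ ∈ Q
  large : ∀ K : Subgroup G, Odd (Nat.card K) → Q ≤ normalizer (K : Set G) → K = ⊥

theorem LQ.of_large [Finite G] {Q : Subgroup G} (hQ : Cfsg.IsLargeExtraspecial Q) {z : G}
    (hz : (Subgroup.center Q).map Q.subtype = Subgroup.zpowers z) : LQ Q z := by
  obtain ⟨hext, hcent, hnorm, hlarge⟩ := hQ
  obtain ⟨zq, hes, hZs⟩ := Cfsg.Agent.Helper3.LargeES.exists_es2_sub hext
  have hzmem : z ∈ (Subgroup.center Q).map Q.subtype := by
    rw [hz]; exact Subgroup.mem_zpowers z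
  have hzqmem : (zq : G) ∈ Subgroup.zpowers z := by
    rw [← hz]; exact (hZs _).mpr (Or.inr rfl)
  have hzq1 : (zq : G) ≠ 1 := Cfsg.Agent.Helper3.LargeES.sub_ne_one hes
  have hzeq : z = (zq : G) := by
    rcases (hZs z).mp hzmem with h | h
    · exfalso
      rw [h, Subgroup.zpowers_one_eq_bot, Subgroup.mem_bot] at hzqmem
      exact hzq1 hzqmem
    · exact h
  subst hzeq
  refine ⟨zq.2, hzq1, Cfsg.Agent.Helper3.LargeES.sub_zz hes, ?_, ?_, ?_,
    Cfsg.Agent.Helper3.LargeES.sub_isPGroup hes,
    Cfsg.Agent.Helper3.LargeES.centralizer_elts hZs hcent,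
    Cfsg.Agent.Helper3.LargeES.normalizer_elts hZs hnorm, hlarge⟩
  · intro q hq
    exact Cfsg.Agent.Helper3.LargeES.sub_central hes hq
  · intro a ha b hb
    exact Cfsg.Agent.Helper3.LargeES.sub_comm hes ha hb
  · intro a ha
    exact Cfsg.Agent.Helper3.LargeES.sub_sq hes ha


variable [Finite G] {Q : Subgroup G} {z : G}

theorem LQ.zinv (h : LQ Q z) : z⁻¹ = z := inv_eq_of_mul_eq_one_left h.zz

theorem LQ.orderOf_z (h : LQ Q z) : orderOf z = 2 := by
  apply orderOf_eq_prime
  · rw [pow_two]; exact h.zz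
  · exact h.z1

/-- Fact 1: every nontrivial `Q`-invariant subgroup contains `z`. -/
theorem LQ.z_mem_of_invariant (h : LQ Q z) {K : Subgroup G}
    (hQK : Q ≤ normalizer (K : Set G)) (hK : K ≠ ⊥) : z ∈ K := by
  haveI : Fact (Nat.Prime 2) := ⟨Nat.prime_two⟩
  have hdvd : 2 ∣ Nat.card K := by
    rcases Nat.even_or_odd (Nat.card K) with he | ho
    · exact even_iff_two_dvd.mp he
    · exact absurd (h.large K ho hQK) hK
  obtain ⟨y, hyK, hyC, hy2⟩ := exists_orderOf_eq_mem_inf_centralizer h.pg hQK hdvd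
  have : y = 1 ∨ y = z := by
    apply h.cent
    intro q hq
    exact (Subgroup.mem_centralizer_iff.mp hyC q hq).symm
  rcases this with h1 | h1
  · rw [h1, orderOf_one] at hy2
    exact absurd hy2 (by norm_num)
  · rw [← h1]; exact hyK

/-- `Q` is solvable. -/
theorem LQ.isSolvable (h : LQ Q z) : Group.IsSolvable Q := by
  haveI : Fact (Nat.Prime 2) := ⟨Nat.prime_two⟩
  haveI := h.pg.isNilpotent
  infer_instance

/-- Fact 2: `z` centralizes no component. -/
theorem LQ.not_le_centralizer (h : LQ Q z) {L : Subgroup G} (hL : IsComponent L) :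
    ¬ L ≤ centralizer ({z} : Set G) := by
  intro hLz
  have hLN : L ≤ normalizer (Q : Set G) := by
    intro l hl
    have hlz : l * z = z * l := by
      have := Subgroup.mem_centralizer_iff.mp (hLz hl) z (Set.mem_singleton z)
      exact this.symm
    rw [Subgroup.mem_normalizer_iff]
    intro q
    constructor
    · intro hq; exact h.nrm l hlz q hq
    · intro hq
      have hlz' : l⁻¹ * z = z * l⁻¹ := by
        have : l⁻¹ * (l * z) * l⁻¹ = l⁻¹ * (z * l) * l⁻¹ := by rw [hlz]
        simpa [mul_assoc] using this.symm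
      have := h.nrm l⁻¹ hlz' _ hq
      simpa [mul_assoc] using this
  have hcomm := component_commutator_solvable_eq_bot hL h.isSolvable hLN
  rw [Subgroup.commutator_eq_bot_iff_le_centralizer] at hcomm
  apply IsQuasisimple.not_isMulCommutative hL.2
  have key : ∀ l ∈ L, l = 1 ∨ l = z := by
    intro l hl
    apply h.cent
    intro q hq
    exact (Subgroup.mem_centralizer_iff.mp (hcomm hl) q hq).symm
  refine ⟨⟨fun a b => ?_⟩⟩
  apply Subtype.ext
  rcases key a a.2 with ha | ha <;> rcases key b b.2 with hb | hb <;>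
    simp [ha, hb]

/-- no component when `z` lies in the Fitting subgroup -/
theorem LQ.layer_eq_bot_of_mem_fitting (h : LQ Q z) (hzF : z ∈ fittingSubgroup G) :
    layer G = ⊥ := by
  rw [eq_bot_iff, layer_le_iff]
  intro L hL
  exfalso
  apply h.not_le_centralizer hL
  have h1 := component_commutator_fitting hL
  rw [Subgroup.commutator_eq_bot_iff_le_centralizer] at h1
  intro l hl
  rw [Subgroup.mem_centralizer_iff]
  intro y hy
  rw [Set.mem_singleton_iff] at hy
  subst hy
  exact Subgroup.mem_centralizer_iff.mp (h1 hl) y hzF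

/-- odd `p`-cores vanish -/
theorem LQ.pCore_eq_bot (h : LQ Q z) {p : ℕ} (hp : p.Prime) (hp2 : p ≠ 2) : pCore p G = ⊥ := by
  haveI : Fact p.Prime := ⟨hp⟩
  apply h.large
  · obtain ⟨n, hn⟩ := (IsPGroup.iff_card.mp (Cfsg.Agent.Helper14.pCore_isPGroup (p := p) (G := G)))
    rw [hn]
    exact Odd.pow (hp.odd_of_ne_two hp2)
  · haveI : (pCore p G).Normal := Cfsg.Agent.Helper14.pCore_normal p
    rw [Subgroup.normalizer_eq_top]
    exact le_top

theorem LQ.fitting_eq (h : LQ Q z) : fittingSubgroup G = pCore 2 G := by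
  rw [fittingSubgroup_eq_pCoreSup]
  apply le_antisymm
  · rw [pCoreSup_le_iff]
    intro p hp
    by_cases hp2 : p = 2
    · subst hp2; exact le_rfl
    · rw [h.pCore_eq_bot hp hp2]; exact bot_le
  · haveI : Fact (Nat.Prime 2) := ⟨Nat.prime_two⟩
    exact pCore_le_pCoreSup 2


/-- the centre of a normal subgroup, as a subgroup of `G`, is normalized by everything -/
theorem le_normalizer_inf_centralizer (R : Subgroup G) [hR : R.Normal] (X : Subgroup G) :
    X ≤ normalizer ((R ⊓ centralizer (R : Set G) : Subgroup G) : Set G) := by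
  haveI : (centralizer (R : Set G)).Normal := Subgroup.normal_centralizer
  haveI : (R ⊓ centralizer (R : Set G)).Normal := Subgroup.normal_inf_normal R _
  rw [Subgroup.normalizer_eq_top]
  exact le_top

/-- Case `O₂(G) ≠ 1`: `z ∈ Z(O₂(G))`. -/
theorem LQ.z_mem_center_pCore (h : LQ Q z) (hR : pCore 2 G ≠ ⊥) :
    z ∈ pCore 2 G ⊓ centralizer ((pCore 2 G : Subgroup G) : Set G) := by
  haveI : Fact (Nat.Prime 2) := ⟨Nat.prime_two⟩
  haveI : (pCore 2 G).Normal := Cfsg.Agent.Helper14.pCore_normal 2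
  apply h.z_mem_of_invariant (le_normalizer_inf_centralizer _ Q)
  rw [← map_subtype_center]
  haveI : Nontrivial (pCore 2 G) := (Subgroup.nontrivial_iff_ne_bot _).mpr hR
  have hc : Nontrivial (center (pCore 2 G)) :=
    (Cfsg.Agent.Helper14.pCore_isPGroup (p := 2) (G := G)).center_nontrivial
  intro hbot
  rw [Subgroup.map_eq_bot_iff_of_injective _ (Subgroup.subtype_injective _)] at hbot
  exact (Subgroup.nontrivial_iff_ne_bot _).mp hc hbot

theorem LQ.case_two_core (h : LQ Q z) (hR : pCore 2 G ≠ ⊥) :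
    IsMulCommutative ↥(normalClosure ({z} : Set G)) ∧
      generalizedFittingSubgroup G = pCore 2 G := by
  haveI : Fact (Nat.Prime 2) := ⟨Nat.prime_two⟩
  haveI : (pCore 2 G).Normal := Cfsg.Agent.Helper14.pCore_normal 2
  have hz := h.z_mem_center_pCore hR
  constructor
  · set C : Subgroup G := pCore 2 G ⊓ centralizer ((pCore 2 G : Subgroup G) : Set G) with hC
    haveI : (centralizer ((pCore 2 G : Subgroup G) : Set G)).Normal :=
      Subgroup.normal_centralizer
    haveI : C.Normal := Subgroup.normal_inf_normal _ _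
    have hle : normalClosure ({z} : Set G) ≤ C :=
      Subgroup.normalClosure_le_normal (Set.singleton_subset_iff.mpr hz)
    refine ⟨⟨fun a b => ?_⟩⟩
    apply Subtype.ext
    have ha := hle a.2
    have hb := hle b.2
    have := Subgroup.mem_centralizer_iff.mp (Subgroup.mem_inf.mp hb).2 a (Subgroup.mem_inf.mp ha).1
    exact this
  · have hzF : z ∈ fittingSubgroup G := by
      rw [h.fitting_eq]; exact (Subgroup.mem_inf.mp hz).1
    unfold generalizedFittingSubgroup
    rw [h.layer_eq_bot_of_mem_fitting hzF, h.fitting_eq, bot_sup_eq]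

end Cfsg.Agent.Helper27.LES
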