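import Mathlib
import Cfsg.Agent.S5427
import Cfsg.Agent.Helper3.LargePair
import Cfsg.Agent.Helper3.LargeES2

/-!
# Towards S5429: the configuration `t ∈ Q ∩ Q^g`, fusion of `g z g⁻¹` to `z` inside `C(t)`
-/

set_option autoImplicit false
set_option linter.style.haveILetI false
set_option linter.unusedSectionVars false

namespace Cfsg.Agent.Helper27.LES

open Cfsg Subgroup Cfsg.Agent.Helper3 Cfsg.Agent.Helper3.LargeES Cfsg.Agent.Helper3.LargePair

variable {G : Type*} [Group G]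

/-- the configuration of S5429: `a = g z g⁻¹ ∈ Q - Z`, `t ∈ Q ∩ Q^g` an involution not conjugate
to `z`. -/
structure TCfg (Q : Subgroup G) (z g t : G) : Prop where
  les : LES Q z
  aQ : g * z * g⁻¹ ∈ Q
  az : g * z * g⁻¹ ≠ z
  tQ : t ∈ Q
  tQg : t ∈ Q.map (MulAut.conj g).toMonoidHom
  tt : t * t = 1
  t1 : t ≠ 1
  ncj : ¬ IsConj z t

namespace TCfg

variable {Q : Subgroup G} {z g t : G}

theorem lesg (c : TCfg Q z g t) : LES (Q.map (MulAut.conj g).toMonoidHom) (g * z * g⁻¹) :=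
  c.les.conj g

theorem aa (c : TCfg Q z g t) : (g * z * g⁻¹) * (g * z * g⁻¹) = 1 := c.lesg.zz

theorem a1 (c : TCfg Q z g t) : g * z * g⁻¹ ≠ 1 := c.lesg.ne_one

theorem tz (c : TCfg Q z g t) : t ≠ z := by
  intro h
  apply c.ncj
  rw [h]

theorem ta (c : TCfg Q z g t) : t ≠ g * z * g⁻¹ := by
  intro h
  apply c.ncj
  rw [h]
  exact isConj_iff.mpr ⟨g, rfl⟩

/-- `t z` is conjugate to `t`, hence not to `z` -/
theorem ncj_tz (c : TCfg Q z g t) (x : G) : x * z * x⁻¹ ≠ t * z := by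
  intro h
  obtain ⟨y, hy, hyt⟩ := c.les.exists_conj c.tQ c.t1 c.tz
  apply c.ncj
  rw [isConj_iff]
  refine ⟨y⁻¹ * x, ?_⟩
  calc y⁻¹ * x * z * (y⁻¹ * x)⁻¹ = y⁻¹ * (x * z * x⁻¹) * y := by group
    _ = y⁻¹ * (t * z) * y := by rw [h]
    _ = y⁻¹ * (y * t * y⁻¹) * y := by rw [hyt]
    _ = t := by group

/-- `t a` is conjugate to `t`, hence not to `z` -/
theorem ncj_ta (c : TCfg Q z g t) (x : G) : x * z * x⁻¹ ≠ t * (g * z * g⁻¹) := by
  intro h
  obtain ⟨y, hy, hyt⟩ := c.lesg.exists_conj c.tQg c.t1 c.ta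
  apply c.ncj
  rw [isConj_iff]
  refine ⟨y⁻¹ * x, ?_⟩
  calc y⁻¹ * x * z * (y⁻¹ * x)⁻¹ = y⁻¹ * (x * z * x⁻¹) * y := by group
    _ = y⁻¹ * (t * (g * z * g⁻¹)) * y := by rw [h]
    _ = y⁻¹ * (y * t * y⁻¹) * y := by rw [hyt]
    _ = t := by group

theorem zt (c : TCfg Q z g t) : z * t = t * z := (c.les.central c.tQ).symm

theorem at_comm (c : TCfg Q z g t) : (g * z * g⁻¹) * t = t * (g * z * g⁻¹) :=
  (c.lesg.central c.tQg).symm

variable [Finite G]

/-- `z ∈ Q^g` -/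
theorem zQg (c : TCfg Q z g t) : z ∈ Q.map (MulAut.conj g).toMonoidHom := by
  obtain ⟨q, hq, hqz⟩ := mem_conj_of_conj_mem c.les.es c.les.cent c.les.norm g c.az c.aQ
  exact ⟨q, hq, hqz⟩

/-- some element of `C_Q(t)` does not commute with `a` -/
theorem exists_q (c : TCfg Q z g t) :
    ∃ q ∈ Q, q * t = t * q ∧ q * (g * z * g⁻¹) * q⁻¹ = (g * z * g⁻¹) * z := by
  by_contra hcon
  push Not at hcon
  have hall : ∀ y ∈ Q, y * t = t * y → (g * z * g⁻¹) * y = y * (g * z * g⁻¹) := by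
    intro y hy hyt
    rcases c.les.conj_cases hy c.aQ with h1 | h1
    · calc (g * z * g⁻¹) * y = (y * (g * z * g⁻¹) * y⁻¹) * y := by rw [h1]
        _ = y * (g * z * g⁻¹) := by group
    · exact absurd h1 (hcon y hy hyt)
  rcases sub_double_centralizer c.les.es c.tQ c.aQ hall with h1 | h1 | h1 | h1
  · exact c.a1 h1
  · exact c.az h1
  · exact c.ta h1.symm
  · exact c.ncj_tz g h1

/-- some element of `C_{Q^g}(t)` does not commute with `z` -/
theorem exists_q' (c : TCfg Q z g t) :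
    ∃ q ∈ Q.map (MulAut.conj g).toMonoidHom, q * t = t * q ∧
      q * z * q⁻¹ = z * (g * z * g⁻¹) := by
  by_contra hcon
  push Not at hcon
  have hall : ∀ y ∈ Q.map (MulAut.conj g).toMonoidHom, y * t = t * y → z * y = y * z := by
    intro y hy hyt
    rcases c.lesg.conj_cases hy c.zQg with h1 | h1
    · calc z * y = (y * z * y⁻¹) * y := by rw [h1]
        _ = y * z := by group
    · exact absurd h1 (hcon y hy hyt)
  rcases sub_double_centralizer c.lesg.es c.tQg c.zQg hall with h1 | h1 | h1 | h1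
  · exact c.les.ne_one h1
  · exact c.az h1.symm
  · exact c.tz h1.symm
  · apply c.ncj_ta 1
    simpa using h1

/-- part (ii) of S5429: `a` is conjugate to `z` inside `⟨C_Q(t), C_{Q^g}(t)⟩` -/
theorem exists_fuse (c : TCfg Q z g t) :
    ∃ x ∈ (Q ⊓ centralizer ({t} : Set G)) ⊔
        (Q.map (MulAut.conj g).toMonoidHom ⊓ centralizer ({t} : Set G)),
      x * (g * z * g⁻¹) * x⁻¹ = z := by
  obtain ⟨q, hq, hqt, hqa⟩ := c.exists_q
  obtain ⟨q', hq', hq't, hq'z⟩ := c.exists_q'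
  refine ⟨q' * q, ?_, ?_⟩
  · apply Subgroup.mul_mem
    · apply Subgroup.mem_sup_right
      exact Subgroup.mem_inf.mpr ⟨hq', Subgroup.mem_centralizer_singleton_iff.mpr hq't⟩
    · apply Subgroup.mem_sup_left
      exact Subgroup.mem_inf.mpr ⟨hq, Subgroup.mem_centralizer_singleton_iff.mpr hqt⟩
  · have hq'a : q' * (g * z * g⁻¹) * q'⁻¹ = g * z * g⁻¹ := by
      have := c.lesg.central hq'
      rw [this]; group
    have haz : (g * z * g⁻¹) * z = z * (g * z * g⁻¹) := c.les.central c.aQ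
    calc q' * q * (g * z * g⁻¹) * (q' * q)⁻¹
        = q' * (q * (g * z * g⁻¹) * q⁻¹) * q'⁻¹ := by group
      _ = q' * ((g * z * g⁻¹) * z) * q'⁻¹ := by rw [hqa]
      _ = (q' * (g * z * g⁻¹) * q'⁻¹) * (q' * z * q'⁻¹) := by group
      _ = (g * z * g⁻¹) * (z * (g * z * g⁻¹)) := by rw [hq'a, hq'z]
      _ = (g * z * g⁻¹) * ((g * z * g⁻¹) * z) := by rw [haz]
      _ = ((g * z * g⁻¹) * (g * z * g⁻¹)) * z := by group
      _ = z := by rw [c.aa, one_mul]

end TCfg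

end Cfsg.Agent.Helper27.LES
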