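import Mathlib
import Cfsg.Agent.S5396
import Cfsg.Agent.Helper3.ES2

/-!
# Quotient of a "doubled" extraspecial group `P = ⟨τ⟩ × (extraspecial)` by a central involution `τ`
(abstract form of `C_Q(t)⟨t⟩/⟨t⟩ ≤ C_G(t)/⟨t⟩`, towards S5429)
-/

set_option autoImplicit false
set_option linter.style.haveILetI false
set_option linter.unusedSectionVars false

namespace Cfsg.Agent.Helper27.LES

open Cfsg Subgroup Cfsg.Agent.Helper3

/-- abstract hypotheses on `P ≤ H`, `N = {1, τ}` central, `ζ ∈ P` -/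
structure QSetup {H : Type*} [Group H] (P N : Subgroup H) (ζ τ : H) : Prop where
  hN : ∀ x : H, x ∈ N ↔ x = 1 ∨ x = τ
  τc : ∀ x : H, x * τ = τ * x
  ττ : τ * τ = 1
  τ1 : τ ≠ 1
  τP : τ ∈ P
  ζP : ζ ∈ P
  ζ1 : ζ ≠ 1
  ζτ : ζ ≠ τ
  ζζ : ζ * ζ = 1
  cen : ∀ p ∈ P, p * ζ = ζ * p
  comm : ∀ p ∈ P, ∀ p' ∈ P, p * p' = p' * p ∨ p * p' = p' * p * ζ
  sq : ∀ p ∈ P, p * p = 1 ∨ p * p = ζ
  dc : ∀ p ∈ P, (∀ p' ∈ P, p * p' = p' * p) → p = 1 ∨ p = ζ ∨ p = τ ∨ p = τ * ζ
  nonab : ∃ p ∈ P, ∃ p' ∈ P, p * p' ≠ p' * p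
  fus : ∀ c : H, c * ζ * c⁻¹ ≠ ζ * τ
  nrm : ∀ c : H, c * ζ = ζ * c → ∀ p ∈ P, c * p * c⁻¹ ∈ P
  cp : ∀ c : H, c * ζ = ζ * c → (∀ p ∈ P, c * p * c⁻¹ = p ∨ c * p * c⁻¹ = p * τ) → c ∈ P

namespace QSetup

variable {H : Type*} [Group H] {P N : Subgroup H} [N.Normal] {ζ τ : H}

local notation "π" => QuotientGroup.mk' N

theorem τinv (s : QSetup P N ζ τ) : τ⁻¹ = τ := inv_eq_of_mul_eq_one_left s.ττ

theorem mk_eq (s : QSetup P N ζ τ) (x y : H) : π x = π y ↔ y = x ∨ y = x * τ := by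
  rw [QuotientGroup.mk'_apply, QuotientGroup.mk'_apply, QuotientGroup.eq, s.hN]
  constructor
  · rintro (h | h)
    · left
      have : y = x * (x⁻¹ * y) := by group
      rw [this, h, mul_one]
    · right
      have : y = x * (x⁻¹ * y) := by group
      rw [this, h]
  · rintro (h | h)
    · left; rw [h]; group
    · right; rw [h]; group

theorem mk_eq_one (s : QSetup P N ζ τ) (x : H) : π x = 1 ↔ x = 1 ∨ x = τ := by
  rw [QuotientGroup.mk'_apply, QuotientGroup.eq_one_iff, s.hN]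

theorem mk_τ (s : QSetup P N ζ τ) : π τ = 1 := (s.mk_eq_one τ).mpr (Or.inr rfl)

/-- the image of `ζ` in `P̄` -/
def ζb (s : QSetup P N ζ τ) : ↥(P.map π) := ⟨π ζ, Subgroup.mem_map_of_mem _ s.ζP⟩

theorem comm_of_mk (s : QSetup P N ζ τ) {p p' : H} (hp : p ∈ P) (hp' : p' ∈ P)
    (h : π (p * p') = π (p' * p)) : p * p' = p' * p := by
  rcases (s.mk_eq _ _).mp h with h1 | h1
  · exact h1.symm
  · exfalso
    rcases s.comm p hp p' hp' with h2 | h2
    · rw [h2] at h1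
      apply s.τ1
      have : p' * p * 1 = p' * p * τ := by rw [mul_one]; exact h1
      exact (mul_left_cancel this).symm
    · rw [h2] at h1
      apply s.ζτ
      have h3 : p' * p * 1 = p' * p * (ζ * τ) := by rw [mul_one, ← mul_assoc]; exact h1
      have h4 : ζ * τ = 1 := (mul_left_cancel h3).symm
      calc ζ = ζ * (τ * τ) := by rw [s.ττ, mul_one]
        _ = (ζ * τ) * τ := by group
        _ = τ := by rw [h4, one_mul]

theorem es2 (s : QSetup P N ζ τ) : ES2 ↥(P.map π) s.ζb := by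
  refine ⟨?_, ?_, ?_, ?_, ?_, ?_⟩
  · intro h
    have := congrArg Subtype.val h
    change π ζ = 1 at this
    rcases (s.mk_eq_one ζ).mp this with h1 | h1
    · exact s.ζ1 h1
    · exact s.ζτ h1
  · intro a
    obtain ⟨p, hp, hpa⟩ := a.2
    apply Subtype.ext
    change (a : H ⧸ N) * π ζ = π ζ * (a : H ⧸ N)
    rw [← hpa, ← map_mul, ← map_mul, s.cen p hp]
  · intro a ha
    obtain ⟨p, hp, hpa⟩ := a.2
    have hcomm : ∀ p' ∈ P, p * p' = p' * p := by
      intro p' hp'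
      apply s.comm_of_mk hp hp'
      have := congrArg Subtype.val (ha ⟨π p', Subgroup.mem_map_of_mem _ hp'⟩)
      change (a : H ⧸ N) * π p' = π p' * (a : H ⧸ N) at this
      rw [← hpa] at this
      rw [map_mul, map_mul, this]
    rcases s.dc p hp hcomm with h1 | h1 | h1 | h1
    · left
      apply Subtype.ext
      rw [← hpa, h1, map_one]; rfl
    · right
      apply Subtype.ext
      rw [← hpa, h1]; rfl
    · left
      apply Subtype.ext
      rw [← hpa, h1, s.mk_τ]; rfl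
    · right
      apply Subtype.ext
      rw [← hpa, h1, map_mul, s.mk_τ, one_mul]; rfl
  · intro a
    obtain ⟨p, hp, hpa⟩ := a.2
    rcases s.sq p hp with h1 | h1
    · left
      apply Subtype.ext
      rw [Subgroup.coe_pow, ← hpa, ← map_pow, pow_two, h1, map_one]; rfl
    · right
      apply Subtype.ext
      rw [Subgroup.coe_pow, ← hpa, ← map_pow, pow_two, h1]; rfl
  · intro a b
    obtain ⟨p, hp, hpa⟩ := a.2
    obtain ⟨p', hp', hpb⟩ := b.2
    rcases s.comm p hp p' hp' with h1 | h1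
    · left
      apply Subtype.ext
      rw [Subgroup.coe_mul, Subgroup.coe_mul, ← hpa, ← hpb, ← map_mul, ← map_mul, h1]
    · right
      apply Subtype.ext
      rw [Subgroup.coe_mul, Subgroup.coe_mul, Subgroup.coe_mul, ← hpa, ← hpb, ← map_mul, h1,
        map_mul, map_mul]
      rfl
  · obtain ⟨p, hp, p', hp', hne⟩ := s.nonab
    refine ⟨⟨π p, Subgroup.mem_map_of_mem _ hp⟩, ⟨π p', Subgroup.mem_map_of_mem _ hp'⟩, ?_⟩
    intro h
    apply hne
    apply s.comm_of_mk hp hp'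
    have := congrArg Subtype.val h
    rw [map_mul, map_mul]
    exact this

end QSetup

end Cfsg.Agent.Helper27.LES
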