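import Mathlib
import Cfsg.Agent.Helper27.LES8

/-!
# `P̄ ≤ H/N`: centralizer, normalizer, order (towards S5429)
-/

set_option autoImplicit false
set_option linter.style.haveILetI false
set_option linter.unusedSectionVars false

namespace Cfsg.Agent.Helper27.LES

open Cfsg Subgroup Cfsg.Agent.Helper3

namespace QSetup

variable {H : Type*} [Group H] {P N : Subgroup H} [N.Normal] {ζ τ : H}

local notation "π" => QuotientGroup.mk' N

theorem isExtraspecial [Finite H] (s : QSetup P N ζ τ) : Cfsg.IsExtraspecial 2 ↥(P.map π) :=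
  Cfsg.Agent.S5396.isExtraspecial_of_es2 s.es2

/-- elements of the centre of `P̄` -/
theorem mem_center_image (s : QSetup P N ζ τ) (x : H ⧸ N) :
    x ∈ (center ↥(P.map π)).map (P.map π).subtype ↔ x = 1 ∨ x = π ζ := by
  constructor
  · rintro ⟨a, ha, rfl⟩
    rcases s.es2.center_sub a (fun b => (Subgroup.mem_center_iff.mp ha b).symm) with h1 | h1
    · left; rw [h1]; rfl
    · right; rw [h1]; rfl
  · rintro (rfl | rfl)
    · exact one_mem _
    · exact ⟨s.ζb, Subgroup.mem_center_iff.mpr (fun b => (s.es2.central b)), rfl⟩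

theorem center_image_eq (s : QSetup P N ζ τ) :
    (center ↥(P.map π)).map (P.map π).subtype = zpowers (π ζ) := by
  ext x
  rw [s.mem_center_image]
  have hsq : π ζ * π ζ = 1 := by rw [← map_mul, s.ζζ, map_one]
  constructor
  · rintro (rfl | rfl)
    · exact one_mem _
    · exact Subgroup.mem_zpowers _
  · intro hx
    obtain ⟨k, rfl⟩ := Subgroup.mem_zpowers_iff.mp hx
    have hinv : (π ζ)⁻¹ = π ζ := inv_eq_of_mul_eq_one_left hsq
    rcases Int.even_or_odd k with ⟨m, rfl⟩ | ⟨m, rfl⟩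
    · left
      rw [← two_mul, zpow_mul, zpow_ofNat, pow_two, hsq, one_zpow]
    · right
      rw [zpow_add, zpow_mul, zpow_ofNat, pow_two, hsq, one_zpow, one_mul, zpow_one]

theorem conj_cases (s : QSetup P N ζ τ) {c p : H} (h : π p * π c = π c * π p) :
    c * p * c⁻¹ = p ∨ c * p * c⁻¹ = p * τ := by
  have h1 : π (c * p * c⁻¹) = π p := by
    rw [map_mul, map_mul, map_inv, ← h]; group
  rcases (s.mk_eq _ _).mp h1 with h2 | h2
  · left; exact h2.symm
  · right
    -- p = c p c⁻¹ τ  ⇒ c p c⁻¹ = p τ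
    calc c * p * c⁻¹ = (c * p * c⁻¹ * τ) * τ := by rw [mul_assoc _ τ τ, s.ττ, mul_one]
      _ = p * τ := by rw [← h2]

theorem comm_ζ_of_mk (s : QSetup P N ζ τ) {c : H} (h : π ζ * π c = π c * π ζ) :
    c * ζ = ζ * c := by
  rcases s.conj_cases h with h1 | h1
  · calc c * ζ = (c * ζ * c⁻¹) * c := by group
      _ = ζ * c := by rw [h1]
  · exact absurd h1 (s.fus c)

theorem centralizer_eq (s : QSetup P N ζ τ) :
    centralizer ((P.map π : Subgroup (H ⧸ N)) : Set (H ⧸ N))
      = (center ↥(P.map π)).map (P.map π).subtype := by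
  apply le_antisymm
  · intro x hx
    obtain ⟨c, rfl⟩ := QuotientGroup.mk'_surjective N x
    have hcomm : ∀ p ∈ P, π p * π c = π c * π p := fun p hp =>
      Subgroup.mem_centralizer_iff.mp hx (π p) (Subgroup.mem_map_of_mem _ hp)
    have hcζ := s.comm_ζ_of_mk (hcomm ζ s.ζP)
    have hcP : c ∈ P := s.cp c hcζ (fun p hp => s.conj_cases (hcomm p hp))
    refine ⟨⟨π c, Subgroup.mem_map_of_mem _ hcP⟩, ?_, rfl⟩
    rw [SetLike.mem_coe, Subgroup.mem_center_iff]
    intro b
    apply Subtype.ext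
    exact Subgroup.mem_centralizer_iff.mp hx b b.2
  · rintro x ⟨a, ha, rfl⟩
    rw [Subgroup.mem_centralizer_iff]
    intro y hy
    have := Subgroup.mem_center_iff.mp ha ⟨y, hy⟩
    exact congrArg Subtype.val this

theorem centralizer_center_le (s : QSetup P N ζ τ) :
    centralizer (((center ↥(P.map π)).map (P.map π).subtype : Subgroup (H ⧸ N)) : Set (H ⧸ N))
      ≤ normalizer ((P.map π : Subgroup (H ⧸ N)) : Set (H ⧸ N)) := by
  intro x hx
  obtain ⟨c, rfl⟩ := QuotientGroup.mk'_surjective N x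
  have h1 : π ζ * π c = π c * π ζ :=
    Subgroup.mem_centralizer_iff.mp hx (π ζ) ((s.mem_center_image _).mpr (Or.inr rfl))
  have hcζ := s.comm_ζ_of_mk h1
  have hcζ' : c⁻¹ * ζ = ζ * c⁻¹ := by
    have : c⁻¹ * (c * ζ) * c⁻¹ = c⁻¹ * (ζ * c) * c⁻¹ := by rw [hcζ]
    simpa [mul_assoc] using this.symm
  rw [Subgroup.mem_normalizer_iff]
  intro y
  constructor
  · rintro ⟨p, hp, rfl⟩
    refine ⟨c * p * c⁻¹, s.nrm c hcζ p hp, ?_⟩
    rw [map_mul, map_mul, map_inv]
  · rintro ⟨p, hp, hpy⟩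
    refine ⟨c⁻¹ * p * c, ?_, ?_⟩
    · have := s.nrm c⁻¹ hcζ' p hp
      rwa [inv_inv] at this
    · rw [map_mul, map_mul, map_inv, hpy]; group

theorem card_map [Finite H] (s : QSetup P N ζ τ) : Nat.card ↥(P.map π) * 2 = Nat.card ↥P := by
  set f : ↥P →* H ⧸ N := (π).comp P.subtype with hf
  have hrange : f.range = P.map π := by
    rw [hf, MonoidHom.range_comp, Subgroup.range_subtype]
  have hker : Nat.card ↥f.ker = 2 := by
    have hmem : ∀ x : ↥P, x ∈ f.ker ↔ x = 1 ∨ x = ⟨τ, s.τP⟩ := by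
      intro x
      rw [MonoidHom.mem_ker]
      change π (x : H) = 1 ↔ _
      rw [s.mk_eq_one]
      constructor
      · rintro (h | h)
        · left; exact Subtype.ext h
        · right; exact Subtype.ext h
      · rintro (h | h)
        · left; rw [h]; rfl
        · right; rw [h]
    have hτ1 : (⟨τ, s.τP⟩ : ↥P) ≠ 1 := fun h => s.τ1 (congrArg Subtype.val h)
    have : f.ker = zpowers (⟨τ, s.τP⟩ : ↥P) := by
      ext x
      rw [hmem]
      have hsq : (⟨τ, s.τP⟩ : ↥P) * ⟨τ, s.τP⟩ = 1 := Subtype.ext s.ττ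
      constructor
      · rintro (rfl | rfl)
        · exact one_mem _
        · exact Subgroup.mem_zpowers _
      · intro hx
        obtain ⟨k, rfl⟩ := Subgroup.mem_zpowers_iff.mp hx
        rcases Int.even_or_odd k with ⟨m, rfl⟩ | ⟨m, rfl⟩
        · left
          rw [← two_mul, zpow_mul, zpow_ofNat, pow_two, hsq, one_zpow]
        · right
          rw [zpow_add, zpow_mul, zpow_ofNat, pow_two, hsq, one_zpow, one_mul, zpow_one]
    rw [this, Nat.card_zpowers]
    exact orderOf_eq_prime (by rw [pow_two]; exact Subtype.ext s.ττ) hτ1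
  have h1 := Subgroup.card_eq_card_quotient_mul_card_subgroup f.ker
  have h2 : Nat.card (↥P ⧸ f.ker) = Nat.card ↥f.range :=
    Nat.card_congr (QuotientGroup.quotientKerEquivRange f).toEquiv
  rw [h2, hker, hrange] at h1
  exact h1.symm

end QSetup

end Cfsg.Agent.Helper27.LES
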