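import Mathlib
import Cfsg.Agent.Helper27.LES7
import Cfsg.Agent.Helper27.LES9
import Cfsg.Agent.Helper3.SylowSubnormal
import Cfsg.Agent.S5422

/-!
# S5429: `C_Q(t)⟨t⟩/⟨t⟩` is a large extraspecial subgroup of `C_G(t)/⟨t⟩`
-/

set_option autoImplicit false
set_option linter.style.haveILetI false
set_option linter.unusedSectionVars false

namespace Cfsg.Agent.Helper27.LES

open Cfsg Subgroup Cfsg.Agent.Helper3 Cfsg.Agent.Helper3.LargeES Cfsg.Agent.Helper3.LargePair

variable {G : Type*} [Group G] [Finite G] {Q : Subgroup G} {z g t : G}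

namespace TCfg

/-- some element of `Q` does not commute with `t` -/
theorem exists_noncomm (c : TCfg Q z g t) : ∃ y ∈ Q, y * t ≠ t * y := by
  obtain ⟨y, hy, hyt⟩ := c.les.exists_conj c.tQ c.t1 c.tz
  refine ⟨y, hy, ?_⟩
  intro h
  have : y * t * y⁻¹ = t := by rw [h]; group
  rw [this] at hyt
  have : t * 1 = t * z := by rw [mul_one]; exact hyt
  exact c.les.ne_one (mul_left_cancel this).symm

theorem card_P (c : TCfg Q z g t) :
    Nat.card ↥(Q ⊓ centralizer ({t} : Set G) : Subgroup G) * 2 = Nat.card ↥Q := by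
  obtain ⟨y, hy, hyt⟩ := c.exists_noncomm
  set H₀ : Subgroup ↥Q := (centralizer ({t} : Set G)).subgroupOf Q with hH₀
  have hmem : ∀ b : ↥Q, b ∈ H₀ ↔ (b : G) * t = t * (b : G) := by
    intro b
    rw [hH₀, Subgroup.mem_subgroupOf, Subgroup.mem_centralizer_singleton_iff]
  have hidx : H₀.index = 2 := by
    rw [Subgroup.index_eq_two_iff_exists_notMem_and]
    refine ⟨⟨y, hy⟩, ?_, ?_⟩
    · rw [hmem]; exact hyt
    · intro b
      by_cases hb : b ∈ H₀
      · exact Or.inr hb
      · left
        rw [hmem] at hb ⊢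
        have hb' : (b : G)⁻¹ * t ≠ t * (b : G)⁻¹ := by
          intro h
          apply hb
          have : (b : G) * ((b : G)⁻¹ * t) * (b : G) = (b : G) * (t * (b : G)⁻¹) * (b : G) := by
            rw [h]
          simpa [mul_assoc] using this.symm
        have := sub_index_two c.les.es c.tQ (Q.inv_mem b.2) hy hb' hyt
        rw [inv_inv] at this
        exact this
  have h1 := Subgroup.card_mul_index H₀
  rw [hidx, hH₀, Cfsg.Agent.Helper3.card_subgroupOf_eq_card_inf, inf_comm] at h1
  exact h1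

/-- `C_Q(t)` is nonabelian when `|Q| ≥ 32` -/
theorem nonab (c : TCfg Q z g t) (hcard : 32 ≤ Nat.card ↥Q) :
    ∃ p ∈ Q, p * t = t * p ∧ ∃ p' ∈ Q, p' * t = t * p' ∧ p * p' ≠ p' * p := by
  by_contra hcon
  push Not at hcon
  obtain ⟨y, hy, hyt⟩ := c.exists_noncomm
  -- every element of C_Q(t) is in {1, z, t, t z}
  have hP : ∀ p ∈ Q, p * t = t * p → p = 1 ∨ p = z ∨ p = t ∨ p = t * z := by
    intro p hp hpt
    apply sub_double_centralizer c.les.es c.tQ hp
    intro y' hy' hy't
    exact hcon p hp hpt y' hy' hy't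
  classical
  set l : List G := [1, z, t, t * z, y, y * z, y * t, y * (t * z)] with hl
  have hsub : (Q : Set G) ⊆ (l.toFinset : Set G) := by
    intro q hq
    rw [Finset.mem_coe, List.mem_toFinset, hl]
    by_cases hqt : q * t = t * q
    · rcases hP q hq hqt with h | h | h | h <;> simp [h]
    · have h1 := sub_index_two c.les.es c.tQ hy hq hyt hqt
      have h2 := hP (y⁻¹ * q) (Q.mul_mem (Q.inv_mem hy) hq) h1
      have hq' : q = y * (y⁻¹ * q) := by group
      rcases h2 with h | h | h | h <;> rw [hq', h] <;> simp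
  have h1 : Nat.card ↥Q ≤ l.toFinset.card := by
    have e1 : Nat.card ↥Q = (Q : Set G).ncard := Nat.card_coe_set_eq (Q : Set G)
    rw [e1, ← Set.ncard_coe_finset]
    exact Set.ncard_le_ncard hsub (Finset.finite_toSet _)
  have h2 : l.toFinset.card ≤ 8 := (List.toFinset_card_le l).trans (by simp [hl])
  omega

end TCfg

end Cfsg.Agent.Helper27.LES
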