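import Mathlib
import Cfsg.Agent.Helper27.LES10

/-!
# S5429: instantiating the quotient setup in `C_G(t)`
-/

set_option autoImplicit false
set_option linter.style.haveILetI false
set_option linter.unusedSectionVars false

namespace Cfsg.Agent.Helper27.LES

open Cfsg Subgroup Cfsg.Agent.Helper3 Cfsg.Agent.Helper3.LargeES Cfsg.Agent.Helper3.LargePair

variable {G : Type*} [Group G] [Finite G] {Q : Subgroup G} {z g t : G}

namespace TCfg

/-- `z` as an element of `C_G(t)` -/
def ζC (c : TCfg Q z g t) : ↥(centralizer ({t} : Set G)) :=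
  ⟨z, Subgroup.mem_centralizer_singleton_iff.mpr c.zt⟩

/-- `t` as an element of `C_G(t)` -/
def τC (t : G) : ↥(centralizer ({t} : Set G)) :=
  ⟨t, Subgroup.mem_centralizer_singleton_iff.mpr rfl⟩

theorem mem_zpowers_t (c : TCfg Q z g t) (x : G) : x ∈ zpowers t ↔ x = 1 ∨ x = t := by
  constructor
  · intro hx
    obtain ⟨k, rfl⟩ := Subgroup.mem_zpowers_iff.mp hx
    rcases Int.even_or_odd k with ⟨m, rfl⟩ | ⟨m, rfl⟩
    · left
      rw [← two_mul, zpow_mul, zpow_ofNat, pow_two, c.tt, one_zpow]
    · right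
      rw [zpow_add, zpow_mul, zpow_ofNat, pow_two, c.tt, one_zpow, one_mul, zpow_one]
  · rintro (rfl | rfl)
    · exact one_mem _
    · exact Subgroup.mem_zpowers _

theorem mem_closure_tz (c : TCfg Q z g t) : (1 : G) ∈ closure ({t, z} : Set G) ∧
    t ∈ closure ({t, z} : Set G) :=
  ⟨one_mem _, Subgroup.subset_closure (by simp)⟩

theorem qsetup (c : TCfg Q z g t)
    (hCP : ∀ x ∈ centralizer ({z} : Set G),
      (∀ p ∈ Q ⊓ centralizer ({t} : Set G), ∃ y ∈ closure ({t, z} : Set G),
        x * p * x⁻¹ = p * y) ↔ x ∈ Q)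
    (hcard : 32 ≤ Nat.card ↥Q) :
    QSetup ((Q ⊓ centralizer ({t} : Set G)).subgroupOf (centralizer ({t} : Set G)))
      ((zpowers t).subgroupOf (centralizer ({t} : Set G))) c.ζC (τC t) := by
  have hmemP : ∀ x : ↥(centralizer ({t} : Set G)),
      x ∈ (Q ⊓ centralizer ({t} : Set G)).subgroupOf (centralizer ({t} : Set G)) ↔ (x : G) ∈ Q := by
    intro x
    rw [Subgroup.mem_subgroupOf, Subgroup.mem_inf]
    exact ⟨fun h => h.1, fun h => ⟨h, x.2⟩⟩
  have hxt : ∀ x : ↥(centralizer ({t} : Set G)), (x : G) * t = t * (x : G) := fun x =>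
    Subgroup.mem_centralizer_singleton_iff.mp x.2
  refine ⟨?_, ?_, ?_, ?_, ?_, ?_, ?_, ?_, ?_, ?_, ?_, ?_, ?_, ?_, ?_, ?_, ?_⟩
  · intro x
    rw [Subgroup.mem_subgroupOf, c.mem_zpowers_t]
    constructor
    · rintro (h | h)
      · left; exact Subtype.ext h
      · right; exact Subtype.ext h
    · rintro (h | h)
      · left; rw [h]; rfl
      · right; rw [h]; rfl
  · intro x; exact Subtype.ext (hxt x)
  · exact Subtype.ext c.tt
  · intro h; exact c.t1 (congrArg Subtype.val h)
  · rw [hmemP]; exact c.tQ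
  · rw [hmemP]; exact c.les.mem
  · intro h; exact c.les.ne_one (congrArg Subtype.val h)
  · intro h; exact c.tz (congrArg Subtype.val h).symm
  · exact Subtype.ext c.les.zz
  · intro p hp
    exact Subtype.ext (c.les.central ((hmemP p).mp hp))
  · intro p hp p' hp'
    rcases c.les.comm_cases ((hmemP p).mp hp) ((hmemP p').mp hp') with h | h
    · left; exact Subtype.ext h
    · right; exact Subtype.ext h
  · intro p hp
    rcases c.les.sq_cases ((hmemP p).mp hp) with h | h
    · left; exact Subtype.ext h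
    · right; exact Subtype.ext h
  · intro p hp hall
    have := sub_double_centralizer c.les.es c.tQ ((hmemP p).mp hp) (fun y hy hyt => by
      have hyC : y ∈ centralizer ({t} : Set G) := Subgroup.mem_centralizer_singleton_iff.mpr hyt
      have := hall ⟨y, hyC⟩ ((hmemP _).mpr hy)
      exact congrArg Subtype.val this)
    rcases this with h | h | h | h
    · left; exact Subtype.ext h
    · right; left; exact Subtype.ext h
    · right; right; left; exact Subtype.ext h
    · right; right; right; exact Subtype.ext h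
  · obtain ⟨p, hp, hpt, p', hp', hp't, hne⟩ := c.nonab hcard
    refine ⟨⟨p, Subgroup.mem_centralizer_singleton_iff.mpr hpt⟩, (hmemP _).mpr hp,
      ⟨p', Subgroup.mem_centralizer_singleton_iff.mpr hp't⟩, (hmemP _).mpr hp', ?_⟩
    intro h
    exact hne (congrArg Subtype.val h)
  · intro x h
    have := congrArg Subtype.val h
    apply c.ncj_tz (x : G)
    change (x : G) * z * (x : G)⁻¹ = z * t at this
    rw [this, c.zt]
  · intro x hxz p hp
    rw [hmemP] at hp ⊢
    have hxz' : (x : G) * z = z * (x : G) := congrArg Subtype.val hxz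
    exact c.les.norm (x : G) hxz' p hp
  · intro x hxz hall
    rw [hmemP]
    have hxz' : (x : G) * z = z * (x : G) := congrArg Subtype.val hxz
    have hxC : (x : G) ∈ centralizer ({z} : Set G) :=
      Subgroup.mem_centralizer_singleton_iff.mpr hxz'
    apply (hCP (x : G) hxC).mp
    intro p hp
    obtain ⟨hpQ, hpC⟩ := Subgroup.mem_inf.mp hp
    rcases hall ⟨p, hpC⟩ ((hmemP _).mpr hpQ) with h | h
    · refine ⟨1, c.mem_closure_tz.1, ?_⟩
      rw [mul_one]
      exact congrArg Subtype.val h
    · refine ⟨t, c.mem_closure_tz.2, ?_⟩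
      exact congrArg Subtype.val h

end TCfg

end Cfsg.Agent.Helper27.LES
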