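import Mathlib
import Cfsg.Agent.Helper27.LES11

/-!
# S5429: final assembly
-/

set_option autoImplicit false
set_option linter.style.haveILetI false
set_option linter.unusedSectionVars false

namespace Cfsg.Agent.Helper27.LES

open Cfsg Subgroup Cfsg.Agent.Helper3 Cfsg.Agent.Helper3.LargeES Cfsg.Agent.Helper3.LargePair

variable {G : Type*} [Group G] [Finite G] {Q : Subgroup G} {z g t : G}

namespace TCfg

theorem large (c : TCfg Q z g t)
    (hCP : ∀ x ∈ centralizer ({z} : Set G),
      (∀ p ∈ Q ⊓ centralizer ({t} : Set G), ∃ y ∈ closure ({t, z} : Set G),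
        x * p * x⁻¹ = p * y) ↔ x ∈ Q)
    (w : ℕ) (hw : 3 ≤ w) (hcard : Nat.card ↥Q = 2 ^ (2 * w + 1))
    [hn : ((zpowers t).subgroupOf (centralizer ({t} : Set G))).Normal] :
    Cfsg.IsLargeExtraspecial
      (((Q ⊓ centralizer ({t} : Set G)).subgroupOf (centralizer ({t} : Set G))).map
        (QuotientGroup.mk' ((zpowers t).subgroupOf (centralizer ({t} : Set G))))) := by
  have h32 : 32 ≤ Nat.card ↥Q := by
    rw [hcard]
    calc 32 = 2 ^ 5 := by norm_num
      _ ≤ 2 ^ (2 * w + 1) := Nat.pow_le_pow_right (by norm_num) (by omega)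
  have s := c.qsetup hCP h32
  set N := (zpowers t).subgroupOf (centralizer ({t} : Set G)) with hN
  set P' := (Q ⊓ centralizer ({t} : Set G)).subgroupOf (centralizer ({t} : Set G)) with hP'
  -- the fusing element
  obtain ⟨x, hx, hxa⟩ := c.exists_fuse
  have hxC : x ∈ centralizer ({t} : Set G) := by
    have : (Q ⊓ centralizer ({t} : Set G)) ⊔
        (Q.map (MulAut.conj g).toMonoidHom ⊓ centralizer ({t} : Set G)) ≤
        centralizer ({t} : Set G) := sup_le inf_le_right inf_le_right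
    exact this hx
  have haC : g * z * g⁻¹ ∈ centralizer ({t} : Set G) :=
    Subgroup.mem_centralizer_singleton_iff.mpr c.at_comm
  set a' : ↥(centralizer ({t} : Set G)) := ⟨g * z * g⁻¹, haC⟩ with ha'
  set x' : ↥(centralizer ({t} : Set G)) := ⟨x, hxC⟩ with hx'
  have hconj : x'⁻¹ * c.ζC * x'⁻¹⁻¹ = a' := by
    apply Subtype.ext
    change x⁻¹ * z * x⁻¹⁻¹ = g * z * g⁻¹
    calc x⁻¹ * z * x⁻¹⁻¹ = x⁻¹ * (x * (g * z * g⁻¹) * x⁻¹) * x := by rw [hxa, inv_inv]
      _ = g * z * g⁻¹ := by group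
  have ha'P : a' ∈ P' := by
    rw [hP', Subgroup.mem_subgroupOf, Subgroup.mem_inf]
    exact ⟨c.aQ, haC⟩
  -- a' is none of 1, τ, ζ, ζ τ
  have hnot : ¬ (QuotientGroup.mk' N a' = 1 ∨ QuotientGroup.mk' N a' = QuotientGroup.mk' N c.ζC) := by
    rintro (h | h)
    · rcases (s.mk_eq_one a').mp h with h1 | h1
      · exact c.a1 (congrArg Subtype.val h1)
      · exact c.ta (congrArg Subtype.val h1).symm
    · rcases (s.mk_eq a' c.ζC).mp h with h1 | h1
      · exact c.az (congrArg Subtype.val h1).symm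
      · have h2 : z = (g * z * g⁻¹) * t := congrArg Subtype.val h1
        apply c.ncj_tz g
        calc g * z * g⁻¹ = ((g * z * g⁻¹) * t) * t := by
              rw [mul_assoc (g * z * g⁻¹) t t, c.tt, mul_one]
          _ = z * t := by rw [← h2]
          _ = t * z := c.zt
  have hcardPb : Nat.card ↥(P'.map (QuotientGroup.mk' N)) = 2 ^ (2 * (w - 1) + 1) := by
    have h1 := s.card_map
    have h2 : Nat.card ↥P' = Nat.card ↥(Q ⊓ centralizer ({t} : Set G) : Subgroup G) :=
      Nat.card_congr (Subgroup.subgroupOfEquivOfLe inf_le_right).toEquiv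
    have h3 := c.card_P
    rw [hcard] at h3
    have h4 : 2 ^ (2 * w + 1) = 2 ^ (2 * (w - 1) + 1) * 4 := by
      have : 2 * w + 1 = (2 * (w - 1) + 1) + 2 := by omega
      rw [this, pow_add]; norm_num
    rw [h2] at h1
    omega
  have hgb : (QuotientGroup.mk' N x'⁻¹) * (QuotientGroup.mk' N c.ζC) * (QuotientGroup.mk' N x'⁻¹)⁻¹
      = QuotientGroup.mk' N a' := by
    rw [← map_inv, ← map_mul, ← map_mul, hconj]
  have key := Cfsg.Agent.S5422.result (P'.map (QuotientGroup.mk' N)) s.isExtraspecial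
    s.centralizer_eq s.centralizer_center_le (w - 1) (by omega) hcardPb
    (QuotientGroup.mk' N x'⁻¹) ?_ ?_
  · exact key.2.2
  · -- not in the normalizer of the centre
    intro hmem
    rw [s.center_image_eq] at hmem
    have h1 := (Subgroup.mem_normalizer_iff.mp hmem (QuotientGroup.mk' N c.ζC)).mp
      (Subgroup.mem_zpowers _)
    rw [hgb, ← s.center_image_eq, s.mem_center_image] at h1
    exact hnot h1
  · rw [s.center_image_eq, MonoidHom.map_zpowers, Subgroup.zpowers_le]
    change (QuotientGroup.mk' N x'⁻¹) * (QuotientGroup.mk' N c.ζC) * (QuotientGroup.mk' N x'⁻¹)⁻¹ ∈ _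
    rw [hgb]
    exact Subgroup.mem_map_of_mem _ ha'P

end TCfg

end Cfsg.Agent.Helper27.LES
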