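import Mathlib
import Cfsg.Agent.S5396
import Cfsg.Agent.Helper3.ES2

/-!
# Image of an extraspecial 2-subgroup `P` modulo a normal subgroup `N` without 2-torsion
centralized by `P`, in `H = C_H(N) N` (abstract form of `R A / A ≤ C_G(A) A / A`, towards S5428)
-/

set_option autoImplicit false
set_option linter.style.haveILetI false
set_option linter.unusedSectionVars false

namespace Cfsg.Agent.Helper27.LES

open Cfsg Subgroup Cfsg.Agent.Helper3

/-- abstract hypotheses on `P ≤ H`, `N` normal without involutions, `ζ ∈ P` -/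
structure OSetup {H : Type*} [Group H] (P N : Subgroup H) (ζ : H) : Prop where
  ζP : ζ ∈ P
  ζ1 : ζ ≠ 1
  ζζ : ζ * ζ = 1
  cen : ∀ p ∈ P, p * ζ = ζ * p
  comm : ∀ p ∈ P, ∀ p' ∈ P, p * p' = p' * p ∨ p * p' = p' * p * ζ
  sq : ∀ p ∈ P, p * p = 1 ∨ p * p = ζ
  dc : ∀ p ∈ P, (∀ p' ∈ P, p * p' = p' * p) → p = 1 ∨ p = ζ
  nonab : ∃ p ∈ P, ∃ p' ∈ P, p * p' ≠ p' * p
  tf : ∀ n ∈ N, n ^ 2 = 1 → n = 1
  cPN : ∀ p ∈ P, ∀ n ∈ N, p * n = n * p
  dec : ∀ h : H, ∃ c : H, (∀ n ∈ N, c * n = n * c) ∧ c⁻¹ * h ∈ N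
  cp : ∀ c : H, (∀ n ∈ N, c * n = n * c) → (∀ p ∈ P, c * p = p * c) → c ∈ N ∨ ζ⁻¹ * c ∈ N
  nrm : ∀ c : H, (∀ n ∈ N, c * n = n * c) → c * ζ = ζ * c → ∀ p ∈ P, c * p * c⁻¹ ∈ P

namespace OSetup

variable {H : Type*} [Group H] {P N : Subgroup H} [N.Normal] {ζ : H}

local notation "π" => QuotientGroup.mk' N

theorem pow_four (s : OSetup P N ζ) {p : H} (hp : p ∈ P) : p ^ 4 = 1 := by
  have h4 : p ^ 4 = (p * p) * (p * p) := by
    rw [show (4 : ℕ) = 2 + 2 from rfl, pow_add, pow_two]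
  rw [h4]
  rcases s.sq p hp with h | h
  · rw [h, one_mul]
  · rw [h, s.ζζ]

theorem tf4 (s : OSetup P N ζ) {n : H} (hn : n ∈ N) (h : n ^ 4 = 1) : n = 1 := by
  apply s.tf n hn
  apply s.tf (n ^ 2) (N.pow_mem hn 2)
  rw [← pow_mul]
  exact h

theorem mk_eq (x y : H) : π x = π y ↔ x⁻¹ * y ∈ N := by
  rw [QuotientGroup.mk'_apply, QuotientGroup.mk'_apply, QuotientGroup.eq]

theorem mk_eq_one (x : H) : π x = 1 ↔ x ∈ N := by
  rw [QuotientGroup.mk'_apply, QuotientGroup.eq_one_iff]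

/-- `P ∩ N = 1` -/
theorem eq_one_of_mem (s : OSetup P N ζ) {p : H} (hp : p ∈ P) (hn : p ∈ N) : p = 1 :=
  s.tf4 hn (s.pow_four hp)

/-- `π` is injective on `P` -/
theorem inj (s : OSetup P N ζ) {p p' : H} (hp : p ∈ P) (hp' : p' ∈ P) (h : π p = π p') :
    p = p' := by
  have h1 : p⁻¹ * p' ∈ N := (mk_eq p p').mp h
  have h2 : p⁻¹ * p' = 1 := s.eq_one_of_mem (P.mul_mem (P.inv_mem hp) hp') h1
  calc p = p * (p⁻¹ * p') := by rw [h2, mul_one]
    _ = p' := by group

/-- the image of `ζ` in `P̄` -/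
def ζb (s : OSetup P N ζ) : ↥(P.map π) := ⟨π ζ, Subgroup.mem_map_of_mem _ s.ζP⟩

theorem es2 (s : OSetup P N ζ) : ES2 ↥(P.map π) s.ζb := by
  refine ⟨?_, ?_, ?_, ?_, ?_, ?_⟩
  · intro h
    have := congrArg Subtype.val h
    change π ζ = 1 at this
    rw [mk_eq_one] at this
    exact s.ζ1 (s.eq_one_of_mem s.ζP this)
  · intro a
    obtain ⟨p, hp, hpa⟩ := a.2
    apply Subtype.ext
    change (a : H ⧸ N) * π ζ = π ζ * (a : H ⧸ N)
    rw [← hpa, ← map_mul, ← map_mul, s.cen p hp]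
  · intro a ha
    obtain ⟨p, hp, hpa⟩ := a.2
    have hcomm : ∀ p' ∈ P, p * p' = p' * p := by
      intro p' hp'
      apply s.inj (P.mul_mem hp hp') (P.mul_mem hp' hp)
      have := congrArg Subtype.val (ha ⟨π p', Subgroup.mem_map_of_mem _ hp'⟩)
      change (a : H ⧸ N) * π p' = π p' * (a : H ⧸ N) at this
      rw [← hpa] at this
      rw [map_mul, map_mul, this]
    rcases s.dc p hp hcomm with h1 | h1
    · left
      apply Subtype.ext
      rw [← hpa, h1, map_one]; rfl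
    · right
      apply Subtype.ext
      rw [← hpa, h1]; rfl
  · intro a
    obtain ⟨p, hp, hpa⟩ := a.2
    rcases s.sq p hp with h1 | h1
    · left
      apply Subtype.ext
      rw [Subgroup.coe_pow, ← hpa, ← map_pow, pow_two, h1, map_one]; rfl
    · right
      apply Subtype.ext
      rw [Subgroup.coe_pow, ← hpa, ← map_pow, pow_two, h1]; rfl
  · intro a b
    obtain ⟨p, hp, hpa⟩ := a.2
    obtain ⟨p', hp', hpb⟩ := b.2
    rcases s.comm p hp p' hp' with h1 | h1
    · left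
      apply Subtype.ext
      rw [Subgroup.coe_mul, Subgroup.coe_mul, ← hpa, ← hpb, ← map_mul, ← map_mul, h1]
    · right
      apply Subtype.ext
      rw [Subgroup.coe_mul, Subgroup.coe_mul, Subgroup.coe_mul, ← hpa, ← hpb, ← map_mul, h1,
        map_mul, map_mul]
      rfl
  · obtain ⟨p, hp, p', hp', hne⟩ := s.nonab
    refine ⟨⟨π p, Subgroup.mem_map_of_mem _ hp⟩, ⟨π p', Subgroup.mem_map_of_mem _ hp'⟩, ?_⟩
    intro h
    apply hne
    apply s.inj (P.mul_mem hp hp') (P.mul_mem hp' hp)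
    have := congrArg Subtype.val h
    rw [map_mul, map_mul]
    exact this

theorem isExtraspecial [Finite H] (s : OSetup P N ζ) : Cfsg.IsExtraspecial 2 ↥(P.map π) :=
  Cfsg.Agent.S5396.isExtraspecial_of_es2 s.es2

/-- elements of the centre of `P̄` -/
theorem mem_center_image (s : OSetup P N ζ) (x : H ⧸ N) :
    x ∈ (center ↥(P.map π)).map (P.map π).subtype ↔ x = 1 ∨ x = π ζ := by
  constructor
  · rintro ⟨a, ha, rfl⟩
    rcases s.es2.center_sub a (fun b => (Subgroup.mem_center_iff.mp ha b).symm) with h1 | h1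
    · left; rw [h1]; rfl
    · right; rw [h1]; rfl
  · rintro (rfl | rfl)
    · exact one_mem _
    · exact ⟨s.ζb, Subgroup.mem_center_iff.mpr (fun b => (s.es2.central b)), rfl⟩

theorem center_image_eq (s : OSetup P N ζ) :
    (center ↥(P.map π)).map (P.map π).subtype = zpowers (π ζ) := by
  ext x
  rw [s.mem_center_image]
  have hsq : π ζ * π ζ = 1 := by rw [← map_mul, s.ζζ, map_one]
  constructor
  · rintro (rfl | rfl)
    · exact one_mem _
    · exact Subgroup.mem_zpowers _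
  · intro hx
    obtain ⟨k, rfl⟩ := Subgroup.mem_zpowers_iff.mp hx
    have hinv : (π ζ)⁻¹ = π ζ := inv_eq_of_mul_eq_one_left hsq
    rcases Int.even_or_odd k with ⟨m, rfl⟩ | ⟨m, rfl⟩
    · left
      rw [← two_mul, zpow_mul, zpow_ofNat, pow_two, hsq, one_zpow]
    · right
      rw [zpow_add, zpow_mul, zpow_ofNat, pow_two, hsq, one_zpow, one_mul, zpow_one]

/-- an element of `C_H(N)` fixing `p ∈ P` modulo `N` fixes `p` -/
theorem fix_of_mk (s : OSetup P N ζ) {c p : H} (hp : p ∈ P)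
    (h : π p * π c = π c * π p) : c * p * c⁻¹ = p := by
  have h1 : π p = π (c * p * c⁻¹) := by
    rw [map_mul, map_mul, map_inv, ← h]; group
  have hn : p⁻¹ * (c * p * c⁻¹) ∈ N := (mk_eq _ _).mp h1
  set n := p⁻¹ * (c * p * c⁻¹) with hn_def
  have hpn : c * p * c⁻¹ = p * n := by rw [hn_def]; group
  have hcomm : Commute p n := s.cPN p hp n hn
  have h4 : (c * p * c⁻¹) ^ 4 = 1 := by
    rw [conj_pow, s.pow_four hp]; group
  rw [hpn, hcomm.mul_pow, s.pow_four hp, one_mul] at h4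
  rw [hpn, s.tf4 hn h4, mul_one]

theorem centralizer_eq (s : OSetup P N ζ) :
    centralizer ((P.map π : Subgroup (H ⧸ N)) : Set (H ⧸ N))
      = (center ↥(P.map π)).map (P.map π).subtype := by
  apply le_antisymm
  · intro x hx
    obtain ⟨h, rfl⟩ := QuotientGroup.mk'_surjective N x
    obtain ⟨c, hcN, hch⟩ := s.dec h
    have hπ : π h = π c := ((mk_eq c h).mpr hch).symm
    rw [hπ] at hx ⊢
    have hcomm : ∀ p ∈ P, π p * π c = π c * π p := fun p hp =>
      Subgroup.mem_centralizer_iff.mp hx (π p) (Subgroup.mem_map_of_mem _ hp)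
    have hcP : ∀ p ∈ P, c * p = p * c := by
      intro p hp
      have := s.fix_of_mk hp (hcomm p hp)
      calc c * p = (c * p * c⁻¹) * c := by group
        _ = p * c := by rw [this]
    rw [s.mem_center_image]
    rcases s.cp c hcN hcP with h1 | h1
    · left; exact (mk_eq_one c).mpr h1
    · right; exact ((mk_eq ζ c).mpr h1).symm
  · rintro x ⟨a, ha, rfl⟩
    rw [Subgroup.mem_centralizer_iff]
    intro y hy
    have := Subgroup.mem_center_iff.mp ha ⟨y, hy⟩
    exact congrArg Subtype.val this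

theorem centralizer_center_le (s : OSetup P N ζ) :
    centralizer (((center ↥(P.map π)).map (P.map π).subtype : Subgroup (H ⧸ N)) : Set (H ⧸ N))
      ≤ normalizer ((P.map π : Subgroup (H ⧸ N)) : Set (H ⧸ N)) := by
  intro x hx
  obtain ⟨h, rfl⟩ := QuotientGroup.mk'_surjective N x
  obtain ⟨c, hcN, hch⟩ := s.dec h
  have hπ : π h = π c := ((mk_eq c h).mpr hch).symm
  rw [hπ] at hx ⊢
  have h1 : π ζ * π c = π c * π ζ :=
    Subgroup.mem_centralizer_iff.mp hx (π ζ) ((s.mem_center_image _).mpr (Or.inr rfl))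
  have h2 := s.fix_of_mk s.ζP h1
  have hcζ : c * ζ = ζ * c := by
    calc c * ζ = (c * ζ * c⁻¹) * c := by group
      _ = ζ * c := by rw [h2]
  have hcζ' : c⁻¹ * ζ = ζ * c⁻¹ := by
    have : c⁻¹ * (c * ζ) * c⁻¹ = c⁻¹ * (ζ * c) * c⁻¹ := by rw [hcζ]
    simpa [mul_assoc] using this.symm
  have hcN' : ∀ n ∈ N, c⁻¹ * n = n * c⁻¹ := by
    intro n hn
    have := hcN n hn
    have h3 : c⁻¹ * (c * n) * c⁻¹ = c⁻¹ * (n * c) * c⁻¹ := by rw [this]
    simpa [mul_assoc] using h3.symm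
  rw [Subgroup.mem_normalizer_iff]
  intro y
  constructor
  · rintro ⟨p, hp, rfl⟩
    refine ⟨c * p * c⁻¹, s.nrm c hcN hcζ p hp, ?_⟩
    rw [map_mul, map_mul, map_inv]
  · rintro ⟨p, hp, hpy⟩
    refine ⟨c⁻¹ * p * c, ?_, ?_⟩
    · have := s.nrm c⁻¹ hcN' hcζ' p hp
      rwa [inv_inv] at this
    · rw [map_mul, map_mul, map_inv, hpy]; group

theorem card_map (s : OSetup P N ζ) : Nat.card ↥(P.map π) = Nat.card ↥P := by
  set f : ↥P →* H ⧸ N := (π).comp P.subtype with hf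
  have hrange : f.range = P.map π := by
    rw [hf, MonoidHom.range_comp, Subgroup.range_subtype]
  have hinj : Function.Injective f := by
    intro a b hab
    apply Subtype.ext
    exact s.inj a.2 b.2 hab
  rw [← hrange]
  exact (Nat.card_congr (MonoidHom.ofInjective hinj).toEquiv).symm

end OSetup

end Cfsg.Agent.Helper27.LES
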