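import Mathlib
import Cfsg.Agent.Helper27.LES13
import Cfsg.Agent.Helper3.LargePair
import Cfsg.Agent.Helper3.LargeES2
import Cfsg.Agent.Lead.Coprime2
import Cfsg.Agent.Helper7.PPrimeCore

/-!
# Towards S5428: an odd order group `A ≤ C(z)` acting on `Q`, `R = C_Q(A)`
-/

set_option autoImplicit false
set_option linter.style.haveILetI false
set_option linter.unusedSectionVars false

namespace Cfsg.Agent.Helper27.LES

open Cfsg Subgroup Cfsg.Agent.Helper3 Cfsg.Agent.Helper3.LargeES Cfsg.Agent.Helper3.LargePair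

/-- a finite group of order `2 · odd` with a central involution `z`: every element lies in the
odd core or in its coset by `z`. -/
theorem mem_or_mul_mem_oddCore {D : Type*} [Group D] [Finite D] (z : D) (hz1 : z ≠ 1)
    (hzz : z * z = 1) (hzc : ∀ d : D, d * z = z * d) (h4 : ¬ 4 ∣ Nat.card D) (d : D) :
    d ∈ Cfsg.oddCore D ∨ d * z ∈ Cfsg.oddCore D := by
  haveI : Fact (Nat.Prime 2) := ⟨Nat.prime_two⟩
  have hoz : orderOf z = 2 := orderOf_eq_prime (by rw [pow_two]; exact hzz) hz1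
  have hzP : IsPGroup 2 (zpowers z) := by
    rw [IsPGroup.iff_card]
    exact ⟨1, by rw [Nat.card_zpowers, hoz, pow_one]⟩
  obtain ⟨P, hP⟩ := hzP.exists_le_sylow
  have hzmem : z ∈ (P : Subgroup D) := hP (Subgroup.mem_zpowers z)
  -- |P| = 2
  have hcardP : Nat.card (P : Subgroup D) = 2 := by
    obtain ⟨n, hn⟩ := (IsPGroup.iff_card.mp P.2)
    have h2 : 2 ∣ Nat.card (P : Subgroup D) := by
      have := Subgroup.card_dvd_of_le hP
      rwa [Nat.card_zpowers, hoz] at this
    have hdvd : Nat.card (P : Subgroup D) ∣ Nat.card D := Subgroup.card_subgroup_dvd_card _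
    rw [hn] at h2 hdvd ⊢
    rcases n with _ | _ | n
    · norm_num at h2
    · norm_num
    · exfalso
      apply h4
      refine dvd_trans ?_ hdvd
      rw [pow_succ, pow_succ, mul_assoc]
      exact Dvd.intro_left _ rfl
  have hPelts : ∀ x ∈ (P : Subgroup D), x = 1 ∨ x = z := by
    intro x hx
    by_contra hcon
    push Not at hcon
    have h3 : 3 ≤ Nat.card (P : Subgroup D) := by
      have : Function.Injective (fun i : Fin 3 =>
          (![⟨1, one_mem _⟩, ⟨z, hzmem⟩, ⟨x, hx⟩] i : (P : Subgroup D))) := by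
        intro i j hij
        fin_cases i <;> fin_cases j <;> simp at hij <;> first | rfl | (exfalso; simp_all)
      have := Nat.card_le_card_of_injective _ this
      simpa using this
    omega
  have hN : normalizer ((P : Subgroup D) : Set D) ≤ centralizer ((P : Subgroup D) : Set D) := by
    intro g _
    rw [Subgroup.mem_centralizer_iff]
    intro y hy
    rcases hPelts y hy with h | h
    · rw [h]; simp
    · rw [h]; exact (hzc g).symm
  set K := (MonoidHom.transferSylow P hN).ker with hK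
  have hcompl : IsComplement' K (P : Subgroup D) := MonoidHom.ker_transferSylow_isComplement' P hN
  have hcard := hcompl.card_mul_card
  rw [hcardP] at hcard
  have hKodd : (Nat.card K).Coprime 2 := by
    rw [Nat.coprime_two_right]
    by_contra hcon
    rw [Nat.not_odd_iff_even] at hcon
    obtain ⟨m, hm⟩ := hcon
    apply h4
    rw [← hcard, hm]
    exact ⟨m, by ring⟩
  have hKle : K ≤ Cfsg.oddCore D :=
    Cfsg.Agent.Helper7.le_pPrimeCore (MonoidHom.normal_ker _) hKodd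
  have hidx : K.index = 2 := by
    have h1 := Subgroup.card_mul_index K
    have hpos : 0 < Nat.card K := Nat.card_pos
    have : Nat.card K * K.index = Nat.card K * 2 := by rw [h1, hcard]
    exact Nat.eq_of_mul_eq_mul_left hpos this
  have hzK : z ∉ K := by
    intro hz
    have hdisj := hcompl.disjoint
    have : z ∈ K ⊓ (P : Subgroup D) := ⟨hz, hzmem⟩
    rw [hdisj.eq_bot, Subgroup.mem_bot] at this
    exact hz1 this
  by_cases hd : d ∈ K
  · left; exact hKle hd
  · right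
    apply hKle
    rw [Subgroup.mul_mem_iff_of_index_two hidx]
    exact ⟨fun h => absurd h hd, fun h => absurd h hzK⟩

variable {G : Type*} [Group G]

/-- the configuration of S5428 -/
structure ACfg (Q : Subgroup G) (z : G) (A : Subgroup G) : Prop where
  les : LES Q z
  Az : ∀ a ∈ A, a * z = z * a
  odd : Odd (Nat.card A)

theorem le_normalizer_of_forall_conj_mem {K N : Subgroup G}
    (h : ∀ k ∈ K, ∀ n ∈ N, k * n * k⁻¹ ∈ N) : K ≤ normalizer (N : Set G) := by
  intro k hk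
  rw [Subgroup.mem_normalizer_iff]
  intro n
  constructor
  · exact h k hk n
  · intro hn
    have := h k⁻¹ (K.inv_mem hk) _ hn
    have e : k⁻¹ * (k * n * k⁻¹) * k⁻¹⁻¹ = n := by group
    rwa [e] at this

namespace ACfg

variable {Q : Subgroup G} {z : G} {A : Subgroup G}

theorem nrm (c : ACfg Q z A) {a q : G} (ha : a ∈ A) (hq : q ∈ Q) : a * q * a⁻¹ ∈ Q :=
  c.les.norm a (c.Az a ha) q hq

theorem le_normalizer (c : ACfg Q z A) : A ≤ normalizer (Q : Set G) :=
  le_normalizer_of_forall_conj_mem (fun _ ha _ hq => c.nrm ha hq)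

theorem zR (c : ACfg Q z A) : z ∈ Q ⊓ centralizer (A : Set G) := by
  refine ⟨c.les.mem, ?_⟩
  change z ∈ centralizer (A : Set G)
  rw [Subgroup.mem_centralizer_iff]
  intro a ha
  exact c.Az a ha

theorem coprime [Finite G] (c : ACfg Q z A) : (Nat.card A).Coprime (Nat.card Q) := by
  obtain ⟨n, hn⟩ := IsPGroup.iff_card.mp c.les.isPGroup
  rw [hn]
  apply Nat.Coprime.pow_right
  exact Nat.coprime_two_right.mpr c.odd

theorem tf (c : ACfg Q z A) [Finite G] {a : G} (ha : a ∈ A) (h2 : a ^ 2 = 1) : a = 1 := by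
  have h1 : orderOf a ∣ 2 := orderOf_dvd_of_pow_eq_one h2
  have h3 : orderOf a ∣ Nat.card A := by
    have := orderOf_dvd_natCard (⟨a, ha⟩ : A)
    rwa [Subgroup.orderOf_mk] at this
  have h4 : orderOf a ∣ Nat.gcd 2 (Nat.card A) := Nat.dvd_gcd h1 h3
  have h5 : Nat.gcd 2 (Nat.card A) = 1 := by
    exact Nat.coprime_two_left.mpr c.odd
  rw [h5, Nat.dvd_one] at h4
  exact orderOf_eq_one_iff.mp h4

/-- the centre of `C_Q(A)` is `{1, z}` -/
theorem exists_noncomm [Finite G] (c : ACfg Q z A) {x : G} (hxQ : x ∈ Q)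
    (hxA : x ∈ centralizer (A : Set G)) (hx1 : x ≠ 1) (hxz : x ≠ z) :
    ∃ r ∈ Q ⊓ centralizer (A : Set G), x * r ≠ r * x := by
  haveI : Fact (Nat.Prime 2) := ⟨Nat.prime_two⟩
  have hxa : ∀ a ∈ A, a * x = x * a := fun a ha => Subgroup.mem_centralizer_iff.mp hxA a ha
  -- some k ∈ Q does not commute with x
  obtain ⟨k, hk, hkx⟩ : ∃ k ∈ Q, x * k ≠ k * x := by
    by_contra hcon
    push Not at hcon
    rcases c.les.cent x hcon with h | h
    · exact hx1 h
    · exact hxz h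
  have hxk : x * k = k * x * z := by
    rcases c.les.comm_cases hxQ hk with h | h
    · exact absurd h hkx
    · exact h
  set N : Subgroup G := Q ⊓ centralizer ({x} : Set G) with hN
  have hNQ : N ≤ Q := inf_le_left
  have hmemN : ∀ y, y ∈ N ↔ y ∈ Q ∧ y * x = x * y := by
    intro y
    rw [hN, Subgroup.mem_inf, Subgroup.mem_centralizer_singleton_iff]
  have hQN : Q ≤ normalizer (N : Set G) := by
    apply le_normalizer_of_forall_conj_mem
    intro q hq n hn
    rw [hmemN] at hn ⊢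
    refine ⟨Q.mul_mem (Q.mul_mem hq hn.1) (Q.inv_mem hq), ?_⟩
    have hzq : q * z = z * q := c.les.central hq
    have hzq' : q⁻¹ * z = z * q⁻¹ := c.les.central (Q.inv_mem hq)
    have hzn : n * z = z * n := c.les.central hn.1
    rcases c.les.comm_cases hxQ hq with h | h
    · -- x commutes with q
      have h' : x * q⁻¹ = q⁻¹ * x := by
        calc x * q⁻¹ = q⁻¹ * (q * x) * q⁻¹ := by group
          _ = q⁻¹ * (x * q) * q⁻¹ := by rw [h]
          _ = q⁻¹ * x := by group
      calc q * n * q⁻¹ * x = q * n * (q⁻¹ * x) := by group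
        _ = q * n * (x * q⁻¹) := by rw [h']
        _ = q * (n * x) * q⁻¹ := by group
        _ = q * (x * n) * q⁻¹ := by rw [hn.2]
        _ = (q * x) * n * q⁻¹ := by group
        _ = (x * q) * n * q⁻¹ := by rw [h]
        _ = x * (q * n * q⁻¹) := by group
    · -- x q = q x z
      have h' : x * q⁻¹ = q⁻¹ * x * z := by
        have e1 : q⁻¹ * (x * q) * q⁻¹ = q⁻¹ * (q * x * z) * q⁻¹ := by rw [h]
        have e2 : q⁻¹ * (x * q) * q⁻¹ = q⁻¹ * x := by group
        have e3 : q⁻¹ * (q * x * z) * q⁻¹ = x * (z * q⁻¹) := by group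
        rw [e2, e3, ← hzq'] at e1
        -- e1 : q⁻¹ * x = x * (q⁻¹ * z)
        calc x * q⁻¹ = x * (q⁻¹ * z) * z := by
              rw [mul_assoc x (q⁻¹ * z) z, mul_assoc q⁻¹ z z, c.les.zz, mul_one]
          _ = q⁻¹ * x * z := by rw [← e1]
      symm
      calc x * (q * n * q⁻¹) = (x * q) * n * q⁻¹ := by group
        _ = (q * x * z) * n * q⁻¹ := by rw [h]
        _ = q * x * (z * n) * q⁻¹ := by group
        _ = q * x * (n * z) * q⁻¹ := by rw [hzn]
        _ = q * (x * n) * (z * q⁻¹) := by group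
        _ = q * (n * x) * (q⁻¹ * z) := by rw [hn.2, hzq']
        _ = q * n * (x * q⁻¹) * z := by group
        _ = q * n * (q⁻¹ * x * z) * z := by rw [h']
        _ = q * n * q⁻¹ * x * (z * z) := by group
        _ = q * n * q⁻¹ * x := by rw [c.les.zz, mul_one]
  have hAN : A ≤ normalizer (N : Set G) := by
    apply le_normalizer_of_forall_conj_mem
    intro a ha n hn
    rw [hmemN] at hn ⊢
    refine ⟨c.nrm ha hn.1, ?_⟩
    have h1 := hxa a ha
    have h1' : a⁻¹ * x = x * a⁻¹ := by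
      calc a⁻¹ * x = a⁻¹ * (x * a) * a⁻¹ := by group
        _ = a⁻¹ * (a * x) * a⁻¹ := by rw [h1]
        _ = x * a⁻¹ := by group
    calc a * n * a⁻¹ * x = a * n * (a⁻¹ * x) := by group
      _ = a * n * (x * a⁻¹) := by rw [h1']
      _ = a * (n * x) * a⁻¹ := by group
      _ = a * (x * n) * a⁻¹ := by rw [hn.2]
      _ = (a * x) * n * a⁻¹ := by group
      _ = (x * a) * n * a⁻¹ := by rw [h1]
      _ = x * (a * n * a⁻¹) := by group
  have hfix : ∀ a ∈ A, a * k * a⁻¹ * k⁻¹ ∈ N := by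
    intro a ha
    rw [hmemN]
    have hakQ : a * k * a⁻¹ ∈ Q := c.nrm ha hk
    refine ⟨Q.mul_mem hakQ (Q.inv_mem hk), ?_⟩
    have h1 := hxa a ha
    have h1' : a⁻¹ * x = x * a⁻¹ := by
      calc a⁻¹ * x = a⁻¹ * (x * a) * a⁻¹ := by group
        _ = a⁻¹ * (a * x) * a⁻¹ := by rw [h1]
        _ = x * a⁻¹ := by group
    have haz := c.Az a ha
    have haz' : z * a⁻¹ = a⁻¹ * z := by
      calc z * a⁻¹ = a⁻¹ * (a * z) * a⁻¹ := by group
        _ = a⁻¹ * (z * a) * a⁻¹ := by rw [haz]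
        _ = a⁻¹ * z := by group
    have hzk' : k⁻¹ * z = z * k⁻¹ := c.les.central (Q.inv_mem hk)
    -- x * k⁻¹ = z * k⁻¹ * x
    have hxk' : x * k⁻¹ = k⁻¹ * x * z := by
      have e1 : k⁻¹ * (x * k) * k⁻¹ = k⁻¹ * (k * x * z) * k⁻¹ := by rw [hxk]
      have e2 : k⁻¹ * (x * k) * k⁻¹ = k⁻¹ * x := by group
      have e3 : k⁻¹ * (k * x * z) * k⁻¹ = x * (z * k⁻¹) := by group
      rw [e2, e3, ← hzk'] at e1
      calc x * k⁻¹ = x * (k⁻¹ * z) * z := by
            rw [mul_assoc x (k⁻¹ * z) z, mul_assoc k⁻¹ z z, c.les.zz, mul_one]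
        _ = k⁻¹ * x * z := by rw [← e1]
    symm
    calc x * (a * k * a⁻¹ * k⁻¹) = (x * a) * k * a⁻¹ * k⁻¹ := by group
      _ = (a * x) * k * a⁻¹ * k⁻¹ := by rw [h1]
      _ = a * (x * k) * a⁻¹ * k⁻¹ := by group
      _ = a * (k * x * z) * a⁻¹ * k⁻¹ := by rw [hxk]
      _ = a * k * x * (z * a⁻¹) * k⁻¹ := by group
      _ = a * k * x * (a⁻¹ * z) * k⁻¹ := by rw [haz']
      _ = a * k * (x * a⁻¹) * (z * k⁻¹) := by group
      _ = a * k * (a⁻¹ * x) * (k⁻¹ * z) := by rw [h1', hzk']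
      _ = a * k * a⁻¹ * (x * k⁻¹) * z := by group
      _ = a * k * a⁻¹ * (k⁻¹ * x * z) * z := by rw [hxk']
      _ = a * k * a⁻¹ * k⁻¹ * x * (z * z) := by group
      _ = a * k * a⁻¹ * k⁻¹ * x := by rw [c.les.zz, mul_one]
  have hsolv : Group.IsSolvable A ∨ Group.IsSolvable Q := by
    right
    haveI : Group.IsNilpotent Q := c.les.isPGroup.isNilpotent
    infer_instance
  obtain ⟨r, hr, hkr⟩ := Cfsg.Agent.Lead.coprime_fixed_points_quotient A Q c.le_normalizer
    c.coprime hsolv N hNQ hQN hAN k hk hfix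
  refine ⟨r, hr, ?_⟩
  intro hcomm
  apply hkx
  rw [hmemN] at hkr
  -- k = r * (k⁻¹ * r)⁻¹
  have hn' : (k⁻¹ * r)⁻¹ * x = x * (k⁻¹ * r)⁻¹ := by
    have := hkr.2
    calc (k⁻¹ * r)⁻¹ * x = (k⁻¹ * r)⁻¹ * (x * (k⁻¹ * r)) * (k⁻¹ * r)⁻¹ := by group
      _ = (k⁻¹ * r)⁻¹ * ((k⁻¹ * r) * x) * (k⁻¹ * r)⁻¹ := by rw [this]
      _ = x * (k⁻¹ * r)⁻¹ := by group
  have hk' : k = r * (k⁻¹ * r)⁻¹ := by group
  calc x * k = x * (r * (k⁻¹ * r)⁻¹) := by rw [← hk']
    _ = (x * r) * (k⁻¹ * r)⁻¹ := by group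
    _ = (r * x) * (k⁻¹ * r)⁻¹ := by rw [hcomm]
    _ = r * (x * (k⁻¹ * r)⁻¹) := by group
    _ = r * ((k⁻¹ * r)⁻¹ * x) := by rw [hn']
    _ = (r * (k⁻¹ * r)⁻¹) * x := by group
    _ = k * x := by rw [← hk']

end ACfg

end Cfsg.Agent.Helper27.LES
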