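import Mathlib
import Cfsg.Agent.Helper27.LES14
import Cfsg.Agent.Helper7.Layer

/-!
# Towards S5428: fusion of `g z g⁻¹` to `z` inside `C(A)`, the centralizer of `R A`
-/

set_option autoImplicit false
set_option linter.style.haveILetI false
set_option linter.unusedSectionVars false

namespace Cfsg.Agent.Helper27.LES

open Cfsg Subgroup Cfsg.Agent.Helper3 Cfsg.Agent.Helper3.LargeES Cfsg.Agent.Helper3.LargePair

variable {G : Type*} [Group G]

namespace ACfg

variable {Q : Subgroup G} {z : G} {A : Subgroup G}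

/-- the conjugate configuration -/
theorem conjCfg (c : ACfg Q z A) (g : G) (haA : g * z * g⁻¹ ∈ centralizer (A : Set G)) :
    ACfg (Q.map (MulAut.conj g).toMonoidHom) (g * z * g⁻¹) A :=
  ⟨c.les.conj g, fun a ha => Subgroup.mem_centralizer_iff.mp haA a ha, c.odd⟩

/-- conclusion (iii) of S5428 -/
theorem exists_fuse [Finite G] (c : ACfg Q z A) (g : G)
    (haR : g * z * g⁻¹ ∈ Q ⊓ centralizer (A : Set G)) (haz : g * z * g⁻¹ ≠ z) :
    ∃ x ∈ (Q ⊓ centralizer (A : Set G)) ⊔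
        (Q.map (MulAut.conj g).toMonoidHom ⊓ centralizer (A : Set G)),
      x * (g * z * g⁻¹) * x⁻¹ = z := by
  have a1 : g * z * g⁻¹ ≠ 1 := (c.les.conj g).ne_one
  obtain ⟨r, hr, hra⟩ := c.exists_noncomm haR.1 haR.2 a1 haz
  have c' := c.conjCfg g haR.2
  have hzQg : z ∈ Q.map (MulAut.conj g).toMonoidHom := by
    obtain ⟨q, hq, hqz⟩ := mem_conj_of_conj_mem c.les.es c.les.cent c.les.norm g haz haR.1
    exact ⟨q, hq, hqz⟩
  obtain ⟨r', hr', hr'z⟩ := c'.exists_noncomm hzQg c.zR.2 c.les.ne_one (Ne.symm haz)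
  have h1 : r * (g * z * g⁻¹) * r⁻¹ = (g * z * g⁻¹) * z := by
    rcases c.les.conj_cases hr.1 haR.1 with h | h
    · exfalso
      apply hra
      calc (g * z * g⁻¹) * r = (r * (g * z * g⁻¹) * r⁻¹) * r := by rw [h]
        _ = r * (g * z * g⁻¹) := by group
    · exact h
  have h2 : r' * z * r'⁻¹ = z * (g * z * g⁻¹) := by
    rcases c'.les.conj_cases hr'.1 hzQg with h | h
    · exfalso
      apply hr'z
      calc z * r' = (r' * z * r'⁻¹) * r' := by rw [h]
        _ = r' * z := by group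
    · exact h
  have h3 : r' * (g * z * g⁻¹) * r'⁻¹ = g * z * g⁻¹ := by
    have := c'.les.central hr'.1
    calc r' * (g * z * g⁻¹) * r'⁻¹ = (r' * (g * z * g⁻¹)) * r'⁻¹ := by group
      _ = ((g * z * g⁻¹) * r') * r'⁻¹ := by rw [this]
      _ = g * z * g⁻¹ := by group
  have h4 : z * (g * z * g⁻¹) = (g * z * g⁻¹) * z := c'.les.central hzQg
  refine ⟨r' * r, Subgroup.mul_mem _ (Subgroup.mem_sup_right hr') (Subgroup.mem_sup_left hr), ?_⟩
  calc (r' * r) * (g * z * g⁻¹) * (r' * r)⁻¹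
      = r' * (r * (g * z * g⁻¹) * r⁻¹) * r'⁻¹ := by group
    _ = r' * ((g * z * g⁻¹) * z) * r'⁻¹ := by rw [h1]
    _ = (r' * (g * z * g⁻¹) * r'⁻¹) * (r' * z * r'⁻¹) := by group
    _ = (g * z * g⁻¹) * (z * (g * z * g⁻¹)) := by rw [h3, h2]
    _ = (g * z * g⁻¹) * ((g * z * g⁻¹) * z) := by rw [h4]
    _ = ((g * z * g⁻¹) * (g * z * g⁻¹)) * z := by group
    _ = z := by rw [c'.les.zz, one_mul]

theorem z_mem_centralizer_sup (c : ACfg Q z A) :
    z ∈ centralizer ((A ⊔ (Q ⊓ centralizer (A : Set G)) : Subgroup G) : Set G) := by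
  have h : A ⊔ (Q ⊓ centralizer (A : Set G)) ≤ centralizer ({z} : Set G) := by
    apply sup_le
    · intro a ha
      rw [Subgroup.mem_centralizer_singleton_iff]
      exact c.Az a ha
    · intro q hq
      rw [Subgroup.mem_centralizer_singleton_iff]
      exact c.les.central hq.1
  rw [Subgroup.mem_centralizer_iff]
  intro x hx
  have := h hx
  rw [Subgroup.mem_centralizer_singleton_iff] at this
  exact this

/-- the centralizer of `A R` is contained in `A ⟨z⟩`: elementwise form of conclusion (i) -/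
theorem cent_sup [Finite G] (c : ACfg Q z A)
    (hO : (Cfsg.oddCore ↥(centralizer ((A ⊔ (Q ⊓ centralizer (A : Set G)) : Subgroup G) : Set G))).map
      (centralizer ((A ⊔ (Q ⊓ centralizer (A : Set G)) : Subgroup G) : Set G)).subtype ≤ A)
    (h4 : ¬ 4 ∣ Nat.card ↥(centralizer ((A ⊔ (Q ⊓ centralizer (A : Set G)) : Subgroup G) : Set G)))
    {d : G} (hd : d ∈ centralizer ((A ⊔ (Q ⊓ centralizer (A : Set G)) : Subgroup G) : Set G)) :
    d ∈ A ∨ d * z ∈ A := by
  set D := centralizer ((A ⊔ (Q ⊓ centralizer (A : Set G)) : Subgroup G) : Set G) with hD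
  have hzD : z ∈ D := c.z_mem_centralizer_sup
  have hzc : ∀ x : ↥D, x * (⟨z, hzD⟩ : ↥D) = ⟨z, hzD⟩ * x := by
    intro x
    apply Subtype.ext
    have hx : (x : G) ∈ centralizer ((A ⊔ (Q ⊓ centralizer (A : Set G)) : Subgroup G) : Set G) :=
      x.2
    rw [Subgroup.mem_centralizer_iff] at hx
    have := hx z (Subgroup.mem_sup_right c.zR)
    exact this.symm
  have hz1 : (⟨z, hzD⟩ : ↥D) ≠ 1 := fun h => c.les.ne_one (congrArg Subtype.val h)
  have hzz : (⟨z, hzD⟩ : ↥D) * ⟨z, hzD⟩ = 1 := Subtype.ext c.les.zz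
  rcases mem_or_mul_mem_oddCore (⟨z, hzD⟩ : ↥D) hz1 hzz hzc h4 ⟨d, hd⟩ with h | h
  · left
    have := hO (Subgroup.mem_map_of_mem D.subtype h)
    exact this
  · right
    have := hO (Subgroup.mem_map_of_mem D.subtype h)
    exact this

/-- conclusion (i) of S5428 -/
theorem part_one [Finite G] (c : ACfg Q z A)
    (hO : (Cfsg.oddCore ↥(centralizer ((A ⊔ (Q ⊓ centralizer (A : Set G)) : Subgroup G) : Set G))).map
      (centralizer ((A ⊔ (Q ⊓ centralizer (A : Set G)) : Subgroup G) : Set G)).subtype ≤ A)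
    (h4 : ¬ 4 ∣ Nat.card ↥(centralizer ((A ⊔ (Q ⊓ centralizer (A : Set G)) : Subgroup G) : Set G))) :
    ((centralizer (A : Set G) ⊔ A) ⊓
      centralizer (((Q ⊓ centralizer (A : Set G)) ⊔ A : Subgroup G) : Set G)) ⊔ A
      = A ⊔ zpowers z := by
  have hcomm : ((Q ⊓ centralizer (A : Set G)) ⊔ A : Subgroup G) = A ⊔ (Q ⊓ centralizer (A : Set G)) :=
    sup_comm _ _
  rw [hcomm]
  apply le_antisymm
  · apply sup_le _ le_sup_left
    intro d hd
    rcases c.cent_sup hO h4 hd.2 with h | h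
    · exact Subgroup.mem_sup_left h
    · have e : d = (d * z) * z⁻¹ := by group
      rw [e]
      exact Subgroup.mul_mem _ (Subgroup.mem_sup_left h)
        (Subgroup.mem_sup_right (Subgroup.inv_mem _ (Subgroup.mem_zpowers z)))
  · apply sup_le le_sup_right
    rw [Subgroup.zpowers_le]
    apply Subgroup.mem_sup_left
    exact ⟨Subgroup.mem_sup_left c.zR.2, c.z_mem_centralizer_sup⟩

end ACfg

end Cfsg.Agent.Helper27.LES
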