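import Mathlib
import Cfsg.Agent.Helper27.LES15
import Cfsg.Agent.S5422
import Cfsg.Agent.S0095

/-!
# S5428: the image of `R = C_Q(A)` in `C(A) A / A` is a large extraspecial 2-subgroup
-/

set_option autoImplicit false
set_option linter.style.haveILetI false
set_option linter.unusedSectionVars false

namespace Cfsg.Agent.Helper27.LES

open Cfsg Subgroup Cfsg.Agent.Helper3 Cfsg.Agent.Helper3.LargeES Cfsg.Agent.Helper3.LargePair

variable {G : Type*} [Group G] [Finite G]

namespace ACfg

variable {Q : Subgroup G} {z : G} {A : Subgroup G}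

theorem zM (c : ACfg Q z A) : z ∈ centralizer (A : Set G) ⊔ A :=
  Subgroup.mem_sup_left c.zR.2

/-- `z` as an element of `M = C(A) A` -/
def ζM (c : ACfg Q z A) : ↥(centralizer (A : Set G) ⊔ A) := ⟨z, c.zM⟩

theorem exists_ne (c : ACfg Q z A) (h32 : 32 ≤ Nat.card ↥(Q ⊓ centralizer (A : Set G))) :
    ∃ x ∈ Q ⊓ centralizer (A : Set G), x ≠ 1 ∧ x ≠ z := by
  by_contra hcon
  push Not at hcon
  have hab : ∀ e : ↥(Q ⊓ centralizer (A : Set G)), e = 1 ∨ e = ⟨z, c.zR⟩ := by
    intro e
    by_cases h1 : (e : G) = 1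
    · left; exact Subtype.ext h1
    · right; exact Subtype.ext (hcon e e.2 h1)
  have := ES2.card_le_two_of_dichotomy _ _ hab
  omega

theorem osetup (c : ACfg Q z A)
    (hO : (Cfsg.oddCore ↥(centralizer ((A ⊔ (Q ⊓ centralizer (A : Set G)) : Subgroup G) : Set G))).map
      (centralizer ((A ⊔ (Q ⊓ centralizer (A : Set G)) : Subgroup G) : Set G)).subtype ≤ A)
    (h4 : ¬ 4 ∣ Nat.card ↥(centralizer ((A ⊔ (Q ⊓ centralizer (A : Set G)) : Subgroup G) : Set G)))
    (h32 : 32 ≤ Nat.card ↥(Q ⊓ centralizer (A : Set G))) :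
    OSetup ((Q ⊓ centralizer (A : Set G)).subgroupOf (centralizer (A : Set G) ⊔ A))
      (A.subgroupOf (centralizer (A : Set G) ⊔ A)) c.ζM := by
  have hRM : Q ⊓ centralizer (A : Set G) ≤ centralizer (A : Set G) ⊔ A :=
    inf_le_right.trans le_sup_left
  have hAM : A ≤ centralizer (A : Set G) ⊔ A := le_sup_right
  have hcentA : ∀ x : ↥(centralizer (A : Set G) ⊔ A),
      (∀ n ∈ A.subgroupOf (centralizer (A : Set G) ⊔ A), x * n = n * x) →
      (x : G) ∈ centralizer (A : Set G) := by
    intro x hx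
    rw [Subgroup.mem_centralizer_iff]
    intro a ha
    have := hx ⟨a, hAM ha⟩ (by rw [Subgroup.mem_subgroupOf]; exact ha)
    exact (congrArg Subtype.val this).symm
  refine
    { ζP := ?_, ζ1 := ?_, ζζ := ?_, cen := ?_, comm := ?_, sq := ?_, dc := ?_, nonab := ?_,
      tf := ?_, cPN := ?_, dec := ?_, cp := ?_, nrm := ?_ }
  · rw [Subgroup.mem_subgroupOf]; exact c.zR
  · intro h; exact c.les.ne_one (congrArg Subtype.val h)
  · exact Subtype.ext c.les.zz
  · intro p hp
    rw [Subgroup.mem_subgroupOf] at hp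
    exact Subtype.ext (c.les.central hp.1)
  · intro p hp p' hp'
    rw [Subgroup.mem_subgroupOf] at hp hp'
    rcases c.les.comm_cases hp.1 hp'.1 with h | h
    · left; exact Subtype.ext h
    · right; exact Subtype.ext h
  · intro p hp
    rw [Subgroup.mem_subgroupOf] at hp
    rcases c.les.sq_cases hp.1 with h | h
    · left; exact Subtype.ext h
    · right; exact Subtype.ext h
  · intro p hp hcomm
    rw [Subgroup.mem_subgroupOf] at hp
    by_contra hcon
    push Not at hcon
    have h1 : (p : G) ≠ 1 := fun h => hcon.1 (Subtype.ext h)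
    have h2 : (p : G) ≠ z := fun h => hcon.2 (Subtype.ext h)
    obtain ⟨r, hr, hpr⟩ := c.exists_noncomm hp.1 hp.2 h1 h2
    apply hpr
    have := hcomm ⟨r, hRM hr⟩ (by rw [Subgroup.mem_subgroupOf]; exact hr)
    exact congrArg Subtype.val this
  · obtain ⟨x, hx, hx1, hxz⟩ := c.exists_ne h32
    obtain ⟨r, hr, hxr⟩ := c.exists_noncomm hx.1 hx.2 hx1 hxz
    refine ⟨⟨x, hRM hx⟩, by rw [Subgroup.mem_subgroupOf]; exact hx,
      ⟨r, hRM hr⟩, by rw [Subgroup.mem_subgroupOf]; exact hr, ?_⟩
    intro h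
    exact hxr (congrArg Subtype.val h)
  · intro n hn h2
    rw [Subgroup.mem_subgroupOf] at hn
    apply Subtype.ext
    apply c.tf hn
    have := congrArg Subtype.val h2
    simpa using this
  · intro p hp n hn
    rw [Subgroup.mem_subgroupOf] at hp hn
    apply Subtype.ext
    have := Subgroup.mem_centralizer_iff.mp hp.2 n hn
    exact this.symm
  · intro h
    have hh : (h : G) ∈ A ⊔ centralizer (A : Set G) := by
      rw [sup_comm]; exact h.2
    rw [Cfsg.Agent.Helper7.mem_sup_of_le_normalizer (Subgroup.centralizer_le_normalizer _)] at hh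
    obtain ⟨a, ha, b, hb, hab⟩ := hh
    have hba : a * b = b * a := Subgroup.mem_centralizer_iff.mp hb a ha
    refine ⟨⟨b, Subgroup.mem_sup_left hb⟩, ?_, ?_⟩
    · intro n hn
      rw [Subgroup.mem_subgroupOf] at hn
      apply Subtype.ext
      have := Subgroup.mem_centralizer_iff.mp hb n hn
      exact this.symm
    · rw [Subgroup.mem_subgroupOf]
      change b⁻¹ * (h : G) ∈ A
      have : b⁻¹ * (h : G) = a := by
        rw [← hab, hba]; group
      rw [this]
      exact ha
  · intro x hxN hxP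
    have hxA := hcentA x hxN
    have hxD : (x : G) ∈ centralizer ((A ⊔ (Q ⊓ centralizer (A : Set G)) : Subgroup G) : Set G) := by
      have h : A ⊔ (Q ⊓ centralizer (A : Set G)) ≤ centralizer ({(x : G)} : Set G) := by
        apply sup_le
        · intro a ha
          rw [Subgroup.mem_centralizer_singleton_iff]
          exact Subgroup.mem_centralizer_iff.mp hxA a ha
        · intro q hq
          rw [Subgroup.mem_centralizer_singleton_iff]
          have := hxP ⟨q, hRM hq⟩ (by rw [Subgroup.mem_subgroupOf]; exact hq)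
          exact (congrArg Subtype.val this).symm
      rw [Subgroup.mem_centralizer_iff]
      intro y hy
      have := h hy
      rw [Subgroup.mem_centralizer_singleton_iff] at this
      exact this
    have hxz : (x : G) * z = z * (x : G) := by
      have := Subgroup.mem_centralizer_iff.mp hxD z (Subgroup.mem_sup_right c.zR)
      exact this.symm
    rcases c.cent_sup hO h4 hxD with h | h
    · left
      rw [Subgroup.mem_subgroupOf]; exact h
    · right
      rw [Subgroup.mem_subgroupOf]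
      change z⁻¹ * (x : G) ∈ A
      rw [c.les.z_inv, ← hxz]
      exact h
  · intro x hxN hxz p hp
    rw [Subgroup.mem_subgroupOf] at hp ⊢
    have hxA := hcentA x hxN
    have hxz' : (x : G) * z = z * (x : G) := congrArg Subtype.val hxz
    refine ⟨c.les.norm _ hxz' _ hp.1, ?_⟩
    exact Subgroup.mul_mem _ (Subgroup.mul_mem _ hxA hp.2) (Subgroup.inv_mem _ hxA)

/-- conclusion (ii) of S5428 -/
theorem large (c : ACfg Q z A)
    (hO : (Cfsg.oddCore ↥(centralizer ((A ⊔ (Q ⊓ centralizer (A : Set G)) : Subgroup G) : Set G))).map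
      (centralizer ((A ⊔ (Q ⊓ centralizer (A : Set G)) : Subgroup G) : Set G)).subtype ≤ A)
    (h4 : ¬ 4 ∣ Nat.card ↥(centralizer ((A ⊔ (Q ⊓ centralizer (A : Set G)) : Subgroup G) : Set G)))
    (h32 : 32 ≤ Nat.card ↥(Q ⊓ centralizer (A : Set G)))
    (g : G) (haR : g * z * g⁻¹ ∈ Q ⊓ centralizer (A : Set G)) (haz : g * z * g⁻¹ ≠ z)
    [hn : (A.subgroupOf (centralizer (A : Set G) ⊔ A)).Normal] :
    Cfsg.IsLargeExtraspecial
      (((Q ⊓ centralizer (A : Set G)).subgroupOf (centralizer (A : Set G) ⊔ A)).map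
        (QuotientGroup.mk' (A.subgroupOf (centralizer (A : Set G) ⊔ A)))) := by
  haveI : Fact (Nat.Prime 2) := ⟨Nat.prime_two⟩
  have s := c.osetup hO h4 h32
  set M := centralizer (A : Set G) ⊔ A with hM
  set N := A.subgroupOf M with hN
  set P' := (Q ⊓ centralizer (A : Set G)).subgroupOf M with hP'
  have hRM : Q ⊓ centralizer (A : Set G) ≤ M := inf_le_right.trans le_sup_left
  obtain ⟨x, hx, hxa⟩ := c.exists_fuse g haR haz
  have hxM : x ∈ M := by
    have : (Q ⊓ centralizer (A : Set G)) ⊔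
        (Q.map (MulAut.conj g).toMonoidHom ⊓ centralizer (A : Set G)) ≤ M :=
      sup_le hRM (inf_le_right.trans le_sup_left)
    exact this hx
  have haM : g * z * g⁻¹ ∈ M := hRM haR
  set a' : ↥M := ⟨g * z * g⁻¹, haM⟩ with ha'
  set x' : ↥M := ⟨x, hxM⟩ with hx'
  have hconj : x'⁻¹ * c.ζM * x'⁻¹⁻¹ = a' := by
    apply Subtype.ext
    change x⁻¹ * z * x⁻¹⁻¹ = g * z * g⁻¹
    calc x⁻¹ * z * x⁻¹⁻¹ = x⁻¹ * (x * (g * z * g⁻¹) * x⁻¹) * x := by rw [hxa, inv_inv]
      _ = g * z * g⁻¹ := by group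
  have ha'P : a' ∈ P' := by
    rw [hP', Subgroup.mem_subgroupOf]
    exact haR
  have hnot : ¬ (QuotientGroup.mk' N a' = 1 ∨ QuotientGroup.mk' N a' = QuotientGroup.mk' N c.ζM) := by
    rintro (h | h)
    · rw [OSetup.mk_eq_one] at h
      have := s.eq_one_of_mem ha'P h
      exact (c.les.conj g).ne_one (congrArg Subtype.val this)
    · have := s.inj ha'P s.ζP h
      exact haz (congrArg Subtype.val this)
  obtain ⟨w, hw1, hcardw⟩ := Cfsg.Agent.S0095.result s.isExtraspecial
  have hw : 2 ≤ w := by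
    have h1 := s.card_map
    have h2 : Nat.card ↥P' = Nat.card ↥(Q ⊓ centralizer (A : Set G) : Subgroup G) :=
      Nat.card_congr (Subgroup.subgroupOfEquivOfLe hRM).toEquiv
    rw [hcardw, h2] at h1
    by_contra hcon
    have hw' : w = 1 := by omega
    rw [hw'] at h1
    have h8 : (2 : ℕ) ^ (2 * 1 + 1) = 8 := by norm_num
    rw [h8] at h1
    omega
  have hgb : (QuotientGroup.mk' N x'⁻¹) * (QuotientGroup.mk' N c.ζM) * (QuotientGroup.mk' N x'⁻¹)⁻¹
      = QuotientGroup.mk' N a' := by
    rw [← map_inv, ← map_mul, ← map_mul, hconj]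
  have key := Cfsg.Agent.S5422.result (P'.map (QuotientGroup.mk' N)) s.isExtraspecial
    s.centralizer_eq s.centralizer_center_le w hw hcardw
    (QuotientGroup.mk' N x'⁻¹) ?_ ?_
  · exact key.2.2
  · intro hmem
    rw [s.center_image_eq] at hmem
    have h1 := (Subgroup.mem_normalizer_iff.mp hmem (QuotientGroup.mk' N c.ζM)).mp
      (Subgroup.mem_zpowers _)
    rw [hgb, ← s.center_image_eq, s.mem_center_image] at h1
    exact hnot h1
  · rw [s.center_image_eq, MonoidHom.map_zpowers, Subgroup.zpowers_le]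
    change (QuotientGroup.mk' N x'⁻¹) * (QuotientGroup.mk' N c.ζM) * (QuotientGroup.mk' N x'⁻¹)⁻¹ ∈ _
    rw [hgb]
    exact Subgroup.mem_map_of_mem _ ha'P

end ACfg

end Cfsg.Agent.Helper27.LES
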