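import Mathlib
import Cfsg.Agent.Helper27.LES1

/-!
# Large extraspecial 2-subgroups: the case `F(G) = 1` (towards S5426)
-/

set_option autoImplicit false
set_option linter.style.haveILetI false
set_option linter.unusedSectionVars false

namespace Cfsg.Agent.Helper27.LES

open Cfsg Subgroup Cfsg.Agent.Helper14 Cfsg.Agent.Helper7

universe u

variable {G : Type u} [Group G] [Finite G] {Q : Subgroup G} {z : G}

/-- components have trivial centre when `F(G) = 1` -/
theorem comp_inf_centralizer (hF : fittingSubgroup G = ⊥) {L : Subgroup G} (hL : IsComponent L) :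
    L ⊓ centralizer (L : Set G) = ⊥ := by
  rw [← map_subtype_center, eq_bot_iff, ← hF]
  apply subnormal_nilpotent_le_fittingSubgroup
  · exact (Subgroup.Normal.isSubnormal inferInstance).trans' hL.1
  · haveI : IsMulCommutative ((center L).map L.subtype) := Subgroup.map_isMulCommutative _ _
    exact isNilpotent_of_isMulCommutative _

/-- A perfect finite group has no involution whose centralizer is `{1, t}` (Burnside transfer),
and is not trivial either. -/
theorem no_small_centralizer {Γ : Type u} [Group Γ] [Finite Γ] [Nontrivial Γ]
    (hperf : Group.IsPerfect Γ) (t : Γ) (hC : ∀ x : Γ, x * t = t * x → x = 1 ∨ x = t) : False := by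
  haveI : Fact (Nat.Prime 2) := ⟨Nat.prime_two⟩
  by_cases ht : t = 1
  · subst ht
    obtain ⟨x, hx⟩ := exists_ne (1 : Γ)
    rcases hC x (by simp) with h | h <;> exact hx h
  · -- a Sylow 2-subgroup containing t
    -- t has order 2 or ... we only need: zpowers t is a 2-group
    have htt : t * t = 1 := by
      rcases hC (t * t) (by group) with h | h
      · exact h
      · exfalso
        apply ht
        have : t * t = t * 1 := by rw [mul_one]; exact h
        exact mul_left_cancel this
    have hpg : IsPGroup 2 (zpowers t) := by
      rw [IsPGroup.iff_card]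
      refine ⟨1, ?_⟩
      rw [Nat.card_zpowers, pow_one]
      exact orderOf_eq_prime (by rw [pow_two]; exact htt) ht
    obtain ⟨P, hP⟩ := hpg.exists_le_sylow
    have htP : t ∈ (P : Subgroup Γ) := hP (mem_zpowers t)
    haveI : Nontrivial (P : Subgroup Γ) := by
      rw [Subgroup.nontrivial_iff_ne_bot]
      intro hb
      rw [hb, Subgroup.mem_bot] at htP
      exact ht htP
    have hcnt : Nontrivial (center (P : Subgroup Γ)) := P.isPGroup'.center_nontrivial
    obtain ⟨c, hc1⟩ := exists_ne (1 : center (P : Subgroup Γ))
    have hct : ((c : (P : Subgroup Γ)) : Γ) = t := by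
      have hcomm : ((c : (P : Subgroup Γ)) : Γ) * t = t * ((c : (P : Subgroup Γ)) : Γ) := by
        have := Subgroup.mem_center_iff.mp c.2 ⟨t, htP⟩
        have h2 := congrArg Subtype.val this
        exact h2.symm
      rcases hC _ hcomm with h | h
      · exfalso
        apply hc1
        apply Subtype.ext
        apply Subtype.ext
        exact h
      · exact h
    have hPelts : ∀ x ∈ (P : Subgroup Γ), x = 1 ∨ x = t := by
      intro x hx
      apply hC
      have := Subgroup.mem_center_iff.mp c.2 ⟨x, hx⟩
      have h2 := congrArg Subtype.val this
      simp only [Subgroup.coe_mul] at h2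
      rw [hct] at h2
      exact h2
    have hN : normalizer ((P : Subgroup Γ) : Set Γ) ≤ centralizer ((P : Subgroup Γ) : Set Γ) := by
      intro g hg
      have hgt : g * t * g⁻¹ ∈ (P : Subgroup Γ) := (Subgroup.mem_normalizer_iff.mp hg t).mp htP
      have hgt' : g * t = t * g := by
        rcases hPelts _ hgt with h | h
        · exfalso
          apply ht
          have : t = g⁻¹ * (g * t * g⁻¹) * g := by group
          rw [this, h]; group
        · have : g * t = (g * t * g⁻¹) * g := by group
          rw [this, h]
      rw [Subgroup.mem_centralizer_iff]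
      intro y hy
      rcases hPelts y hy with h | h
      · rw [h]; simp
      · rw [h]; exact hgt'.symm
    have hker : (MonoidHom.transferSylow P hN).ker = ⊤ := by
      rw [eq_top_iff, ← hperf.commutator_eq_top, commutator_def, Subgroup.commutator_le]
      intro a _ b _
      rw [MonoidHom.mem_ker, map_commutatorElement]
      have hab : ∀ x y : (P : Subgroup Γ), x * y = y * x := by
        intro x y
        apply Subtype.ext
        simp only [Subgroup.coe_mul]
        rcases hPelts x x.2 with hx | hx <;> rcases hPelts y y.2 with hy | hy <;> simp [hx, hy]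
      rw [commutatorElement_def, hab (MonoidHom.transferSylow P hN a) (MonoidHom.transferSylow P hN b)]
      rw [mul_inv_cancel_right, mul_inv_cancel]
    have hcompl := MonoidHom.ker_transferSylow_isComplement' P hN
    have hcard := hcompl.card_mul_card
    rw [hker, Subgroup.card_top] at hcard
    have h1 : Nat.card (P : Subgroup Γ) = 1 := by
      have hpos : 0 < Nat.card Γ := Nat.card_pos
      exact Nat.eq_of_mul_eq_mul_left hpos (by rw [hcard, mul_one])
    have := (Subgroup.card_eq_one (H := (P : Subgroup Γ))).mp h1
    rw [this, Subgroup.mem_bot] at htP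
    exact ht htP

end Cfsg.Agent.Helper27.LES
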