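import Mathlib
import Cfsg.Agent.Helper27.LES2

/-!
# Large extraspecial 2-subgroups: `Q` is transitive on components; `⟨z^G⟩ = E(G)` (towards S5426)
-/

set_option autoImplicit false
set_option linter.style.haveILetI false
set_option linter.unusedSectionVars false

namespace Cfsg.Agent.Helper27.LES

open Cfsg Subgroup Cfsg.Agent.Helper14 Cfsg.Agent.Helper7

universe u

variable {G : Type u} [Group G]

/-- join of the `Q`-conjugates of `L` -/
def orb (Q L : Subgroup G) : Subgroup G := ⨆ q : Q, L.map (cj (q : G))

theorem conj_le_orb {Q L : Subgroup G} {q : G} (hq : q ∈ Q) : L.map (cj q) ≤ orb Q L :=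
  le_iSup (fun q : Q => L.map (cj (q : G))) ⟨q, hq⟩

theorem le_orb {Q L : Subgroup G} : L ≤ orb Q L := by
  have := conj_le_orb (L := L) Q.one_mem
  rwa [map_cj_one] at this

theorem orb_normalized {Q L : Subgroup G} : Q ≤ normalizer (orb Q L : Set G) := by
  intro q hq
  rw [mem_normalizer_iff_map_cj]
  unfold orb
  rw [Subgroup.map_iSup]
  apply le_antisymm
  · apply iSup_le
    intro r
    rw [map_cj_mul]
    exact conj_le_orb (Q.mul_mem hq r.2)
  · apply iSup_le
    intro r
    have : L.map (cj (r : G)) = (L.map (cj (q⁻¹ * r))).map (cj q) := by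
      rw [map_cj_mul]
      congr 2
      group
    rw [this]
    exact le_iSup (fun r : Q => (L.map (cj (r : G))).map (cj q))
      ⟨q⁻¹ * r, Q.mul_mem (Q.inv_mem hq) r.2⟩

variable [Finite G] {Q : Subgroup G} {z : G}

theorem LQ.z_mem_orb (h : LQ Q z) {L : Subgroup G} (hL : IsComponent L) : z ∈ orb Q L :=
  h.z_mem_of_invariant orb_normalized (ne_bot_of_le_ne_bot (IsComponent.ne_bot hL) le_orb)

/-- `Q` is transitive on the components. -/
theorem LQ.exists_conj_eq (h : LQ Q z) {L L' : Subgroup G} (hL : IsComponent L)
    (hL' : IsComponent L') : ∃ q ∈ Q, L' = L.map (cj q) := by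
  by_contra hne
  push Not at hne
  apply h.not_le_centralizer hL'
  have hle : orb Q L ≤ centralizer (L' : Set G) := by
    apply iSup_le
    intro q
    have hc := components_commute hL' (isComponent_map_conj hL q) (hne q q.2)
    rw [commutator_comm, commutator_eq_bot_iff_le_centralizer] at hc
    exact hc
  have hz := hle (h.z_mem_orb hL)
  intro l hl
  rw [Subgroup.mem_centralizer_iff]
  intro y hy
  rw [Set.mem_singleton_iff] at hy
  subst hy
  exact (Subgroup.mem_centralizer_iff.mp hz l hl).symm

theorem LQ.layer_eq_orb (h : LQ Q z) {L : Subgroup G} (hL : IsComponent L) :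
    layer G = orb Q L := by
  apply le_antisymm
  · rw [layer_le_iff]
    intro L' hL'
    obtain ⟨q, hq, rfl⟩ := h.exists_conj_eq hL hL'
    exact conj_le_orb hq
  · apply iSup_le
    intro q
    exact IsComponent.le_layer (isComponent_map_conj hL q)

theorem LQ.z_mem_layer (h : LQ Q z) {L : Subgroup G} (hL : IsComponent L) : z ∈ layer G := by
  rw [h.layer_eq_orb hL]; exact h.z_mem_orb hL

/-- every component lies in the normal closure of `z` (when `F(G) = 1`). -/
theorem LQ.component_le_normalClosure (h : LQ Q z) (hF : fittingSubgroup G = ⊥)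
    {L : Subgroup G} (hL : IsComponent L) : L ≤ normalClosure ({z} : Set G) := by
  set M := normalClosure ({z} : Set G) with hM
  have hzM : z ∈ M := Subgroup.subset_normalClosure (Set.mem_singleton z)
  haveI : (M.subgroupOf L).Normal := Subgroup.Normal.subgroupOf inferInstance L
  rcases IsQuasisimple.normal_eq_top_or_le_center hL.2 (M.subgroupOf L) with ht | hc
  · exact Subgroup.subgroupOf_eq_top.mp ht
  · exfalso
    apply h.not_le_centralizer hL
    have hML : M ⊓ L = ⊥ := by
      rw [eq_bot_iff, ← comp_inf_centralizer hF hL, ← map_subtype_center]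
      intro x hx
      obtain ⟨hxM, hxL⟩ := Subgroup.mem_inf.mp hx
      exact ⟨⟨x, hxL⟩, hc (Subgroup.mem_subgroupOf.mpr hxM), rfl⟩
    have hzN : z ∈ normalizer (L : Set G) :=
      layer_le_normalizer_component hL (h.z_mem_layer hL)
    intro l hl
    rw [Subgroup.mem_centralizer_iff]
    intro y hy
    rw [Set.mem_singleton_iff] at hy
    subst hy
    have h1 : y * l * y⁻¹ * l⁻¹ ∈ M ⊓ L := by
      refine Subgroup.mem_inf.mpr ⟨?_, ?_⟩
      · have : y * l * y⁻¹ * l⁻¹ = y * (l * y⁻¹ * l⁻¹) := by group
        rw [this]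
        exact M.mul_mem hzM ((inferInstance : M.Normal).conj_mem _ (M.inv_mem hzM) l)
      · exact L.mul_mem ((Subgroup.mem_normalizer_iff.mp hzN l).mp hl) (L.inv_mem hl)
    rw [hML, Subgroup.mem_bot] at h1
    have : y * l = (y * l * y⁻¹ * l⁻¹) * (l * y) := by group
    rw [this, h1, one_mul]

theorem LQ.normalClosure_eq_layer (h : LQ Q z) (hF : fittingSubgroup G = ⊥)
    {L : Subgroup G} (hL : IsComponent L) : normalClosure ({z} : Set G) = layer G := by
  apply le_antisymm
  · exact Subgroup.normalClosure_le_normal (Set.singleton_subset_iff.mpr (h.z_mem_layer hL))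
  · rw [layer_le_iff]
    intro L' hL'
    exact h.component_le_normalClosure hF hL'

/-- when `F(G) = 1` there is a component -/
theorem LQ.exists_component (h : LQ Q z) (hF : fittingSubgroup G = ⊥) :
    ∃ L : Subgroup G, IsComponent L := by
  by_contra hne
  push Not at hne
  have hlayer : layer G = ⊥ := by
    rw [eq_bot_iff, layer_le_iff]
    intro L hL
    exact absurd hL (hne L)
  have hFs : generalizedFittingSubgroup G = ⊥ := by
    unfold generalizedFittingSubgroup
    rw [hlayer, hF, bot_sup_eq]
  have := centralizer_generalizedFitting_le (G := G)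
  rw [hFs] at this
  have hz : z ∈ centralizer (((⊥ : Subgroup G) : Subgroup G) : Set G) := by
    rw [Subgroup.mem_centralizer_iff]
    intro y hy
    have : y = 1 := by simpa using hy
    subst this
    simp
  exact h.z1 (Subgroup.mem_bot.mp (this hz))

end Cfsg.Agent.Helper27.LES
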