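import Mathlib
import Cfsg.Agent.Helper27.LES3

/-!
# Large extraspecial 2-subgroups: at most two components (towards S5426)
-/

set_option autoImplicit false
set_option linter.style.haveILetI false
set_option linter.unusedSectionVars false

namespace Cfsg.Agent.Helper27.LES

open Cfsg Subgroup Cfsg.Agent.Helper14 Cfsg.Agent.Helper7

universe u

variable {G : Type u} [Group G]

/-- join of the `Q`-conjugates of `L` different from `L` -/
def oth (Q L : Subgroup G) : Subgroup G :=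
  ⨆ q : Q, ⨆ (_ : L.map (cj (q : G)) ≠ L), L.map (cj (q : G))

theorem conj_le_oth {Q L : Subgroup G} {q : G} (hq : q ∈ Q) (hne : L.map (cj q) ≠ L) :
    L.map (cj q) ≤ oth Q L :=
  le_iSup₂_of_le (f := fun (q : Q) (_ : L.map (cj (q : G)) ≠ L) => L.map (cj (q : G)))
    ⟨q, hq⟩ hne le_rfl

theorem orb_eq_sup {Q L : Subgroup G} : orb Q L = L ⊔ oth Q L := by
  apply le_antisymm
  · apply iSup_le
    intro q
    by_cases hq : L.map (cj (q : G)) = L
    · rw [hq]; exact le_sup_left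
    · exact (conj_le_oth q.2 hq).trans le_sup_right
  · apply sup_le le_orb
    apply iSup₂_le
    intro q _
    exact conj_le_orb q.2

variable [Finite G] {Q L : Subgroup G} {z : G}

theorem oth_le_centralizer (hL : IsComponent L) : oth Q L ≤ centralizer (L : Set G) := by
  apply iSup₂_le
  intro q hne
  have hc := components_commute hL (isComponent_map_conj hL q) (Ne.symm hne)
  rw [commutator_comm, commutator_eq_bot_iff_le_centralizer] at hc
  exact hc

theorem comm_oth (hL : IsComponent L) {a b : G} (ha : a ∈ L) (hb : b ∈ oth Q L) :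
    a * b = b * a :=
  Subgroup.mem_centralizer_iff.mp (oth_le_centralizer hL hb) a ha

theorem decomp_unique (hF : fittingSubgroup G = ⊥) (hL : IsComponent L) {a a' b b' : G}
    (ha : a ∈ L) (ha' : a' ∈ L) (hb : b ∈ oth Q L) (hb' : b' ∈ oth Q L)
    (he : a * b = a' * b') : a = a' ∧ b = b' := by
  have h1 : a'⁻¹ * a = b' * b⁻¹ := by
    have : a'⁻¹ * (a * b) * b⁻¹ = a'⁻¹ * (a' * b') * b⁻¹ := by rw [he]
    simpa [mul_assoc] using this
  have h2 : a'⁻¹ * a ∈ L ⊓ centralizer (L : Set G) := by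
    refine Subgroup.mem_inf.mpr ⟨L.mul_mem (L.inv_mem ha') ha, ?_⟩
    rw [h1]
    exact oth_le_centralizer hL ((oth Q L).mul_mem hb' ((oth Q L).inv_mem hb))
  rw [comp_inf_centralizer hF hL, Subgroup.mem_bot] at h2
  have haa : a = a' := by
    have : a = a' * (a'⁻¹ * a) := by group
    rw [this, h2, mul_one]
  refine ⟨haa, ?_⟩
  subst haa
  exact mul_left_cancel he

/-- the decomposition `z = z₁ d` -/
theorem LQ.exists_decomp (h : LQ Q z) (hL : IsComponent L) :
    ∃ z₁ ∈ L, ∃ d ∈ oth Q L, z = z₁ * d := by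
  have hz := h.z_mem_orb hL
  rw [orb_eq_sup] at hz
  have hN : oth Q L ≤ normalizer (L : Set G) :=
    (oth_le_centralizer hL).trans (Subgroup.centralizer_le_normalizer _)
  obtain ⟨a, ha, b, hb, hab⟩ := (mem_sup_of_le_normalizer hN).mp hz
  exact ⟨a, ha, b, hb, hab.symm⟩

theorem LQ.z_normalizes (h : LQ Q z) {L' : Subgroup G} (hL' : IsComponent L') :
    L'.map (cj z) = L' :=
  mem_normalizer_iff_map_cj.mp (layer_le_normalizer_component hL' (h.z_mem_layer hL'))

theorem LQ.map_cj_inv (h : LQ Q z) (hL : IsComponent L) {v : G} (hv : v ∈ Q) :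
    L.map (cj v⁻¹) = L.map (cj v) := by
  rcases h.sq v hv with h1 | h1
  · have : v⁻¹ = v := inv_eq_of_mul_eq_one_left h1
    rw [this]
  · have : v⁻¹ = z * v := by
      have : v⁻¹ = (v * v)⁻¹ * v := by group
      rw [this, h1, h.zinv]
    rw [this, ← map_cj_mul]
    exact h.z_normalizes (isComponent_map_conj hL v)

section main

variable (h : LQ Q z) (hF : fittingSubgroup G = ⊥) (hL : IsComponent L)
  {z₁ d : G} (hz₁ : z₁ ∈ L) (hd : d ∈ oth Q L) (hzd : z = z₁ * d)
include h hL hz₁ hd hzd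

theorem LQ.comm_z_of_comm {x : G} (hx : x ∈ L) (hxz : x * z₁ = z₁ * x) : x * z = z * x := by
  rw [hzd]
  calc x * (z₁ * d) = (x * z₁) * d := by group
    _ = z₁ * (x * d) := by rw [hxz]; group
    _ = z₁ * (d * x) := by rw [comm_oth hL hx hd]
    _ = z₁ * d * x := by group

theorem LQ.comm_mem {x : G} (hx : x ∈ L) (hxz : x * z₁ = z₁ * x) {u : G} (hu : u ∈ Q) :
    x⁻¹ * (u * x * u⁻¹) ∈ Q := by
  have h1 := h.comm_z_of_comm hL hz₁ hd hzd hx hxz
  have h2 : x⁻¹ * z = z * x⁻¹ := by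
    have : x⁻¹ * (x * z) * x⁻¹ = x⁻¹ * (z * x) * x⁻¹ := by rw [h1]
    simpa [mul_assoc] using this.symm
  have h3 := h.nrm x⁻¹ h2 u hu
  rw [inv_inv] at h3
  have : x⁻¹ * (u * x * u⁻¹) = (x⁻¹ * u * x) * u⁻¹ := by group
  rw [this]
  exact Q.mul_mem h3 (Q.inv_mem hu)

include hF in
theorem LQ.z₁_sq : z₁ * z₁ = 1 := by
  have h1 : (z₁ * z₁) * (d * d) = 1 * 1 := by
    have : z * z = 1 := h.zz
    rw [hzd] at this
    rw [mul_one]
    calc (z₁ * z₁) * (d * d) = z₁ * (z₁ * d) * d := by group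
      _ = z₁ * (d * z₁) * d := by rw [comm_oth hL hz₁ hd]
      _ = (z₁ * d) * (z₁ * d) := by group
      _ = 1 := this
  exact (decomp_unique hF hL (L.mul_mem hz₁ hz₁) L.one_mem ((oth Q L).mul_mem hd hd)
    (oth Q L).one_mem h1).1

include hF in
/-- three distinct conjugates: the centralizer of `z₁` in `L` is `{1, z₁}` -/
theorem LQ.small_of_three {u v : G} (hu : u ∈ Q) (hv : v ∈ Q) (hLu : L.map (cj u) ≠ L)
    (hLv : L.map (cj v) ≠ L) (huv : L.map (cj v) ≠ L.map (cj u))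
    {x : G} (hx : x ∈ L) (hxz : x * z₁ = z₁ * x) : x = 1 ∨ x = z₁ := by
  set a := x⁻¹ * (u * x * u⁻¹) with ha
  have haQ : a ∈ Q := h.comm_mem hL hz₁ hd hzd hx hxz hu
  -- w = a⁻¹ * (v a v⁻¹) ∈ {1, z}
  have hw : a⁻¹ * (v * a * v⁻¹) = 1 ∨ a⁻¹ * (v * a * v⁻¹) = z := by
    rcases h.comm a haQ v hv with h1 | h1
    · left
      have : v * a = a * v := h1.symm
      calc a⁻¹ * (v * a * v⁻¹) = a⁻¹ * ((v * a) * v⁻¹) := by group
        _ = a⁻¹ * ((a * v) * v⁻¹) := by rw [this]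
        _ = 1 := by group
    · right
      have hvz : v * z = z * v := h.central v hv
      have : v * a = a * v * z := by
        calc v * a = v * a * (z * z) := by rw [h.zz, mul_one]
          _ = (v * a * z) * z := by group
          _ = a * v * z := by rw [← h1]
      calc a⁻¹ * (v * a * v⁻¹) = a⁻¹ * ((v * a) * v⁻¹) := by group
        _ = a⁻¹ * ((a * v * z) * v⁻¹) := by rw [this]
        _ = (v * z) * v⁻¹ := by group
        _ = (z * v) * v⁻¹ := by rw [hvz]
        _ = z := by group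
  -- the third conjugate
  have hLvu : L.map (cj (v * u)) ≠ L := by
    intro hcon
    apply huv
    rw [← map_cj_mul] at hcon
    have : L.map (cj u) = L.map (cj v⁻¹) := by
      rw [← hcon, map_cj_map_cj_inv]
      rw [hcon]
    rw [this, h.map_cj_inv hL hv]
  set e₁ := u * x⁻¹ * u⁻¹ with he₁
  set e₂ := v * x⁻¹ * v⁻¹ with he₂
  set e₃ := (v * u) * x * (v * u)⁻¹ with he₃
  have hmem : ∀ (q y : G), y ∈ L → q * y * q⁻¹ ∈ L.map (cj q) := fun q y hy => ⟨y, hy, rfl⟩
  have he₁m : e₁ ∈ oth Q L := conj_le_oth hu hLu (hmem u _ (L.inv_mem hx))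
  have he₂m : e₂ ∈ oth Q L := conj_le_oth hv hLv (hmem v _ (L.inv_mem hx))
  have he₃m : e₃ ∈ oth Q L := conj_le_oth (Q.mul_mem hv hu) hLvu (hmem (v * u) _ hx)
  have hwx : a⁻¹ * (v * a * v⁻¹) = x * (e₁ * e₂ * e₃) := by
    have h1 : a⁻¹ = e₁ * x := by rw [ha, he₁]; group
    have h2 : v * a * v⁻¹ = e₂ * e₃ := by rw [ha, he₂, he₃]; group
    rw [h1, h2, ← comm_oth hL hx he₁m]
    group
  have hsm : e₁ * e₂ * e₃ ∈ oth Q L := (oth Q L).mul_mem ((oth Q L).mul_mem he₁m he₂m) he₃m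
  rcases hw with h1 | h1
  · left
    rw [hwx] at h1
    have : x * (e₁ * e₂ * e₃) = 1 * 1 := by rw [h1, mul_one]
    exact (decomp_unique hF hL hx L.one_mem hsm (oth Q L).one_mem this).1
  · right
    rw [hwx, hzd] at h1
    exact (decomp_unique hF hL hx hz₁ hsm hd h1).1

end main

end Cfsg.Agent.Helper27.LES
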