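import Mathlib
import Cfsg.Agent.Helper27.LES4
import Cfsg.Agent.Helper1.PGroup
import Cfsg.Agent.Helper3.SylowSubnormal

/-!
# Large extraspecial 2-subgroups: the two-component case (towards S5426)
-/

set_option autoImplicit false
set_option linter.style.haveILetI false
set_option linter.unusedSectionVars false

namespace Cfsg.Agent.Helper27.LES

open Cfsg Subgroup Cfsg.Agent.Helper14 Cfsg.Agent.Helper7

universe u

/-- if all squares lie in a normal subgroup `W`, so does the Frattini subgroup -/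
theorem frattini_le_of_sq_mem {Γ : Type*} [Group Γ] [Finite Γ] (W : Subgroup Γ) [W.Normal]
    (hsq : ∀ g : Γ, g * g ∈ W) : frattini Γ ≤ W := by
  have hexp : ∀ a : Γ ⧸ W, a ^ 2 = 1 := by
    intro a
    induction a using QuotientGroup.induction_on with
    | H g =>
      rw [← QuotientGroup.mk_pow, QuotientGroup.eq_one_iff, pow_two]
      exact hsq g
  have hcomm : ∀ a b : Γ ⧸ W, a * b = b * a := by
    intro a b
    have h1 := hexp (a * b)
    have ha := hexp a
    have hb := hexp b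
    rw [pow_two] at h1 ha hb
    have ia : a⁻¹ = a := inv_eq_of_mul_eq_one_left ha
    have ib : b⁻¹ = b := inv_eq_of_mul_eq_one_left hb
    have iab : (a * b)⁻¹ = a * b := inv_eq_of_mul_eq_one_left h1
    calc a * b = (a * b)⁻¹ := iab.symm
      _ = b⁻¹ * a⁻¹ := mul_inv_rev a b
      _ = b * a := by rw [ia, ib]
  have hfr := Cfsg.Agent.Helper1.frattini_eq_bot_of_elementary Nat.prime_two hcomm hexp
  have h2 := frattini_le_comap_frattini_of_surjective (QuotientGroup.mk'_surjective W)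
  rw [hfr, MonoidHom.comap_bot, QuotientGroup.ker_mk'] at h2
  exact h2

variable {G : Type u} [Group G] [Finite G] {Q L : Subgroup G} {z : G}

/-- a component is simple when `F(G) = 1` -/
theorem isSimpleGroup_of_component (hF : fittingSubgroup G = ⊥) (hL : IsComponent L) :
    IsSimpleGroup L := by
  haveI := IsQuasisimple.nontrivial hL.2
  have hc : center L = ⊥ := by
    have := comp_inf_centralizer hF hL
    rw [← map_subtype_center] at this
    exact (Subgroup.map_eq_bot_iff_of_injective _ (Subgroup.subtype_injective _)).mp this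
  refine ⟨fun N hN => ?_⟩
  rcases IsQuasisimple.normal_eq_top_or_le_center hL.2 N with h | h
  · exact Or.inr h
  · left
    rw [hc] at h
    exact le_bot_iff.mp h

/-- the final contradiction: the centralizer of `z₁` in a component cannot be `{1, z₁}` -/
theorem false_of_small (hL : IsComponent L) {z₁ : G} (hz₁ : z₁ ∈ L)
    (hC : ∀ x ∈ L, x * z₁ = z₁ * x → x = 1 ∨ x = z₁) : False := by
  haveI := IsQuasisimple.nontrivial hL.2
  apply no_small_centralizer hL.2.1 (⟨z₁, hz₁⟩ : L)
  intro x hx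
  have := hC x x.2 (congrArg Subtype.val hx)
  rcases this with h | h
  · left; exact Subtype.ext h
  · right; exact Subtype.ext h

section two

variable (h : LQ Q z) (hF : fittingSubgroup G = ⊥) (hL : IsComponent L)
  {z₁ d : G} (hz₁ : z₁ ∈ L) (hd : d ∈ oth Q L) (hzd : z = z₁ * d)
  {u : G} (hu : u ∈ Q) (hLu : L.map (cj u) ≠ L)
  (hall : ∀ q ∈ Q, L.map (cj q) = L ∨ L.map (cj q) = L.map (cj u))

include hu hLu hall in
theorem oth_eq : oth Q L = L.map (cj u) := by
  apply le_antisymm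
  · apply iSup₂_le
    intro q hne
    rcases hall q q.2 with h1 | h1
    · exact absurd h1 hne
    · rw [h1]
  · exact conj_le_oth hu hLu

include h hL hu in
theorem LQ.map_uu : L.map (cj (u * u)) = L := by
  rcases h.sq u hu with h1 | h1
  · rw [h1, map_cj_one]
  · rw [h1]; exact h.z_normalizes hL

include h hF hL hz₁ hd hzd hu hLu hall in
theorem LQ.d_eq : d = u * z₁ * u⁻¹ := by
  have hoth := oth_eq hu hLu hall
  have hzu : u * z * u⁻¹ = z := by
    have := h.central u hu
    rw [this]; group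
  have h1 : u * z₁ * u⁻¹ ∈ oth Q L := by rw [hoth]; exact ⟨z₁, hz₁, rfl⟩
  have h2 : u * d * u⁻¹ ∈ L := by
    have hd' : d ∈ L.map (cj u) := by rw [← hoth]; exact hd
    have : u * d * u⁻¹ ∈ (L.map (cj u)).map (cj u) := ⟨d, hd', rfl⟩
    rwa [map_cj_mul, h.map_uu hL hu] at this
  have h3 : z₁ * d = (u * d * u⁻¹) * (u * z₁ * u⁻¹) := by
    rw [comm_oth hL h2 h1]
    have : (u * z₁ * u⁻¹) * (u * d * u⁻¹) = u * (z₁ * d) * u⁻¹ := by group
    rw [this, ← hzd, hzu]
  exact (decomp_unique hF hL hz₁ h2 hd h1 h3).2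

include h hF hL hz₁ hd hzd hu hLu hall in
/-- in the two-component case, elements of `C_L(z₁)` square into `{1, z₁}` -/
theorem LQ.sq_of_comm {x : G} (hx : x ∈ L) (hxz : x * z₁ = z₁ * x) :
    x * x = 1 ∨ x * x = z₁ := by
  set a := x⁻¹ * (u * x * u⁻¹) with ha
  have haQ : a ∈ Q := h.comm_mem hL hz₁ hd hzd hx hxz hu
  have hzsq := h.z₁_sq hF hL hz₁ hd hzd
  have hz₁inv : z₁⁻¹ = z₁ := inv_eq_of_mul_eq_one_left hzsq
  have he : u * x * u⁻¹ ∈ oth Q L := conj_le_oth hu hLu ⟨x, hx, rfl⟩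
  have hee : u * (x * x) * u⁻¹ ∈ oth Q L := conj_le_oth hu hLu ⟨x * x, L.mul_mem hx hx, rfl⟩
  have haa : a * a = (x⁻¹ * x⁻¹) * (u * (x * x) * u⁻¹) := by
    have hc := comm_oth hL (L.inv_mem hx) he
    calc a * a = x⁻¹ * ((u * x * u⁻¹) * x⁻¹) * (u * x * u⁻¹) := by rw [ha]; group
      _ = x⁻¹ * (x⁻¹ * (u * x * u⁻¹)) * (u * x * u⁻¹) := by rw [hc]
      _ = (x⁻¹ * x⁻¹) * (u * (x * x) * u⁻¹) := by group
  have hxx : x⁻¹ * x⁻¹ ∈ L := L.mul_mem (L.inv_mem hx) (L.inv_mem hx)
  rcases h.sq a haQ with h1 | h1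
  · left
    rw [haa] at h1
    have : (x⁻¹ * x⁻¹) * (u * (x * x) * u⁻¹) = 1 * 1 := by rw [h1, mul_one]
    have h2 := (decomp_unique hF hL hxx L.one_mem hee (oth Q L).one_mem this).1
    have : x * x = (x⁻¹ * x⁻¹)⁻¹ := by rw [mul_inv_rev, inv_inv]
    rw [this, h2, inv_one]
  · right
    rw [haa, hzd] at h1
    have h2 := (decomp_unique hF hL hxx hz₁ hee hd h1).1
    have : x * x = (x⁻¹ * x⁻¹)⁻¹ := by rw [mul_inv_rev, inv_inv]
    rw [this, h2, hz₁inv]

include h hF hL hz₁ hd hzd hu hLu hall in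
/-- in the two-component case, elements of `Q ∩ C_L(z₁)` lie in `{1, z₁}` -/
theorem LQ.small_of_mem {y : G} (hy : y ∈ L) (hyQ : y ∈ Q) : y = 1 ∨ y = z₁ := by
  have he : u * y * u⁻¹ ∈ oth Q L := conj_le_oth hu hLu ⟨y, hy, rfl⟩
  rcases h.comm y hyQ u hu with h1 | h1
  · left
    have h2 : y = u * y * u⁻¹ := by
      have : u * y * u⁻¹ = (u * y) * u⁻¹ := by group
      rw [this, ← h1]; group
    have h3 : y ∈ L ⊓ centralizer (L : Set G) :=
      Subgroup.mem_inf.mpr ⟨hy, by rw [h2]; exact oth_le_centralizer hL he⟩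
    rw [comp_inf_centralizer hF hL, Subgroup.mem_bot] at h3
    exact h3
  · right
    have hzu : u * z = z * u := h.central u hu
    have h2 : y * 1 = z₁ * ((u * y * u⁻¹) * d) := by
      have e1 : y = (u * y * z) * u⁻¹ := by rw [← h1]; group
      have e2 : (u * y * z) * u⁻¹ = (u * y * u⁻¹) * z := by
        have hzu' : z * u⁻¹ = u⁻¹ * z := by
          have : u⁻¹ * (u * z) * u⁻¹ = u⁻¹ * (z * u) * u⁻¹ := by rw [hzu]
          simpa [mul_assoc] using this
        calc (u * y * z) * u⁻¹ = u * y * (z * u⁻¹) := by group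
          _ = u * y * (u⁻¹ * z) := by rw [hzu']
          _ = (u * y * u⁻¹) * z := by group
      rw [mul_one]
      calc y = (u * y * u⁻¹) * z := by rw [← e2, ← e1]
        _ = ((u * y * u⁻¹) * z₁) * d := by rw [hzd]; group
        _ = (z₁ * (u * y * u⁻¹)) * d := by rw [comm_oth hL hz₁ he]
        _ = z₁ * ((u * y * u⁻¹) * d) := by group
    exact (decomp_unique hF hL hy hz₁ (oth Q L).one_mem ((oth Q L).mul_mem he hd) h2).1

end two

end Cfsg.Agent.Helper27.LES
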