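import Mathlib
import Cfsg.Agent.Helper27.LES5

/-!
# Large extraspecial 2-subgroups: Sylow / Frattini / `O₂(C(z))` in the two-component case
-/

set_option autoImplicit false
set_option linter.style.haveILetI false
set_option linter.unusedSectionVars false

namespace Cfsg.Agent.Helper27.LES

open Cfsg Subgroup Cfsg.Agent.Helper14 Cfsg.Agent.Helper7

universe u

variable {G : Type u} [Group G] [Finite G] {Q L : Subgroup G} {z : G}

section two

variable (h : LQ Q z) (hF : fittingSubgroup G = ⊥) (hL : IsComponent L)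
  {z₁ d : G} (hz₁ : z₁ ∈ L) (hd : d ∈ oth Q L) (hzd : z = z₁ * d)
  {u : G} (hu : u ∈ Q) (hLu : L.map (cj u) ≠ L)
  (hall : ∀ q ∈ Q, L.map (cj q) = L ∨ L.map (cj q) = L.map (cj u))

include h hF hL hz₁ hd hzd hu hLu hall

theorem LQ.pow_four_of_comm {x : G} (hx : x ∈ L) (hxz : x * z₁ = z₁ * x) :
    (x * x) * (x * x) = 1 := by
  rcases h.sq_of_comm hF hL hz₁ hd hzd hu hLu hall hx hxz with h1 | h1
  · rw [h1, mul_one]
  · rw [h1]; exact h.z₁_sq hF hL hz₁ hd hzd

theorem LQ.isPGroup_cent : IsPGroup 2 ↥(centralizer ({z₁} : Set G) ⊓ L : Subgroup G) := by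
  intro g
  refine ⟨2, ?_⟩
  obtain ⟨hg1, hg2⟩ := Subgroup.mem_inf.mp g.2
  have hc : (g : G) * z₁ = z₁ * (g : G) :=
    (Subgroup.mem_centralizer_iff.mp hg1 z₁ (Set.mem_singleton z₁)).symm
  have := h.pow_four_of_comm hF hL hz₁ hd hzd hu hLu hall hg2 hc
  apply Subtype.ext
  rw [Subgroup.coe_pow, Subgroup.coe_one]
  calc (g : G) ^ 2 ^ 2 = ((g : G) * g) * (g * g) := by
        norm_num [pow_succ, mul_assoc]
    _ = 1 := this

theorem LQ.exists_sylow :
    ∃ R : Sylow 2 ↥L, (R : Subgroup ↥L) = (centralizer ({z₁} : Set G)).subgroupOf L := by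
  haveI : Fact (Nat.Prime 2) := ⟨Nat.prime_two⟩
  obtain ⟨T, hT⟩ := h.pg.exists_le_sylow
  have hcardTL := Cfsg.Agent.Helper3.card_sylow_inf_subnormal T L hL.1
  -- z is central in T
  have hzT : ∀ t ∈ (T : Subgroup G), t * z = z * t := by
    haveI : Nontrivial (T : Subgroup G) := by
      rw [Subgroup.nontrivial_iff_ne_bot]
      intro hb
      have := hT h.zQ
      rw [hb, Subgroup.mem_bot] at this
      exact h.z1 this
    have hcnt : Nontrivial (center (T : Subgroup G)) := T.isPGroup'.center_nontrivial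
    obtain ⟨c, hc1⟩ := exists_ne (1 : center (T : Subgroup G))
    have hcz : ((c : (T : Subgroup G)) : G) = z := by
      have : ((c : (T : Subgroup G)) : G) = 1 ∨ ((c : (T : Subgroup G)) : G) = z := by
        apply h.cent
        intro q hq
        have := Subgroup.mem_center_iff.mp c.2 ⟨q, hT hq⟩
        exact (congrArg Subtype.val this).symm
      rcases this with h1 | h1
      · exfalso
        apply hc1
        apply Subtype.ext
        apply Subtype.ext
        exact h1
      · exact h1
    intro t ht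
    have := Subgroup.mem_center_iff.mp c.2 ⟨t, ht⟩
    have h2 := congrArg Subtype.val this
    simp only [Subgroup.coe_mul] at h2
    rw [hcz] at h2
    exact h2
  have hle : (T : Subgroup G) ⊓ L ≤ centralizer ({z₁} : Set G) ⊓ L := by
    intro t ht
    obtain ⟨ht1, ht2⟩ := Subgroup.mem_inf.mp ht
    refine Subgroup.mem_inf.mpr ⟨?_, ht2⟩
    rw [Subgroup.mem_centralizer_iff]
    intro y hy
    rw [Set.mem_singleton_iff] at hy
    subst hy
    have h1 := hzT t ht1
    rw [hzd] at h1
    have h2 : (t * y) * d = (y * t) * d := by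
      calc (t * y) * d = t * (y * d) := by group
        _ = y * d * t := h1
        _ = y * (d * t) := by group
        _ = y * (t * d) := by rw [comm_oth hL ht2 hd]
        _ = (y * t) * d := by group
    exact (mul_right_cancel h2).symm
  have hpg := h.isPGroup_cent hF hL hz₁ hd hzd hu hLu hall
  obtain ⟨k, hk⟩ := IsPGroup.iff_card.mp hpg
  have h1 : 2 ^ k ∣ Nat.card L := by
    rw [← hk]; exact Subgroup.card_dvd_of_le inf_le_right
  have h2 : k ≤ (Nat.card L).factorization 2 :=
    (Nat.Prime.pow_dvd_iff_le_factorization Nat.prime_two Nat.card_pos.ne').mp h1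
  have h3 : 2 ^ (Nat.card L).factorization 2 ≤ 2 ^ k := by
    rw [← hcardTL, ← hk]; exact Subgroup.card_le_of_le hle
  have h4 : (Nat.card L).factorization 2 ≤ k := (Nat.pow_le_pow_iff_right (by norm_num)).mp h3
  have hcard : Nat.card ((centralizer ({z₁} : Set G)).subgroupOf L)
      = 2 ^ (Nat.card L).factorization 2 := by
    rw [Cfsg.Agent.Helper3.card_subgroupOf_eq_card_inf, hk]
    congr 1
    omega
  exact ⟨Sylow.ofCard _ hcard, Sylow.coe_ofCard _ _⟩

theorem LQ.frattini_le (R : Subgroup ↥L)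
    (hR : R = (centralizer ({z₁} : Set G)).subgroupOf L) :
    (frattini ↥R).map ((L.subtype).comp R.subtype) ≤ zpowers z₁ := by
  set φ : ↥R →* G := (L.subtype).comp R.subtype with hφ
  have hcomm : ∀ g : ↥R, φ g * z₁ = z₁ * φ g := by
    intro g
    have hg : (g : ↥L) ∈ (centralizer ({z₁} : Set G)).subgroupOf L := by rw [← hR]; exact g.2
    rw [Subgroup.mem_subgroupOf] at hg
    exact (Subgroup.mem_centralizer_iff.mp hg z₁ (Set.mem_singleton z₁)).symm
  have hmemL : ∀ g : ↥R, φ g ∈ L := fun g => (g : ↥L).2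
  set W : Subgroup ↥R := (zpowers z₁).comap φ with hW
  haveI : W.Normal := by
    refine ⟨fun w hw g => ?_⟩
    rw [hW, Subgroup.mem_comap] at hw ⊢
    obtain ⟨k, hk⟩ := Subgroup.mem_zpowers_iff.mp hw
    rw [map_mul, map_mul, map_inv, ← hk]
    have hc : Commute (φ g) (z₁ ^ k) := Commute.zpow_right (hcomm g) k
    rw [hc.eq, mul_inv_cancel_right]
    exact Subgroup.zpow_mem_zpowers z₁ k
  have hsq : ∀ g : ↥R, g * g ∈ W := by
    intro g
    rw [hW, Subgroup.mem_comap, map_mul]
    rcases h.sq_of_comm hF hL hz₁ hd hzd hu hLu hall (hmemL g) (hcomm g) with h1 | h1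
    · rw [h1]; exact one_mem _
    · rw [h1]; exact Subgroup.mem_zpowers z₁
  have hfr := frattini_le_of_sq_mem W hsq
  exact (Subgroup.map_mono hfr).trans (Subgroup.map_comap_le _ _)

theorem LQ.ne_pCore :
    Q ≠ (pCore 2 ↥(centralizer ({z} : Set G))).map (centralizer ({z} : Set G)).subtype := by
  intro hQeq
  set C := centralizer ({z} : Set G) with hC
  have hoth := oth_eq hu hLu hall
  have hdeq := h.d_eq hF hL hz₁ hd hzd hu hLu hall
  -- the normal 2-subgroup `E(G) ∩ C` of `C`
  have hN₀ : IsPGroup 2 ↥((layer G).subgroupOf C) := by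
    intro e
    refine ⟨2, ?_⟩
    have heL : ((e : ↥C) : G) ∈ layer G := e.2
    have heC : ((e : ↥C) : G) * z = z * ((e : ↥C) : G) :=
      (Subgroup.mem_centralizer_iff.mp (e : ↥C).2 z (Set.mem_singleton z)).symm
    set e' : G := ((e : ↥C) : G) with he'
    rw [h.layer_eq_orb hL, orb_eq_sup] at heL
    have hN : oth Q L ≤ normalizer (L : Set G) :=
      (oth_le_centralizer hL).trans (Subgroup.centralizer_le_normalizer _)
    obtain ⟨l, hl, d', hd', hld⟩ := (mem_sup_of_le_normalizer hN).mp heL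
    -- l commutes with z₁ and d' with d
    have hkey : (l * z₁) * (d' * d) = (z₁ * l) * (d * d') := by
      have e1 : (l * z₁) * (d' * d) = (l * d') * (z₁ * d) := by
        calc (l * z₁) * (d' * d) = l * (z₁ * d') * d := by group
          _ = l * (d' * z₁) * d := by rw [comm_oth hL hz₁ hd']
          _ = (l * d') * (z₁ * d) := by group
      have e2 : (z₁ * l) * (d * d') = (z₁ * d) * (l * d') := by
        calc (z₁ * l) * (d * d') = z₁ * (l * d) * d' := by group
          _ = z₁ * (d * l) * d' := by rw [comm_oth hL hl hd]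
          _ = (z₁ * d) * (l * d') := by group
      rw [e1, e2, hld, ← hzd]
      exact heC
    obtain ⟨hk1, hk2⟩ := decomp_unique hF hL (L.mul_mem hl hz₁) (L.mul_mem hz₁ hl)
      ((oth Q L).mul_mem hd' hd) ((oth Q L).mul_mem hd hd') hkey
    have hl4 := h.pow_four_of_comm hF hL hz₁ hd hzd hu hLu hall hl hk1
    -- d' = u l' u⁻¹
    have hd'u : u⁻¹ * d' * u ∈ L := by
      have : d' ∈ L.map (cj u) := by rw [← hoth]; exact hd'
      exact (mem_map_cj u d').mp this
    set l' := u⁻¹ * d' * u with hl'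
    have hd'eq : d' = u * l' * u⁻¹ := by rw [hl']; group
    have hl'c : l' * z₁ = z₁ * l' := by
      have : u * (l' * z₁) * u⁻¹ = u * (z₁ * l') * u⁻¹ := by
        calc u * (l' * z₁) * u⁻¹ = (u * l' * u⁻¹) * (u * z₁ * u⁻¹) := by group
          _ = d' * d := by rw [← hd'eq, ← hdeq]
          _ = d * d' := hk2
          _ = (u * z₁ * u⁻¹) * (u * l' * u⁻¹) := by rw [← hd'eq, ← hdeq]
          _ = u * (z₁ * l') * u⁻¹ := by group
      have := mul_right_cancel this
      exact mul_left_cancel this
    have hl'4 := h.pow_four_of_comm hF hL hz₁ hd hzd hu hLu hall hd'u hl'c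
    have hd'4 : (d' * d') * (d' * d') = 1 := by
      rw [hd'eq]
      calc (u * l' * u⁻¹ * (u * l' * u⁻¹)) * (u * l' * u⁻¹ * (u * l' * u⁻¹))
          = u * ((l' * l') * (l' * l')) * u⁻¹ := by group
        _ = 1 := by rw [hl'4]; group
    have hcm : l * d' = d' * l := comm_oth hL hl hd'
    have he4 : (e' * e') * (e' * e') = 1 := by
      rw [← hld]
      calc (l * d' * (l * d')) * (l * d' * (l * d'))
          = l * (d' * l) * (d' * l) * (d' * l) * d' := by group
        _ = l * (l * d') * (l * d') * (l * d') * d' := by rw [← hcm]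
        _ = l * l * (d' * l) * (d' * l) * d' * d' := by group
        _ = l * l * (l * d') * (l * d') * d' * d' := by rw [← hcm]
        _ = l * l * l * (d' * l) * d' * d' * d' := by group
        _ = l * l * l * (l * d') * d' * d' * d' := by rw [← hcm]
        _ = ((l * l) * (l * l)) * ((d' * d') * (d' * d')) := by group
        _ = 1 := by rw [hl4, hd'4, mul_one]
    apply Subtype.ext
    apply Subtype.ext
    rw [Subgroup.coe_pow, Subgroup.coe_pow, Subgroup.coe_one, Subgroup.coe_one]
    calc e' ^ 2 ^ 2 = (e' * e') * (e' * e') := by norm_num [pow_succ, mul_assoc]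
      _ = 1 := he4
  haveI : ((layer G).subgroupOf C).Normal := Subgroup.Normal.subgroupOf inferInstance C
  have hle : (layer G).subgroupOf C ≤ pCore 2 ↥C := le_sSup ⟨inferInstance, hN₀⟩
  apply false_of_small hL hz₁
  intro y hy hyz
  apply h.small_of_mem hF hL hz₁ hd hzd hu hLu hall hy
  have hyC : y ∈ C := by
    rw [hC, Subgroup.mem_centralizer_iff]
    intro w hw
    rw [Set.mem_singleton_iff] at hw
    subst hw
    exact (h.comm_z_of_comm hL hz₁ hd hzd hy hyz).symm
  rw [hQeq]
  refine ⟨⟨y, hyC⟩, hle ?_, rfl⟩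
  rw [Subgroup.mem_subgroupOf]
  exact (IsComponent.le_layer hL) hy

end two

end Cfsg.Agent.Helper27.LES
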