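import Cfsg.Agent.Helper27.Leech

/-!
A subgroup of index `2 ^ 12` of `Cfsg.leechLattice` containing twice the lattice, on which the sum of squares is
divisible by 32: the kernel of a homomorphism from the lattice onto the code.
-/

set_option autoImplicit false

namespace Cfsg.Agent.Helper27

open Cfsg

theorem leech_parity {x : GolayPt → ℤ} (hx : x ∈ leechLattice) (p q : GolayPt) : (2 : ℤ) ∣ x p - x q := by
  obtain ⟨m, t, ht, -, -⟩ := (mem_leechLattice_iff x).mp hx
  rw [ht p, ht q]
  exact ⟨t p - t q, by ring⟩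

theorem const_mem_golayCode (c : ZMod 2) : (fun _ : GolayPt => c) ∈ golayCode := by
  have h : c = 0 ∨ c = 1 := by
    have : ∀ z : ZMod 2, z = 0 ∨ z = 1 := by decide
    exact this c
  rcases h with rfl | rfl
  · exact golayCode.zero_mem
  · exact one_mem_golayCode

/-- the map from the lattice to the code, as a function -/
def leechToCodeFun (x : GolayPt → ℤ) : GolayPt → ZMod 2 :=
  fun p => (((x p - x none) / 2 : ℤ) : ZMod 2) + ((x none : ℤ) : ZMod 2)

/-- the map from the lattice to the code -/
def leechToCode : leechLattice →+ (GolayPt → ZMod 2) :=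
  AddMonoidHom.mk' (fun x => leechToCodeFun x.1) (by
    intro x y
    funext p
    simp only [leechToCodeFun, AddSubgroup.coe_add, Pi.add_apply]
    have hx := leech_parity x.2 p none
    have h : (x.1 p + y.1 p - (x.1 none + y.1 none)) = (x.1 p - x.1 none) + (y.1 p - y.1 none) := by ring
    rw [h, Int.add_ediv_of_dvd_left hx]
    push_cast
    ring)

theorem leechToCode_apply (x : leechLattice) : leechToCode x = leechToCodeFun x.1 := rfl

theorem zmod_two_mul (a : ZMod 2) : 2 * a = 0 := by
  have : ∀ z : ZMod 2, 2 * z = 0 := by decide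
  exact this a

theorem leechToCodeFun_eq {x : GolayPt → ℤ} {m : ℤ} {t : GolayPt → ℤ} (ht : ∀ i, x i = m + 2 * t i) :
    leechToCodeFun x = redW t + fun _ => ((t none + m : ℤ) : ZMod 2) := by
  funext p
  simp only [leechToCodeFun, Pi.add_apply, redW]
  have h : (x p - x none) / 2 = t p - t none := by
    rw [ht p, ht none]
    omega
  rw [h, ht none]
  push_cast
  have h2 := zmod_two_mul ((t none : ℤ) : ZMod 2)
  have h3 : ∀ z : ZMod 2, -z = z := by decide
  rw [h2, sub_eq_add_neg, h3]
  ring

theorem leechToCode_mem (x : leechLattice) : leechToCode x ∈ golayCode := by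
  obtain ⟨m, t, ht, -, hC⟩ := (mem_leechLattice_iff x.1).mp x.2
  rw [leechToCode_apply, leechToCodeFun_eq ht]
  exact golayCode.add_mem hC (const_mem_golayCode _)

theorem val_cast_zmod_two (z : ZMod 2) : (((z.val : ℕ) : ℤ) : ZMod 2) = z := by
  have : ∀ z : ZMod 2, (((z.val : ℕ) : ℤ) : ZMod 2) = z := by decide
  exact this z

theorem sum_val_eq_hammingNorm (c : GolayPt → ZMod 2) : ∑ p, ((c p).val : ℤ) = (hammingNorm c : ℤ) := by
  have h : ∀ z : ZMod 2, ((z.val : ℕ) : ℤ) = if z ≠ 0 then 1 else 0 := by decide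
  simp only [h]
  rw [Finset.sum_boole]
  rfl

theorem leechToCode_surj {c : GolayPt → ZMod 2} (hc : c ∈ golayCode) : ∃ x : leechLattice, leechToCode x = c := by
  set m : ℤ := ((c none).val : ℤ) with hm
  set c' : GolayPt → ZMod 2 := c + fun _ => c none with hc'
  have hc'C : c' ∈ golayCode := golayCode.add_mem hc (const_mem_golayCode _)
  have hc'0 : c' none = 0 := by
    simp only [hc', Pi.add_apply]
    have : ∀ z : ZMod 2, z + z = 0 := by decide
    exact this _
  set t : GolayPt → ℤ := fun p => ((c' p).val : ℤ) + if p = none then 2 * m else 0 with ht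
  have hred : redW t = c' := by
    funext p
    simp only [redW, ht]
    push_cast
    rw [val_cast_zmod_two]
    split_ifs
    · rw [zmod_two_mul]; simp
    · simp
  have hx : (fun p => m + 2 * t p) ∈ leechLattice := by
    rw [mem_leechLattice_iff]
    refine ⟨m, t, fun _ => rfl, ?_, by rw [hred]; exact hc'C⟩
    have h4 := golay_four_dvd hc'C
    have hs : ∑ p : GolayPt, (m + 2 * t p) = 24 * m + 2 * (hammingNorm c' : ℤ) + 4 * m := by
      simp only [ht, Finset.sum_add_distrib, Finset.sum_const, Finset.card_univ, ← Finset.mul_sum,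
        sum_val_eq_hammingNorm, Finset.sum_ite_eq', Finset.mem_univ, if_true, mul_add]
      have : Fintype.card GolayPt = 24 := by decide
      rw [this]
      simp
      ring
    rw [hs]
    obtain ⟨q, hq⟩ := h4
    rw [hq]
    push_cast
    apply Int.emod_emod_of_dvd _ (dvd_refl 8) |>.symm.trans
    omega
  refine ⟨⟨_, hx⟩, ?_⟩
  rw [leechToCode_apply, leechToCodeFun_eq (x := fun p => m + 2 * t p) (m := m) (t := t) (fun _ => rfl), hred]
  funext p
  simp only [Pi.add_apply, ht, hc', if_true]
  have h0 : c none + c none = 0 := by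
    have : ∀ z : ZMod 2, z + z = 0 := by decide
    exact this _
  rw [h0]
  push_cast
  rw [hm, val_cast_zmod_two, zmod_two_mul]
  simp only [ZMod.val_zero, Nat.cast_zero, zero_add]
  have : ∀ a b : ZMod 2, a + b + b = a := by decide
  exact this _ _

theorem leechToCode_range : leechToCode.range = golayCode.toAddSubgroup := by
  ext c
  constructor
  · rintro ⟨x, rfl⟩
    exact leechToCode_mem x
  · intro hc
    exact leechToCode_surj hc

/-- the subgroup -/
def leechIso : AddSubgroup (GolayPt → ℤ) := leechToCode.ker.map leechLattice.subtype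

theorem leechIso_le : leechIso ≤ leechLattice := AddSubgroup.map_subtype_le _

theorem leechIso_index : (leechIso.addSubgroupOf leechLattice).index = 2 ^ 12 := by
  have h : leechIso.addSubgroupOf leechLattice = leechToCode.ker :=
    AddSubgroup.comap_map_eq_self_of_injective leechLattice.subtype_injective _
  rw [h, AddSubgroup.index_ker, leechToCode_range]
  exact golay_natCard

theorem mem_leechIso_iff (v : GolayPt → ℤ) : v ∈ leechIso ↔ v ∈ leechLattice ∧ leechToCodeFun v = 0 := by
  constructor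
  · rintro ⟨x, hx, rfl⟩
    exact ⟨x.2, hx⟩
  · rintro ⟨hv, h0⟩
    exact ⟨⟨v, hv⟩, h0, rfl⟩

theorem intCast_zmod_two_eq_zero_iff (a : ℤ) : ((a : ℤ) : ZMod 2) = 0 ↔ (2 : ℤ) ∣ a := by
  have := ZMod.intCast_zmod_eq_zero_iff_dvd a 2
  exact_mod_cast this

theorem two_smul_mem_leechIso {v : GolayPt → ℤ} (hv : v ∈ leechLattice) : (2 : ℤ) • v ∈ leechIso := by
  rw [mem_leechIso_iff]
  refine ⟨leechLattice.zsmul_mem hv 2, ?_⟩
  funext p
  simp only [leechToCodeFun, Pi.smul_apply, smul_eq_mul, Pi.zero_apply]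
  have h1 : (2 * v p - 2 * v none) / 2 = v p - v none := by omega
  rw [h1]
  have h2 := (intCast_zmod_two_eq_zero_iff _).mpr (leech_parity hv p none)
  rw [h2]
  push_cast
  rw [zmod_two_mul, add_zero]

theorem sqNorm_dvd_of_mem_leechIso {v : GolayPt → ℤ} (hv : v ∈ leechIso) : (32 : ℤ) ∣ sqNorm v := by
  obtain ⟨hL, h0⟩ := (mem_leechIso_iff v).mp hv
  have hnone : (2 : ℤ) ∣ v none := by
    have := congrFun h0 none
    simp only [leechToCodeFun, sub_self, Int.zero_ediv, Int.cast_zero, zero_add, Pi.zero_apply] at this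
    exact (intCast_zmod_two_eq_zero_iff _).mp this
  have h4 : ∀ p, (4 : ℤ) ∣ v p - v none := by
    intro p
    have := congrFun h0 p
    simp only [leechToCodeFun, Pi.zero_apply] at this
    have h1 : ((v none : ℤ) : ZMod 2) = 0 := (intCast_zmod_two_eq_zero_iff _).mpr hnone
    rw [h1, add_zero] at this
    have h2 := (intCast_zmod_two_eq_zero_iff _).mp this
    have h3 := leech_parity hL p none
    omega
  obtain ⟨m, t, ht, hsum, -⟩ := (mem_leechLattice_iff v).mp hL
  have hsum8 : (8 : ℤ) ∣ ∑ p, v p := by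
    have := ht none
    unfold Int.ModEq at hsum
    omega
  choose s hs using h4
  obtain ⟨b, hb⟩ := hnone
  have hv' : ∀ p, v p = 2 * b + 4 * s p := by
    intro p
    have := hs p
    omega
  have hcard : Fintype.card GolayPt = 24 := by decide
  have hS1 : ∑ p, v p = 48 * b + 4 * ∑ p, s p := by
    simp only [hv', Finset.sum_add_distrib, Finset.sum_const, Finset.card_univ, hcard, ← Finset.mul_sum]
    simp
    ring
  have hS1even : (2 : ℤ) ∣ ∑ p, s p := by
    rw [hS1] at hsum8
    omega
  have hS2 : (2 : ℤ) ∣ ∑ p, s p ^ 2 - ∑ p, s p := by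
    rw [← Finset.sum_sub_distrib]
    apply Finset.dvd_sum
    intro p _
    have : s p ^ 2 - s p = s p * (s p - 1) := by ring
    rw [this]
    exact (Int.even_mul_pred_self (s p)).two_dvd
  obtain ⟨u, hu⟩ := hS1even
  obtain ⟨w, hw⟩ := hS2
  have hnorm : sqNorm v = 96 * b ^ 2 + 16 * b * ∑ p, s p + 16 * ∑ p, s p ^ 2 := by
    unfold sqNorm
    simp only [hv']
    have : ∀ p, (2 * b + 4 * s p) ^ 2 = 4 * b ^ 2 + 16 * b * s p + 16 * s p ^ 2 := fun p => by ring
    simp only [this, Finset.sum_add_distrib, Finset.sum_const, Finset.card_univ, hcard, ← Finset.mul_sum]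
    simp
    ring
  rw [hnorm]
  have hw' : ∑ p, s p ^ 2 = 2 * w + 2 * u := by
    rw [hu] at hw
    linarith
  rw [hw', hu]
  exact ⟨3 * b ^ 2 + b * u + w + u, by ring⟩

theorem leech_isotropic : ∃ A : AddSubgroup (GolayPt → ℤ), A ≤ leechLattice ∧ (∀ v ∈ leechLattice, (2 : ℤ) • v ∈ A) ∧
    (A.addSubgroupOf leechLattice).index = 2 ^ 12 ∧ ∀ v ∈ A, (32 : ℤ) ∣ sqNorm v :=
  ⟨leechIso, leechIso_le, fun _ hv => two_smul_mem_leechIso hv, leechIso_index, fun _ hv => sqNorm_dvd_of_mem_leechIso hv⟩

end Cfsg.Agent.Helper27
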