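import Cfsg.Agent.Helper27.QuartStab

/-!
The centraliser of the standard involution in the stabiliser of the standard dodecad and its first point: the
enumeration of its 48 elements, and their linear action on nine points labelled by the vectors of the plane over the
field with three elements.
-/

set_option autoImplicit false

namespace Cfsg.Agent.Helper27

open Cfsg
open scoped Pointwise

/-- the standard involution fixing the standard dodecad and its first point -/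
def z0T : List ℕ := [0, 1, 2, 4, 3, 5, 6, 10, 11, 14, 7, 8, 12, 13, 9, 15, 21, 19, 23, 17, 22, 16, 20, 18]

theorem z0T_valid : validTbl z0T = true := by decide

theorem z0T_inCode : tblInCode z0T = true := by decide +kernel

theorem z0T_sq : compT z0T z0T = idT := by decide

theorem z0T_dod : applyTbl z0T dod0 = dod0 := by decide

/-- the constraints for commuting with the standard involution -/
def csZ : List (List (ℕ × ℕ)) := [[(0, 0)], [(1, 1)], [(2, 2)], [], [(3, 4), (4, 3)], [(5, 5)], []]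

theorem csZ_ok : consOK z0T csZ = true := by decide

/-- pruning for the centraliser of the standard involution in the stabiliser of the dodecad and its first point -/
def okZ (vs : List ℕ) : Bool := okC z0T csZ vs && okMasks [28637] vs && (vs.headD 0 == 0)

/-- the 48 elements of the centraliser -/
def c0L : List (List ℕ) := [
  [0, 1, 2, 3, 4, 5, 6, 7, 8, 9, 10, 11, 12, 13, 14, 15, 16, 17, 18, 19, 20, 21, 22, 23],
  [0, 1, 2, 4, 3, 5, 6, 10, 11, 14, 7, 8, 12, 13, 9, 15, 21, 19, 23, 17, 22, 16, 20, 18],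
  [0, 1, 2, 7, 10, 15, 13, 3, 11, 9, 4, 8, 12, 6, 14, 5, 16, 22, 23, 20, 19, 21, 17, 18],
  [0, 1, 2, 10, 7, 15, 13, 4, 8, 14, 3, 11, 12, 6, 9, 5, 21, 20, 18, 22, 17, 16, 19, 23],
  [0, 1, 6, 7, 10, 15, 13, 14, 8, 4, 9, 11, 5, 2, 3, 12, 16, 20, 19, 22, 23, 21, 18, 17],
  [0, 1, 6, 9, 14, 12, 2, 10, 8, 3, 7, 11, 5, 13, 4, 15, 21, 23, 19, 18, 20, 16, 22, 17],
  [0, 1, 6, 10, 7, 15, 13, 9, 11, 3, 14, 8, 5, 2, 4, 12, 21, 22, 17, 20, 18, 16, 23, 19],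
  [0, 1, 6, 14, 9, 12, 2, 7, 11, 4, 10, 8, 5, 13, 3, 15, 16, 18, 17, 23, 22, 21, 20, 19],
  [0, 1, 13, 3, 4, 5, 6, 14, 11, 10, 9, 8, 15, 2, 7, 12, 16, 19, 20, 17, 18, 21, 23, 22],
  [0, 1, 13, 4, 3, 5, 6, 9, 8, 7, 14, 11, 15, 2, 10, 12, 21, 17, 22, 19, 23, 16, 18, 20],
  [0, 1, 13, 9, 14, 12, 2, 4, 11, 7, 3, 8, 15, 6, 10, 5, 21, 18, 20, 23, 19, 16, 17, 22],
  [0, 1, 13, 14, 9, 12, 2, 3, 8, 10, 4, 11, 15, 6, 7, 5, 16, 23, 22, 18, 17, 21, 19, 20],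
  [0, 5, 2, 8, 11, 1, 6, 14, 4, 7, 9, 3, 15, 13, 10, 12, 17, 21, 20, 16, 23, 19, 18, 22],
  [0, 5, 2, 9, 14, 12, 13, 11, 4, 10, 8, 3, 15, 6, 7, 1, 19, 23, 20, 18, 21, 17, 16, 22],
  [0, 5, 2, 11, 8, 1, 6, 9, 3, 10, 14, 4, 15, 13, 7, 12, 19, 16, 22, 21, 18, 17, 23, 20],
  [0, 5, 2, 14, 9, 12, 13, 8, 3, 7, 11, 4, 15, 6, 10, 1, 17, 18, 22, 23, 16, 19, 21, 20],
  [0, 5, 6, 7, 10, 15, 2, 9, 4, 8, 14, 3, 1, 13, 11, 12, 19, 22, 16, 20, 23, 17, 18, 21],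
  [0, 5, 6, 9, 14, 12, 13, 7, 3, 8, 10, 4, 1, 2, 11, 15, 19, 18, 21, 23, 20, 17, 22, 16],
  [0, 5, 6, 10, 7, 15, 2, 14, 3, 11, 9, 4, 1, 13, 8, 12, 17, 20, 21, 22, 18, 19, 23, 16],
  [0, 5, 6, 14, 9, 12, 13, 10, 4, 11, 7, 3, 1, 2, 8, 15, 17, 23, 16, 18, 22, 19, 20, 21],
  [0, 5, 13, 7, 10, 15, 2, 11, 3, 14, 8, 4, 12, 6, 9, 1, 19, 20, 23, 22, 16, 17, 21, 18],
  [0, 5, 13, 8, 11, 1, 6, 10, 3, 9, 7, 4, 12, 2, 14, 15, 17, 16, 23, 21, 20, 19, 22, 18],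
  [0, 5, 13, 10, 7, 15, 2, 8, 4, 9, 11, 3, 12, 6, 14, 1, 17, 22, 18, 20, 21, 19, 16, 23],
  [0, 5, 13, 11, 8, 1, 6, 7, 4, 14, 10, 3, 12, 2, 9, 15, 19, 21, 18, 16, 22, 17, 20, 23],
  [0, 12, 2, 3, 4, 5, 13, 10, 9, 8, 7, 14, 1, 6, 11, 15, 18, 19, 16, 17, 20, 23, 22, 21],
  [0, 12, 2, 4, 3, 5, 13, 7, 14, 11, 10, 9, 1, 6, 8, 15, 23, 17, 21, 19, 22, 18, 20, 16],
  [0, 12, 2, 7, 10, 15, 6, 4, 9, 11, 3, 14, 1, 13, 8, 5, 23, 20, 16, 22, 19, 18, 17, 21],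
  [0, 12, 2, 10, 7, 15, 6, 3, 14, 8, 4, 9, 1, 13, 11, 5, 18, 22, 21, 20, 17, 23, 19, 16],
  [0, 12, 6, 3, 4, 5, 13, 11, 14, 7, 8, 9, 15, 2, 10, 1, 18, 17, 20, 19, 16, 23, 21, 22],
  [0, 12, 6, 4, 3, 5, 13, 8, 9, 10, 11, 14, 15, 2, 7, 1, 23, 19, 22, 17, 21, 18, 16, 20],
  [0, 12, 6, 8, 11, 1, 2, 4, 14, 10, 3, 9, 15, 13, 7, 5, 23, 16, 20, 21, 17, 18, 19, 22],
  [0, 12, 6, 11, 8, 1, 2, 3, 9, 7, 4, 14, 15, 13, 10, 5, 18, 21, 22, 16, 19, 23, 17, 20],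
  [0, 12, 13, 7, 10, 15, 6, 8, 14, 3, 11, 9, 5, 2, 4, 1, 23, 22, 19, 20, 16, 18, 21, 17],
  [0, 12, 13, 8, 11, 1, 2, 7, 9, 3, 10, 14, 5, 6, 4, 15, 23, 21, 17, 16, 20, 18, 22, 19],
  [0, 12, 13, 10, 7, 15, 6, 11, 9, 4, 8, 14, 5, 2, 3, 1, 18, 20, 17, 22, 21, 23, 16, 19],
  [0, 12, 13, 11, 8, 1, 2, 10, 14, 4, 7, 9, 5, 6, 3, 15, 18, 16, 19, 21, 22, 23, 20, 17],
  [0, 15, 2, 8, 11, 1, 13, 9, 7, 4, 14, 10, 5, 6, 3, 12, 20, 16, 17, 21, 23, 22, 18, 19],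
  [0, 15, 2, 9, 14, 12, 6, 8, 10, 4, 11, 7, 5, 13, 3, 1, 20, 18, 19, 23, 21, 22, 16, 17],
  [0, 15, 2, 11, 8, 1, 13, 14, 10, 3, 9, 7, 5, 6, 4, 12, 22, 21, 19, 16, 18, 20, 23, 17],
  [0, 15, 2, 14, 9, 12, 6, 11, 7, 3, 8, 10, 5, 13, 4, 1, 22, 23, 17, 18, 16, 20, 21, 19],
  [0, 15, 6, 3, 4, 5, 2, 8, 7, 14, 11, 10, 12, 13, 9, 1, 20, 19, 18, 17, 16, 22, 21, 23],
  [0, 15, 6, 4, 3, 5, 2, 11, 10, 9, 8, 7, 12, 13, 14, 1, 22, 17, 23, 19, 21, 20, 16, 18],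
  [0, 15, 6, 8, 11, 1, 13, 3, 10, 14, 4, 7, 12, 2, 9, 5, 20, 21, 23, 16, 17, 22, 19, 18],
  [0, 15, 6, 11, 8, 1, 13, 4, 7, 9, 3, 10, 12, 2, 14, 5, 22, 16, 18, 21, 19, 20, 17, 23],
  [0, 15, 13, 3, 4, 5, 2, 9, 10, 11, 14, 7, 1, 6, 8, 12, 20, 17, 16, 19, 18, 22, 23, 21],
  [0, 15, 13, 4, 3, 5, 2, 14, 7, 8, 9, 10, 1, 6, 11, 12, 22, 19, 21, 17, 23, 20, 18, 16],
  [0, 15, 13, 9, 14, 12, 6, 3, 7, 11, 4, 10, 1, 2, 8, 5, 20, 23, 21, 18, 19, 22, 17, 16],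
  [0, 15, 13, 14, 9, 12, 6, 4, 10, 8, 3, 7, 1, 2, 11, 5, 22, 18, 16, 23, 17, 20, 19, 21]]

set_option maxRecDepth 100000 in
theorem c0_enum : ((enumL chainL [] idT okZ).filter
    (fun T => (compT T z0T == compT z0T T) && (applyTbl T dod0 == dod0))).all (fun T => c0L.contains T) = true := by
  decide +kernel

/-- the certificate for the 48 tables -/
def c0OK (T : List ℕ) : Bool :=
  validTbl T && tblInCode T && (applyTbl T dod0 == dod0) && (T.getD 0 0 == 0) && (compT T z0T == compT z0T T)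

theorem c0L_ok : c0L.all c0OK = true := by decide +kernel

theorem c0L_nodup : c0L.Nodup := by decide +kernel

theorem c0L_length : c0L.length = 48 := by decide

/-- the nine labelled points, indexed by codes of vectors -/
def labL : List ℕ := [0, 3, 4, 7, 9, 11, 10, 8, 14]

/-- the codes of the labelled points -/
def labInv : List ℕ := [0, 9, 9, 1, 2, 9, 9, 3, 7, 4, 6, 5, 9, 9, 8, 9, 9, 9, 9, 9, 9, 9, 9, 9]

/-- the action of a table on codes -/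
def sT (T : List ℕ) (k : ℕ) : ℕ := labInv.getD (T.getD (labL.getD k 0) 0) 9

/-- the table permutes the labelled points, additively on codes, and is the identity if it fixes all codes -/
def linOK (T : List ℕ) : Bool :=
  ((List.range 9).all fun k => (labL.getD (sT T k) 0 == T.getD (labL.getD k 0) 0) && decide (sT T k < 9)) &&
  ((List.range 9).all fun k => (List.range 9).all fun l => sT T (add9 k l) == add9 (sT T k) (sT T l)) &&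
  (!((List.range 9).all fun k => sT T k == k) || (T == idT))

theorem c0L_lin : c0L.all linOK = true := by decide +kernel

theorem labL_inj : ∀ k, k < 9 → ∀ l, l < 9 → labL.getD k 0 = labL.getD l 0 → k = l := by decide

theorem labL_lt : ∀ k, k < 9 → labL.getD k 0 < 24 := by decide

theorem labL_dod : ∀ k, k < 9 → dod0.testBit (labL.getD k 0) = true := by decide

end Cfsg.Agent.Helper27
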