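import Cfsg.Agent.Helper27.M11Cent
import Cfsg.Agent.Helper27.GLIso2
import Cfsg.Agent.Helper27.GLIso3
import Cfsg.Agent.Helper27.M22Outer

/-!
The centraliser of an involution in the stabiliser in `Cfsg.M24` of a dodecad and one of its points is isomorphic
to `GL(2, 3)`.
-/

set_option autoImplicit false

namespace Cfsg.Agent.Helper27

open Cfsg
open scoped Pointwise

/-- the stabiliser of a dodecad and a point, as a subgroup of `M24` -/
abbrev stabDP (d : Finset GolayPt) (p : GolayPt) : Subgroup ↥M24 :=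
  MulAction.stabilizer ↥M24 d ⊓ MulAction.stabilizer ↥M24 p

theorem mem_stabDP {d : Finset GolayPt} {p : GolayPt} (g : ↥M24) :
    g ∈ stabDP d p ↔ (g : Equiv.Perm GolayPt) • d = d ∧ (g : Equiv.Perm GolayPt) p = p := by
  rw [Subgroup.mem_inf, MulAction.mem_stabilizer_iff, MulAction.mem_stabilizer_iff]
  rfl

/-! ### The standard involution -/

/-- the standard involution -/
noncomputable def z0P : Equiv.Perm GolayPt := tblPerm z0T z0T_valid

theorem z0P_rep : Represents z0P z0T := tblPerm_represents _ _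

theorem z0P_mem : z0P ∈ M24 := tblPerm_mem_M24 _ _ z0T_inCode

theorem z0P_dod : z0P • maskSet dod0 = maskSet dod0 := (smul_maskSet_iff z0P_rep (by decide)).mpr z0T_dod

theorem z0P_pt {i j : ℕ} (hi : i < 24) (hj : j < 24) (h : z0T.getD i 0 = j) : z0P (pt i) = pt j :=
  (apply_pt_iff z0P_rep hi hj).mpr h

theorem z0P_sq : z0P * z0P = 1 := by
  have := represents_compT z0P_rep z0P_rep
  rw [z0T_sq] at this
  exact represents_unique this represents_one

theorem z0P_ne_one : z0P ≠ 1 := by
  intro h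
  have h1 := z0P_pt (show 3 < 24 by norm_num) (show 4 < 24 by norm_num) (by decide)
  rw [h, Equiv.Perm.one_apply] at h1
  have := congrArg idx h1
  rw [idx_pt (by norm_num), idx_pt (by norm_num)] at this
  omega

/-- the stabiliser of the standard dodecad and its first point -/
abbrev M0 : Subgroup ↥M24 := stabDP (maskSet dod0) (pt 0)

/-- the standard involution as an element of the stabiliser -/
noncomputable def z0M : ↥M0 :=
  ⟨⟨z0P, z0P_mem⟩, (mem_stabDP _).mpr ⟨z0P_dod, z0P_pt (by norm_num) (by norm_num) (by decide)⟩⟩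

/-- the centraliser of the standard involution -/
abbrev C0 : Subgroup ↥M0 := Subgroup.centralizer ({z0M} : Set ↥M0)

/-- the permutation underlying an element of the centraliser -/
def toC (c : ↥C0) : Equiv.Perm GolayPt := (((c : ↥M0) : ↥M24) : Equiv.Perm GolayPt)

theorem toC_mem (c : ↥C0) : toC c ∈ M24 := ((c : ↥M0) : ↥M24).2

theorem toC_dod (c : ↥C0) : toC c • maskSet dod0 = maskSet dod0 := ((mem_stabDP _).mp (c : ↥M0).2).1

theorem toC_pt0 (c : ↥C0) : toC c (pt 0) = pt 0 := ((mem_stabDP _).mp (c : ↥M0).2).2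

theorem toC_comm (c : ↥C0) : toC c * z0P = z0P * toC c := by
  have h := Subgroup.mem_centralizer_singleton_iff.mp c.2
  have h2 := congrArg (fun y : ↥M0 => ((y : ↥M24) : Equiv.Perm GolayPt)) h
  exact h2

theorem toC_injective : Function.Injective toC := fun _ _ h => Subtype.ext (Subtype.ext (Subtype.ext h))

theorem toC_one : toC 1 = 1 := rfl

/-- an element of `M24` fixing the dodecad and its first point and commuting with the standard involution is one
of the 48 listed ones -/
theorem cent_mem_c0L {g : Equiv.Perm GolayPt} (hg : g ∈ M24) (hd : g • maskSet dod0 = maskSet dod0)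
    (h0 : g (pt 0) = pt 0) (hc : g * z0P = z0P * g) : tblOf g ∈ c0L := by
  have hr := represents_tblOf g
  have hmem : tblOf g ∈ enumL chainL [] idT okZ := by
    apply m24_enum_sound _ hg
    intro n hn1 hn7
    rw [okZ, Bool.and_eq_true, Bool.and_eq_true]
    refine ⟨⟨okC_sound z0P_rep z0P_rep csZ_ok hc n hn1 hn7, ?_⟩, ?_⟩
    · apply okMasks_sound
      intro m hm
      rw [List.mem_singleton] at hm
      rw [hm]
      exact hd
    · rw [baseImgs_head _ hn1, tblOf_getD g (by norm_num), h0, idx_pt (by norm_num)]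
      rfl
  have hfilt : tblOf g ∈ (enumL chainL [] idT okZ).filter
      (fun T => (compT T z0T == compT z0T T) && (applyTbl T dod0 == dod0)) := by
    rw [List.mem_filter]
    refine ⟨hmem, ?_⟩
    have t1 : tblOf z0P = z0T := tblOf_eq z0P_rep
    rw [Bool.and_eq_true, beq_iff_eq, beq_iff_eq, ← t1, ← tblOf_mul, ← tblOf_mul, hc]
    exact ⟨rfl, (smul_maskSet_iff hr (by decide)).mp hd⟩
  have := List.all_eq_true.mp c0_enum _ hfilt
  rwa [List.contains_iff_mem] at this

theorem toC_mem_c0L (c : ↥C0) : tblOf (toC c) ∈ c0L :=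
  cent_mem_c0L (toC_mem c) (toC_dod c) (toC_pt0 c) (toC_comm c)

/-! ### The action on the labelled points -/

/-- the labelled points -/
def fP (v : V2) : GolayPt := pt (labL.getD (code2 v) 0)

theorem fP_injective : Function.Injective fP := by
  intro v w h
  apply code2_injective
  apply labL_inj _ (code2_lt v) _ (code2_lt w)
  have := congrArg idx h
  rwa [fP, fP, idx_pt (labL_lt _ (code2_lt v)), idx_pt (labL_lt _ (code2_lt w))] at this

/-- the action of a listed element on the labelled points -/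
theorem apply_fP {γ : Equiv.Perm GolayPt} (hT : tblOf γ ∈ c0L) (v : V2) :
    ∃ w : V2, code2 w = sT (tblOf γ) (code2 v) ∧ γ (fP v) = fP w := by
  have hlin := List.all_eq_true.mp c0L_lin _ hT
  rw [linOK, Bool.and_eq_true, Bool.and_eq_true] at hlin
  have h1 := List.all_eq_true.mp hlin.1.1 (code2 v) (List.mem_range.mpr (code2_lt v))
  rw [Bool.and_eq_true, beq_iff_eq, decide_eq_true_eq] at h1
  obtain ⟨w, hw⟩ := code2_surj _ h1.2
  refine ⟨w, hw, ?_⟩
  apply idx_injective
  rw [fP, fP, hw, idx_pt (labL_lt _ h1.2), h1.1, tblOf_getD γ (labL_lt _ (code2_lt v))]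

theorem sT_add {γ : Equiv.Perm GolayPt} (hT : tblOf γ ∈ c0L) {k l : ℕ} (hk : k < 9) (hl : l < 9) :
    sT (tblOf γ) (add9 k l) = add9 (sT (tblOf γ) k) (sT (tblOf γ) l) := by
  have hlin := List.all_eq_true.mp c0L_lin _ hT
  rw [linOK, Bool.and_eq_true, Bool.and_eq_true] at hlin
  have h1 := List.all_eq_true.mp hlin.1.2 k (List.mem_range.mpr hk)
  have h2 := List.all_eq_true.mp h1 l (List.mem_range.mpr hl)
  exact beq_iff_eq.mp h2

theorem eq_idT_of_sT {γ : Equiv.Perm GolayPt} (hT : tblOf γ ∈ c0L) (h : ∀ k, k < 9 → sT (tblOf γ) k = k) :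
    tblOf γ = idT := by
  have hlin := List.all_eq_true.mp c0L_lin _ hT
  rw [linOK, Bool.and_eq_true] at hlin
  have h3 := hlin.2
  rw [Bool.or_eq_true, Bool.not_eq_true', beq_iff_eq] at h3
  rcases h3 with h3 | h3
  · exfalso
    have : ((List.range 9).all fun k => sT (tblOf γ) k == k) = true := by
      rw [List.all_eq_true]
      intro k hk
      rw [beq_iff_eq]
      exact h k (List.mem_range.mp hk)
    rw [this] at h3
    exact Bool.noConfusion h3
  · exact h3

theorem smulC_def (c : ↥C0) (q : GolayPt) : c • q = toC c q := rfl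

theorem hinvP (c : ↥C0) (v : V2) : ∃ w, c • fP v = fP w := by
  obtain ⟨w, -, hw⟩ := apply_fP (toC_mem_c0L c) v
  exact ⟨w, hw⟩

theorem finite_C0 : Finite ↥C0 := by
  have : Finite ↥M24 := Nat.finite_of_card_ne_zero (by rw [card_M24]; norm_num)
  infer_instance

/-- the centraliser has at least 48 elements -/
theorem card_C0_ge : 48 ≤ Nat.card ↥C0 := by
  have hfin := finite_C0
  have hok : ∀ T ∈ c0L, c0OK T = true := fun T hT => List.all_eq_true.mp c0L_ok T hT
  have hval : ∀ T ∈ c0L, validTbl T = true := by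
    intro T hT
    have := hok T hT
    simp only [c0OK, Bool.and_eq_true] at this
    exact this.1.1.1.1
  have key : ∀ T (hT : T ∈ c0L), ∃ c : ↥C0, toC c = tblPerm T (hval T hT) := by
    intro T hT
    have h := hok T hT
    simp only [c0OK, Bool.and_eq_true, beq_iff_eq] at h
    obtain ⟨⟨⟨⟨hv, hc⟩, hd⟩, h0⟩, hz⟩ := h
    have hr := tblPerm_represents T (hval T hT)
    have hM : tblPerm T (hval T hT) ∈ M24 := tblPerm_mem_M24 _ _ hc
    have hd' : tblPerm T (hval T hT) • maskSet dod0 = maskSet dod0 := (smul_maskSet_iff hr (by decide)).mpr hd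
    have h0' : tblPerm T (hval T hT) (pt 0) = pt 0 := (apply_pt_iff hr (by norm_num) (by norm_num)).mpr h0
    have hcomm : tblPerm T (hval T hT) * z0P = z0P * tblPerm T (hval T hT) := by
      apply represents_unique (represents_compT hr z0P_rep)
      rw [hz]
      exact represents_compT z0P_rep hr
    let m : ↥M0 := ⟨⟨tblPerm T (hval T hT), hM⟩, (mem_stabDP _).mpr ⟨hd', h0'⟩⟩
    have hmc : m ∈ C0 := by
      rw [Subgroup.mem_centralizer_singleton_iff]
      apply Subtype.ext
      apply Subtype.ext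
      exact hcomm
    exact ⟨⟨m, hmc⟩, rfl⟩
  let F : ↥c0L.toFinset → ↥C0 := fun x => Classical.choose (key x.1 (List.mem_toFinset.mp x.2))
  have hF : ∀ x : ↥c0L.toFinset, toC (F x) = tblPerm x.1 (hval x.1 (List.mem_toFinset.mp x.2)) :=
    fun x => Classical.choose_spec (key x.1 (List.mem_toFinset.mp x.2))
  have hinj : Function.Injective F := by
    intro a b h
    have h1 := hF a
    rw [h, hF b] at h1
    apply Subtype.ext
    have ra := tblPerm_represents a.1 (hval a.1 (List.mem_toFinset.mp a.2))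
    have rb := tblPerm_represents b.1 (hval b.1 (List.mem_toFinset.mp b.2))
    rw [h1] at rb
    exact (represents_tbl_unique ra rb)
  calc 48 = c0L.toFinset.card := by rw [List.toFinset_card_of_nodup c0L_nodup, c0L_length]
    _ = Nat.card ↥c0L.toFinset := by rw [Nat.card_eq_fintype_card, Fintype.card_coe]
    _ ≤ Nat.card ↥C0 := Nat.card_le_card_of_injective F hinj

/-- the centraliser of the standard involution is isomorphic to `GL(2, 3)` -/
theorem C0_iso : Nonempty (↥C0 ≃* GL (Fin 2) (ZMod 3)) := by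
  obtain ⟨ρ, hρ⟩ := exists_permHom (G := ↥C0) fP fP_injective hinvP
  have hfin := finite_C0
  have hcode : ∀ c v, code2 (ρ c v) = sT (tblOf (toC c)) (code2 v) := by
    intro c v
    obtain ⟨w, hw, e⟩ := apply_fP (toC_mem_c0L c) v
    have : fP (ρ c v) = fP w := by rw [hρ, smulC_def, e]
    rw [fP_injective this, hw]
  have hle : ρ.range ≤ (glPerm 2 3).range := by
    rintro _ ⟨c, rfl⟩
    apply mem_range_glPerm
    intro v w
    apply code2_injective
    rw [hcode, code2_add, sT_add (toC_mem_c0L c) (code2_lt v) (code2_lt w), code2_add, hcode, hcode]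
  have hinj : Function.Injective ρ := by
    rw [injective_iff_map_eq_one]
    intro c hc
    have h1 : ∀ k, k < 9 → sT (tblOf (toC c)) k = k := by
      intro k hk
      obtain ⟨v, rfl⟩ := code2_surj k hk
      rw [← hcode, hc, Equiv.Perm.one_apply]
    have h2 := eq_idT_of_sT (toC_mem_c0L c) h1
    apply toC_injective
    apply tblOf_injective
    rw [h2, toC_one, tblOf_one]
  exact iso_of_injective_range_le ρ (glPerm 2 3) hinj (glPerm_injective 2 3) hle
    (by rw [card_GL23]; exact card_C0_ge)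

/-! ### Arbitrary involutions -/

/-- an element of the stabiliser of a dodecad fixing at least five of its points is the identity -/
theorem stabP_eq_one_of_fix5 {d : Finset GolayPt} (hd : d ∈ dodecads) {k : Equiv.Perm GolayPt} (hk : k ∈ stabP d)
    {s : Finset GolayPt} (hs : s ⊆ d) (h5 : 5 ≤ s.card) (hfix : ∀ q ∈ s, k q = q) : k = 1 := by
  obtain ⟨X, hX, hXs⟩ := exists_five_in s h5
  obtain ⟨k0, -, -, huniq⟩ := stabP_sharp5 hd X X hX hX (fun i => hs (hXs i)) (fun i => hs (hXs i))
  rw [huniq k hk (fun i => hfix _ (hXs i)), huniq 1 (stabP d).one_mem (fun i => rfl)]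

/-- the standard five points -/
def X0 : Fin 5 → GolayPt := ![pt 0, pt 3, pt 4, pt 7, pt 10]

/-- their images under the standard involution -/
def Y0 : Fin 5 → GolayPt := ![pt 0, pt 4, pt 3, pt 10, pt 7]

theorem X0_inj : Function.Injective X0 := by decide

theorem Y0_inj : Function.Injective Y0 := by decide

theorem X0_mem : ∀ i, X0 i ∈ maskSet dod0 := by
  intro i
  rw [mem_maskSet]
  fin_cases i <;> decide

theorem Y0_mem : ∀ i, Y0 i ∈ maskSet dod0 := by
  intro i
  rw [mem_maskSet]
  fin_cases i <;> decide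

theorem z0P_X0 : ∀ i, z0P (X0 i) = Y0 i := by
  intro i
  fin_cases i
  · exact z0P_pt (i := 0) (j := 0) (by norm_num) (by norm_num) (by decide)
  · exact z0P_pt (i := 3) (j := 4) (by norm_num) (by norm_num) (by decide)
  · exact z0P_pt (i := 4) (j := 3) (by norm_num) (by norm_num) (by decide)
  · exact z0P_pt (i := 7) (j := 10) (by norm_num) (by norm_num) (by decide)
  · exact z0P_pt (i := 10) (j := 7) (by norm_num) (by norm_num) (by decide)

theorem z0P_stabP : z0P ∈ stabP (maskSet dod0) := (mem_stabP _ _).mpr ⟨z0P_mem, z0P_dod⟩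

/-- every involution of `M24` fixing a dodecad and one of its points is conjugate to the standard one by an element
mapping the dodecad and the point to the standard ones -/
theorem exists_conj_z0 {d : Finset GolayPt} (hd : d ∈ dodecads) {p : GolayPt} (hp : p ∈ d) {ξ : Equiv.Perm GolayPt}
    (hξM : ξ ∈ M24) (hξd : ξ • d = d) (hξp : ξ p = p) (hξ2 : ξ * ξ = 1) (hξ1 : ξ ≠ 1) :
    ∃ g ∈ M24, g • d = maskSet dod0 ∧ g p = pt 0 ∧ g * ξ * g⁻¹ = z0P := by
  have hξs : ξ ∈ stabP d := (mem_stabP _ _).mpr ⟨hξM, hξd⟩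
  have hmem : ∀ q, ξ q ∈ d ↔ q ∈ d := by
    intro q
    conv_lhs => rw [← hξd]
    exact mem_smul_finset_perm ξ d q
  have hinv : ∀ q, ξ (ξ q) = q := by
    intro q
    have := congrArg (fun f : Equiv.Perm GolayPt => f q) hξ2
    simpa using this
  have hd12 : d.card = 12 := hd.2
  -- a moved point
  have h1 : ∃ a ∈ d, ξ a ≠ a := by
    by_contra hcon
    push Not at hcon
    exact hξ1 (stabP_eq_one_of_fix5 hd hξs (Finset.Subset.refl d) (by omega) hcon)
  obtain ⟨a, had, haξ⟩ := h1
  have hbd : ξ a ∈ d := (hmem a).mpr had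
  -- a second moved point
  have h2 : ∃ c ∈ d, c ≠ a ∧ c ≠ ξ a ∧ ξ c ≠ c := by
    by_contra hcon
    push Not at hcon
    have hsub : (d.erase a).erase (ξ a) ⊆ d := (Finset.erase_subset _ _).trans (Finset.erase_subset _ _)
    have hcard : 5 ≤ ((d.erase a).erase (ξ a)).card := by
      have h3 : ξ a ∈ d.erase a := Finset.mem_erase.mpr ⟨haξ, hbd⟩
      rw [Finset.card_erase_of_mem h3, Finset.card_erase_of_mem had, hd12]
      norm_num
    apply hξ1 (stabP_eq_one_of_fix5 hd hξs hsub hcard ?_)
    intro q hq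
    rw [Finset.mem_erase, Finset.mem_erase] at hq
    exact hcon q hq.2.2 hq.2.1 hq.1
  obtain ⟨c, hcd, hca, hcb, hcξ⟩ := h2
  have hed : ξ c ∈ d := (hmem c).mpr hcd
  -- the five points
  have hpa : p ≠ a := fun h => haξ (by rw [← h, hξp])
  have hpb : p ≠ ξ a := fun h => hpa (by
    have := congrArg ξ h
    rw [hξp, hinv] at this
    exact this)
  have hpc : p ≠ c := fun h => hcξ (by rw [← h, hξp])
  have hpe : p ≠ ξ c := fun h => hpc (by
    have := congrArg ξ h
    rw [hξp, hinv] at this
    exact this)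
  have hae : a ≠ ξ c := fun h => hcb (by
    have := congrArg ξ h
    rw [hinv] at this
    exact this.symm)
  have hbe : ξ a ≠ ξ c := fun h => hca (ξ.injective h).symm
  have hXinj : Function.Injective ![p, a, ξ a, c, ξ c] :=
    injective_vec5 hpa hpb hpc hpe (Ne.symm haξ) (Ne.symm hca) hae (Ne.symm hcb) hbe (Ne.symm hcξ)
  have hXd : ∀ i, ![p, a, ξ a, c, ξ c] i ∈ d := by
    intro i
    fin_cases i
    · exact hp
    · exact had
    · exact hbd
    · exact hcd
    · exact hed
  obtain ⟨g1, hg1, hg1d⟩ := exists_smul_eq_dod0 hd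
  have hX1inj : Function.Injective (fun i => g1 (![p, a, ξ a, c, ξ c] i)) := g1.injective.comp hXinj
  have hX1d : ∀ i, g1 (![p, a, ξ a, c, ξ c] i) ∈ maskSet dod0 := by
    intro i
    rw [← hg1d]
    exact (mem_smul_finset_perm g1 d _).mpr (hXd i)
  obtain ⟨k, hk, hkX, -⟩ := stabP_sharp5 maskSet_dod0_mem _ X0 hX1inj X0_inj hX1d X0_mem
  obtain ⟨hkM, hkd⟩ := (mem_stabP _ _).mp hk
  have hgX : ∀ i, (k * g1) (![p, a, ξ a, c, ξ c] i) = X0 i := fun i => hkX i
  have hgM : k * g1 ∈ M24 := M24.mul_mem hkM hg1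
  have hgd : (k * g1) • d = maskSet dod0 := by rw [mul_smul, hg1d, hkd]
  refine ⟨k * g1, hgM, hgd, hgX 0, ?_⟩
  -- uniqueness
  obtain ⟨k0, -, -, huniq⟩ := stabP_sharp5 maskSet_dod0_mem X0 Y0 X0_inj Y0_inj X0_mem Y0_mem
  have hconj : k * g1 * ξ * (k * g1)⁻¹ ∈ stabP (maskSet dod0) := by
    rw [mem_stabP]
    refine ⟨M24.mul_mem (M24.mul_mem hgM hξM) (M24.inv_mem hgM), ?_⟩
    rw [mul_smul, mul_smul, ← hgd, inv_smul_smul, hξd]
  have hY : ∀ i, (k * g1 * ξ * (k * g1)⁻¹) (X0 i) = Y0 i := by
    intro i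
    have e0 := hgX 0
    have e1 := hgX 1
    have e2 := hgX 2
    have e3 := hgX 3
    have e4 := hgX 4
    simp only [Matrix.cons_val_zero, Matrix.cons_val_one, Matrix.cons_val] at e0 e1 e2 e3 e4
    have key : ∀ u w : GolayPt, (k * g1) u = X0 i → ξ u = w → (k * g1 * ξ * (k * g1)⁻¹) (X0 i) = (k * g1) w := by
      intro u w hu hw
      rw [← hu, ← hw]
      simp
    fin_cases i
    · rw [key p p e0 hξp]; exact e0
    · rw [key a (ξ a) e1 rfl]; exact e2
    · rw [key (ξ a) a e2 (hinv a)]; exact e1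
    · rw [key c (ξ c) e3 rfl]; exact e4
    · rw [key (ξ c) c e4 (hinv c)]; exact e3
  rw [huniq _ hconj hY, huniq _ z0P_stabP z0P_X0]

theorem stabDP_conj (γ : ↥M24) (d : Finset GolayPt) (p : GolayPt) :
    (stabDP d p).map (MulAut.conj γ).toMonoidHom = stabDP (γ • d) (γ • p) := by
  rw [stabDP, stabDP, Subgroup.map_inf _ _ _ (MulAut.conj γ).injective,
    MulAction.stabilizer_smul_eq_stabilizer_map_conj, MulAction.stabilizer_smul_eq_stabilizer_map_conj]

/-- involution centralisers in the stabiliser of a dodecad and one of its points are isomorphic to `GL(2, 3)` -/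
theorem m11_invol_cent (d : Finset GolayPt) (hd : d ∈ dodecads) (p : GolayPt) (hp : p ∈ d)
    (x : ↥(stabDP d p)) (hx : orderOf x = 2) :
    Nonempty (↥(Subgroup.centralizer ({x} : Set ↥(stabDP d p))) ≃* GL (Fin 2) (ZMod 3)) := by
  have hxm := (mem_stabDP (x : ↥M24)).mp x.2
  have hx2 : x * x = 1 := by
    have := pow_orderOf_eq_one x
    rwa [hx, pow_two] at this
  have hx1 : x ≠ 1 := by
    intro h
    rw [h, orderOf_one] at hx
    omega
  have hξ2 : ((x : ↥M24) : Equiv.Perm GolayPt) * ((x : ↥M24) : Equiv.Perm GolayPt) = 1 :=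
    congrArg (fun y : ↥(stabDP d p) => ((y : ↥M24) : Equiv.Perm GolayPt)) hx2
  have hξ1 : ((x : ↥M24) : Equiv.Perm GolayPt) ≠ 1 := fun h => hx1 (Subtype.ext (Subtype.ext h))
  obtain ⟨g, hg, hgd, hgp, hconj⟩ := exists_conj_z0 hd hp (x : ↥M24).2 hxm.1 hxm.2 hξ2 hξ1
  let γ : ↥M24 := ⟨g, hg⟩
  have hmap : (stabDP d p).map (MulAut.conj γ).toMonoidHom = M0 := by
    rw [stabDP_conj]
    have h1 : γ • d = maskSet dod0 := hgd
    have h2 : γ • p = pt 0 := hgp
    rw [h1, h2]
  let ε : ↥(stabDP d p) ≃* ↥M0 :=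
    ((MulAut.conj γ).subgroupMap (stabDP d p)).trans (MulEquiv.subgroupCongr hmap)
  have hεx : ε x = z0M := by
    apply Subtype.ext
    apply Subtype.ext
    exact hconj
  obtain ⟨e⟩ := C0_iso
  have e1 := centralizerSingletonEquiv ε x
  rw [hεx] at e1
  exact ⟨e1.trans e⟩

end Cfsg.Agent.Helper27
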