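import Cfsg.Agent.Helper27.M11GenData

/-!
The kernel computation for the automorphisms of the stabiliser of the standard dodecad and its first point, in eleven parts.
-/

set_option autoImplicit false

namespace Cfsg.Agent.Helper27

open Cfsg

theorem m11gY_valid : validTbl m11gY = true := by decide +kernel

theorem m11gY_cert : certFix cert12 [0] m11gY = true := by decide +kernel

theorem m11gY_pows : (powId m11gY 4 && powId (compT z0T m11gY) 11 && powId (w3T m11gY) 5) = true := by
  decide +kernel

theorem m11g_cover : checkCover (slpRun [z0T, m11gY, idT] m11gProg)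
    (m11gL0 ++ m11gL1 ++ m11gL2 ++ m11gL3) = true := by decide +kernel

theorem m11gOK0 : transOKH cert12 [0] m11gL0 = true := by decide +kernel
theorem m11gOK1 : transOKH cert12 [2, 0] m11gL1 = true := by decide +kernel
theorem m11gOK2 : transOKH cert12 [3, 2, 0] m11gL2 = true := by decide +kernel
theorem m11gOK3 : transOKH cert12 [4, 3, 2, 0] m11gL3 = true := by decide +kernel

theorem m11gConj_ok : (c0L.zip m11gConj).all (fun ct => compT ct.2 ct.1 == compT ct.1 m11gY) = true := by
  decide +kernel

theorem m11gConj_length : m11gConj.length = 48 := by decide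

theorem m12L1_length : m12L1.length = 11 := by decide

theorem m11g_fp_0 : allProd [m12L2, m12L3, m12L4] (compT idT (m12L1.getD 0 [])) fpP = true := by
  decide +kernel

theorem m11g_fp_1 : allProd [m12L2, m12L3, m12L4] (compT idT (m12L1.getD 1 [])) fpP = true := by
  decide +kernel

theorem m11g_fp_2 : allProd [m12L2, m12L3, m12L4] (compT idT (m12L1.getD 2 [])) fpP = true := by
  decide +kernel

theorem m11g_fp_3 : allProd [m12L2, m12L3, m12L4] (compT idT (m12L1.getD 3 [])) fpP = true := by
  decide +kernel

theorem m11g_fp_4 : allProd [m12L2, m12L3, m12L4] (compT idT (m12L1.getD 4 [])) fpP = true := by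
  decide +kernel

theorem m11g_fp_5 : allProd [m12L2, m12L3, m12L4] (compT idT (m12L1.getD 5 [])) fpP = true := by
  decide +kernel

theorem m11g_fp_6 : allProd [m12L2, m12L3, m12L4] (compT idT (m12L1.getD 6 [])) fpP = true := by
  decide +kernel

theorem m11g_fp_7 : allProd [m12L2, m12L3, m12L4] (compT idT (m12L1.getD 7 [])) fpP = true := by
  decide +kernel

theorem m11g_fp_8 : allProd [m12L2, m12L3, m12L4] (compT idT (m12L1.getD 8 [])) fpP = true := by
  decide +kernel

theorem m11g_fp_9 : allProd [m12L2, m12L3, m12L4] (compT idT (m12L1.getD 9 [])) fpP = true := by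
  decide +kernel

theorem m11g_fp_10 : allProd [m12L2, m12L3, m12L4] (compT idT (m12L1.getD 10 [])) fpP = true := by
  decide +kernel

theorem m11g_fp : allProd [m12L1, m12L2, m12L3, m12L4] idT fpP = true := by
  rw [allProd, List.all_eq_true]
  intro T hT
  obtain ⟨k, hk, rfl⟩ := List.mem_iff_getElem.mp hT
  have hk' : k < 11 := by rwa [m12L1_length] at hk
  rw [← List.getD_eq_getElem _ [] hk]
  interval_cases k
  · exact m11g_fp_0
  · exact m11g_fp_1
  · exact m11g_fp_2
  · exact m11g_fp_3
  · exact m11g_fp_4
  · exact m11g_fp_5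
  · exact m11g_fp_6
  · exact m11g_fp_7
  · exact m11g_fp_8
  · exact m11g_fp_9
  · exact m11g_fp_10

end Cfsg.Agent.Helper27
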