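import Cfsg.Agent.Helper27.M11CentMain
import Cfsg.Agent.Helper27.M11Elusive

/-!
Data for the automorphisms of the stabiliser of the standard dodecad and its first point: an element `y` of order 4
generating the group together with the standard involution `x`, with `x y` of order 11; a straight-line program
producing coset representatives from `x` and `y`; and the 48 conjugates of `y` under the centraliser of `x`, which are
the only elements `g` with `g ^ 4 = 1`, `(x g) ^ 11 = 1` and `(x g x g² x g³) ^ 5 = 1`.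
-/

set_option autoImplicit false

namespace Cfsg.Agent.Helper27

open Cfsg

/-- the second generator -/

def m11gY : List ℕ := [0,5,8,14,4,16,9,3,6,2,10,11,19,7,13,21,23,18,17,12,22,20,15,1]

/-- the straight-line program producing the coset representatives from the two generators -/
def m11gProg : List (ℕ × ℕ) := [
  (1,1),(3,1),(0,1),(4,0),(1,0),(0,4),(1,1),(4,4),(9,0),(0,10),(5,7),(8,6),(1,5),(6,4),
  (11,15),(16,12),(17,15),(17,19),(17,1),(4,18),(17,13),(14,18),(23,9),(10,24),(13,25),(26,14),(9,13),(14,10),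
  (21,20),(21,29),(30,22),(27,9),(10,28),(32,21),(22,33),(27,36),(37,28),(27,38),(39,28),(27,40),(41,28),(34,42),
  (43,35),(21,44),(45,22),(21,27),(28,22),(42,46),(47,43),(31,48),(50,46),(47,51),(48,53),(54,49),(52,27),(57,53),
  (53,27),(28,54),(59,55),(56,60),(58,61),(55,53),(54,56),(64,64),(65,65),(66,64),(65,67),(66,66),(67,67),(70,64),
  (70,66),(70,68),(53,61),(62,54),(67,75),(76,66),(77,77),(78,78),(79,77),(78,80),(75,61),(77,64),(79,70),(61,64),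
  (65,62),(71,86),(87,70),(88,81),(82,89),(77,88),(79,88),(81,88),(89,82),(88,90),(91,89),(63,46),(97,98),(99,99),
  (100,99),(63,61),(67,102),(103,99),(103,100),(103,101),(63,86),(69,107),(95,108),(99,109),(100,109),(101,109),(103,109),(104,109),
  (105,109),(106,109)]

/-- coset representatives at level 0 -/
def m11gL0 : List (List ℕ) := [
  [0,1,2,3,4,5,6,7,8,9,10,11,12,13,14,15,16,17,18,19,20,21,22,23],
  [0,12,3,10,11,18,4,9,6,7,14,2,23,13,8,5,17,21,20,22,15,19,1,16],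
  [0,19,4,11,8,20,14,7,10,9,2,6,22,13,3,18,12,23,15,17,5,16,21,1],
  [0,21,6,4,14,18,10,9,3,7,11,8,19,13,2,5,1,12,20,16,15,23,17,22],
  [0,18,7,2,6,19,11,8,4,9,3,10,5,14,13,23,20,12,22,17,1,15,21,16],
  [0,17,8,6,10,5,3,7,2,9,4,14,21,13,11,15,22,1,18,23,20,12,16,19],
  [0,17,9,6,10,23,14,13,2,8,11,3,15,7,4,21,20,1,18,5,22,19,16,12],
  [0,23,10,14,2,20,11,7,4,9,8,3,16,13,6,18,21,19,15,1,5,22,12,17],
  [0,22,11,2,6,15,8,9,14,7,3,4,1,13,10,20,23,16,5,21,18,17,19,12],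
  [0,5,13,10,8,17,9,11,6,3,7,2,12,14,4,19,18,20,15,21,22,23,16,1],
  [0,16,14,8,3,15,2,9,11,7,6,10,17,13,4,20,19,22,5,12,18,1,23,21]]

/-- coset representatives at level 1 -/
def m11gL1 : List (List ℕ) := [
  [0,1,2,3,4,5,6,7,8,9,10,11,12,13,14,15,16,17,18,19,20,21,22,23],
  [0,23,2,4,11,1,3,10,7,8,6,9,5,14,13,17,20,16,12,18,15,19,21,22],
  [0,18,2,6,9,17,7,14,11,3,13,8,23,4,10,20,19,16,12,15,21,22,5,1],
  [0,16,2,7,8,12,6,14,11,4,10,9,23,3,13,20,1,18,17,5,21,22,15,19],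
  [0,19,2,8,9,16,7,10,14,11,6,4,12,13,3,18,21,1,23,17,20,5,22,15],
  [0,12,2,9,8,16,13,10,3,4,6,11,19,7,14,18,15,1,5,17,22,23,20,21],
  [0,15,2,10,3,19,13,14,11,8,6,4,21,9,7,22,12,5,1,16,23,20,18,17],
  [0,5,2,11,4,1,14,10,13,9,6,8,23,3,7,17,22,16,19,18,21,12,15,20],
  [0,16,2,13,9,19,6,3,4,11,10,8,5,14,7,22,1,18,17,23,15,20,21,12],
  [0,1,2,14,11,23,6,13,9,8,10,4,19,7,3,21,16,17,18,12,22,15,20,5]]

/-- coset representatives at level 2 -/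
def m11gL2 : List (List ℕ) := [
  [0,1,2,3,4,5,6,7,8,9,10,11,12,13,14,15,16,17,18,19,20,21,22,23],
  [0,21,2,3,6,20,8,10,11,9,14,4,15,7,13,12,19,18,17,5,16,22,23,1],
  [0,18,2,3,7,22,11,6,9,14,8,4,5,13,10,17,12,23,1,15,21,20,16,19],
  [0,17,2,3,8,15,13,11,7,6,10,4,20,14,9,16,21,12,23,22,1,5,19,18],
  [0,19,2,3,9,15,6,14,10,13,7,4,20,11,8,18,23,1,21,22,12,5,17,16],
  [0,16,2,3,10,22,14,13,8,11,9,4,5,6,7,19,1,21,12,15,23,20,18,17],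
  [0,1,2,3,11,5,10,9,13,7,6,4,22,8,14,21,18,17,16,20,19,15,12,23],
  [0,23,2,3,13,20,9,7,14,8,11,4,15,10,6,1,17,16,19,5,18,22,21,12],
  [0,12,2,3,14,5,7,8,6,10,13,4,22,9,11,23,16,19,18,20,17,15,1,21]]

/-- coset representatives at level 3 -/
def m11gL3 : List (List ℕ) := [
  [0,1,2,3,4,5,6,7,8,9,10,11,12,13,14,15,16,17,18,19,20,21,22,23],
  [0,19,2,3,4,15,7,13,11,14,6,9,17,10,8,5,21,1,23,12,22,18,20,16],
  [0,18,2,3,4,22,8,14,13,6,11,7,16,9,10,20,1,23,12,21,15,17,5,19],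
  [0,16,2,3,4,22,9,11,6,13,14,10,18,8,7,20,12,21,1,23,15,19,5,17],
  [0,17,2,3,4,15,10,6,14,11,13,8,19,7,9,5,23,12,21,1,22,16,20,18],
  [0,23,2,3,4,20,11,8,10,7,9,13,21,14,6,22,19,16,17,18,5,1,15,12],
  [0,12,2,3,4,5,13,10,9,8,7,14,1,6,11,15,18,19,16,17,20,23,22,21],
  [0,21,2,3,4,20,14,9,7,10,8,6,23,11,13,22,17,18,19,16,5,12,15,1]]

/-- the conjugates of the second generator under the centraliser of the first -/
def m11gConj : List (List ℕ) := [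
  [0,5,8,14,4,16,9,3,6,2,10,11,19,7,13,21,23,18,17,12,22,20,15,1],
  [0,5,11,3,9,21,14,7,8,13,4,6,17,10,2,16,22,12,1,23,15,18,20,19],
  [0,15,11,7,4,21,3,14,8,2,10,13,20,9,6,16,18,5,1,17,12,19,23,22],
  [0,15,8,3,10,16,4,7,13,6,9,11,22,14,2,21,17,19,20,5,18,23,12,1],
  [0,15,14,2,6,22,8,3,13,9,10,11,21,4,7,16,17,1,12,20,19,23,5,18],
  [0,12,3,6,13,18,8,7,2,4,9,11,21,10,14,16,20,1,5,23,22,17,15,19],
  [0,15,9,6,2,20,11,7,8,10,4,13,16,3,14,21,18,22,23,1,5,19,17,12],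
  [0,12,4,13,6,23,11,14,8,9,10,2,16,7,3,21,19,18,17,1,15,22,20,5],
  [0,5,14,7,4,16,10,2,8,9,13,6,21,11,3,17,22,15,23,20,19,18,1,12],
  [0,5,9,3,10,21,7,13,6,4,2,11,16,8,14,19,23,22,12,15,1,20,17,18],
  [0,12,7,3,9,16,4,13,8,10,6,2,21,11,14,23,19,5,20,17,18,22,1,15],
  [0,12,10,14,4,21,3,6,2,9,13,11,16,8,7,18,20,19,15,5,1,17,23,22],
  [0,17,4,3,6,1,7,2,10,9,13,11,19,14,8,16,15,22,12,23,21,20,5,18],
  [0,17,4,3,13,12,11,6,8,7,2,9,19,10,14,18,1,21,15,22,23,16,5,20],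
  [0,19,3,6,4,1,10,13,8,11,2,7,17,9,14,21,22,18,23,20,5,15,16,12],
  [0,19,3,13,4,12,8,2,14,9,6,11,17,7,10,23,21,20,22,16,5,1,18,15],
  [0,20,8,3,2,15,4,11,6,7,10,13,17,9,14,19,22,23,12,21,1,5,16,18],
  [0,23,7,13,4,12,3,9,6,11,10,2,19,8,14,17,5,20,21,16,22,18,15,1],
  [0,22,11,2,4,15,3,7,13,9,8,6,19,14,10,17,5,16,23,18,21,20,1,12],
  [0,18,10,3,13,12,4,7,2,9,14,6,17,11,8,19,23,21,1,22,15,5,20,16],
  [0,17,14,2,4,15,11,9,8,6,10,7,22,3,13,19,21,16,5,18,23,1,12,20],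
  [0,17,10,6,4,1,9,7,14,13,8,11,21,3,2,19,23,18,5,20,22,12,15,16],
  [0,19,9,3,2,15,8,7,10,13,14,11,20,4,6,17,1,23,22,21,12,16,18,5],
  [0,19,7,3,6,1,14,11,8,2,10,9,16,4,13,17,12,22,21,23,15,18,20,5],
  [0,17,9,11,4,18,10,7,2,13,3,6,5,8,14,23,19,1,21,16,22,12,15,20],
  [0,19,14,3,8,23,7,4,6,9,10,2,5,11,13,18,12,21,22,1,15,17,20,16],
  [0,22,9,3,7,18,11,8,13,6,10,2,15,4,14,23,20,5,19,17,16,12,1,21],
  [0,20,14,10,4,23,8,7,2,9,11,13,15,3,6,18,12,19,16,5,1,22,21,17],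
  [0,23,11,10,4,18,14,6,8,9,2,3,5,7,13,19,21,20,22,15,17,1,12,16],
  [0,18,8,3,7,23,9,2,4,13,6,11,5,10,14,17,1,15,21,22,12,16,19,20],
  [0,23,10,3,8,18,14,13,7,9,6,11,1,4,2,21,20,19,17,5,16,15,12,22],
  [0,18,7,11,4,23,9,6,8,2,13,10,1,3,14,16,15,5,20,17,12,22,21,19],
  [0,18,8,13,2,20,3,4,7,9,10,11,15,14,6,23,21,12,16,22,5,1,19,17],
  [0,23,3,13,6,16,7,8,4,2,10,11,1,9,14,18,5,21,20,12,22,17,15,19],
  [0,23,11,2,13,22,4,7,8,6,3,10,15,9,14,18,1,20,19,12,17,16,5,21],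
  [0,18,4,6,13,21,10,7,8,9,11,3,1,14,2,23,19,12,17,16,15,5,20,22],
  [0,20,7,6,2,21,9,13,3,8,10,11,22,4,14,1,17,16,12,15,19,5,23,18],
  [0,22,10,13,2,23,4,7,9,3,6,11,20,8,14,12,1,15,19,18,17,16,21,5],
  [0,22,10,2,6,16,14,7,8,9,13,4,20,3,11,1,5,15,23,21,18,19,17,12],
  [0,20,7,2,13,18,3,6,8,9,10,14,22,11,4,12,21,23,5,15,16,1,19,17],
  [0,22,14,9,4,20,7,2,3,13,10,11,17,8,6,5,21,12,19,18,23,1,16,15],
  [0,20,9,3,14,22,10,7,8,6,2,4,19,11,13,5,1,23,15,12,21,16,18,17],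
  [0,20,3,8,4,22,10,7,9,2,13,11,16,14,6,1,12,19,15,5,18,23,17,21],
  [0,22,4,3,11,20,7,13,8,6,10,14,21,9,2,1,18,5,16,17,19,12,23,15],
  [0,19,11,8,4,20,9,7,6,3,2,13,22,10,14,5,17,16,23,1,21,15,18,12],
  [0,17,8,3,11,22,14,2,13,9,10,6,20,7,4,5,15,1,12,21,23,19,16,18],
  [0,18,3,9,4,22,11,6,2,8,10,13,20,7,14,12,15,5,1,17,16,23,19,21],
  [0,23,4,3,14,20,8,7,13,9,6,2,22,10,11,12,18,19,16,5,17,15,21,1]]

/-- the word `x g x g² x g³` -/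
def w3T (T : List ℕ) : List ℕ :=
  compT (compT (compT (compT (compT z0T T) z0T) (compT T T)) z0T) (compT (compT T T) T)

/-- the property checked on the 7920 tables -/
def fpP (T : List ℕ) : Bool :=
  !(powId T 4 && powId (compT z0T T) 11 && powId (w3T T) 5) || m11gConj.contains T

end Cfsg.Agent.Helper27
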