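import Cfsg.Agent.Helper27.M12NormEnumA
import Cfsg.Agent.Helper27.M12NormEnumB
import Cfsg.Agent.Helper27.M12NormEnumC
import Cfsg.Agent.Helper27.M12NormEnumD
import Cfsg.Agent.Helper27.M12Out
import Cfsg.Agent.Helper27.FusHyp

/-!
The 2-fusion system of the Mathieu group of degree 12 is simple: a Sylow 2-subgroup is self-normalising, and a
nontrivial subgroup of it closed under fusion is the whole Sylow subgroup.
-/

set_option autoImplicit false

namespace Cfsg.Agent.Helper27

open Cfsg

theorem m12_norm_check : allProd [m12L0, m12L1, m12L2, m12L3, m12L4] idT m12NP = true := by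
  rw [allProd, List.all_eq_true]
  intro T0 hT0
  obtain ⟨i, hi, rfl⟩ := List.mem_iff_getElem.mp hT0
  have hi' : i < 12 := by rwa [m12L0_length] at hi
  rw [← List.getD_eq_getElem _ [] hi]
  interval_cases i
  · exact m12_norm_0
  · exact m12_norm_1
  · exact m12_norm_2
  · exact m12_norm_3
  · exact m12_norm_4
  · exact m12_norm_5
  · exact m12_norm_6
  · exact m12_norm_7
  · exact m12_norm_8
  · exact m12_norm_9
  · exact m12_norm_10
  · exact m12_norm_11

theorem m12SylL_nodup : (m12SylL.map Prod.snd).Nodup := by decide +kernel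

theorem m12SylL_valid : validL cert12 m12SylL = true := by decide +kernel

theorem m12SylGens_valid : m12SylGens.all (fun s => validTbl s && cert12 s) = true := by decide +kernel

theorem m12SylL_genClosed : genClosedOK m12SylL m12SylGens m12SylPar = true := by decide +kernel

theorem m12SylL_closed : ClosedTbl m12SylL :=
  closedTbl_of_genClosedOK certSound12 m12SylL_valid m12SylGens_valid m12SylL_genClosed

theorem m12SylL_keys : keysOK m12SylL = true := by decide +kernel

theorem m12SylL_length : m12SylL.length = 64 := by decide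

theorem m12Syl_center : centerOK m12SylL m12SylGens m12SylZ = true := by decide +kernel

theorem m12Syl_zcentral : m12SylL.all (fun p => eqT (compT p.2 m12SylZ) (compT m12SylZ p.2)) = true := by
  decide +kernel

theorem m12Syl_reach : reachOK m12SylL cert12 m12SylZ m12SylProg = true := by decide +kernel

theorem m12SylZ_mem : memKT m12SylL m12SylZ = true := by decide +kernel

theorem m12SylZ_ne : m12SylZ ≠ idT := by decide

/-- the standard Sylow 2-subgroup -/
def m12Syl : Subgroup ↥H12 := tblSub H12 m12SylL m12SylL_closed

theorem card_m12Syl : Nat.card m12Syl = 2 ^ 6 := by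
  rw [m12Syl, card_tblSub certSound12 _ _ m12SylL_nodup m12SylL_valid, m12SylL_length]
  norm_num

theorem normalizer_m12Syl_le : Subgroup.normalizer (m12Syl : Set ↥H12) ≤ m12Syl := by
  apply normalizer_tblSub_le certSound12 m12SylL_valid m12SylL_keys m12Syl_center m12Syl_zcentral m12SylZ_mem m12SylZ_ne
  intro n _ _
  obtain ⟨T, hT, hP⟩ := m12_enum m12NP m12_norm_check n.2
  rw [tblOf_eq hT]
  exact hP

theorem fusHyp_m12Syl : FusHyp m12Syl := by
  have h2 : Fact (Nat.Prime 2) := ⟨by norm_num⟩
  have hfin : Finite ↥H12 := Nat.finite_of_card_ne_zero (by rw [card_H12]; norm_num)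
  refine ⟨?_, ?_, normalizer_m12Syl_le⟩
  · intro h
    have := card_m12Syl
    rw [h, Subgroup.card_bot] at this
    norm_num at this
  · intro T hTS hT
    by_cases hne : T = ⊥
    · exact Or.inl hne
    · right
      obtain ⟨z0, hz0, hz0r⟩ := exists_of_mem_tbls certSound12 (hL := m12SylL_closed) m12SylL_valid
        (memKT_sound m12SylZ_mem)
      have hzT : z0 ∈ T := by
        apply mem_of_closed_of_center 2 m12Syl (IsPGroup.of_card card_m12Syl) z0 _ T hTS _ hne
        · intro c hc hcc
          exact center_cases certSound12 m12SylL_valid m12Syl_center hz0r hc hcc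
        · intro t ht g hg
          exact hT t ht g (m12Syl.mul_mem (m12Syl.mul_mem hg (hTS ht)) (m12Syl.inv_mem hg))
      exact le_antisymm hTS (tblSub_le_of_reachOK certSound12 m12Syl_reach T hT hzT hz0r)

/-- the 2-fusion system of the Mathieu group of degree 12 on any Sylow 2-subgroup is simple -/
theorem isSimple_fusion_sporM12 (S : Sylow 2 ↥Spor.M12) :
    (groupFusionSystem (S : Subgroup ↥Spor.M12)).IsSimple 2 := by
  have h2 : Fact (Nat.Prime 2) := ⟨by norm_num⟩
  obtain ⟨e⟩ := nonempty_sporM12_equiv_H12
  have hfin : Finite ↥H12 := Nat.finite_of_card_ne_zero (by rw [card_H12]; norm_num)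
  have hfin' : Finite ↥Spor.M12 := Finite.of_equiv _ e.symm.toEquiv
  exact isSimple_fusion_of_fusHyp e 2 (k := 6) (m := 1485) (by rw [card_H12]; norm_num) (by norm_num) m12Syl card_m12Syl
    fusHyp_m12Syl S

end Cfsg.Agent.Helper27
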