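import Cfsg.Agent.Helper27.M12
import Cfsg.Agent.Helper27.M12Hexads
import Cfsg.Agent.Helper27.FaithfulPerm
import Cfsg.Agent.Helper27.M24InvolClass
import Cfsg.Prelude.Def_SporadicCombinatorics

/-!
The stabiliser of a hexad in the stabiliser of a dodecad is the symmetric group of degree six.
-/

set_option autoImplicit false

namespace Cfsg.Agent.Helper27

open Cfsg
open scoped Pointwise

/-- an element of the stabiliser of a dodecad fixing five of its points is trivial -/
theorem stabP_eq_one_of_fix {d : Finset GolayPt} (hd : d ∈ dodecads) {F : Finset GolayPt} (hF : F ⊆ d)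
    (hFc : 5 ≤ F.card) {g : Equiv.Perm GolayPt} (hg : g ∈ stabP d) (hfix : ∀ p ∈ F, g p = p) : g = 1 := by
  obtain ⟨x, hx, hxF⟩ := exists_five_in F hFc
  obtain ⟨k, -, -, huniq⟩ := stabP_sharp5 hd x x hx hx (fun i => hF (hxF i)) (fun i => hF (hxF i))
  rw [huniq g hg (fun i => hfix _ (hxF i)), ← huniq 1 (stabP d).one_mem (fun i => rfl)]

/-- an element of the stabiliser of a dodecad mapping five points of a hexad into it stabilises the hexad -/
theorem smul_hexad_eq {d o : Finset GolayPt} (ho : o ∈ octads) {k : Equiv.Perm GolayPt} (hk : k ∈ stabP d)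
    (x : Fin 5 → GolayPt) (hx : Function.Injective x) (hxC : ∀ i, x i ∈ o ∩ d) (hkx : ∀ i, k (x i) ∈ o ∩ d) :
    k • (o ∩ d) = o ∩ d := by
  have hk' := (mem_stabP d k).mp hk
  have h1 : k • o = o :=
    smul_octad_eq hk'.1 ho ho x hx (fun i => (Finset.mem_inter.mp (hxC i)).1)
      (fun i => (Finset.mem_inter.mp (hkx i)).1)
  rw [Finset.smul_finset_inter, h1, hk'.2]

/-- a permutation preserving a set and fixing all its points but one fixes that one too -/
theorem fix_last {s : Finset GolayPt} {τ : Equiv.Perm GolayPt} (hτ : ∀ p ∈ s, τ p ∈ s) {q : GolayPt} (hq : q ∈ s)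
    (hfix : ∀ p ∈ s, p ≠ q → τ p = p) : τ q = q := by
  by_contra hne
  have h1 := hτ q hq
  have h2 := hfix (τ q) h1 hne
  exact hne (τ.injective h2)

theorem hexad_stabilizer_S6 (d : Finset GolayPt) (hd : d ∈ dodecads) (C : Finset GolayPt) (hC : C ∈ hexadsOn d) :
    Nonempty (↥(MulAction.stabilizer M24 d ⊓ MulAction.stabilizer M24 C) ≃* Equiv.Perm (Fin 6)) ∧
    (∀ g ∈ MulAction.stabilizer M24 d ⊓ MulAction.stabilizer M24 C,
      (∀ p ∈ C, ((g : ↥M24) : Equiv.Perm GolayPt) p = p) → g = 1) ∧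
    ∀ g ∈ MulAction.stabilizer M24 d ⊓ MulAction.stabilizer M24 C,
      (∀ p ∈ d \ C, ((g : ↥M24) : Equiv.Perm GolayPt) p = p) → g = 1 := by
  obtain ⟨hC6, o, ho, rfl⟩ := hC
  have hCd : o ∩ d ⊆ d := Finset.inter_subset_right
  have hdc : (d \ (o ∩ d)).card = 6 := by
    rw [Finset.card_sdiff_of_subset hCd, hd.2, hC6]
  have hmem : ∀ g : ↥M24, g ∈ MulAction.stabilizer M24 d ⊓ MulAction.stabilizer M24 (o ∩ d) →
      g.1 ∈ stabP d ∧ g.1 • (o ∩ d) = o ∩ d := by
    intro g h
    rw [Subgroup.mem_inf, MulAction.mem_stabilizer_iff, MulAction.mem_stabilizer_iff] at h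
    exact ⟨(mem_stabP d g.1).mpr ⟨g.2, h.1⟩, h.2⟩
  have hfaith1 : ∀ g ∈ MulAction.stabilizer M24 d ⊓ MulAction.stabilizer M24 (o ∩ d),
      (∀ p ∈ o ∩ d, ((g : ↥M24) : Equiv.Perm GolayPt) p = p) → g = 1 := by
    intro g hg hfix
    apply Subtype.ext
    exact stabP_eq_one_of_fix hd hCd (by rw [hC6]; norm_num) (hmem g hg).1 hfix
  refine ⟨?_, hfaith1, ?_⟩
  · apply mulEquiv_perm_of_faithful_surj (o ∩ d) 6 hC6
    · intro g p hp
      obtain ⟨-, h2⟩ := hmem g.1 g.2
      show (g : ↥M24).1 p ∈ o ∩ d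
      have : (g : ↥M24).1 p ∈ (g : ↥M24).1 • (o ∩ d) := (mem_smul_finset_perm _ _ p).mpr hp
      rwa [h2] at this
    · intro g hfix
      apply Subtype.ext
      exact hfaith1 g.1 g.2 (fun p hp => hfix p hp)
    · intro τ hτ
      obtain ⟨x, hx, hxC⟩ := exists_five_in (o ∩ d) (by rw [hC6]; norm_num)
      have hy : Function.Injective (fun i => τ (x i)) := τ.injective.comp hx
      obtain ⟨k, hk, hkx, -⟩ := stabP_sharp5 hd x (fun i => τ (x i)) hx hy (fun i => hCd (hxC i))
        (fun i => hCd (hτ _ (hxC i)))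
      have hkC : k • (o ∩ d) = o ∩ d :=
        smul_hexad_eq ho hk x hx hxC (fun i => by rw [hkx i]; exact hτ _ (hxC i))
      have hk' := (mem_stabP d k).mp hk
      have hkJ : (⟨k, hk'.1⟩ : ↥M24) ∈ MulAction.stabilizer M24 d ⊓ MulAction.stabilizer M24 (o ∩ d) := by
        rw [Subgroup.mem_inf]
        exact ⟨MulAction.mem_stabilizer_iff.mpr hk'.2, MulAction.mem_stabilizer_iff.mpr hkC⟩
      refine ⟨⟨⟨k, hk'.1⟩, hkJ⟩, ?_⟩
      -- `k⁻¹ * τ` preserves the hexad and fixes five of its points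
      have hpres : ∀ p ∈ o ∩ d, (k⁻¹ * τ) p ∈ o ∩ d := by
        intro p hp
        rw [Equiv.Perm.mul_apply]
        have h1 := hτ p hp
        rw [← hkC, mem_smul_perm_iff] at h1
        exact h1
      have hfixx : ∀ i, (k⁻¹ * τ) (x i) = x i := by
        intro i
        rw [Equiv.Perm.mul_apply, ← hkx i, perm_inv_apply_self]
      -- the image of `x` has five elements, so at most one point of the hexad is outside it
      have himg : (Finset.univ.image x).card = 5 := by
        rw [Finset.card_image_of_injective _ hx]; simp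
      have hsub : Finset.univ.image x ⊆ o ∩ d := by
        intro p hp
        obtain ⟨i, -, rfl⟩ := Finset.mem_image.mp hp
        exact hxC i
      have hrest : ((o ∩ d) \ Finset.univ.image x).card = 1 := by
        rw [Finset.card_sdiff_of_subset hsub, hC6, himg]
      obtain ⟨q, hq⟩ := Finset.card_eq_one.mp hrest
      have hqmem : q ∈ (o ∩ d) \ Finset.univ.image x := by rw [hq]; exact Finset.mem_singleton_self q
      have hall : ∀ p ∈ o ∩ d, p ≠ q → (k⁻¹ * τ) p = p := by
        intro p hp hpq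
        by_cases hpi : p ∈ Finset.univ.image x
        · obtain ⟨i, -, rfl⟩ := Finset.mem_image.mp hpi
          exact hfixx i
        · have : p ∈ (o ∩ d) \ Finset.univ.image x := Finset.mem_sdiff.mpr ⟨hp, hpi⟩
          rw [hq, Finset.mem_singleton] at this
          exact absurd this hpq
      have hq' := fix_last hpres (Finset.mem_sdiff.mp hqmem).1 hall
      intro p hp
      show k p = τ p
      have hfixp : (k⁻¹ * τ) p = p := by
        by_cases hpq : p = q
        · rw [hpq]; exact hq'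
        · exact hall p hp hpq
      rw [Equiv.Perm.mul_apply, Equiv.Perm.inv_eq_iff_eq] at hfixp
      exact hfixp.symm
  · intro g hg hfix
    apply Subtype.ext
    exact stabP_eq_one_of_fix hd Finset.sdiff_subset (by rw [hdc]; norm_num) (hmem g hg).1 hfix

end Cfsg.Agent.Helper27
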