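import Cfsg.Agent.Helper27.M12Syl2Data

/-!
The normaliser test on the elements of the stabiliser of the standard dodecad in `M24`: the elements whose first coset
representative has number 0, 1 or 2.
-/

set_option autoImplicit false

namespace Cfsg.Agent.Helper27

open Cfsg

set_option maxRecDepth 100000 in
theorem m12_norm_0 : allProd [m12L1, m12L2, m12L3, m12L4] (compT idT (m12L0.getD 0 [])) m12NP = true := by
  decide +kernel

set_option maxRecDepth 100000 in
theorem m12_norm_1 : allProd [m12L1, m12L2, m12L3, m12L4] (compT idT (m12L0.getD 1 [])) m12NP = true := by
  decide +kernel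

set_option maxRecDepth 100000 in
theorem m12_norm_2 : allProd [m12L1, m12L2, m12L3, m12L4] (compT idT (m12L0.getD 2 [])) m12NP = true := by
  decide +kernel

end Cfsg.Agent.Helper27
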