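import Cfsg.Agent.Helper27.M12OutData

/-!
The kernel computations for the automorphisms of the stabiliser of the standard dodecad in `M24`, apart from the
enumeration of the group.
-/

set_option autoImplicit false

namespace Cfsg.Agent.Helper27

open Cfsg

theorem m12Xi_valid : validTbl m12Xi = true := by decide +kernel
theorem m12N_valid : validTbl m12N = true := by decide +kernel
theorem m12S_valid : validTbl m12S = true := by decide +kernel
theorem m12H_valid : validTbl m12H = true := by decide +kernel
theorem m12Y_valid : validTbl m12Y = true := by decide +kernel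

theorem m12X_cert : cert12 y11T = true := by decide +kernel
theorem m12N_cert : cert12 m12N = true := by decide +kernel
theorem m12H_cert : cert12 m12H = true := by decide +kernel
theorem m12Y_cert : cert12 m12Y = true := by decide +kernel
theorem m12S_code : tblInCode m12S = true := by decide +kernel

/-- `s` interchanges the standard dodecad and its complement -/
theorem m12S_compl : (List.range 24).all (fun i => dod0.testBit (m12S.getD i 0) == !(dod0.testBit i)) = true := by
  decide +kernel

/-- the fixed points of `h` -/
theorem m12H_fix : (List.range 24).filter (fun i => m12H.getD i 0 == i) = [0, 2, 3, 4] := by decide +kernel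

theorem m12H_fix_dod : ([0, 2, 3, 4] : List ℕ).all (fun i => dod0.testBit i) = true := by decide +kernel

theorem m12X_inv : compT y11T m12Xi = idT := by decide +kernel

theorem m12N_norm : compT m12N y11T = compT (compT (compT y11T y11T) y11T) m12N := by decide +kernel

theorem m12S_inv : compT m12S y11T = compT m12Xi m12S := by decide +kernel

theorem m12Y_order : orderOK m12Y 2 = true := by decide +kernel

theorem m12Y_word : (powId (compT y11T m12Y) 6 && powId (w12T y11T m12Y) 3) = true := by decide +kernel

theorem m12_cover : checkCover (slpRun [y11T, m12Y, idT] m12Prog)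
    (m12gL0 ++ m12gL1 ++ m12gL2 ++ m12gL3 ++ m12gL4) = true := by decide +kernel

theorem m12gOK0 : transOKH cert12 [] m12gL0 = true := by decide +kernel
theorem m12gOK1 : transOKH cert12 [0] m12gL1 = true := by decide +kernel
theorem m12gOK2 : transOKH cert12 [2, 0] m12gL2 = true := by decide +kernel
theorem m12gOK3 : transOKH cert12 [3, 2, 0] m12gL3 = true := by decide +kernel
theorem m12gOK4 : transOKH cert12 [4, 3, 2, 0] m12gL4 = true := by decide +kernel

theorem m12gImg0 : transImg 0 m12gL0 = dod0 ^^^ (dod0 &&& tblMask []) := by decide +kernel
theorem m12gImg1 : transImg 2 m12gL1 = dod0 ^^^ (dod0 &&& tblMask [0]) := by decide +kernel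
theorem m12gImg2 : transImg 3 m12gL2 = dod0 ^^^ (dod0 &&& tblMask [2, 0]) := by decide +kernel
theorem m12gImg3 : transImg 4 m12gL3 = dod0 ^^^ (dod0 &&& tblMask [3, 2, 0]) := by decide +kernel
theorem m12gImg4 : transImg 6 m12gL4 = dod0 ^^^ (dod0 &&& tblMask [4, 3, 2, 0]) := by decide +kernel

theorem m12Conj_length : m12Conj.length = 11 := by decide
theorem m12XPow_length : m12XPow.length = 11 := by decide

/-- the conjugates of `y` under the powers of `x` -/
theorem m12Conj_ok : (m12XPow.zip m12Conj).all (fun ct => validTbl ct.1 && cert12 ct.1 &&
    (compT ct.1 y11T == compT y11T ct.1) && (compT ct.2 ct.1 == compT ct.1 m12Y)) = true := by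
  decide +kernel

theorem m12L0_length : m12L0.length = 12 := by decide
theorem m12L1_length' : m12L1.length = 11 := by decide

end Cfsg.Agent.Helper27
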