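import Cfsg.Agent.Helper27.M23OutCheck
import Cfsg.Agent.Helper27.M11Elusive

/-!
Data for the automorphisms of the stabiliser of the standard dodecad in `M24`: together with the element `x` of order 11
of the simplicity proof, an element `n` with `n x n⁻¹ = x³`, an involution `s` of `M24` mapping the dodecad to its
complement with `s x s⁻¹ = x⁻¹`, an involution `y` generating the group together with `x`, an element `h` whose fixed
points are four points of the dodecad, a straight-line program producing coset representatives from `x` and `y`, and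
the 11 conjugates of `y` under the powers of `x` (the only involutions `t` of the group with `(x t)⁶ = 1` and
`(x t x² t)³ = 1`).
-/

set_option autoImplicit false

namespace Cfsg.Agent.Helper27

open Cfsg

/-- the inverse of the element of order 11 -/
def m12Xi : List ℕ := [0,20,11,4,2,21,10,13,3,14,9,7,12,6,8,1,19,5,22,23,17,16,15,18]

/-- an element of order 5 normalising it -/
def m12N : List ℕ := [0,19,2,10,8,21,11,9,7,14,6,13,12,3,4,5,15,20,18,17,22,23,1,16]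

/-- an involution of `M24` inverting it and mapping the standard dodecad to its complement -/
def m12S : List ℕ := [12,2,1,17,20,8,23,22,5,16,19,15,0,18,21,11,9,3,13,10,4,14,7,6]

/-- an element of the group whose fixed points are four points of the standard dodecad -/
def m12H : List ℕ := [0,19,2,3,4,15,7,13,11,14,6,9,17,10,8,5,21,1,23,12,22,18,20,16]

/-- an involution -/
def m12Y : List ℕ := [2,23,0,7,13,19,14,3,9,8,11,10,15,4,6,12,22,21,20,5,18,17,16,1]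

/-- the straight-line program producing the coset representatives from the two generators -/
def m12Prog : List (ℕ × ℕ) := [
  (0,0),(3,3),(4,4),(5,3),(0,1),(1,6),(1,0),(6,1),(0,0),(6,6),(11,1),(1,12),(13,0),(6,14),
  (7,0),(6,8),(9,15),(16,10),(19,17),(18,20),(9,21),(22,10),(9,0),(6,10),(23,19),(20,24),(0,27),(28,6),
  (23,0),(6,24),(25,31),(32,26),(1,0),(6,1),(35,31),(32,36),(1,29),(30,1),(33,37),(38,34),(35,1),(1,36),
  (43,33),(34,44),(39,35),(36,40),(47,45),(46,48),(49,41),(42,50),(33,49),(50,34),(45,49),(50,46),(55,35),(36,56),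
  (35,45),(46,36),(57,51),(52,58),(61,53),(54,62),(53,35),(36,54),(63,65),(66,64),(59,65),(66,60),(35,69),(70,36),
  (71,69),(70,72),(51,73),(74,52),(75,71),(72,76),(51,77),(78,52),(59,71),(72,60),(79,71),(72,80),(79,81),(82,80),
  (85,77),(78,86),(87,85),(86,88),(87,67),(68,88),(91,67),(68,92),(93,67),(68,94),(95,95),(96,96),(97,95),(96,98),
  (97,97),(98,98),(101,95),(96,102),(101,97),(101,99),(101,101),(102,102),(107,95),(107,97),(98,108),(95,89),(90,96),(108,112),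
  (113,107),(114,114),(115,115),(116,114),(116,116),(117,117),(119,114),(112,81),(82,113),(67,89),(90,68),(120,124),(125,119),(126,126),
  (127,127),(128,126),(122,112),(113,123),(96,131),(132,95),(133,126),(133,128),(129,134),(133,130),(126,133),(136,133),(134,137),(83,124),
  (125,84),(100,142),(143,99),(144,144),(145,145),(146,144),(83,122),(123,84),(104,149),(150,103),(140,114),(133,116),(138,116),(139,118),
  (149,67),(108,157),(120,158),(141,159),(147,160),(161,161),(162,161),(157,142),(111,164),(117,165),(129,166),(161,144),(162,144),(161,148),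
  (162,148),(164,122),(152,172),(134,173),(147,174),(175,161),(175,162),(175,163)]

/-- coset representatives at level 0 -/
def m12gL0 : List (List ℕ) := [
  [0,1,2,3,4,5,6,7,8,9,10,11,12,13,14,15,16,17,18,19,20,21,22,23],
  [2,18,3,8,0,19,14,6,11,10,7,9,5,13,4,15,21,12,23,22,16,17,1,20],
  [3,23,8,11,2,22,4,14,9,7,6,10,19,13,0,15,17,5,20,1,21,12,18,16],
  [4,22,0,2,14,12,7,10,3,11,9,8,17,13,6,15,20,21,1,5,23,16,19,18],
  [6,5,14,4,7,21,9,11,0,3,8,2,16,13,10,15,18,20,19,17,1,23,12,22],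
  [7,12,6,14,10,16,11,8,4,2,3,0,20,13,9,15,1,23,5,21,22,18,17,19],
  [8,20,11,9,3,1,0,4,10,6,14,7,22,13,2,15,12,19,16,18,17,5,23,21],
  [9,21,10,7,11,23,3,2,6,4,0,14,18,13,8,15,19,1,17,20,5,22,16,12],
  [10,17,7,6,9,20,8,3,14,0,2,4,23,13,11,15,22,18,12,16,19,1,21,5],
  [11,16,9,10,8,18,2,0,7,14,4,6,1,13,3,15,5,22,21,23,12,19,20,17],
  [13,21,10,8,9,5,2,14,6,7,0,3,20,11,4,15,12,23,17,22,1,18,19,16],
  [14,19,4,0,6,17,10,9,2,8,11,3,21,13,7,15,23,16,22,12,18,20,5,1]]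

/-- coset representatives at level 1 -/
def m12gL1 : List (List ℕ) := [
  [0,1,2,3,4,5,6,7,8,9,10,11,12,13,14,15,16,17,18,19,20,21,22,23],
  [0,5,3,7,2,22,9,8,10,4,6,11,18,14,13,21,23,19,15,20,16,12,17,1],
  [0,1,4,3,2,5,14,10,8,9,7,13,12,11,6,22,17,16,19,18,20,23,15,21],
  [0,22,6,9,3,19,4,11,14,8,2,13,1,10,7,15,12,18,21,20,23,16,5,17],
  [0,5,7,8,10,20,6,11,9,3,13,2,12,4,14,19,16,17,23,21,1,15,18,22],
  [0,18,8,4,9,17,13,14,11,10,7,2,12,6,3,20,21,22,23,5,19,16,15,1],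
  [0,20,9,11,6,16,4,8,10,13,7,2,23,14,3,5,22,21,1,19,18,17,12,15],
  [0,5,10,8,7,20,14,13,9,3,11,4,12,2,6,18,17,16,21,23,1,22,19,15],
  [0,20,11,9,13,1,6,2,3,8,4,7,12,10,14,21,16,17,22,15,5,19,23,18],
  [0,20,13,9,11,1,14,4,3,8,2,10,12,7,6,23,17,16,15,22,5,18,21,19],
  [0,22,14,7,13,1,3,11,8,6,9,4,16,10,2,20,5,18,21,17,12,19,23,15]]

/-- coset representatives at level 2 -/
def m12gL2 : List (List ℕ) := [
  [0,1,2,3,4,5,6,7,8,9,10,11,12,13,14,15,16,17,18,19,20,21,22,23],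
  [0,20,2,4,8,5,11,6,10,13,14,9,1,7,3,16,21,22,23,19,17,18,12,15],
  [0,5,2,6,11,19,8,10,9,3,4,7,23,13,14,20,17,16,12,21,15,1,18,22],
  [0,5,2,7,3,22,13,6,10,4,8,14,18,11,9,17,19,23,20,15,16,1,21,12],
  [0,19,2,8,7,21,9,4,3,6,11,10,22,13,14,15,16,17,23,1,20,5,12,18],
  [0,21,2,9,10,1,3,11,6,8,7,4,18,13,14,20,17,16,22,5,15,19,23,12],
  [0,19,2,10,6,18,13,8,4,11,9,14,12,7,3,16,21,22,15,20,17,5,1,23],
  [0,5,2,11,9,19,10,14,13,4,8,6,15,7,3,17,22,21,1,18,16,20,23,12],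
  [0,18,2,13,14,20,4,9,11,10,6,8,23,7,3,17,22,21,12,5,16,19,15,1],
  [0,19,2,14,11,23,7,10,8,9,13,3,1,6,4,21,18,12,16,17,22,5,20,15]]

/-- coset representatives at level 3 -/
def m12gL3 : List (List ℕ) := [
  [0,1,2,3,4,5,6,7,8,9,10,11,12,13,14,15,16,17,18,19,20,21,22,23],
  [0,15,2,3,6,20,7,14,9,11,10,13,21,8,4,12,17,5,19,18,16,1,23,22],
  [0,5,2,3,7,22,13,8,14,9,6,10,18,11,4,17,1,15,12,23,21,19,16,20],
  [0,22,2,3,8,16,11,14,4,9,13,6,12,10,7,15,5,17,18,20,19,23,1,21],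
  [0,20,2,3,9,15,11,7,13,10,14,8,19,6,4,18,21,22,23,1,12,16,17,5],
  [0,5,2,3,10,22,6,9,11,8,13,7,16,14,4,19,12,15,1,21,23,17,18,20],
  [0,18,2,3,11,12,7,4,10,8,14,6,16,13,9,19,22,15,1,23,21,20,5,17],
  [0,17,2,3,13,21,8,4,9,10,6,11,19,14,7,18,15,22,23,12,1,5,20,16],
  [0,16,2,3,14,1,10,4,7,9,11,13,18,6,8,17,22,15,12,21,23,20,5,19]]

/-- coset representatives at level 4 -/
def m12gL4 : List (List ℕ) := [
  [0,1,2,3,4,5,6,7,8,9,10,11,12,13,14,15,16,17,18,19,20,21,22,23],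
  [0,19,2,3,4,15,7,13,11,14,6,9,17,10,8,5,21,1,23,12,22,18,20,16],
  [0,18,2,3,4,22,8,14,13,6,11,7,16,9,10,20,1,23,12,21,15,17,5,19],
  [0,16,2,3,4,22,9,11,6,13,14,10,18,8,7,20,12,21,1,23,15,19,5,17],
  [0,17,2,3,4,15,10,6,14,11,13,8,19,7,9,5,23,12,21,1,22,16,20,18],
  [0,23,2,3,4,20,11,8,10,7,9,13,21,14,6,22,19,16,17,18,5,1,15,12],
  [0,12,2,3,4,5,13,10,9,8,7,14,1,6,11,15,18,19,16,17,20,23,22,21],
  [0,21,2,3,4,20,14,9,7,10,8,6,23,11,13,22,17,18,19,16,5,12,15,1]]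

/-- the powers of `x` -/
def m12XPow : List (List ℕ) := [
  [0,1,2,3,4,5,6,7,8,9,10,11,12,13,14,15,16,17,18,19,20,21,22,23],
  [0,15,4,8,3,17,13,11,14,10,6,2,12,7,9,22,21,20,23,16,1,5,18,19],
  [0,22,3,14,8,20,7,2,9,6,13,4,12,11,10,18,5,1,19,21,15,17,23,16],
  [0,18,8,9,14,1,11,4,10,13,7,3,12,2,6,23,17,15,16,5,22,20,19,21],
  [0,23,14,10,9,15,2,3,6,7,11,8,12,4,13,19,20,22,21,17,18,1,16,5],
  [0,19,9,6,10,22,4,8,13,11,2,14,12,3,7,16,1,18,5,20,23,15,21,17],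
  [0,16,10,13,6,18,3,14,7,2,4,9,12,8,11,21,15,23,17,1,19,22,5,20],
  [0,21,6,7,13,23,8,9,11,4,3,10,12,14,2,5,22,19,20,15,16,18,17,1],
  [0,5,13,11,7,19,14,10,2,3,8,6,12,9,4,17,18,16,1,22,21,23,20,15],
  [0,17,7,2,11,16,9,6,4,8,14,13,12,10,3,20,23,21,15,18,5,19,1,22],
  [0,20,11,4,2,21,10,13,3,14,9,7,12,6,8,1,19,5,22,23,17,16,15,18]]

/-- the conjugates of `y` under the powers of `x` -/
def m12Conj : List (List ℕ) := [
  [2,23,0,7,13,19,14,3,9,8,11,10,15,4,6,12,22,21,20,5,18,17,16,1],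
  [4,23,6,7,0,20,2,3,11,13,14,8,22,9,10,19,17,16,21,15,5,18,12,1],
  [3,17,14,0,13,23,9,10,11,6,7,8,18,4,2,19,22,1,12,15,21,20,16,5],
  [8,5,14,7,9,1,11,3,0,4,13,6,23,10,2,20,22,19,21,17,15,18,16,12],
  [14,22,13,10,9,23,7,6,11,4,3,8,19,2,0,17,20,15,21,12,16,18,1,5],
  [9,21,14,10,7,23,8,4,6,0,3,13,16,11,2,18,12,19,15,17,22,1,20,5],
  [10,18,7,11,9,15,8,2,6,4,0,3,21,14,13,5,20,19,1,17,16,12,23,22],
  [6,21,8,10,11,12,0,9,2,7,3,4,5,14,13,23,20,22,19,18,16,1,17,15],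
  [13,21,3,2,14,15,8,9,6,7,11,10,17,0,4,5,23,12,20,22,18,1,19,16],
  [7,23,6,9,8,15,2,0,4,3,11,10,20,14,13,5,18,22,16,21,12,19,17,1],
  [11,12,6,14,13,16,2,9,10,7,8,0,1,4,3,19,5,22,20,15,18,23,17,21]]

/-- the table of the word `x t x² t` -/
def w12T (X T : List ℕ) : List ℕ := compT (compT (compT X T) (compT X X)) T

/-- the test applied to all elements of the group: the involutions `t` with `(x t)⁶ = 1` and `(x t x² t)³ = 1` are
conjugates of `y` under the powers of `x` -/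
def m12P (T : List ℕ) : Bool :=
  !(tblInvol T && powId (compT y11T T) 6 && powId (w12T y11T T) 3) || m12Conj.contains T

end Cfsg.Agent.Helper27
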