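import Cfsg.Agent.Helper27.M12OutData

/-!
The enumeration of the stabiliser of the standard dodecad in `M24`: the elements whose first coset representative has
number 10.
-/

set_option autoImplicit false

namespace Cfsg.Agent.Helper27

open Cfsg

theorem m12_enum_10_0 : allProd [m12L2, m12L3, m12L4]
    (compT (compT idT (m12L0.getD 10 [])) (m12L1.getD 0 [])) m12P = true := by
  decide +kernel

theorem m12_enum_10_1 : allProd [m12L2, m12L3, m12L4]
    (compT (compT idT (m12L0.getD 10 [])) (m12L1.getD 1 [])) m12P = true := by
  decide +kernel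

theorem m12_enum_10_2 : allProd [m12L2, m12L3, m12L4]
    (compT (compT idT (m12L0.getD 10 [])) (m12L1.getD 2 [])) m12P = true := by
  decide +kernel

theorem m12_enum_10_3 : allProd [m12L2, m12L3, m12L4]
    (compT (compT idT (m12L0.getD 10 [])) (m12L1.getD 3 [])) m12P = true := by
  decide +kernel

theorem m12_enum_10_4 : allProd [m12L2, m12L3, m12L4]
    (compT (compT idT (m12L0.getD 10 [])) (m12L1.getD 4 [])) m12P = true := by
  decide +kernel

theorem m12_enum_10_5 : allProd [m12L2, m12L3, m12L4]
    (compT (compT idT (m12L0.getD 10 [])) (m12L1.getD 5 [])) m12P = true := by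
  decide +kernel

theorem m12_enum_10_6 : allProd [m12L2, m12L3, m12L4]
    (compT (compT idT (m12L0.getD 10 [])) (m12L1.getD 6 [])) m12P = true := by
  decide +kernel

theorem m12_enum_10_7 : allProd [m12L2, m12L3, m12L4]
    (compT (compT idT (m12L0.getD 10 [])) (m12L1.getD 7 [])) m12P = true := by
  decide +kernel

theorem m12_enum_10_8 : allProd [m12L2, m12L3, m12L4]
    (compT (compT idT (m12L0.getD 10 [])) (m12L1.getD 8 [])) m12P = true := by
  decide +kernel

theorem m12_enum_10_9 : allProd [m12L2, m12L3, m12L4]
    (compT (compT idT (m12L0.getD 10 [])) (m12L1.getD 9 [])) m12P = true := by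
  decide +kernel

theorem m12_enum_10_10 : allProd [m12L2, m12L3, m12L4]
    (compT (compT idT (m12L0.getD 10 [])) (m12L1.getD 10 [])) m12P = true := by
  decide +kernel

theorem m12_enum_row_10 : ∀ j < 11, allProd [m12L2, m12L3, m12L4]
    (compT (compT idT (m12L0.getD 10 [])) (m12L1.getD j [])) m12P = true := by
  intro j hj
  interval_cases j
  · exact m12_enum_10_0
  · exact m12_enum_10_1
  · exact m12_enum_10_2
  · exact m12_enum_10_3
  · exact m12_enum_10_4
  · exact m12_enum_10_5
  · exact m12_enum_10_6
  · exact m12_enum_10_7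
  · exact m12_enum_10_8
  · exact m12_enum_10_9
  · exact m12_enum_10_10

end Cfsg.Agent.Helper27
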