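import Cfsg.Agent.Helper27.M12OutEnum0
import Cfsg.Agent.Helper27.M12OutEnum1
import Cfsg.Agent.Helper27.M12OutEnum2
import Cfsg.Agent.Helper27.M12OutEnum3
import Cfsg.Agent.Helper27.M12OutEnum4
import Cfsg.Agent.Helper27.M12OutEnum5
import Cfsg.Agent.Helper27.M12OutEnum6
import Cfsg.Agent.Helper27.M12OutEnum7
import Cfsg.Agent.Helper27.M12OutEnum8
import Cfsg.Agent.Helper27.M12OutEnum9
import Cfsg.Agent.Helper27.M12OutEnum10
import Cfsg.Agent.Helper27.M12OutEnum11
import Cfsg.Agent.Helper27.M12OutCheck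

/-!
The enumeration of the stabiliser of the standard dodecad in `M24`: all 95040 products of coset representatives pass the
test, and every element of the group is such a product.
-/

set_option autoImplicit false

namespace Cfsg.Agent.Helper27

open Cfsg

theorem m12_enum_check : allProd [m12L0, m12L1, m12L2, m12L3, m12L4] idT m12P = true := by
  rw [allProd, List.all_eq_true]
  intro T0 hT0
  obtain ⟨i, hi, rfl⟩ := List.mem_iff_getElem.mp hT0
  rw [allProd, List.all_eq_true]
  intro T1 hT1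
  obtain ⟨j, hj, rfl⟩ := List.mem_iff_getElem.mp hT1
  have hi' : i < 12 := by rwa [m12L0_length] at hi
  have hj' : j < 11 := by rwa [m12L1_length'] at hj
  rw [← List.getD_eq_getElem _ [] hi, ← List.getD_eq_getElem _ [] hj]
  interval_cases i
  · exact m12_enum_row_0 j hj'
  · exact m12_enum_row_1 j hj'
  · exact m12_enum_row_2 j hj'
  · exact m12_enum_row_3 j hj'
  · exact m12_enum_row_4 j hj'
  · exact m12_enum_row_5 j hj'
  · exact m12_enum_row_6 j hj'
  · exact m12_enum_row_7 j hj'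
  · exact m12_enum_row_8 j hj'
  · exact m12_enum_row_9 j hj'
  · exact m12_enum_row_10 j hj'
  · exact m12_enum_row_11 j hj'

/-- every element of the stabiliser of the standard dodecad is a product of coset representatives -/
theorem m12_enum (P : List ℕ → Bool) (hP : allProd [m12L0, m12L1, m12L2, m12L3, m12L4] idT P = true)
    {g : Equiv.Perm GolayPt} (hg : g ∈ H12) : ∃ T, Represents g T ∧ P T = true := by
  have hg' : g ∈ fixH H12 (ptsOf []) := by rw [ptsOf_nil, fixH_empty]; exact hg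
  have i0 : transImg 0 m12L0 = dod0 ^^^ (dod0 &&& tblMask []) := by decide +kernel
  have i1 : transImg 2 m12L1 = dod0 ^^^ (dod0 &&& tblMask [0]) := by decide +kernel
  have i2 : transImg 3 m12L2 = dod0 ^^^ (dod0 &&& tblMask [2, 0]) := by decide +kernel
  have i3 : transImg 4 m12L3 = dod0 ^^^ (dod0 &&& tblMask [3, 2, 0]) := by decide +kernel
  have i4 : transImg 6 m12L4 = dod0 ^^^ (dod0 &&& tblMask [4, 3, 2, 0]) := by decide +kernel
  have o0 : g (pt 0) ∈ maskSet (transImg 0 m12L0) := by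
    have : g (pt 0) ∈ orbitSet (fixH H12 (ptsOf [])) (pt 0) := ⟨g, hg', rfl⟩
    rw [orbit12_eq0] at this
    rw [i0]; exact this
  obtain ⟨T0, hT0, t0, g0, r0, hg0, e0⟩ :=
    level_step certSound12 (fixed_lt_24 (by decide)) (by norm_num) m12OK0 hg' o0
  have o1 : g0 (pt 2) ∈ maskSet (transImg 2 m12L1) := by
    have : g0 (pt 2) ∈ orbitSet (fixH H12 (ptsOf [0])) (pt 2) := ⟨g0, hg0, rfl⟩
    rw [orbit12_eq1] at this
    rw [i1]; exact this
  obtain ⟨T1, hT1, t1, g1, r1, hg1, e1⟩ :=
    level_step certSound12 (fixed_lt_24 (by decide)) (by norm_num) m12OK1 hg0 o1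
  have o2 : g1 (pt 3) ∈ maskSet (transImg 3 m12L2) := by
    have : g1 (pt 3) ∈ orbitSet (fixH H12 (ptsOf [2, 0])) (pt 3) := ⟨g1, hg1, rfl⟩
    rw [orbit12_eq2] at this
    rw [i2]; exact this
  obtain ⟨T2, hT2, t2, g2, r2, hg2, e2⟩ :=
    level_step certSound12 (fixed_lt_24 (by decide)) (by norm_num) m12OK2 hg1 o2
  have o3 : g2 (pt 4) ∈ maskSet (transImg 4 m12L3) := by
    have : g2 (pt 4) ∈ orbitSet (fixH H12 (ptsOf [3, 2, 0])) (pt 4) := ⟨g2, hg2, rfl⟩
    rw [orbit12_eq3] at this
    rw [i3]; exact this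
  obtain ⟨T3, hT3, t3, g3, r3, hg3, e3⟩ :=
    level_step certSound12 (fixed_lt_24 (by decide)) (by norm_num) m12OK3 hg2 o3
  have o4 : g3 (pt 6) ∈ maskSet (transImg 6 m12L4) := by
    have : g3 (pt 6) ∈ orbitSet (fixH H12 (ptsOf [4, 3, 2, 0])) (pt 6) := ⟨g3, hg3, rfl⟩
    rw [orbit12_eq4] at this
    rw [i4]; exact this
  obtain ⟨T4, hT4, t4, g4, r4, hg4, e4⟩ :=
    level_step certSound12 (fixed_lt_24 (by decide)) (by norm_num) m12OK4 hg3 o4
  rw [fixH12_base_eq_bot, Subgroup.mem_bot] at hg4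
  refine ⟨compT (compT (compT (compT (compT idT T0) T1) T2) T3) T4, ?_, ?_⟩
  · have : g = 1 * t0 * t1 * t2 * t3 * t4 := by
      rw [e0, e1, e2, e3, e4, hg4]; group
    rw [this]
    exact represents_compT (represents_compT (represents_compT (represents_compT
      (represents_compT represents_one_idT r0) r1) r2) r3) r4
  · simp only [allProd, List.all_eq_true] at hP
    exact hP T0 hT0 T1 hT1 T2 hT2 T3 hT3 T4 hT4

end Cfsg.Agent.Helper27
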