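import Cfsg.Agent.Helper27.M22Syl2Data
import Cfsg.Agent.Helper27.EnumParts

/-!
The normaliser test on the centraliser of the central involution of the Sylow 2-subgroup in the stabiliser of two
points in `M24`: the parts of the pruned enumeration below the coset representatives with numbers 0 to 10
of the third level.
-/

set_option autoImplicit false

namespace Cfsg.Agent.Helper27

open Cfsg

set_option maxRecDepth 100000 in
theorem m22_part_0 : part3 m22SylOk m22NP 0 0 0 = true := by
  decide +kernel

set_option maxRecDepth 100000 in
theorem m22_part_1 : part3 m22SylOk m22NP 0 0 1 = true := by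
  decide +kernel

set_option maxRecDepth 100000 in
theorem m22_part_2 : part3 m22SylOk m22NP 0 0 2 = true := by
  decide +kernel

set_option maxRecDepth 100000 in
theorem m22_part_3 : part3 m22SylOk m22NP 0 0 3 = true := by
  decide +kernel

set_option maxRecDepth 100000 in
theorem m22_part_4 : part3 m22SylOk m22NP 0 0 4 = true := by
  decide +kernel

set_option maxRecDepth 100000 in
theorem m22_part_5 : part3 m22SylOk m22NP 0 0 5 = true := by
  decide +kernel

set_option maxRecDepth 100000 in
theorem m22_part_6 : part3 m22SylOk m22NP 0 0 6 = true := by
  decide +kernel

set_option maxRecDepth 100000 in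
theorem m22_part_7 : part3 m22SylOk m22NP 0 0 7 = true := by
  decide +kernel

set_option maxRecDepth 100000 in
theorem m22_part_8 : part3 m22SylOk m22NP 0 0 8 = true := by
  decide +kernel

set_option maxRecDepth 100000 in
theorem m22_part_9 : part3 m22SylOk m22NP 0 0 9 = true := by
  decide +kernel

set_option maxRecDepth 100000 in
theorem m22_part_10 : part3 m22SylOk m22NP 0 0 10 = true := by
  decide +kernel

end Cfsg.Agent.Helper27
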