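import Cfsg.Agent.Helper27.M22Syl2Data
import Cfsg.Agent.Helper27.EnumParts

/-!
The normaliser test on the centraliser of the central involution of the Sylow 2-subgroup in the stabiliser of two
points in `M24`: the parts of the pruned enumeration below the coset representatives with numbers 11 to 21
of the third level.
-/

set_option autoImplicit false

namespace Cfsg.Agent.Helper27

open Cfsg

set_option maxRecDepth 100000 in
theorem m22_part_11 : part3 m22SylOk m22NP 0 0 11 = true := by
  decide +kernel

set_option maxRecDepth 100000 in
theorem m22_part_12 : part3 m22SylOk m22NP 0 0 12 = true := by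
  decide +kernel

set_option maxRecDepth 100000 in
theorem m22_part_13 : part3 m22SylOk m22NP 0 0 13 = true := by
  decide +kernel

set_option maxRecDepth 100000 in
theorem m22_part_14 : part3 m22SylOk m22NP 0 0 14 = true := by
  decide +kernel

set_option maxRecDepth 100000 in
theorem m22_part_15 : part3 m22SylOk m22NP 0 0 15 = true := by
  decide +kernel

set_option maxRecDepth 100000 in
theorem m22_part_16 : part3 m22SylOk m22NP 0 0 16 = true := by
  decide +kernel

set_option maxRecDepth 100000 in
theorem m22_part_17 : part3 m22SylOk m22NP 0 0 17 = true := by
  decide +kernel

set_option maxRecDepth 100000 in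
theorem m22_part_18 : part3 m22SylOk m22NP 0 0 18 = true := by
  decide +kernel

set_option maxRecDepth 100000 in
theorem m22_part_19 : part3 m22SylOk m22NP 0 0 19 = true := by
  decide +kernel

set_option maxRecDepth 100000 in
theorem m22_part_20 : part3 m22SylOk m22NP 0 0 20 = true := by
  decide +kernel

set_option maxRecDepth 100000 in
theorem m22_part_21 : part3 m22SylOk m22NP 0 0 21 = true := by
  decide +kernel

end Cfsg.Agent.Helper27
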