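import Cfsg.Agent.Helper27.M22Out
import Cfsg.Agent.Helper27.M22DCData
import Cfsg.Agent.Helper27.TblSubgroup

/-!
Double cosets of a subgroup normalising a cyclic subgroup, on permutation tables: the certificate that a union of
double cosets is closed under multiplication by generators, and its consequences for the subgroups containing
the cyclic subgroup.
-/

set_option autoImplicit false

namespace Cfsg.Agent.Helper27

open Cfsg
open scoped Pointwise

/-! ### Words in a list of elements -/

/-- the value of a word, given by the positions of its letters in a list of group elements -/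
def wordGL {G : Type*} [Group G] (gs : List G) : List ℕ → G
  | [] => 1
  | l :: w => gs.getD l 1 * wordGL gs w

/-- the table of a word, given by the positions of its letters in a list of tables -/
def wordTL (Ts : List (List ℕ)) : List ℕ → List ℕ
  | [] => idT
  | l :: w => compT (Ts.getD l idT) (wordTL Ts w)

theorem wordGL_mem {G : Type*} [Group G] (K : Subgroup G) (gs : List G) (h : ∀ g ∈ gs, g ∈ K) (w : List ℕ) :
    wordGL gs w ∈ K := by
  induction w with
  | nil => exact K.one_mem
  | cons l w ih =>
    refine K.mul_mem ?_ ih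
    by_cases hl : l < gs.length
    · rw [List.getD_eq_getElem _ _ hl]
      exact h _ (List.getElem_mem _)
    · rw [List.getD_eq_default _ _ (by omega)]
      exact K.one_mem

theorem represents_wordTL {gs : List (Equiv.Perm GolayPt)} {Ts : List (List ℕ)} (hlen : gs.length = Ts.length)
    (h : ∀ i < gs.length, Represents (gs.getD i 1 : Equiv.Perm GolayPt) (Ts.getD i idT)) (w : List ℕ) :
    Represents (wordGL gs w : Equiv.Perm GolayPt) (wordTL Ts w) := by
  induction w with
  | nil => exact represents_one
  | cons l w ih =>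
    refine represents_compT ?_ ih
    by_cases hl : l < gs.length
    · exact h l hl
    · rw [List.getD_eq_default _ _ (by omega), List.getD_eq_default _ _ (by omega)]
      exact represents_one

/-! ### Membership in a list of tables -/

/-- the permutation is represented by one of the tables of the list -/
def InL (L : List (List ℕ)) (g : Equiv.Perm GolayPt) : Prop := ∃ i < L.length, Represents g (L.getD i [])

theorem validTbl_getD_of_all {L : List (List ℕ)} (h : L.all validTbl = true) {i : ℕ} (hi : i < L.length) :
    validTbl (L.getD i []) = true := by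
  rw [List.getD_eq_getElem _ _ hi]
  exact List.all_eq_true.mp h _ (List.getElem_mem _)

theorem exists_inL_of_all {L : List (List ℕ)} (h : L.all validTbl = true) {i : ℕ} (hi : i < L.length) :
    ∃ g : Equiv.Perm GolayPt, Represents g (L.getD i []) :=
  ⟨tblPerm _ (validTbl_getD_of_all h hi), tblPerm_represents _ _⟩

/-- the union of the double cosets `n r m` -/
def InD (NL RA : List (List ℕ)) (g : Equiv.Perm GolayPt) : Prop :=
  ∃ n r m, InL NL n ∧ InL RA r ∧ InL NL m ∧ g = n * r * m

/-- the table described by a code -/
def decD (NL RA : List (List ℕ)) (c : ℕ) : List ℕ :=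
  compT (compT (NL.getD (c % 64) []) (RA.getD (c / 64 % 256) [])) (NL.getD (c / 16384) [])

/-- the code describes an element of the union -/
def decOK (NL RA : List (List ℕ)) (c : ℕ) : Bool :=
  decide (c % 64 < NL.length) && decide (c / 64 % 256 < RA.length) && decide (c / 16384 < NL.length)

theorem inD_of_dec {NL RA : List (List ℕ)} (hN : NL.all validTbl = true) (hR : RA.all validTbl = true)
    {c : ℕ} (hc : decOK NL RA c = true) {g : Equiv.Perm GolayPt}
    (hg : Represents g (decD NL RA c)) : InD NL RA g := by
  unfold decOK at hc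
  unfold decD at hg
  rw [Bool.and_eq_true, Bool.and_eq_true, decide_eq_true_eq, decide_eq_true_eq, decide_eq_true_eq] at hc
  obtain ⟨⟨hi, hri⟩, hj⟩ := hc
  obtain ⟨n, hn⟩ := exists_inL_of_all hN hi
  obtain ⟨r, hr⟩ := exists_inL_of_all hR hri
  obtain ⟨m, hm⟩ := exists_inL_of_all hN hj
  exact ⟨n, r, m, ⟨_, hi, hn⟩, ⟨_, hri, hr⟩, ⟨_, hj, hm⟩,
    represents_inj hg (represents_compT (represents_compT hn hr) hm)⟩

/-- the list of tables is closed under composition -/
def mulClosedOK (NL : List (List ℕ)) : Bool :=
  (List.range NL.length).all fun i => (List.range NL.length).all fun j =>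
    forceL (compT (NL.getD i []) (NL.getD j [])) (fun C => NL.any (fun T => eqT T C))

theorem inL_mul {NL : List (List ℕ)} (h : mulClosedOK NL = true) {n m : Equiv.Perm GolayPt} (hn : InL NL n)
    (hm : InL NL m) : InL NL (n * m) := by
  obtain ⟨i, hi, hni⟩ := hn
  obtain ⟨j, hj, hmj⟩ := hm
  unfold mulClosedOK at h
  have h1 := List.all_eq_true.mp (List.all_eq_true.mp h i (List.mem_range.mpr hi)) j (List.mem_range.mpr hj)
  rw [forceL_eq, List.any_eq_true] at h1
  obtain ⟨T, hT, hTe⟩ := h1
  rw [eqT_iff] at hTe
  obtain ⟨k, hk, hkT⟩ := List.getElem_of_mem hT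
  refine ⟨k, hk, ?_⟩
  rw [List.getD_eq_getElem _ _ hk, hkT, hTe]
  exact represents_compT hni hmj

theorem inD_mul_left {NL RA : List (List ℕ)} (h : mulClosedOK NL = true) {n g : Equiv.Perm GolayPt}
    (hn : InL NL n) (hg : InD NL RA g) : InD NL RA (n * g) := by
  obtain ⟨n', r, m, hn', hr, hm, rfl⟩ := hg
  exact ⟨n * n', r, m, inL_mul h hn hn', hr, hm, by simp only [mul_assoc]⟩

theorem inD_mul_right {NL RA : List (List ℕ)} (h : mulClosedOK NL = true) {n g : Equiv.Perm GolayPt}
    (hn : InL NL n) (hg : InD NL RA g) : InD NL RA (g * n) := by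
  obtain ⟨n', r, m, hn', hr, hm, rfl⟩ := hg
  exact ⟨n', r, m * n, hn', hr, inL_mul h hm hn, by simp only [mul_assoc]⟩

/-- the products of the elements `x ^ a h ^ b` (at position `5 a + b`) with `t` are the `x ^ a t n'` -/
def tConjOK (NL : List (List ℕ)) (T tn : List ℕ) : Bool :=
  (List.range NL.length).all fun i => decide (tn.getD i 0 < NL.length) &&
    eqT (compT (NL.getD i []) T) (compT (compT (NL.getD (5 * (i / 5)) []) T) (NL.getD (tn.getD i 0) []))

/-- the certificate for the products `r x ^ a t` -/
def stepTOKr (NL RA : List (List ℕ)) (T : List ℕ) (wit : List (List ℕ)) (rs : List ℕ) : Bool :=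
  rs.all fun ri => (List.range 11).all fun a =>
    forceL (decD NL RA ((wit.getD ri []).getD a 0)) (fun D =>
      decOK NL RA ((wit.getD ri []).getD a 0) &&
        eqT (compT (compT (RA.getD ri []) (NL.getD (5 * a) [])) T) D)

/-- the certificate for the products `r x ^ a t`, for all representatives -/
def stepTOK (NL RA : List (List ℕ)) (T : List ℕ) (wit : List (List ℕ)) : Bool :=
  stepTOKr NL RA T wit (List.range RA.length)

theorem stepTOKr_append (NL RA : List (List ℕ)) (T : List ℕ) (wit : List (List ℕ)) (rs rs' : List ℕ) :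
    stepTOKr NL RA T wit (rs ++ rs') = (stepTOKr NL RA T wit rs && stepTOKr NL RA T wit rs') := by
  unfold stepTOKr
  rw [List.all_append]

theorem inD_mul_t {NL RA : List (List ℕ)} {T tn : List ℕ} {wit : List (List ℕ)}
    (hN : NL.all validTbl = true) (hR : RA.all validTbl = true) (hlen : NL.length = 55)
    (hmul : mulClosedOK NL = true) (htc : tConjOK NL T tn = true) (hst : stepTOK NL RA T wit = true)
    {g t : Equiv.Perm GolayPt} (hg : InD NL RA g) (ht : Represents t T) : InD NL RA (g * t) := by
  obtain ⟨n, r, m, hn, ⟨ri, hri, hrr⟩, ⟨i, hi, hmr⟩, rfl⟩ := hg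
  unfold tConjOK at htc
  have h1 := List.all_eq_true.mp htc i (List.mem_range.mpr hi)
  rw [Bool.and_eq_true, decide_eq_true_eq, eqT_iff] at h1
  have ha : i / 5 < 11 := by omega
  have h5 : 5 * (i / 5) < NL.length := by omega
  obtain ⟨p, hp⟩ := exists_inL_of_all hN h5
  obtain ⟨n', hn'⟩ := exists_inL_of_all hN h1.1
  have h2 : m * t = p * t * n' :=
    represents_inj (represents_compT hmr ht) (h1.2 ▸ represents_compT (represents_compT hp ht) hn')
  unfold stepTOK stepTOKr at hst
  have h3 := List.all_eq_true.mp (List.all_eq_true.mp hst ri (List.mem_range.mpr hri)) (i / 5)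
    (List.mem_range.mpr ha)
  rw [forceL_eq, Bool.and_eq_true, eqT_iff] at h3
  have h4 : Represents (r * p * t) (decD NL RA ((wit.getD ri []).getD (i / 5) 0)) := by
    rw [← h3.2]
    exact represents_compT (represents_compT hrr hp) ht
  have h5 := inD_of_dec hN hR h3.1 h4
  have e : n * r * m * t = n * (r * p * t) * n' := by
    rw [mul_assoc (n * r), h2]
    simp only [mul_assoc]
  rw [e]
  exact inD_mul_right hmul ⟨_, h1.1, hn'⟩ (inD_mul_left hmul hn h5)

theorem inD_mul_pow {NL RA : List (List ℕ)} {s : Equiv.Perm GolayPt}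
    (h : ∀ g, InD NL RA g → InD NL RA (g * s)) (k : ℕ) :
    ∀ g, InD NL RA g → InD NL RA (g * s ^ k) := by
  induction k with
  | zero => intro g hg; simpa using hg
  | succ k ih =>
    intro g hg
    rw [pow_succ, ← mul_assoc]
    exact h _ (ih g hg)

theorem inD_mul_inv {NL RA : List (List ℕ)} {s : Equiv.Perm GolayPt}
    (h : ∀ g, InD NL RA g → InD NL RA (g * s)) :
    ∀ g, InD NL RA g → InD NL RA (g * s⁻¹) := by
  intro g hg
  have hpos : 0 < orderOf s := orderOf_pos s
  have e : s⁻¹ = s ^ (orderOf s - 1) := by
    rw [inv_eq_iff_mul_eq_one, ← pow_succ', Nat.sub_add_cancel hpos, pow_orderOf_eq_one]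
  rw [e]
  exact inD_mul_pow h _ g hg

/-- the union of the double cosets contains the subgroup generated by elements of the subgroup and `t` -/
theorem inD_of_mem_closure {NL RA : List (List ℕ)} {T tn : List ℕ} {wit : List (List ℕ)}
    (hN : NL.all validTbl = true) (hR : RA.all validTbl = true) (hlen : NL.length = 55)
    (hmul : mulClosedOK NL = true) (htc : tConjOK NL T tn = true) (hst : stepTOK NL RA T wit = true)
    (h1 : InD NL RA 1) {Y : Set (Equiv.Perm GolayPt)}
    (hY : ∀ s ∈ Y, InL NL s ∨ Represents s T) {g : Equiv.Perm GolayPt} (hg : g ∈ Subgroup.closure Y) :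
    InD NL RA g := by
  have hstep : ∀ s ∈ Y, ∀ g, InD NL RA g → InD NL RA (g * s) := by
    intro s hs g hg
    rcases hY s hs with h | h
    · exact inD_mul_right hmul h hg
    · exact inD_mul_t hN hR hlen hmul htc hst hg h
  induction hg using Subgroup.closure_induction_right with
  | one => exact h1
  | mul_right x _ y hy ih => exact hstep y hy x ih
  | mul_inv_cancel x _ y hy ih => exact inD_mul_inv (hstep y hy) x ih

end Cfsg.Agent.Helper27
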