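import Mathlib
import Cfsg.Prelude.Def_KGroupFacts
import Cfsg.Agent.Helper19.Schur.Stem

/-! A variant of `Cfsg.Agent.Helper19.Schur.exists_surjective_of_stem` exposing the generator of the kernel:
for any lifts `a0, b0` of the generators, every element of the kernel of a finite stem extension is a power of
`Psi (gfam a0 b0 rels kk) _ g0`. (The proof is the one of helper19's theorem, stopped at that point.) -/

set_option autoImplicit false
set_option linter.all false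

namespace Cfsg.Agent.Helper27.StemKappa

open Cfsg.Agent.Helper19.TCS Cfsg.Agent.Helper19.TCL Cfsg.Agent.Helper19.Schur
open scoped commutatorElement

universe u

theorem kernel_zpowers_of_stem {G : Type u} [Group G] [Finite G] (x y : G)
    (hxy : Subgroup.closure {x, y} = (⊤ : Subgroup G))
    (rels : List (List ℕ)) (kk : ℕ) (hkk : rels.length + 1 ≤ kk)
    (hrel : ∀ w ∈ rels, prodw (gc2 x y) w = 1)
    (hT1 : ∀ (Δ : Type u) [Group Δ] (a b : Δ), Subgroup.closure {a, b} = (⊤ : Subgroup Δ) →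
      (∀ w ∈ rels, prodw (gc2 a b) w = 1) → Finite Δ ∧ Nat.card Δ ≤ Nat.card G)
    (s : ℕ) (lam : Fin s → Fin kk → ℤ)
    (hT2 : ∀ (Δ : Type u) [Group Δ] (a b : Δ)
      (hcen : ∀ ρ g, Commute (prodw (gc2 a b) (rels.getD ρ [])) g) (j : Fin s),
      Psi (gfam a b rels kk) (gfam_comm a b rels kk hcen) (lam j) = 1)
    (e1 e2 : Fin kk → ℤ)
    (he1 : ∀ c : Fin kk, e1 c = if (c : ℕ) = 0 then 0 else es0 (rels.getD ((c : ℕ) - 1) []))
    (he2 : ∀ c : Fin kk, e2 c = if (c : ℕ) = 0 then 0 else es1 (rels.getD ((c : ℕ) - 1) []))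
    (c1 c2 g0 : Fin kk → ℤ)
    (hc1 : (∀ c : Fin kk, (c : ℕ) = 0 → c1 c = 0) ∧ Efun e1 c1 = 1 ∧ Efun e2 c1 = 0)
    (hc2 : (∀ c : Fin kk, (c : ℕ) = 0 → c2 c = 0) ∧ Efun e1 c2 = 0 ∧ Efun e2 c2 = 1)
    (hg0 : ∀ c : Fin kk, (c : ℕ) = 0 → g0 c = 0)
    (hL1 : ∀ v : Fin kk → ℤ, (∀ c : Fin kk, (c : ℕ) = 0 → v c = 0) → Efun e1 v = 0 → Efun e2 v = 0 →
      ∃ (cf : Fin s → ℤ) (t : ℤ), v = ∑ j, cf j • lam j + t • g0) :
    ∀ (Γ : Type u) [Group Γ] [Finite Γ] (σ : Γ →* G), Cfsg.IsStemExtension σ →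
      ∀ (a0 b0 : Γ), σ a0 = x → σ b0 = y →
      ∀ (hcen0 : ∀ ρ g, Commute (prodw (gc2 a0 b0) (rels.getD ρ [])) g),
      ∀ γ ∈ σ.ker, ∃ t : ℤ,
        γ = Psi (gfam a0 b0 rels kk) (gfam_comm a0 b0 rels kk hcen0) g0 ^ t := by
  intro Γ _ _ σ hσ a0 b0 ha0 hb0 hcen0
  obtain ⟨hsurj, hcenter, hcommu⟩ := hσ
  -- relator values of the lifts lie in the kernel
  have hker0 : ∀ ρ, prodw (gc2 a0 b0) (rels.getD ρ []) ∈ σ.ker := by
    apply forall_getD_of_forall_mem (fun w => prodw (gc2 a0 b0) w ∈ σ.ker)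
    · intro w hw
      rw [MonoidHom.mem_ker, map_prodw, ha0, hb0]
      exact hrel w hw
    · exact σ.ker.one_mem
  have hcenK : ∀ k ∈ σ.ker, ∀ g, Commute k g := fun k hk g =>
    ((Subgroup.mem_center_iff.mp (hcenter hk)) g).symm
  have hgc := gfam_comm a0 b0 rels kk hcen0
  set Ψ : (Fin kk → ℤ) → Γ := Psi (gfam a0 b0 rels kk) hgc with hΨ
  have hΨker : ∀ v : Fin kk → ℤ, (∀ c : Fin kk, (c : ℕ) = 0 → v c = 0) → Ψ v ∈ σ.ker := by
    intro v hv
    apply Psi_mem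
    intro c hc
    have hc0 : (c : ℕ) ≠ 0 := fun h => hc (hv c h)
    unfold gfam
    rw [if_neg hc0]
    exact hker0 _
  have hΨrel : ∀ j, Ψ (lam j) = 1 := fun j => hT2 Γ a0 b0 hcen0 j
  -- the corrected lifts
  set u : Γ := (Ψ c1)⁻¹ with hu
  set v : Γ := (Ψ c2)⁻¹ with hv
  have huK : u ∈ σ.ker := σ.ker.inv_mem (hΨker c1 hc1.1)
  have hvK : v ∈ σ.ker := σ.ker.inv_mem (hΨker c2 hc2.1)
  have hσa : σ (a0 * u) = x := by rw [map_mul, MonoidHom.mem_ker.mp huK, mul_one, ha0]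
  have hσb : σ (b0 * v) = y := by rw [map_mul, MonoidHom.mem_ker.mp hvK, mul_one, hb0]
  have hgen : Subgroup.closure {a0 * u, b0 * v} = (⊤ : Subgroup Γ) := by
    apply closure_eq_top_of_stem σ hcenter hcommu
    rw [hσa, hσb, hxy]
  -- the subgroup K1
  let K1 : Subgroup Γ :=
    { carrier := {γ | ∃ w : Fin kk → ℤ, (∀ c : Fin kk, (c : ℕ) = 0 → w c = 0) ∧ Efun e1 w = 0 ∧
        Efun e2 w = 0 ∧ Ψ w = γ}
      mul_mem' := by
        rintro _ _ ⟨w1, h1, h2, h3, rfl⟩ ⟨w2, k1, k2, k3, rfl⟩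
        refine ⟨w1 + w2, ?_, ?_, ?_, Psi_add _ _ _ _⟩
        · intro c hc
          rw [Pi.add_apply, h1 c hc, k1 c hc, add_zero]
        · rw [Efun_add, h2, k2, add_zero]
        · rw [Efun_add, h3, k3, add_zero]
      one_mem' := ⟨0, fun c _ => rfl, Efun_zero _, Efun_zero _, Psi_zero _ _⟩
      inv_mem' := by
        rintro _ ⟨w1, h1, h2, h3, rfl⟩
        refine ⟨-w1, ?_, ?_, ?_, Psi_neg _ _ _⟩
        · intro c hc
          rw [Pi.neg_apply, h1 c hc, neg_zero]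
        · rw [Efun_neg, h2, neg_zero]
        · rw [Efun_neg, h3, neg_zero] }
  have hK1ker : K1 ≤ σ.ker := by
    rintro _ ⟨w, h1, -, -, rfl⟩
    exact hΨker w h1
  haveI hK1n : K1.Normal := normal_of_le_center' K1 (hK1ker.trans hcenter)
  -- the relator values of the corrected lifts lie in K1
  have hrelK1 : ∀ w ∈ rels, prodw (gc2 (a0 * u) (b0 * v)) w ∈ K1 := by
    intro w hw
    obtain ⟨ρ, hρ, rfl⟩ := List.getElem_of_mem hw
    rw [prodw_central_mul a0 b0 u v (hcenK u huK) (hcenK v hvK)]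
    have hρk : ρ + 1 < kk := by omega
    set c : Fin kk := ⟨ρ + 1, hρk⟩ with hc
    have hcne : ((c : Fin kk) : ℕ) ≠ 0 := by simp [hc]
    have hgetD : rels.getD ((c : ℕ) - 1) [] = rels[ρ] := by
      have : ((c : Fin kk) : ℕ) - 1 = ρ := by simp [hc]
      rw [this, List.getD_eq_getElem _ _ hρ]
    have hval : prodw (gc2 a0 b0) rels[ρ] = Ψ (Pi.single c 1) := by
      rw [hΨ, Psi_single]
      unfold gfam
      rw [if_neg hcne, hgetD]
    refine ⟨Pi.single c 1 - es0 rels[ρ] • c1 - es1 rels[ρ] • c2, ?_, ?_, ?_, ?_⟩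
    · intro c' hc'
      have hne : c' ≠ c := by
        intro h
        rw [h] at hc'
        exact hcne hc'
      simp only [Pi.sub_apply, Pi.smul_apply, smul_eq_mul]
      rw [Pi.single_eq_of_ne hne, hc1.1 c' hc', hc2.1 c' hc']
      ring
    · rw [Efun_sub, Efun_sub, Efun_smul, Efun_smul, Efun_single, hc1.2.1, hc2.2.1, he1 c,
        if_neg hcne, hgetD]
      ring
    · rw [Efun_sub, Efun_sub, Efun_smul, Efun_smul, Efun_single, hc1.2.2, hc2.2.2, he2 c,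
        if_neg hcne, hgetD]
      ring
    · rw [hΨ, Psi_sub, Psi_sub, Psi_smul, Psi_smul, ← hΨ, ← hval, hu, hv, inv_zpow, inv_zpow,
        mul_assoc]
  -- the quotient by K1 is a quotient of G
  have hquot : Finite (Γ ⧸ K1) ∧ Nat.card (Γ ⧸ K1) ≤ Nat.card G := by
    apply hT1 (Γ ⧸ K1) (QuotientGroup.mk' K1 (a0 * u)) (QuotientGroup.mk' K1 (b0 * v))
    · have h1 : (Subgroup.closure ({a0 * u, b0 * v} : Set Γ)).map (QuotientGroup.mk' K1) = ⊤ := by
        rw [hgen]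
        exact Subgroup.map_top_of_surjective _ (QuotientGroup.mk'_surjective K1)
      rw [MonoidHom.map_closure, Set.image_pair] at h1
      exact h1
    · intro w hw
      rw [← map_prodw]
      exact (QuotientGroup.eq_one_iff _).mpr (hrelK1 w hw)
  have hkerK1 : σ.ker ≤ K1 := ker_le_of_card_quotient_le σ hsurj K1 hK1ker hquot.1 hquot.2
  intro γ hγ
  obtain ⟨w, h1, h2, h3, rfl⟩ := hkerK1 hγ
  obtain ⟨cf, t, hw⟩ := hL1 w h1 h2 h3
  refine ⟨t, ?_⟩
  rw [hw, hΨ, Psi_add, Psi_smul, Psi_sum _ _ cf lam hΨrel, one_mul]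

end Cfsg.Agent.Helper27.StemKappa
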