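import Mathlib
import Cfsg.Agent.Helper19.SchM22.Final
import Cfsg.Agent.Helper27.StemKappa

/-! Commutator invariants of three commuting pairs of `M₂₂` in an arbitrary finite stem extension of `M₂₂`,
read off helper19's closed labelled coset table (`Cfsg.Agent.Helper19.SchM22`): the commutator of any lifts
is a fixed power of the generator `κ` of the kernel. (data generated) -/

set_option autoImplicit false
set_option linter.all false
set_option maxRecDepth 100000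
set_option maxHeartbeats 0

namespace Cfsg.Agent.Helper27.M22Faces

open Cfsg Cfsg.Agent.Helper27 Cfsg.Agent.Helper19.TCS Cfsg.Agent.Helper19.TCL
  Cfsg.Agent.Helper19.Schur Cfsg.Agent.Helper19.SchM22
open scoped commutatorElement

/-! ### Words -/

/-- the inverse word -/
def winv (w : List ℕ) : List ℕ := (w.map inv4).reverse

/-- the commutator word: `prodw (commW wu wv) = ⁅prodw wu, prodw wv⁆` -/
def commW (wu wv : List ℕ) : List ℕ := winv wv ++ (winv wu ++ (wv ++ wu))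

theorem prodw_winv {Δ : Type*} [Group Δ] (a b : Δ) : ∀ (w : List ℕ), (∀ l ∈ w, l < 4) →
    prodw (gc2 a b) (winv w) = (prodw (gc2 a b) w)⁻¹ := by
  intro w
  induction w with
  | nil => intro _; simp [winv, prodw]
  | cons l w ih =>
    intro hw
    have hl : l < 4 := hw l List.mem_cons_self
    have hw' : ∀ l' ∈ w, l' < 4 := fun l' hl' => hw l' (List.mem_cons_of_mem _ hl')
    have e : winv (l :: w) = winv w ++ [inv4 l] := by simp [winv]
    rw [e, prodw_append, ih hw']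
    simp only [prodw, one_mul]
    rw [gc2_inv a b l hl, mul_inv_rev]

theorem prodw_commW {Δ : Type*} [Group Δ] (a b : Δ) (wu wv : List ℕ) (hu : ∀ l ∈ wu, l < 4)
    (hv : ∀ l ∈ wv, l < 4) :
    prodw (gc2 a b) (commW wu wv) = ⁅prodw (gc2 a b) wu, prodw (gc2 a b) wv⁆ := by
  unfold commW
  rw [prodw_append, prodw_append, prodw_append, prodw_winv a b wu hu, prodw_winv a b wv hv,
    commutatorElement_def]

def wuA : List ℕ := [0, 0, 0, 2, 0, 0, 0, 0, 2, 1, 1, 2, 1, 1, 2, 1, 1, 1]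
def wvA : List ℕ := [1, 2, 1, 1, 1, 2, 1, 1, 2, 0, 2, 1, 1, 2, 0, 2, 1]
def wA : List ℕ := [0, 3, 1, 3, 0, 0, 3, 1, 3, 0, 0, 3, 0, 0, 0, 3, 0, 0, 0, 0, 3, 0, 0, 3, 0, 0, 3, 1, 1, 1, 1, 3, 1, 1, 1, 1, 2, 1, 1, 1, 2, 1, 1, 2, 0, 2, 1, 1, 2, 0, 2, 1, 0, 0, 0, 2, 0, 0, 0, 0, 2, 1, 1, 2, 1, 1, 2, 1, 1, 1]
theorem wA_eq : wA = commW wuA wvA := by decide
theorem wuA_lt : ∀ l ∈ wuA, l < 4 := by decide
theorem wvA_lt : ∀ l ∈ wvA, l < 4 := by decide
def EA : List ℕ := [4587674, 4587606, 4586946, 4587490, 4587656, 4587531, 4587537, 4587496, 4587477, 4587540, 4587549, 4587529, 4587557, 4587514, 4587556, 4587520]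
def LA : Fin 16 → ℤ := ![154, 86, -574, -30, 136, 11, 17, -24, -43, 20, 29, 9, 37, -6, 36, 0]
def cfA : Fin 19 → ℤ := ![483, 861, -128, 268, -381, 34, -212, -440, 14, 2, -179, 0, 172, -11, -224, -109, 143, -117, 0]
theorem okFA : OKF wA 0 353041986041248184082831843217201492841126256593082513520269590968359385044532517369125321501932037132039727866653835418 := by decide +kernel

def wuB : List ℕ := [0, 2, 0, 0, 2]
def wvB : List ℕ := [1, 2, 0, 2, 1, 1, 1, 2, 1, 1, 2, 0, 0, 2, 0]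
def wB : List ℕ := [1, 3, 1, 1, 3, 0, 0, 3, 0, 0, 0, 3, 1, 3, 0, 3, 1, 1, 3, 1, 1, 2, 0, 2, 1, 1, 1, 2, 1, 1, 2, 0, 0, 2, 0, 0, 2, 0, 0, 2]
theorem wB_eq : wB = commW wuB wvB := by decide
theorem wuB_lt : ∀ l ∈ wuB, l < 4 := by decide
theorem wvB_lt : ∀ l ∈ wvB, l < 4 := by decide
def EB : List ℕ := [2620769, 2620863, 2624100, 2621603, 2621070, 2621485, 2621389, 2621587, 2621573, 2621336, 2621407, 2621211, 2621316, 2621504, 2621075, 2621440]
def LB : Fin 16 → ℤ := ![-671, -577, 2660, 163, -370, 45, -51, 147, 133, -104, -33, -229, -124, 64, -365, 0]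
def cfB : Fin 19 → ℤ := ![13651, -13410, 10730, -11592, 5846, -1041, -9481, -11632, -61, 2039, 2264, 0, -1564, -5903, -4322, 3089, 1413, 2684, 0]
theorem okFB : OKF wB 0 201738277736971797657004587997127020027952612346217995555480849369942245704616611221509994592460029768256018013219192161 := by decide +kernel

def wuC : List ℕ := [0, 2, 0, 2]
def wvC : List ℕ := [2, 0, 2, 0, 2, 1, 1, 1, 1, 1, 2, 1, 1, 2, 0, 0, 0, 0]
def wC : List ℕ := [1, 1, 1, 1, 3, 0, 0, 3, 0, 0, 0, 0, 0, 3, 1, 3, 1, 3, 3, 1, 3, 1, 2, 0, 2, 0, 2, 1, 1, 1, 1, 1, 2, 1, 1, 2, 0, 0, 0, 0, 0, 2, 0, 2]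
theorem wC_eq : wC = commW wuC wvC := by decide
theorem wuC_lt : ∀ l ∈ wuC, l < 4 := by decide
theorem wvC_lt : ∀ l ∈ wvC, l < 4 := by decide
def EC : List ℕ := [2883529, 2883563, 2883646, 2883593, 2883549, 2883581, 2883581, 2883593, 2883591, 2883580, 2883585, 2883587, 2883580, 2883587, 2883568, 2883584]
def LC : Fin 16 → ℤ := ![-55, -21, 62, 9, -35, -3, -3, 9, 7, -4, 1, 3, -4, 3, -16, 0]
def cfC : Fin 19 → ℤ := ![294, -265, 248, -281, 130, -33, -234, -302, -5, 32, 69, 0, -21, -155, -92, 79, 41, 55, 0]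
theorem okFC : OKF wC 0 221912105511553121134562322795195053361435165223248681981164019314978896547419039884073735092610321111692517199703703497 := by decide +kernel

/-! ### The three words are trivial in `M₂₂` (the pairs commute) -/

theorem wordsT_ok : [wA, wB, wC].all (fun w => prodT x11T m22Xi m22Y m22Y w == idT) = true := by
  decide +kernel

theorem hwordG : ∀ w ∈ [wA, wB, wC], prodw (gc2 m22xG m22yG) w = 1 := by
  intro w hw
  apply Subtype.ext
  have h := map_prodw G2.subtype m22xG m22yG w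
  rw [Subgroup.coe_subtype] at h
  rw [h]
  have h0 := List.all_eq_true.mp wordsT_ok w hw
  have h1 := represents_prodw m22xP_rep m22xP_inv_rep m22yP_rep m22yP_inv_rep w
  rw [beq_iff_eq.mp h0] at h1
  exact represents_inj h1 represents_one

/-! ### The decompositions of the labels -/

theorem digitVec_A : digitVec 16 65536 70 EA = LA := by
  funext c; fin_cases c <;> rfl

theorem digitVec_B : digitVec 16 65536 40 EB = LB := by
  funext c; fin_cases c <;> rfl

theorem digitVec_C : digitVec 16 65536 44 EC = LC := by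
  funext c; fin_cases c <;> rfl

theorem LA_dec : LA = ∑ j, cfA j • lam j + (-162 : ℤ) • g0 := by
  funext c
  rw [sum_univ_nineteen]
  fin_cases c <;> simp [LA, cfA, lam, g0]

theorem LB_dec : LB = ∑ j, cfB j • lam j + (-1821 : ℤ) • g0 := by
  funext c
  rw [sum_univ_nineteen]
  fin_cases c <;> simp [LB, cfB, lam, g0]

theorem LC_dec : LC = ∑ j, cfC j • lam j + (-40 : ℤ) • g0 := by
  funext c
  rw [sum_univ_nineteen]
  fin_cases c <;> simp [LC, cfC, lam, g0]

/-! ### Faces -/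

/-- a verified face at the base row, decomposed in the relation lattice, gives a power of `κ`. -/
theorem face_psi {Δ : Type} [Group Δ] (a b : Δ)
    (hcen : ∀ ρ g, Commute (prodw (gc2 a b) (rels.getD ρ [])) g)
    (w : List ℕ) (X : ℕ) (E : List ℕ) (Lv : Fin 16 → ℤ) (cf : Fin 19 → ℤ) (t : ℤ)
    (hw4 : ∀ x ∈ w, x < 4) (hlen : w.length * 131072 < 33554432) (hEl : E.length = 16)
    (hEM : ∀ d ∈ E, d < 33554432) (hE : Nat.ofDigits 33554432 E = X) (hok : OKF w 0 X)
    (hdv : digitVec 16 65536 w.length E = Lv) (hdec : Lv = ∑ j, cf j • lam j + t • g0)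
    (hc : ∀ g, Commute (prodw (gc2 a b) w) g) :
    prodw (gc2 a b) w = Psi (gfam a b rels 16) (gfam_comm a b rels 16 hcen) g0 ^ t := by
  obtain ⟨S, hcl⟩ := closedL' a b hcen
  have h3 := face_spec S hcl (w := w) (b := 0) (expected := X) (by norm_num) hw4 hlen E hEl hEM hE
    hc hok
  have h4 : prodw (gc2 a b) w =
      Psi (gfam a b rels 16) (gfam_comm a b rels 16 hcen) (digitVec 16 65536 w.length E) := by
    rw [h3]
    unfold Psi
    rw [dsem_genC _ _ _ _ hEl]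
  rw [h4, hdv, hdec, Psi_add, Psi_smul, Psi_sum _ _ cf lam (hT2 Δ a b hcen), one_mul]

/-- the commutator invariants of the three pairs in any finite stem extension of `M₂₂`. -/
theorem m22_invariants (Δ : Type) [Group Δ] [Finite Δ] (τ : Δ →* ↥G2) (hτ : IsStemExtension τ) :
    ∃ (a0 b0 κ : Δ), τ a0 = m22xG ∧ τ b0 = m22yG ∧ κ ∈ τ.ker ∧
      (∀ γ ∈ τ.ker, ∃ t : ℤ, γ = κ ^ t) ∧ κ ^ 12 = 1 ∧
      ⁅prodw (gc2 a0 b0) wuA, prodw (gc2 a0 b0) wvA⁆ = κ ^ (-162 : ℤ) ∧
      ⁅prodw (gc2 a0 b0) wuB, prodw (gc2 a0 b0) wvB⁆ = κ ^ (-1821 : ℤ) ∧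
      ⁅prodw (gc2 a0 b0) wuC, prodw (gc2 a0 b0) wvC⁆ = κ ^ (-40 : ℤ) := by
  have hcard : Nat.card ↥G2 = 443520 := card_G2
  haveI : Finite ↥G2 := Nat.finite_of_card_ne_zero (by rw [hcard]; norm_num)
  have hT1' : ∀ (Δ : Type) [Group Δ] (a b : Δ), Subgroup.closure {a, b} = (⊤ : Subgroup Δ) →
      (∀ w ∈ rels, prodw (gc2 a b) w = 1) → Finite Δ ∧ Nat.card Δ ≤ Nat.card ↥G2 := by
    intro Δ _ a b h1 h2
    rw [hcard]
    exact hT1 Δ a b h1 h2
  have hτ' := hτ
  obtain ⟨hsurj, hcenter, hcommu⟩ := hτ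
  obtain ⟨a0, ha0⟩ := hsurj m22xG
  obtain ⟨b0, hb0⟩ := hsurj m22yG
  have hcenK : ∀ k ∈ τ.ker, ∀ g, Commute k g := fun k hk g =>
    ((Subgroup.mem_center_iff.mp (hcenter hk)) g).symm
  have hker0 : ∀ ρ, prodw (gc2 a0 b0) (rels.getD ρ []) ∈ τ.ker := by
    apply forall_getD_of_forall_mem (fun w => prodw (gc2 a0 b0) w ∈ τ.ker)
    · intro w hw
      rw [MonoidHom.mem_ker, map_prodw, ha0, hb0]
      exact hrelG w hw
    · exact τ.ker.one_mem
  have hcen0 : ∀ ρ g, Commute (prodw (gc2 a0 b0) (rels.getD ρ [])) g := fun ρ g =>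
    hcenK _ (hker0 ρ) g
  have hκker : Psi (gfam a0 b0 rels 16) (gfam_comm a0 b0 rels 16 hcen0) g0 ∈ τ.ker := by
    apply Psi_mem
    intro c hc
    have hc0 : (c : ℕ) ≠ 0 := fun h => hc (hg0 c h)
    unfold gfam
    rw [if_neg hc0]
    exact hker0 _
  have hwker : ∀ w ∈ [wA, wB, wC], ∀ g, Commute (prodw (gc2 a0 b0) w) g := by
    intro w hw
    apply hcenK
    rw [MonoidHom.mem_ker, map_prodw, ha0, hb0]
    exact hwordG w hw
  refine ⟨a0, b0, Psi (gfam a0 b0 rels 16) (gfam_comm a0 b0 rels 16 hcen0) g0, ha0, hb0, hκker,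
    ?_, ?_, ?_, ?_, ?_⟩
  · exact StemKappa.kernel_zpowers_of_stem m22xG m22yG G2_closure rels 16 (by decide) hrelG hT1' 19
      lam hT2 e1 e2 he1 he2 c1 c2 g0 hc1 hc2 hg0 hL1 Δ τ hτ' a0 b0 ha0 hb0 hcen0
  · obtain ⟨cf, hcf⟩ := hL2
    have h1 : Psi (gfam a0 b0 rels 16) (gfam_comm a0 b0 rels 16 hcen0) (((12 : ℕ) : ℤ) • g0) =
        Psi (gfam a0 b0 rels 16) (gfam_comm a0 b0 rels 16 hcen0) g0 ^ 12 := by
      rw [Psi_smul, zpow_natCast]
    rw [← h1, hcf]
    exact Psi_sum _ _ cf lam (hT2 Δ a0 b0 hcen0)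
  · rw [← prodw_commW a0 b0 wuA wvA wuA_lt wvA_lt, ← wA_eq]
    exact face_psi a0 b0 hcen0 wA _ EA LA cfA _ (by decide) (by decide) (by decide) (by decide)
      (by decide +kernel) okFA digitVec_A LA_dec (hwker wA (by simp))
  · rw [← prodw_commW a0 b0 wuB wvB wuB_lt wvB_lt, ← wB_eq]
    exact face_psi a0 b0 hcen0 wB _ EB LB cfB _ (by decide) (by decide) (by decide) (by decide)
      (by decide +kernel) okFB digitVec_B LB_dec (hwker wB (by simp))
  · rw [← prodw_commW a0 b0 wuC wvC wuC_lt wvC_lt, ← wC_eq]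
    exact face_psi a0 b0 hcen0 wC _ EC LC cfC _ (by decide) (by decide) (by decide) (by decide)
      (by decide +kernel) okFC digitVec_C LC_dec (hwker wC (by simp))

end Cfsg.Agent.Helper27.M22Faces
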