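import Cfsg.Agent.Helper27.M22CentEnumA
import Cfsg.Agent.Helper27.M22CentEnumB
import Cfsg.Agent.Helper27.M23Out
import Cfsg.Agent.Helper27.M22Out
import Cfsg.Agent.Helper27.FusHyp

/-!
The 2-fusion systems of the Mathieu groups of degrees 22 and 23 are simple: a common Sylow 2-subgroup is
self-normalising in both groups, and a nontrivial subgroup of it closed under fusion is the whole Sylow subgroup.
-/

set_option autoImplicit false

namespace Cfsg.Agent.Helper27

open Cfsg

/-- the elements of `M24` fixing the points 0 and 1 and commuting with the involution are found by the pruned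
enumeration -/
theorem cent_enum_fix01 {Z : List ℕ} {cs : List (List (ℕ × ℕ))} (hZv : validTbl Z = true)
    (hcs : consOK Z cs = true) {n : Equiv.Perm GolayPt} (hn : n ∈ M24) (hn0 : n (pt 0) = pt 0)
    (hn1 : n (pt 1) = pt 1) (hcomm : compT (tblOf n) Z = compT Z (tblOf n)) :
    tblOf n ∈ enumL chainL [] idT (fun vs => okC Z cs vs && (vs.getD 0 0 == 0) && (vs.getD 1 1 == 1)) := by
  have hz : Represents (tblPerm Z hZv) Z := tblPerm_represents Z hZv
  have hc : n * tblPerm Z hZv = tblPerm Z hZv * n := by
    apply represents_unique (represents_compT (represents_tblOf n) hz)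
    rw [hcomm]
    exact represents_compT hz (represents_tblOf n)
  apply m24_enum_sound (fun vs => okC Z cs vs && (vs.getD 0 0 == 0) && (vs.getD 1 1 == 1)) hn
  intro k hk1 hk7
  show (okC Z cs (baseImgs (tblOf n) k) && ((baseImgs (tblOf n) k).getD 0 0 == 0) &&
    ((baseImgs (tblOf n) k).getD 1 1 == 1)) = true
  rw [Bool.and_eq_true, Bool.and_eq_true]
  refine ⟨⟨okC_sound hz hz hcs hc k hk1 hk7, ?_⟩, ?_⟩
  · rw [beq_iff_eq, baseImgs_getD _ hk7 (by omega)]
    have h1 : baseL.getD 0 0 = 0 := rfl
    rw [h1, tblOf_getD n (by norm_num), hn0, idx_pt (by norm_num)]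
  · rw [beq_iff_eq]
    by_cases hk : k = 1
    · subst hk
      rfl
    · have hl : 1 < (baseImgs (tblOf n) k).length := by rw [baseImgs_length _ hk7]; omega
      have e : (baseImgs (tblOf n) k).getD 1 1 = (baseImgs (tblOf n) k).getD 1 0 := by
        rw [List.getD_eq_getElem _ _ hl, List.getD_eq_getElem _ _ hl]
      rw [e, baseImgs_getD _ hk7 (by omega)]
      have h1 : baseL.getD 1 0 = 1 := rfl
      rw [h1, tblOf_getD n (by norm_num), hn1, idx_pt (by norm_num)]

theorem transL0_len : transL0.length = 24 := by decide +kernel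

theorem transL1_length : transL1.length = 23 := by decide +kernel

theorem transL2_length : transL2.length = 22 := by decide +kernel

theorem m22_light0 : (List.range 24).all (fun i => i == 0 ||
    !(m22SylOk [idT.getD ((transL0.getD i []).getD 0 0) 0])) = true := by decide +kernel

theorem m22_light1 : (List.range 23).all (fun j => j == 0 ||
    !(m22SylOk [idT.getD ((transL0.getD 0 []).getD 0 0) 0,
      (compT idT (transL0.getD 0 [])).getD ((transL1.getD j []).getD 1 0) 0])) = true := by decide +kernel

theorem m22_parts : ∀ i < transL0.length, ∀ j < transL1.length, ∀ k < transL2.length,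
    part3 m22SylOk m22NP i j k = true := by
  intro i hi j hj k hk
  by_cases hi0 : i = 0
  · subst hi0
    by_cases hj0 : j = 0
    · subst hj0
      have hk' : k < 22 := by rwa [transL2_length] at hk
      interval_cases k
      · exact m22_part_0
      · exact m22_part_1
      · exact m22_part_2
      · exact m22_part_3
      · exact m22_part_4
      · exact m22_part_5
      · exact m22_part_6
      · exact m22_part_7
      · exact m22_part_8
      · exact m22_part_9
      · exact m22_part_10
      · exact m22_part_11
      · exact m22_part_12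
      · exact m22_part_13
      · exact m22_part_14
      · exact m22_part_15
      · exact m22_part_16
      · exact m22_part_17
      · exact m22_part_18
      · exact m22_part_19
      · exact m22_part_20
      · exact m22_part_21
    · have hj' : j < 23 := by rwa [transL1_length] at hj
      have h1 := List.all_eq_true.mp m22_light1 j (List.mem_range.mpr hj')
      have hj0' : (j == 0) = false := by simpa using hj0
      rw [hj0', Bool.false_or] at h1
      rw [part3, h1]
      simp
  · have hi' : i < 24 := by rwa [transL0_len] at hi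
    have h1 := List.all_eq_true.mp m22_light0 i (List.mem_range.mpr hi')
    have hi0' : (i == 0) = false := by simpa using hi0
    rw [hi0', Bool.false_or] at h1
    rw [part3, h1]
    simp

theorem m22SylL_nodup : (m22SylL.map Prod.snd).Nodup := by decide +kernel

theorem m22SylL_valid1 : validL (certFix tblInCode [0]) m22SylL = true := by decide +kernel

theorem m22SylL_valid2 : validL (certFix tblInCode [1, 0]) m22SylL = true := by decide +kernel

theorem m22SylGens_valid : m22SylGens.all (fun s => validTbl s && certFix tblInCode [1, 0] s) = true := by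
  decide +kernel

set_option maxRecDepth 100000 in
theorem m22SylL_genClosed : genClosedOK m22SylL m22SylGens m22SylPar = true := by decide +kernel

theorem m22SylL_closed : ClosedTbl m22SylL :=
  closedTbl_of_genClosedOK (certSound_fix certSound_M24 (fixed := [1, 0]) (by decide)) m22SylL_valid2
    m22SylGens_valid m22SylL_genClosed

theorem m22SylL_keys : keysOK m22SylL = true := by decide +kernel

theorem m22SylL_length : m22SylL.length = 128 := by decide +kernel

theorem m22Syl_center : centerOK m22SylL m22SylGens m22SylZ = true := by decide +kernel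

theorem m22Syl_zcentral : m22SylL.all (fun p => eqT (compT p.2 m22SylZ) (compT m22SylZ p.2)) = true := by
  decide +kernel

theorem m22Syl_reach1 : reachOK m22SylL (certFix tblInCode [0]) m22SylZ m22SylProg = true := by decide +kernel

theorem m22Syl_reach2 : reachOK m22SylL (certFix tblInCode [1, 0]) m22SylZ m22SylProg = true := by decide +kernel

theorem m22SylZ_mem : memKT m22SylL m22SylZ = true := by decide +kernel

theorem m22SylZ_ne : m22SylZ ≠ idT := by decide

theorem m22SylZ_valid : validTbl m22SylZ = true := by decide +kernel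

theorem m22SylCs_ok : consOK m22SylZ m22SylCs = true := by decide +kernel

/-- the only points fixed by all generators of the Sylow subgroup are 0 and 1 -/
theorem m22Syl_fixed : (List.range 24).all (fun q => q == 0 || q == 1 ||
    m22SylGens.any (fun s => !(s.getD q 0 == q))) = true := by decide +kernel

theorem m22SylGens_mem : m22SylGens.all (fun s => memKT m22SylL s) = true := by decide +kernel

section fixed

variable {fixed : List ℕ} (hfix : ∀ f ∈ fixed, f < 24) (h0 : pt 0 ∈ ptsOf fixed)
  (hvalid : validL (certFix tblInCode fixed) m22SylL = true)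
  (hreach : reachOK m22SylL (certFix tblInCode fixed) m22SylZ m22SylProg = true)

include hfix hvalid in
theorem card_m22Syl_fix : Nat.card (tblSub (fixH M24 (ptsOf fixed)) m22SylL m22SylL_closed) = 2 ^ 7 := by
  rw [card_tblSub (certSound_fix certSound_M24 hfix) _ _ m22SylL_nodup hvalid, m22SylL_length]
  norm_num

include hfix h0 hvalid in
/-- an element of the normaliser fixes the point 1 -/
theorem normalizer_m22Syl_fix_one {n : ↥(fixH M24 (ptsOf fixed))}
    (hn : n ∈ Subgroup.normalizer (tblSub (fixH M24 (ptsOf fixed)) m22SylL m22SylL_closed :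
      Set ↥(fixH M24 (ptsOf fixed)))) : n.1 (pt 1) = pt 1 := by
  have hcs := certSound_fix certSound_M24 hfix
  have hn' : n⁻¹ ∈ Subgroup.normalizer (tblSub (fixH M24 (ptsOf fixed)) m22SylL m22SylL_closed :
      Set ↥(fixH M24 (ptsOf fixed))) := inv_mem hn
  have hn0 : n.1 (pt 0) = pt 0 := ((mem_fixH M24 (ptsOf fixed) n.1).mp n.2).2 _ h0
  -- the image of the point 1 is fixed by the generators
  have hfixq : ∀ s ∈ m22SylGens, s.getD (idx (n.1 (pt 1))) 0 = idx (n.1 (pt 1)) := by
    intro s hs
    have hsm := memKT_sound (List.all_eq_true.mp m22SylGens_mem s hs)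
    obtain ⟨b, hb, hbr⟩ := exists_of_mem_tbls hcs (hL := m22SylL_closed) hvalid hsm
    have hconj := (Subgroup.mem_normalizer_iff.mp hn' b).mp hb
    rw [inv_inv] at hconj
    -- the conjugate fixes the point 1
    have h1 : (n⁻¹ * b * n).1 (pt 1) = pt 1 := by
      have hm : tblOf (n⁻¹ * b * n).1 ∈ m22SylL.map Prod.snd := hconj
      have hv2 := validL_mem m22SylL_valid2 hm
      have hc2 := hv2.2
      simp only [certFix, Bool.and_eq_true, List.all_eq_true, beq_iff_eq] at hc2
      have h3 := hc2.2 1 (by simp)
      have h4 := tblOf_getD (n⁻¹ * b * n).1 (show 1 < 24 by norm_num)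
      rw [h3] at h4
      have := congrArg pt h4
      rw [pt_idx] at this
      exact this.symm
    have h2 : b.1 (n.1 (pt 1)) = n.1 (pt 1) := by
      have e : (n⁻¹ * b * n).1 = n.1⁻¹ * b.1 * n.1 := rfl
      rw [e] at h1
      have := congrArg n.1 h1
      simpa [Equiv.Perm.mul_apply] using this
    have h5 := hbr.2 (n.1 (pt 1))
    rw [h2] at h5
    exact h5.symm
  have hq := List.all_eq_true.mp m22Syl_fixed (idx (n.1 (pt 1))) (List.mem_range.mpr (idx_lt _))
  simp only [Bool.or_eq_true, beq_iff_eq, List.any_eq_true, Bool.not_eq_true', beq_eq_false_iff_ne] at hq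
  rcases hq with (hq | hq) | ⟨s, hs, hne⟩
  · exfalso
    have h6 : n.1 (pt 1) = pt 0 := by
      apply idx_injective
      rw [hq, idx_pt (by norm_num)]
    rw [← hn0] at h6
    exact pt_zero_ne_one (n.1.injective h6).symm
  · apply idx_injective
    rw [hq, idx_pt (by norm_num)]
  · exact absurd (hfixq s hs) hne

include hfix h0 hvalid in
theorem normalizer_m22Syl_fix :
    Subgroup.normalizer (tblSub (fixH M24 (ptsOf fixed)) m22SylL m22SylL_closed : Set ↥(fixH M24 (ptsOf fixed))) ≤
      tblSub (fixH M24 (ptsOf fixed)) m22SylL m22SylL_closed := by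
  apply normalizer_tblSub_le (certSound_fix certSound_M24 hfix) hvalid m22SylL_keys m22Syl_center m22Syl_zcentral
    m22SylZ_mem m22SylZ_ne
  intro n hnN hcomm
  have hn := (mem_fixH M24 (ptsOf fixed) n.1).mp n.2
  have hmem := cent_enum_fix01 m22SylZ_valid m22SylCs_ok hn.1 (hn.2 _ h0)
    (normalizer_m22Syl_fix_one hfix h0 hvalid hnN) hcomm
  exact all_of_part3 m22_parts hmem

include hfix h0 hvalid hreach in
theorem fusHyp_m22Syl_fix [Finite ↥(fixH M24 (ptsOf fixed))] :
    FusHyp (tblSub (fixH M24 (ptsOf fixed)) m22SylL m22SylL_closed) := by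
  have h2 : Fact (Nat.Prime 2) := ⟨by norm_num⟩
  have hcs := certSound_fix certSound_M24 hfix
  refine ⟨?_, ?_, normalizer_m22Syl_fix hfix h0 hvalid⟩
  · intro h
    have := card_m22Syl_fix hfix hvalid
    rw [h, Subgroup.card_bot] at this
    norm_num at this
  · intro T hTS hT
    by_cases hne : T = ⊥
    · exact Or.inl hne
    · right
      obtain ⟨z0, hz0, hz0r⟩ := exists_of_mem_tbls hcs (hL := m22SylL_closed) hvalid (memKT_sound m22SylZ_mem)
      have hzT : z0 ∈ T := by
        apply mem_of_closed_of_center 2 (tblSub (fixH M24 (ptsOf fixed)) m22SylL m22SylL_closed)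
          (IsPGroup.of_card (card_m22Syl_fix hfix hvalid)) z0 _ T hTS _ hne
        · intro c hc hcc
          exact center_cases hcs hvalid m22Syl_center hz0r hc hcc
        · intro t ht g hg
          exact hT t ht g (Subgroup.mul_mem _ (Subgroup.mul_mem _ hg (hTS ht)) (Subgroup.inv_mem _ hg))
      exact le_antisymm hTS (tblSub_le_of_reachOK hcs hreach T hT hzT hz0r)

end fixed

theorem pt_zero_mem_ptsOf_zero : pt 0 ∈ ptsOf [0] := by
  rw [mem_ptsOf]; exact ⟨0, by simp, rfl⟩

theorem pt_zero_mem_ptsOf_one_zero : pt 0 ∈ ptsOf [1, 0] := by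
  rw [mem_ptsOf]; exact ⟨0, by simp, rfl⟩

/-- the 2-fusion system of the Mathieu group of degree 23 on any Sylow 2-subgroup is simple -/
theorem isSimple_fusion_sporM23 (S : Sylow 2 ↥Spor.M23) :
    (groupFusionSystem (S : Subgroup ↥Spor.M23)).IsSimple 2 := by
  have h2 : Fact (Nat.Prime 2) := ⟨by norm_num⟩
  obtain ⟨e⟩ := nonempty_sporM23_equiv_G1
  have hfin : Finite ↥(fixH M24 (ptsOf [0])) := Nat.finite_of_card_ne_zero (by rw [card_fix24_1]; norm_num)
  have hfin' : Finite ↥Spor.M23 := Finite.of_equiv _ e.symm.toEquiv
  have hfix : ∀ f ∈ [0], f < 24 := by decide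
  exact isSimple_fusion_of_fusHyp e 2 (k := 7) (m := 79695) (by rw [card_fix24_1]; norm_num) (by norm_num) _
    (card_m22Syl_fix hfix m22SylL_valid1)
    (fusHyp_m22Syl_fix hfix pt_zero_mem_ptsOf_zero m22SylL_valid1 m22Syl_reach1) S

/-- the 2-fusion system of the Mathieu group of degree 22 on any Sylow 2-subgroup is simple -/
theorem isSimple_fusion_sporM22 (S : Sylow 2 ↥Spor.M22) :
    (groupFusionSystem (S : Subgroup ↥Spor.M22)).IsSimple 2 := by
  have h2 : Fact (Nat.Prime 2) := ⟨by norm_num⟩
  obtain ⟨e⟩ := nonempty_sporM22_equiv_G2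
  have hfin : Finite ↥(fixH M24 (ptsOf [1, 0])) := Nat.finite_of_card_ne_zero (by rw [card_fix24_2]; norm_num)
  have hfin' : Finite ↥Spor.M22 := Finite.of_equiv _ e.symm.toEquiv
  have hfix : ∀ f ∈ [1, 0], f < 24 := by decide
  exact isSimple_fusion_of_fusHyp e 2 (k := 7) (m := 3465) (by rw [card_fix24_2]; norm_num) (by norm_num) _
    (card_m22Syl_fix hfix m22SylL_valid2)
    (fusHyp_m22Syl_fix hfix pt_zero_mem_ptsOf_one_zero m22SylL_valid2 m22Syl_reach2) S

end Cfsg.Agent.Helper27
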