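import Cfsg.Agent.Helper27.M22OutData

/-!
The kernel computations for the automorphisms of the stabiliser of the first two points in `M24`.
-/

set_option autoImplicit false

namespace Cfsg.Agent.Helper27

open Cfsg

/-- the table of the word `x t x³ t` -/
def w13T (X T : List ℕ) : List ℕ := compT (compT (compT X T) (compT (compT X X) X)) T

theorem m22Xi_valid : validTbl m22Xi = true := by decide +kernel
theorem m22N_valid : validTbl m22N = true := by decide +kernel
theorem m22S_valid : validTbl m22S = true := by decide +kernel
theorem m22Y_valid : validTbl m22Y = true := by decide +kernel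

theorem m22X_cert : certFix tblInCode [1, 0] x11T = true := by decide +kernel
theorem m22N_cert : certFix tblInCode [1, 0] m22N = true := by decide +kernel
theorem m22Y_cert : certFix tblInCode [1, 0] m22Y = true := by decide +kernel
theorem m22S_code : tblInCode m22S = true := by decide +kernel

theorem m22H_valid : validTbl m22H = true := by decide +kernel

theorem m22H_cert : certFix tblInCode [1, 0] m22H = true := by decide +kernel

theorem m22H_fix : (List.range 24).filter (fun i => m22H.getD i 0 == i) = [0, 1, 2] := by decide +kernel

theorem m22X_fix : (List.range 24).filter (fun i => x11T.getD i 0 == i) = [0, 1] := by decide +kernel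

theorem m22S_swap : m22S.getD 0 0 = 1 ∧ m22S.getD 1 0 = 0 := by decide +kernel

theorem m22X_inv : compT x11T m22Xi = idT := by decide +kernel

theorem m22N_norm : compT m22N x11T = compT (compT (compT x11T x11T) x11T) m22N := by decide +kernel

theorem m22S_inv : compT m22S x11T = compT m22Xi m22S := by decide +kernel

theorem m22Y_order : orderOK m22Y 2 = true := by decide +kernel

theorem m22Y_word : (powId (compT x11T m22Y) 6 && powId (w13T x11T m22Y) 4) = true := by decide +kernel

theorem m22Y_fix : (List.range 24).filter (fun i => m22Y.getD i 0 == i) = m22Fix := by decide +kernel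

theorem m22Y_fix1 : m22Fix.filter (fun i => !(i == 0)) = m22Fix1 := by decide +kernel

theorem m22_cover : checkCover (slpRun [x11T, m22Y, idT] m22Prog)
    (m22L0 ++ m22L1 ++ m22L2 ++ m22L3 ++ m22L4) = true := by decide +kernel

theorem m22OK0 : transOKH tblInCode [1, 0] m22L0 = true := by decide +kernel
theorem m22OK1 : transOKH tblInCode [2, 1, 0] m22L1 = true := by decide +kernel
theorem m22OK2 : transOKH tblInCode [3, 2, 1, 0] m22L2 = true := by decide +kernel
theorem m22OK3 : transOKH tblInCode [4, 3, 2, 1, 0] m22L3 = true := by decide +kernel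
theorem m22OK4 : transOKH tblInCode [5, 4, 3, 2, 1, 0] m22L4 = true := by decide +kernel

theorem m22Img0 : transImg 2 m22L0 = onesMask ^^^ tblMask [1, 0] := by decide +kernel
theorem m22Img1 : transImg 3 m22L1 = onesMask ^^^ tblMask [2, 1, 0] := by decide +kernel
theorem m22Img2 : transImg 4 m22L2 = onesMask ^^^ tblMask [3, 2, 1, 0] := by decide +kernel
theorem m22Img3 : transImg 5 m22L3 = onesMask ^^^ oct5 := by decide +kernel
theorem m22Img4 : transImg 7 m22L4 = oct5 ^^^ (oct5 &&& 63) := by decide +kernel

theorem m22Inv_length : m22Inv.length = 1155 := by decide +kernel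
theorem m22PiX_length : m22PiX.length = 1155 := by decide +kernel
theorem m22PiY_length : m22PiY.length = 1155 := by decide +kernel

theorem m22Inv_y : m22Inv.contains m22Y = true := by decide +kernel

theorem m22Conj_length : m22Conj.length = 11 := by decide
theorem m22XPow_length : m22XPow.length = 11 := by decide

/-- the conjugates of `y` under the powers of `x` -/
theorem m22Conj_ok : (m22XPow.zip m22Conj).all (fun ct => validTbl ct.1 && certFix tblInCode [1, 0] ct.1 &&
    (compT ct.1 x11T == compT x11T ct.1) && (compT ct.2 ct.1 == compT ct.1 m22Y)) = true := by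
  decide +kernel

theorem m22Fix_length : m22Fix.length = 8 := by decide
theorem m22C_length : m22C.length = 8 := by decide
theorem m22Fix1_length : m22Fix1.length = 7 := by decide
theorem m22D_length : m22D.length = 7 := by decide

/-- elements of the centraliser of `y` in `M24` moving the fixed points of `y` to the first point -/
theorem m22C_ok : (m22Fix.zip m22C).all (fun fc => validTbl fc.2 && tblInCode fc.2 &&
    (compT fc.2 m22Y == compT m22Y fc.2) && (fc.2.getD fc.1 0 == 0)) = true := by
  decide +kernel

/-- elements of the centraliser of `y` in `M24` fixing the first point and moving the other fixed points of `y` to the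
second point -/
theorem m22D_ok : (m22Fix1.zip m22D).all (fun fc => validTbl fc.2 && tblInCode fc.2 &&
    (compT fc.2 m22Y == compT m22Y fc.2) && (fc.2.getD 0 0 == 0) && (fc.2.getD fc.1 0 == 1)) = true := by
  decide +kernel

theorem m22Inv_valid_c0 : (((m22Inv).drop (0 * 231)).take 231).all
    (validTbl) = true := by
  decide +kernel

theorem m22Inv_valid_c1 : (((m22Inv).drop (1 * 231)).take 231).all
    (validTbl) = true := by
  decide +kernel

theorem m22Inv_valid_c2 : (((m22Inv).drop (2 * 231)).take 231).all
    (validTbl) = true := by
  decide +kernel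

theorem m22Inv_valid_c3 : (((m22Inv).drop (3 * 231)).take 231).all
    (validTbl) = true := by
  decide +kernel

theorem m22Inv_valid_c4 : (((m22Inv).drop (4 * 231)).take 231).all
    (validTbl) = true := by
  decide +kernel

/-- the tables of the involutions are valid -/
theorem m22Inv_valid : (m22Inv).all
    (validTbl) = true :=
  all_of_chunks _ _ 231 5 (by norm_num) (by rw [m22Inv_length]) (by
    intro i hi
    interval_cases i
    · exact m22Inv_valid_c0
    · exact m22Inv_valid_c1
    · exact m22Inv_valid_c2
    · exact m22Inv_valid_c3
    · exact m22Inv_valid_c4)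

theorem m22Inv_closed_x_c0 : (((m22Inv.zip m22PiX).drop (0 * 231)).take 231).all
    (fun tj => decide (tj.2 < 1155) && (compT x11T tj.1 == compT (m22Inv.getD tj.2 []) x11T)) = true := by
  decide +kernel

theorem m22Inv_closed_x_c1 : (((m22Inv.zip m22PiX).drop (1 * 231)).take 231).all
    (fun tj => decide (tj.2 < 1155) && (compT x11T tj.1 == compT (m22Inv.getD tj.2 []) x11T)) = true := by
  decide +kernel

theorem m22Inv_closed_x_c2 : (((m22Inv.zip m22PiX).drop (2 * 231)).take 231).all
    (fun tj => decide (tj.2 < 1155) && (compT x11T tj.1 == compT (m22Inv.getD tj.2 []) x11T)) = true := by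
  decide +kernel

theorem m22Inv_closed_x_c3 : (((m22Inv.zip m22PiX).drop (3 * 231)).take 231).all
    (fun tj => decide (tj.2 < 1155) && (compT x11T tj.1 == compT (m22Inv.getD tj.2 []) x11T)) = true := by
  decide +kernel

theorem m22Inv_closed_x_c4 : (((m22Inv.zip m22PiX).drop (4 * 231)).take 231).all
    (fun tj => decide (tj.2 < 1155) && (compT x11T tj.1 == compT (m22Inv.getD tj.2 []) x11T)) = true := by
  decide +kernel

/-- the list of involutions is closed under conjugation by `x` -/
theorem m22Inv_closed_x : (m22Inv.zip m22PiX).all
    (fun tj => decide (tj.2 < 1155) && (compT x11T tj.1 == compT (m22Inv.getD tj.2 []) x11T)) = true :=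
  all_of_chunks _ _ 231 5 (by norm_num) (by rw [List.length_zip, m22Inv_length, m22PiX_length]; norm_num) (by
    intro i hi
    interval_cases i
    · exact m22Inv_closed_x_c0
    · exact m22Inv_closed_x_c1
    · exact m22Inv_closed_x_c2
    · exact m22Inv_closed_x_c3
    · exact m22Inv_closed_x_c4)

theorem m22Inv_closed_y_c0 : (((m22Inv.zip m22PiY).drop (0 * 231)).take 231).all
    (fun tj => decide (tj.2 < 1155) && (compT m22Y tj.1 == compT (m22Inv.getD tj.2 []) m22Y)) = true := by
  decide +kernel

theorem m22Inv_closed_y_c1 : (((m22Inv.zip m22PiY).drop (1 * 231)).take 231).all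
    (fun tj => decide (tj.2 < 1155) && (compT m22Y tj.1 == compT (m22Inv.getD tj.2 []) m22Y)) = true := by
  decide +kernel

theorem m22Inv_closed_y_c2 : (((m22Inv.zip m22PiY).drop (2 * 231)).take 231).all
    (fun tj => decide (tj.2 < 1155) && (compT m22Y tj.1 == compT (m22Inv.getD tj.2 []) m22Y)) = true := by
  decide +kernel

theorem m22Inv_closed_y_c3 : (((m22Inv.zip m22PiY).drop (3 * 231)).take 231).all
    (fun tj => decide (tj.2 < 1155) && (compT m22Y tj.1 == compT (m22Inv.getD tj.2 []) m22Y)) = true := by
  decide +kernel

theorem m22Inv_closed_y_c4 : (((m22Inv.zip m22PiY).drop (4 * 231)).take 231).all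
    (fun tj => decide (tj.2 < 1155) && (compT m22Y tj.1 == compT (m22Inv.getD tj.2 []) m22Y)) = true := by
  decide +kernel

/-- the list of involutions is closed under conjugation by `y` -/
theorem m22Inv_closed_y : (m22Inv.zip m22PiY).all
    (fun tj => decide (tj.2 < 1155) && (compT m22Y tj.1 == compT (m22Inv.getD tj.2 []) m22Y)) = true :=
  all_of_chunks _ _ 231 5 (by norm_num) (by rw [List.length_zip, m22Inv_length, m22PiY_length]; norm_num) (by
    intro i hi
    interval_cases i
    · exact m22Inv_closed_y_c0
    · exact m22Inv_closed_y_c1
    · exact m22Inv_closed_y_c2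
    · exact m22Inv_closed_y_c3
    · exact m22Inv_closed_y_c4)

theorem m22_fp_c0 : (((m22Inv).drop (0 * 231)).take 231).all
    (fun t => !(powId (compT x11T t) 6 && powId (w13T x11T t) 4) || m22Conj.contains t) = true := by
  decide +kernel

theorem m22_fp_c1 : (((m22Inv).drop (1 * 231)).take 231).all
    (fun t => !(powId (compT x11T t) 6 && powId (w13T x11T t) 4) || m22Conj.contains t) = true := by
  decide +kernel

theorem m22_fp_c2 : (((m22Inv).drop (2 * 231)).take 231).all
    (fun t => !(powId (compT x11T t) 6 && powId (w13T x11T t) 4) || m22Conj.contains t) = true := by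
  decide +kernel

theorem m22_fp_c3 : (((m22Inv).drop (3 * 231)).take 231).all
    (fun t => !(powId (compT x11T t) 6 && powId (w13T x11T t) 4) || m22Conj.contains t) = true := by
  decide +kernel

theorem m22_fp_c4 : (((m22Inv).drop (4 * 231)).take 231).all
    (fun t => !(powId (compT x11T t) 6 && powId (w13T x11T t) 4) || m22Conj.contains t) = true := by
  decide +kernel

/-- the involutions `t` with `(x t)⁶ = 1` and `(x t x³ t)⁴ = 1` are the 11 conjugates of `y` under the powers of `x` -/
theorem m22_fp : (m22Inv).all
    (fun t => !(powId (compT x11T t) 6 && powId (w13T x11T t) 4) || m22Conj.contains t) = true :=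
  all_of_chunks _ _ 231 5 (by norm_num) (by rw [m22Inv_length]) (by
    intro i hi
    interval_cases i
    · exact m22_fp_c0
    · exact m22_fp_c1
    · exact m22_fp_c2
    · exact m22_fp_c3
    · exact m22_fp_c4)

end Cfsg.Agent.Helper27
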