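import Mathlib
import Cfsg.Agent.Helper27.M23Out
import Cfsg.Agent.Helper27.M22Faces

/-! Concrete fusion data in `M₂₃` for the Schur multiplier of `M₂₃`: the element `x` of order 23 conjugates the
commuting pair `B` of `M₂₂` to the pair `A`; an involution of `M₂₃` centralises the first and inverts the second
element of the pair `C`. -/

set_option autoImplicit false
set_option linter.all false
set_option maxRecDepth 100000
set_option maxHeartbeats 0

namespace Cfsg.Agent.Helper27.M23Conj

open Cfsg Cfsg.Agent.Helper27 Cfsg.Agent.Helper19.TCS Cfsg.Agent.Helper19.Schur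
  Cfsg.Agent.Helper19.SchM22 Cfsg.Agent.Helper27.M22Faces

/-- an involution of the stabiliser of the first point -/
def m23iT : List ℕ := [0, 7, 22, 3, 5, 4, 17, 1, 8, 16, 19, 21, 13, 12, 14, 15, 9, 6, 18, 10, 20, 11, 2, 23]

theorem m23iT_valid : validTbl m23iT = true := by decide

theorem m23iT_cert : certFix tblInCode [0] m23iT = true := by decide +kernel

noncomputable def m23iP : Equiv.Perm GolayPt := tblPerm m23iT m23iT_valid

theorem m23iP_rep : Represents m23iP m23iT := tblPerm_represents _ _

theorem m23iP_mem : m23iP ∈ G1 :=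
  certSound_fix certSound_M24 (fixed_lt_24 (by decide)) m23iT m23iT_valid m23iT_cert

/-- the value of a word at the generators of `M₂₂`, as a permutation -/
noncomputable abbrev valP (w : List ℕ) : Equiv.Perm GolayPt := prodw (gc2 m22xP m22yP) w

theorem valP_rep (w : List ℕ) : Represents (valP w) (prodT x11T m22Xi m22Y m22Y w) :=
  represents_prodw m22xP_rep m22xP_inv_rep m22yP_rep m22yP_inv_rep w

theorem conjT_ok :
    compT m23X (prodT x11T m22Xi m22Y m22Y wuB) = compT (prodT x11T m22Xi m22Y m22Y wuA) m23X ∧
    compT m23X (prodT x11T m22Xi m22Y m22Y wvB) = compT (prodT x11T m22Xi m22Y m22Y wvA) m23X ∧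
    compT m23iT (prodT x11T m22Xi m22Y m22Y wuC) = compT (prodT x11T m22Xi m22Y m22Y wuC) m23iT ∧
    compT m23iT (prodT x11T m22Xi m22Y m22Y wvC) =
      compT (prodT x11T m22Xi m22Y m22Y (winv wvC)) m23iT := by
  decide +kernel

theorem conj_uB : m23xP * valP wuB = valP wuA * m23xP := by
  have h := conjT_ok
  have h1 := represents_compT m23xP_rep (valP_rep wuB)
  have h2 := represents_compT (valP_rep wuA) m23xP_rep
  rw [h.1] at h1
  exact represents_inj h1 h2

theorem conj_vB : m23xP * valP wvB = valP wvA * m23xP := by
  have h := conjT_ok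
  have h1 := represents_compT m23xP_rep (valP_rep wvB)
  have h2 := represents_compT (valP_rep wvA) m23xP_rep
  rw [h.2.1] at h1
  exact represents_inj h1 h2

theorem conj_uC : m23iP * valP wuC = valP wuC * m23iP := by
  have h := conjT_ok
  have h1 := represents_compT m23iP_rep (valP_rep wuC)
  have h2 := represents_compT (valP_rep wuC) m23iP_rep
  rw [h.2.2.1] at h1
  exact represents_inj h1 h2

theorem conj_vC : m23iP * valP wvC = (valP wvC)⁻¹ * m23iP := by
  have h := conjT_ok
  have h1 := represents_compT m23iP_rep (valP_rep wvC)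
  have h2 := represents_compT (valP_rep (winv wvC)) m23iP_rep
  rw [h.2.2.2] at h1
  have h3 := represents_inj h1 h2
  rw [h3]
  show prodw (gc2 m22xP m22yP) (winv wvC) * m23iP = _
  rw [prodw_winv m22xP m22yP wvC wvC_lt]

end Cfsg.Agent.Helper27.M23Conj
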