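import Cfsg.Agent.Helper27.M23Out

/-!
Generating pairs of the Mathieu group of degree 23 (in the form of the stabiliser of the first point), checked on
tables: words in the pair evaluating to the two standard generators.
-/

set_option autoImplicit false

namespace Cfsg.Agent.Helper27

open Cfsg
open scoped Pointwise

/-- evaluate a word in two group elements -/
def wordG {G : Type*} [Group G] (x y : G) : List Bool → G
  | [] => 1
  | b :: w => (if b then y else x) * wordG x y w

/-- evaluate a word in two tables -/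
def wordT (X Y : List ℕ) : List Bool → List ℕ
  | [] => idT
  | b :: w => compT (if b then Y else X) (wordT X Y w)

theorem wordG_mem_closure {G : Type*} [Group G] (x y : G) (w : List Bool) :
    wordG x y w ∈ Subgroup.closure ({x, y} : Set G) := by
  induction w with
  | nil => exact Subgroup.one_mem _
  | cons b w ih =>
    refine Subgroup.mul_mem _ ?_ ih
    cases b
    · exact Subgroup.subset_closure (by simp)
    · exact Subgroup.subset_closure (by simp)

theorem represents_wordT {x y : Equiv.Perm GolayPt} {X Y : List ℕ} (hX : Represents x X) (hY : Represents y Y)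
    (w : List Bool) : Represents (wordG (G := Equiv.Perm GolayPt) x y w) (wordT X Y w) := by
  induction w with
  | nil => exact represents_one
  | cons b w ih =>
    cases b
    · exact represents_compT hX ih
    · exact represents_compT hY ih

theorem orderOf_of_represents {g : Equiv.Perm GolayPt} {T : List ℕ} (h : Represents g T) {p : ℕ} (hp : p.Prime)
    (hok : orderOK T p = true) : orderOf g = p := by
  have hok' := hok
  simp only [orderOK, Bool.and_eq_true, Bool.not_eq_true', beq_eq_false_iff_ne] at hok'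
  have h1 : g ^ p = 1 := pow_eq_one_of_powId h hok'.1
  haveI : Fact p.Prime := ⟨hp⟩
  apply orderOf_eq_prime h1
  intro hg1
  rw [hg1] at h
  exact hok'.2 (represents_tbl_unique h represents_one)

/-- the check for a generating pair with prescribed orders -/
def tripleOK (X Y : List ℕ) (p q r : ℕ) (w1 w2 : List Bool) : Bool :=
  validTbl X && validTbl Y && certFix tblInCode [0] X && certFix tblInCode [0] Y &&
  orderOK X p && orderOK Y q && orderOK (compT X Y) r &&
  (wordT X Y w1 == m23X) && (wordT X Y w2 == m23Y)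

theorem triple_sound {X Y : List ℕ} {p q r : ℕ} {w1 w2 : List Bool} (hp : p.Prime) (hq : q.Prime) (hr : r.Prime)
    (h : tripleOK X Y p q r w1 w2 = true) :
    ∃ x y z : ↥G1, orderOf x = p ∧ orderOf y = q ∧ orderOf z = r ∧ x * y * z = 1 ∧
      Subgroup.closure {x, y} = ⊤ := by
  simp only [tripleOK, Bool.and_eq_true, beq_iff_eq] at h
  obtain ⟨⟨⟨⟨⟨⟨⟨⟨hvX, hvY⟩, hcX⟩, hcY⟩, hoX⟩, hoY⟩, hoXY⟩, hw1⟩, hw2⟩ := h
  have hxm : tblPerm X hvX ∈ G1 := certSound_fix certSound_M24 (fixed_lt_24 (by decide)) X hvX hcX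
  have hym : tblPerm Y hvY ∈ G1 := certSound_fix certSound_M24 (fixed_lt_24 (by decide)) Y hvY hcY
  have hxr : Represents (tblPerm X hvX) X := tblPerm_represents _ _
  have hyr : Represents (tblPerm Y hvY) Y := tblPerm_represents _ _
  have hxo : orderOf (tblPerm X hvX) = p := orderOf_of_represents hxr hp hoX
  have hyo : orderOf (tblPerm Y hvY) = q := orderOf_of_represents hyr hq hoY
  have hxyo : orderOf (tblPerm X hvX * tblPerm Y hvY) = r :=
    orderOf_of_represents (represents_compT hxr hyr) hr hoXY
  have hwx : wordG (tblPerm X hvX) (tblPerm Y hvY) w1 = m23xP := by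
    have := represents_wordT hxr hyr w1
    rw [hw1] at this
    exact represents_inj this m23xP_rep
  have hwy : wordG (tblPerm X hvX) (tblPerm Y hvY) w2 = m23yP := by
    have := represents_wordT hxr hyr w2
    rw [hw2] at this
    exact represents_inj this m23yP_rep
  have hle : Subgroup.closure ({m23xP, m23yP} : Set (Equiv.Perm GolayPt)) ≤
      Subgroup.closure ({tblPerm X hvX, tblPerm Y hvY} : Set (Equiv.Perm GolayPt)) := by
    rw [Subgroup.closure_le]
    intro s hs
    rcases hs with rfl | hs
    · rw [← hwx]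
      exact wordG_mem_closure _ _ _
    · rw [Set.mem_singleton_iff] at hs
      rw [hs, ← hwy]
      exact wordG_mem_closure _ _ _
  refine ⟨⟨tblPerm X hvX, hxm⟩, ⟨tblPerm Y hvY, hym⟩, (⟨tblPerm X hvX, hxm⟩ * ⟨tblPerm Y hvY, hym⟩)⁻¹, ?_, ?_, ?_, ?_, ?_⟩
  · rw [← hxo]
    exact (Subgroup.orderOf_coe (⟨tblPerm X hvX, hxm⟩ : ↥G1)).symm
  · rw [← hyo]
    exact (Subgroup.orderOf_coe (⟨tblPerm Y hvY, hym⟩ : ↥G1)).symm
  · rw [orderOf_inv, ← hxyo]
    exact (Subgroup.orderOf_coe ((⟨tblPerm X hvX, hxm⟩ : ↥G1) * ⟨tblPerm Y hvY, hym⟩)).symm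
  · exact mul_inv_cancel _
  · rw [eq_top_iff]
    intro g _
    have h1 : (g : Equiv.Perm GolayPt) ∈
        Subgroup.closure ({tblPerm X hvX, tblPerm Y hvY} : Set (Equiv.Perm GolayPt)) :=
      hle (G1_le_closure g.2)
    have h2 : (Subgroup.closure ({(⟨tblPerm X hvX, hxm⟩ : ↥G1), ⟨tblPerm Y hvY, hym⟩} : Set ↥G1)).map G1.subtype =
        Subgroup.closure ({tblPerm X hvX, tblPerm Y hvY} : Set (Equiv.Perm GolayPt)) := by
      rw [MonoidHom.map_closure]
      congr 1
      rw [Set.image_insert_eq, Set.image_singleton]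
      rfl
    rw [← h2] at h1
    obtain ⟨k, hk, hkg⟩ := h1
    have : k = g := Subtype.ext hkg
    rw [← this]
    exact hk

/-- transport of a generating triple along an isomorphism -/
theorem gen_triple_transport {G H : Type*} [Group G] [Group H] (e : G ≃* H) {p q r : ℕ}
    (h : ∃ x y z : H, orderOf x = p ∧ orderOf y = q ∧ orderOf z = r ∧ x * y * z = 1 ∧
      Subgroup.closure {x, y} = ⊤) :
    ∃ x y z : G, orderOf x = p ∧ orderOf y = q ∧ orderOf z = r ∧ x * y * z = 1 ∧
      Subgroup.closure {x, y} = ⊤ := by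
  obtain ⟨x, y, z, hx, hy, hz, hxyz, hgen⟩ := h
  refine ⟨e.symm x, e.symm y, e.symm z, ?_, ?_, ?_, ?_, ?_⟩
  · rw [MulEquiv.orderOf_eq, hx]
  · rw [MulEquiv.orderOf_eq, hy]
  · rw [MulEquiv.orderOf_eq, hz]
  · rw [← map_mul, ← map_mul, hxyz, map_one]
  · have h1 : (Subgroup.closure ({x, y} : Set H)).map e.symm.toMonoidHom =
        Subgroup.closure ({e.symm x, e.symm y} : Set G) := by
      rw [MonoidHom.map_closure]
      congr 1
      rw [Set.image_insert_eq, Set.image_singleton]
      rfl
    rw [← h1, hgen, ← MonoidHom.range_eq_map]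
    exact MonoidHom.range_eq_top.mpr e.symm.surjective

end Cfsg.Agent.Helper27
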