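import Cfsg.Agent.Helper27.M23GenTriple

/-!
Generating pairs of the Mathieu group of degree 23 for the forty triples of prime orders: the tables and the checks.
-/

set_option autoImplicit false

namespace Cfsg.Agent.Helper27

open Cfsg
open scoped Pointwise

/-- a generating pair with orders 2, 5 and product of order 11 -/
def gt_2_5_11_X : List ℕ := [0, 21, 17, 3, 4, 16, 6, 14, 8, 18, 20, 11, 12, 19, 7, 15, 5, 2, 9, 13, 10, 1, 23, 22]
/-- the second element of the pair -/
def gt_2_5_11_Y : List ℕ := [0, 1, 2, 6, 5, 19, 8, 12, 10, 4, 13, 20, 15, 3, 21, 16, 17, 7, 9, 18, 22, 11, 14, 23]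
/-- a word for the first standard generator -/
def gt_2_5_11_w1 : List Bool := [true, true, true, true, false, true, false, true, false, true, false, true, true, false, true, true, true, false, true, true, false, true, false, true, true, true, false, true, true, true, true, false, true, false, true, true, true]
/-- a word for the second standard generator -/
def gt_2_5_11_w2 : List Bool := [false, true, true, false, true, true, false, true, true, false, true, true, false, true, false, true, true, true, false, true, false, true, false, true, true, true, true, false, true, true, true, false, true, true, true, false, true, false]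
theorem gt_2_5_11_ok : tripleOK gt_2_5_11_X gt_2_5_11_Y 2 5 11 gt_2_5_11_w1 gt_2_5_11_w2 = true := by decide +kernel

/-- a generating pair with orders 2, 5 and product of order 23 -/
def gt_2_5_23_X : List ℕ := [0, 1, 20, 16, 4, 21, 6, 18, 14, 9, 15, 13, 12, 11, 8, 10, 3, 17, 7, 22, 2, 5, 19, 23]
/-- the second element of the pair -/
def gt_2_5_23_Y : List ℕ := [0, 9, 4, 10, 1, 5, 7, 16, 22, 19, 8, 23, 11, 3, 21, 17, 14, 12, 18, 2, 20, 6, 13, 15]
/-- a word for the first standard generator -/
def gt_2_5_23_w1 : List Bool := [false, true, true, true, false, true, false, true, false, true, false, true, false, true, true, false, true, false, true, true, true, true, false, true, true, true, true, false, true, true, true]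
/-- a word for the second standard generator -/
def gt_2_5_23_w2 : List Bool := [false, true, false, true, false, true, true, false, true, true, true, true, false, true, true, true, true, false, true, false, true, true, false, true, false, true, false, true, true, false, true, false, true]
theorem gt_2_5_23_ok : tripleOK gt_2_5_23_X gt_2_5_23_Y 2 5 23 gt_2_5_23_w1 gt_2_5_23_w2 = true := by decide +kernel

/-- a generating pair with orders 2, 7 and product of order 7 -/
def gt_2_7_7_X : List ℕ := [0, 7, 5, 3, 22, 2, 17, 1, 14, 9, 13, 11, 19, 10, 8, 15, 16, 6, 23, 12, 20, 21, 4, 18]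
/-- the second element of the pair -/
def gt_2_7_7_Y : List ℕ := [0, 13, 9, 6, 11, 2, 16, 15, 7, 20, 17, 19, 10, 5, 14, 3, 21, 18, 4, 12, 22, 8, 1, 23]
/-- a word for the first standard generator -/
def gt_2_7_7_w1 : List Bool := [false, true, false, true, true, false, true, false, true, true, true, true, false, true, false, true, true, true, false, true, true, false, true, false, true, false, true, true, false, true, false, true, false, true]
/-- a word for the second standard generator -/
def gt_2_7_7_w2 : List Bool := [false, true, false, true, true, true, true, true, true, false, true, true, false, true, true, true, true, true, false, true, false, true, true, true, true, true, true, false]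
theorem gt_2_7_7_ok : tripleOK gt_2_7_7_X gt_2_7_7_Y 2 7 7 gt_2_7_7_w1 gt_2_7_7_w2 = true := by decide +kernel

/-- a generating pair with orders 2, 7 and product of order 11 -/
def gt_2_7_11_X : List ℕ := [0, 12, 5, 22, 4, 2, 6, 14, 19, 17, 11, 10, 1, 13, 7, 15, 18, 9, 16, 8, 20, 21, 3, 23]
/-- the second element of the pair -/
def gt_2_7_11_Y : List ℕ := [0, 12, 13, 3, 6, 15, 11, 7, 23, 1, 9, 17, 21, 14, 19, 18, 4, 20, 2, 5, 22, 8, 16, 10]
/-- a word for the first standard generator -/
def gt_2_7_11_w1 : List Bool := [true, true, false, true, false, true, true, true, true, true, false, true, false, true, false, true, false, true, false, true, true, false, true, true, true, false, true, false, true, true, false, true, true, true, true]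
/-- a word for the second standard generator -/
def gt_2_7_11_w2 : List Bool := [false, true, true, true, true, true, true, false, true, true, true, false, true, false, true, true, false, true, false, true, false, true, true, true, true, true, true, false, true, true, true]
theorem gt_2_7_11_ok : tripleOK gt_2_7_11_X gt_2_7_11_Y 2 7 11 gt_2_7_11_w1 gt_2_7_11_w2 = true := by decide +kernel

/-- a generating pair with orders 2, 7 and product of order 23 -/
def gt_2_7_23_X : List ℕ := [0, 1, 8, 16, 22, 14, 10, 7, 2, 9, 6, 11, 12, 17, 5, 15, 3, 13, 23, 19, 21, 20, 4, 18]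
/-- the second element of the pair -/
def gt_2_7_23_Y : List ℕ := [0, 17, 5, 12, 15, 16, 6, 11, 18, 22, 20, 10, 23, 13, 4, 7, 21, 2, 9, 1, 14, 19, 3, 8]
/-- a word for the first standard generator -/
def gt_2_7_23_w1 : List Bool := [false, true, false, true, true, true, true, true, true, false, true, false, true, true, true, true, false, true, true, true, false, true, false, true, true, true, false, true, true, true]
/-- a word for the second standard generator -/
def gt_2_7_23_w2 : List Bool := [true, true, true, true, false, true, true, false, true, true, true, false, true, false, true, true, true, true, false, true, true, false, true, false, true]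
theorem gt_2_7_23_ok : tripleOK gt_2_7_23_X gt_2_7_23_Y 2 7 23 gt_2_7_23_w1 gt_2_7_23_w2 = true := by decide +kernel

/-- a generating pair with orders 2, 11 and product of order 11 -/
def gt_2_11_11_X : List ℕ := [0, 21, 22, 14, 19, 5, 20, 7, 8, 23, 10, 11, 12, 13, 3, 16, 15, 18, 17, 4, 6, 1, 2, 9]
/-- the second element of the pair -/
def gt_2_11_11_Y : List ℕ := [0, 5, 14, 11, 16, 4, 15, 10, 7, 9, 21, 8, 17, 6, 12, 18, 19, 1, 20, 23, 3, 13, 2, 22]
/-- a word for the first standard generator -/
def gt_2_11_11_w1 : List Bool := [false, true, true, true, true, true, true, false, true, true, true, true, true, false, true, false, true, false, true, false, true, true, true, true]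
/-- a word for the second standard generator -/
def gt_2_11_11_w2 : List Bool := [false, true, true, true, false, true, false, true, true, false, true, true, true, false, true, true, false, true, true, true, false, true, true, false]
theorem gt_2_11_11_ok : tripleOK gt_2_11_11_X gt_2_11_11_Y 2 11 11 gt_2_11_11_w1 gt_2_11_11_w2 = true := by decide +kernel

/-- a generating pair with orders 2, 11 and product of order 23 -/
def gt_2_11_23_X : List ℕ := [0, 13, 2, 3, 4, 11, 10, 17, 8, 9, 6, 5, 19, 1, 15, 14, 22, 7, 20, 12, 18, 21, 16, 23]
/-- the second element of the pair -/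
def gt_2_11_23_Y : List ℕ := [0, 16, 22, 8, 23, 4, 6, 5, 9, 1, 3, 7, 11, 17, 21, 20, 18, 15, 13, 2, 10, 19, 12, 14]
/-- a word for the first standard generator -/
def gt_2_11_23_w1 : List Bool := [true, false, true, true, false, true, true, true, false, true, true, true, false, true, true, false, true, true, true, false, true, true, true, false, true, false, true, true, true, false, true, true, true]
/-- a word for the second standard generator -/
def gt_2_11_23_w2 : List Bool := [true, false, true, false, true, false, true, false, true, true, true, true, true, false, true, true, false, true, false, true, true, true, true, false, true, true, false, true, false, true, false]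
theorem gt_2_11_23_ok : tripleOK gt_2_11_23_X gt_2_11_23_Y 2 11 23 gt_2_11_23_w1 gt_2_11_23_w2 = true := by decide +kernel

/-- a generating pair with orders 2, 23 and product of order 23 -/
def gt_2_23_23_X : List ℕ := [0, 4, 15, 23, 1, 10, 18, 7, 12, 22, 5, 11, 8, 13, 16, 2, 14, 17, 6, 19, 20, 21, 9, 3]
/-- the second element of the pair -/
def gt_2_23_23_Y : List ℕ := [0, 6, 19, 11, 23, 21, 3, 12, 5, 7, 13, 16, 22, 20, 9, 8, 17, 4, 2, 1, 15, 18, 10, 14]
/-- a word for the first standard generator -/
def gt_2_23_23_w1 : List Bool := [true, true, true, true, true, true, true, true, false, true, false, true, true, true, true, false, true, false, true, true, false, true, true, false, true, true, true, true, false]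
/-- a word for the second standard generator -/
def gt_2_23_23_w2 : List Bool := [false, true, false, true, true, true, true, true, true, true, false, true, true, false, true, false, true, true, true, true, true, true, false, true, false, true, false, true, false, true, false]
theorem gt_2_23_23_ok : tripleOK gt_2_23_23_X gt_2_23_23_Y 2 23 23 gt_2_23_23_w1 gt_2_23_23_w2 = true := by decide +kernel

/-- a generating pair with orders 3, 3 and product of order 11 -/
def gt_3_3_11_X : List ℕ := [0, 1, 13, 9, 2, 21, 12, 7, 6, 18, 17, 10, 8, 4, 5, 19, 16, 11, 3, 20, 15, 14, 22, 23]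
/-- the second element of the pair -/
def gt_3_3_11_Y : List ℕ := [0, 4, 2, 7, 6, 13, 1, 9, 8, 3, 15, 12, 16, 23, 14, 22, 11, 21, 17, 19, 20, 18, 10, 5]
/-- a word for the first standard generator -/
def gt_3_3_11_w1 : List Bool := [false, false, true, false, true, true, false, true, false, true, false, true, false, true, false, true, true, false, true, true, false, false, true, true, false, true, true, false, true, true, false, true, true, false, true]
/-- a word for the second standard generator -/
def gt_3_3_11_w2 : List Bool := [true, false, true, true, false, true, true, false, true, true, false, true, true, false, true, true, false, true, true, false, true]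
theorem gt_3_3_11_ok : tripleOK gt_3_3_11_X gt_3_3_11_Y 3 3 11 gt_3_3_11_w1 gt_3_3_11_w2 = true := by decide +kernel

/-- a generating pair with orders 3, 3 and product of order 23 -/
def gt_3_3_23_X : List ℕ := [0, 3, 22, 11, 4, 16, 2, 10, 15, 9, 13, 1, 21, 7, 5, 17, 14, 8, 12, 19, 20, 18, 6, 23]
/-- the second element of the pair -/
def gt_3_3_23_Y : List ℕ := [0, 1, 20, 3, 16, 5, 6, 14, 13, 7, 10, 15, 22, 23, 9, 18, 21, 12, 11, 2, 19, 4, 17, 8]
/-- a word for the first standard generator -/
def gt_3_3_23_w1 : List Bool := [true, false, false, true, false, false, true, false, false, true, false, false, true, false, true, true, false, false, true, true, false, true, false, false, true, true, false, false, true, false, true, false, false]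
/-- a word for the second standard generator -/
def gt_3_3_23_w2 : List Bool := [true, false, false, true, false, true, true, false, true, false, true, true, false, true, true, false, true, false, false, true, true, false, false, true, true, false, true, false, true]
theorem gt_3_3_23_ok : tripleOK gt_3_3_23_X gt_3_3_23_Y 3 3 23 gt_3_3_23_w1 gt_3_3_23_w2 = true := by decide +kernel

/-- a generating pair with orders 3, 5 and product of order 5 -/
def gt_3_5_5_X : List ℕ := [0, 11, 5, 3, 4, 16, 14, 7, 12, 13, 9, 20, 17, 10, 22, 21, 2, 8, 15, 19, 1, 18, 6, 23]
/-- the second element of the pair -/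
def gt_3_5_5_Y : List ℕ := [0, 7, 1, 4, 16, 18, 22, 17, 8, 9, 19, 21, 14, 2, 6, 15, 5, 13, 3, 23, 12, 10, 20, 11]
/-- a word for the first standard generator -/
def gt_3_5_5_w1 : List Bool := [false, true, true, false, true, false, true, false, false, true, false, false, true, true, true, false, true, true, false, false, true, true, false, false, true]
/-- a word for the second standard generator -/
def gt_3_5_5_w2 : List Bool := [true, true, true, false, true, false, true, false, true, true, false, false, true, false, true, true, false, true, true, false, true, false, false, true, true, false, true]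
theorem gt_3_5_5_ok : tripleOK gt_3_5_5_X gt_3_5_5_Y 3 5 5 gt_3_5_5_w1 gt_3_5_5_w2 = true := by decide +kernel

/-- a generating pair with orders 3, 5 and product of order 7 -/
def gt_3_5_7_X : List ℕ := [0, 11, 4, 1, 13, 5, 23, 7, 8, 19, 18, 3, 6, 2, 14, 10, 9, 22, 15, 16, 17, 21, 20, 12]
/-- the second element of the pair -/
def gt_3_5_7_Y : List ℕ := [0, 4, 2, 15, 22, 1, 6, 5, 12, 16, 3, 9, 20, 8, 21, 14, 19, 17, 13, 23, 18, 10, 7, 11]
/-- a word for the first standard generator -/
def gt_3_5_7_w1 : List Bool := [true, true, false, false, true, false, true, true, true, false, true, false, false, true, true, true, true, false, false, true, false, true, false, true, true, true, true]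
/-- a word for the second standard generator -/
def gt_3_5_7_w2 : List Bool := [true, true, false, true, true, false, true, false, false, true, true, false, true, false, true, true, true]
theorem gt_3_5_7_ok : tripleOK gt_3_5_7_X gt_3_5_7_Y 3 5 7 gt_3_5_7_w1 gt_3_5_7_w2 = true := by decide +kernel

/-- a generating pair with orders 3, 5 and product of order 11 -/
def gt_3_5_11_X : List ℕ := [0, 23, 13, 3, 4, 16, 15, 18, 6, 2, 5, 11, 12, 9, 21, 8, 10, 14, 22, 1, 20, 17, 7, 19]
/-- the second element of the pair -/
def gt_3_5_11_Y : List ℕ := [0, 1, 19, 18, 10, 16, 2, 7, 13, 5, 20, 4, 8, 3, 11, 15, 17, 22, 12, 23, 14, 6, 9, 21]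
/-- a word for the first standard generator -/
def gt_3_5_11_w1 : List Bool := [false, true, true, true, false, true, false, true, true, true, false, true, false, true, false, false, true, true, true, false, true, true, false, true, false]
/-- a word for the second standard generator -/
def gt_3_5_11_w2 : List Bool := [true, false, true, true, true, false, true, true, true, true, false, true, true, false, true, true, false, true, false, true, false, false, true, true, false, false, true]
theorem gt_3_5_11_ok : tripleOK gt_3_5_11_X gt_3_5_11_Y 3 5 11 gt_3_5_11_w1 gt_3_5_11_w2 = true := by decide +kernel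

/-- a generating pair with orders 3, 5 and product of order 23 -/
def gt_3_5_23_X : List ℕ := [0, 10, 2, 7, 16, 4, 18, 23, 17, 21, 14, 11, 8, 13, 1, 15, 5, 12, 20, 19, 6, 22, 9, 3]
/-- the second element of the pair -/
def gt_3_5_23_Y : List ℕ := [0, 10, 20, 2, 4, 3, 7, 19, 14, 6, 16, 13, 21, 23, 11, 5, 12, 17, 9, 18, 15, 1, 22, 8]
/-- a word for the first standard generator -/
def gt_3_5_23_w1 : List Bool := [false, false, true, false, false, true, true, false, true, false, true, true, false, true, true, true, true, false, true, false, false, true, true, true, true]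
/-- a word for the second standard generator -/
def gt_3_5_23_w2 : List Bool := [false, true, true, true, true, false, true, false, false, true, true, false, true, true, true, true, false, true, true, true, false, false, true, false, true]
theorem gt_3_5_23_ok : tripleOK gt_3_5_23_X gt_3_5_23_Y 3 5 23 gt_3_5_23_w1 gt_3_5_23_w2 = true := by decide +kernel

/-- a generating pair with orders 3, 7 and product of order 7 -/
def gt_3_7_7_X : List ℕ := [0, 18, 2, 14, 1, 5, 13, 7, 21, 9, 15, 6, 22, 11, 20, 17, 8, 10, 4, 19, 3, 16, 23, 12]
/-- the second element of the pair -/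
def gt_3_7_7_Y : List ℕ := [0, 1, 19, 18, 8, 15, 6, 20, 11, 3, 7, 14, 10, 4, 17, 22, 21, 23, 2, 16, 5, 9, 12, 13]
/-- a word for the first standard generator -/
def gt_3_7_7_w1 : List Bool := [true, true, true, true, false, true, true, false, true, true, true, false, true, true, false, false, true, true, false, true, true, false, true, true, false]
/-- a word for the second standard generator -/
def gt_3_7_7_w2 : List Bool := [true, false, true, true, true, true, false, true, false, true, false, true, false, true, true, true, false, true, false, false, true, true, true, true, true, true]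
theorem gt_3_7_7_ok : tripleOK gt_3_7_7_X gt_3_7_7_Y 3 7 7 gt_3_7_7_w1 gt_3_7_7_w2 = true := by decide +kernel

/-- a generating pair with orders 3, 7 and product of order 11 -/
def gt_3_7_11_X : List ℕ := [0, 15, 12, 20, 21, 5, 14, 2, 18, 9, 8, 6, 7, 3, 11, 16, 1, 17, 10, 4, 13, 19, 22, 23]
/-- the second element of the pair -/
def gt_3_7_11_Y : List ℕ := [0, 22, 12, 18, 21, 19, 11, 4, 17, 7, 2, 3, 6, 13, 8, 23, 16, 15, 10, 14, 9, 1, 20, 5]
/-- a word for the first standard generator -/
def gt_3_7_11_w1 : List Bool := [true, true, false, true, true, true, true, true, true, false, true, false, false, true, false, false, true, false, true, true, false, false, true, false, false]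
/-- a word for the second standard generator -/
def gt_3_7_11_w2 : List Bool := [true, true, true, true, false, true, false, false, true, true, true, true, true, true, false, true, false, true]
theorem gt_3_7_11_ok : tripleOK gt_3_7_11_X gt_3_7_11_Y 3 7 11 gt_3_7_11_w1 gt_3_7_11_w2 = true := by decide +kernel

/-- a generating pair with orders 3, 7 and product of order 23 -/
def gt_3_7_23_X : List ℕ := [0, 1, 3, 8, 23, 20, 17, 10, 2, 4, 13, 22, 6, 7, 5, 15, 16, 12, 11, 19, 14, 21, 18, 9]
/-- the second element of the pair -/
def gt_3_7_23_Y : List ℕ := [0, 5, 20, 13, 23, 22, 14, 19, 4, 6, 2, 11, 8, 7, 16, 17, 10, 12, 18, 1, 9, 15, 3, 21]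
/-- a word for the first standard generator -/
def gt_3_7_23_w1 : List Bool := [false, true, true, true, false, false, true, true, true, false, false, true, false, true, false, false, true, false, true, true, true, false, false, true, false, false, true, false]
/-- a word for the second standard generator -/
def gt_3_7_23_w2 : List Bool := [true, false, true, false, false, true, true, false, true, true, true, true, true, true, false, true, true, true, true, false, true, true, false, true]
theorem gt_3_7_23_ok : tripleOK gt_3_7_23_X gt_3_7_23_Y 3 7 23 gt_3_7_23_w1 gt_3_7_23_w2 = true := by decide +kernel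

/-- a generating pair with orders 3, 11 and product of order 11 -/
def gt_3_11_11_X : List ℕ := [0, 2, 19, 6, 8, 3, 5, 9, 23, 16, 10, 14, 12, 11, 13, 21, 7, 17, 15, 1, 20, 18, 22, 4]
/-- the second element of the pair -/
def gt_3_11_11_Y : List ℕ := [0, 5, 11, 3, 14, 23, 1, 20, 4, 18, 6, 15, 13, 21, 22, 9, 17, 8, 19, 7, 12, 2, 10, 16]
/-- a word for the first standard generator -/
def gt_3_11_11_w1 : List Bool := [true, true, true, true, true, true, false, false, true, false, true, false, true, true, true, false, true, false, true, true, false, true, true, true, false, true, false]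
/-- a word for the second standard generator -/
def gt_3_11_11_w2 : List Bool := [true, true, true, false, false, true, true, false, true, true, true, true, true, false, true, false, false, true, true, false, true, true, false, false]
theorem gt_3_11_11_ok : tripleOK gt_3_11_11_X gt_3_11_11_Y 3 11 11 gt_3_11_11_w1 gt_3_11_11_w2 = true := by decide +kernel

/-- a generating pair with orders 3, 11 and product of order 23 -/
def gt_3_11_23_X : List ℕ := [0, 23, 17, 3, 5, 8, 22, 1, 4, 9, 14, 20, 2, 6, 19, 15, 16, 12, 18, 10, 21, 11, 13, 7]
/-- the second element of the pair -/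
def gt_3_11_23_Y : List ℕ := [0, 13, 6, 1, 19, 21, 4, 16, 3, 18, 9, 11, 20, 15, 17, 23, 8, 22, 5, 10, 2, 12, 7, 14]
/-- a word for the first standard generator -/
def gt_3_11_23_w1 : List Bool := [false, true, true, false, true, true, true, false, true, true, true, false, false, true, false, false, true, true, false, true, true, false, true, false, true, false]
/-- a word for the second standard generator -/
def gt_3_11_23_w2 : List Bool := [true, true, false, true, false, true, true, true, true, true, true, false, true, false, true, false, false, true, true, true, false, true, false, true, true, false]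
theorem gt_3_11_23_ok : tripleOK gt_3_11_23_X gt_3_11_23_Y 3 11 23 gt_3_11_23_w1 gt_3_11_23_w2 = true := by decide +kernel

/-- a generating pair with orders 3, 23 and product of order 23 -/
def gt_3_23_23_X : List ℕ := [0, 22, 11, 13, 4, 5, 6, 3, 20, 12, 10, 23, 21, 7, 17, 15, 8, 18, 14, 1, 16, 9, 19, 2]
/-- the second element of the pair -/
def gt_3_23_23_Y : List ℕ := [0, 10, 20, 8, 19, 3, 14, 18, 23, 13, 7, 9, 1, 16, 17, 22, 4, 11, 15, 12, 6, 5, 21, 2]
/-- a word for the first standard generator -/
def gt_3_23_23_w1 : List Bool := [false, false, true, true, false, true, false, true, true, true, false, true, false, true, false, true, true, true, true, true, true, true, false, false, true]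
/-- a word for the second standard generator -/
def gt_3_23_23_w2 : List Bool := [true, true, false, true, false, true, false, false, true, false, true, true, false, true, false, true, true, false, false, true, false, true, true, true, true, true]
theorem gt_3_23_23_ok : tripleOK gt_3_23_23_X gt_3_23_23_Y 3 23 23 gt_3_23_23_w1 gt_3_23_23_w2 = true := by decide +kernel

/-- a generating pair with orders 5, 5 and product of order 5 -/
def gt_5_5_5_X : List ℕ := [0, 11, 2, 20, 4, 14, 15, 13, 17, 18, 12, 19, 9, 5, 21, 8, 10, 22, 16, 3, 1, 7, 6, 23]
/-- the second element of the pair -/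
def gt_5_5_5_Y : List ℕ := [0, 1, 22, 2, 5, 19, 9, 21, 15, 3, 10, 11, 8, 23, 17, 14, 18, 12, 13, 7, 16, 4, 6, 20]
/-- a word for the first standard generator -/
def gt_5_5_5_w1 : List Bool := [false, true, true, false, true, true, true, true, false, true, true, true, false, true, true, false, false, false, true, true, false, true, false, true]
/-- a word for the second standard generator -/
def gt_5_5_5_w2 : List Bool := [false, true, false, false, true, true, true, true, false, false, false, true, false, false, false, false, true, false, false, true, false, true, false]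
theorem gt_5_5_5_ok : tripleOK gt_5_5_5_X gt_5_5_5_Y 5 5 5 gt_5_5_5_w1 gt_5_5_5_w2 = true := by decide +kernel

/-- a generating pair with orders 5, 5 and product of order 7 -/
def gt_5_5_7_X : List ℕ := [0, 21, 20, 3, 9, 13, 6, 11, 5, 8, 16, 19, 15, 4, 2, 23, 7, 18, 14, 10, 17, 12, 22, 1]
/-- the second element of the pair -/
def gt_5_5_7_Y : List ℕ := [0, 22, 2, 18, 1, 13, 12, 7, 19, 4, 15, 6, 14, 8, 17, 3, 10, 11, 16, 23, 20, 9, 21, 5]
/-- a word for the first standard generator -/
def gt_5_5_7_w1 : List Bool := [false, false, true, false, false, false, true, false, false, false, true, false, true, false, true, true, false, true, false]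
/-- a word for the second standard generator -/
def gt_5_5_7_w2 : List Bool := [false, false, true, true, true, false, false, true, true, false, false, false, true, true, false, true, false, true, true, true, true, false, false]
theorem gt_5_5_7_ok : tripleOK gt_5_5_7_X gt_5_5_7_Y 5 5 7 gt_5_5_7_w1 gt_5_5_7_w2 = true := by decide +kernel

/-- a generating pair with orders 5, 5 and product of order 11 -/
def gt_5_5_11_X : List ℕ := [0, 4, 2, 23, 3, 17, 10, 21, 12, 6, 8, 11, 9, 22, 7, 14, 15, 18, 13, 19, 1, 16, 5, 20]
/-- the second element of the pair -/
def gt_5_5_11_Y : List ℕ := [0, 12, 8, 14, 4, 15, 23, 18, 20, 6, 7, 5, 9, 13, 10, 16, 19, 17, 3, 11, 22, 2, 21, 1]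
/-- a word for the first standard generator -/
def gt_5_5_11_w1 : List Bool := [true, false, true, true, true, true, false, true, true, false, true, false, false, true, false, false, true, false, false, false, true, true, false, false]
/-- a word for the second standard generator -/
def gt_5_5_11_w2 : List Bool := [false, true, false, false, false, false, true, true, true, false, true, true, true, false, false, false, false, true, false, false, false, true, true]
theorem gt_5_5_11_ok : tripleOK gt_5_5_11_X gt_5_5_11_Y 5 5 11 gt_5_5_11_w1 gt_5_5_11_w2 = true := by decide +kernel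

/-- a generating pair with orders 5, 5 and product of order 23 -/
def gt_5_5_23_X : List ℕ := [0, 4, 9, 12, 15, 6, 3, 21, 13, 16, 5, 19, 10, 18, 1, 20, 11, 17, 7, 2, 14, 8, 22, 23]
/-- the second element of the pair -/
def gt_5_5_23_Y : List ℕ := [0, 2, 17, 15, 19, 8, 1, 10, 12, 21, 5, 11, 7, 13, 22, 9, 3, 23, 14, 18, 20, 16, 4, 6]
/-- a word for the first standard generator -/
def gt_5_5_23_w1 : List Bool := [true, false, true, true, false, false, true, false, true, true, false, false, true, true, true, false, false, true, true, false, true, true, true, true]
/-- a word for the second standard generator -/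
def gt_5_5_23_w2 : List Bool := [true, false, true, true, false, true, false, false, true, true, false, false, true, false, false, true, true, true, false]
theorem gt_5_5_23_ok : tripleOK gt_5_5_23_X gt_5_5_23_Y 5 5 23 gt_5_5_23_w1 gt_5_5_23_w2 = true := by decide +kernel

/-- a generating pair with orders 5, 7 and product of order 7 -/
def gt_5_7_7_X : List ℕ := [0, 1, 3, 20, 9, 22, 4, 5, 15, 11, 12, 19, 8, 18, 14, 17, 7, 10, 2, 6, 13, 21, 23, 16]
/-- the second element of the pair -/
def gt_5_7_7_Y : List ℕ := [0, 3, 23, 2, 18, 7, 8, 10, 14, 9, 22, 21, 19, 12, 15, 17, 5, 11, 16, 1, 20, 6, 4, 13]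
/-- a word for the first standard generator -/
def gt_5_7_7_w1 : List Bool := [true, false, true, true, true, false, false, true, false, false, true, true, false, true, false, true, true, true, true]
/-- a word for the second standard generator -/
def gt_5_7_7_w2 : List Bool := [false, false, false, false, true, true, false, false, true, true, true, true, false, true, true, true, true, true, false, true, true, false]
theorem gt_5_7_7_ok : tripleOK gt_5_7_7_X gt_5_7_7_Y 5 7 7 gt_5_7_7_w1 gt_5_7_7_w2 = true := by decide +kernel

/-- a generating pair with orders 5, 7 and product of order 11 -/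
def gt_5_7_11_X : List ℕ := [0, 23, 21, 5, 3, 8, 11, 20, 18, 9, 7, 1, 10, 19, 6, 15, 16, 12, 4, 2, 17, 22, 13, 14]
/-- the second element of the pair -/
def gt_5_7_11_Y : List ℕ := [0, 21, 9, 11, 20, 5, 8, 15, 14, 17, 3, 12, 16, 7, 13, 19, 4, 23, 2, 6, 10, 18, 22, 1]
/-- a word for the first standard generator -/
def gt_5_7_11_w1 : List Bool := [false, true, true, false, false, true, false, true, false, false, true, false, true, true, true, true, false, false, true, true, false, false]
/-- a word for the second standard generator -/
def gt_5_7_11_w2 : List Bool := [false, false, true, true, true, false, false, false, true, true, true, true, false, false, true, false, true, true, false, false, true]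
theorem gt_5_7_11_ok : tripleOK gt_5_7_11_X gt_5_7_11_Y 5 7 11 gt_5_7_11_w1 gt_5_7_11_w2 = true := by decide +kernel

/-- a generating pair with orders 5, 7 and product of order 23 -/
def gt_5_7_23_X : List ℕ := [0, 10, 18, 3, 2, 6, 15, 22, 13, 1, 19, 11, 23, 12, 4, 7, 14, 9, 16, 17, 8, 21, 5, 20]
/-- the second element of the pair -/
def gt_5_7_23_Y : List ℕ := [0, 11, 16, 4, 23, 3, 20, 7, 13, 22, 12, 6, 21, 9, 18, 15, 19, 14, 8, 5, 10, 1, 17, 2]
/-- a word for the first standard generator -/
def gt_5_7_23_w1 : List Bool := [true, false, true, true, true, false, true, true, true, false, false, true, false, false, true, true, false, false, false, true, false, false, false]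
/-- a word for the second standard generator -/
def gt_5_7_23_w2 : List Bool := [true, true, false, false, true, true, false, false, true, true, true, true, true, true, false, false, true, false, true, false, false, false]
theorem gt_5_7_23_ok : tripleOK gt_5_7_23_X gt_5_7_23_Y 5 7 23 gt_5_7_23_w1 gt_5_7_23_w2 = true := by decide +kernel

/-- a generating pair with orders 5, 11 and product of order 11 -/
def gt_5_11_11_X : List ℕ := [0, 21, 16, 11, 4, 2, 1, 7, 5, 19, 23, 22, 12, 9, 6, 14, 17, 8, 20, 10, 3, 15, 18, 13]
/-- the second element of the pair -/
def gt_5_11_11_Y : List ℕ := [0, 4, 3, 14, 23, 11, 13, 6, 5, 1, 7, 15, 22, 21, 18, 10, 8, 16, 20, 19, 12, 17, 9, 2]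
/-- a word for the first standard generator -/
def gt_5_11_11_w1 : List Bool := [false, false, false, true, true, false, true, false, false, true, true, false, false, true, true, true, false, true, false, false, true, true]
/-- a word for the second standard generator -/
def gt_5_11_11_w2 : List Bool := [false, true, false, true, false, true, false, true, true, true, false, true, false, true, true, true, true, false, false, true, false, true, false]
theorem gt_5_11_11_ok : tripleOK gt_5_11_11_X gt_5_11_11_Y 5 11 11 gt_5_11_11_w1 gt_5_11_11_w2 = true := by decide +kernel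

/-- a generating pair with orders 5, 11 and product of order 23 -/
def gt_5_11_23_X : List ℕ := [0, 4, 6, 20, 7, 8, 3, 19, 22, 10, 5, 18, 12, 15, 14, 11, 16, 1, 21, 17, 23, 13, 9, 2]
/-- the second element of the pair -/
def gt_5_11_23_Y : List ℕ := [0, 16, 13, 8, 10, 12, 21, 19, 1, 6, 17, 2, 22, 20, 15, 5, 18, 9, 4, 14, 7, 3, 11, 23]
/-- a word for the first standard generator -/
def gt_5_11_23_w1 : List Bool := [true, true, false, true, false, false, true, false, true, false, false, true, false, false, true, false, false, false, false, true, true, false, true, true]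
/-- a word for the second standard generator -/
def gt_5_11_23_w2 : List Bool := [false, false, true, true, true, false, true, true, true, true, false, true, true, false, false, true, false, true, false, true, false]
theorem gt_5_11_23_ok : tripleOK gt_5_11_23_X gt_5_11_23_Y 5 11 23 gt_5_11_23_w1 gt_5_11_23_w2 = true := by decide +kernel

/-- a generating pair with orders 5, 23 and product of order 23 -/
def gt_5_23_23_X : List ℕ := [0, 2, 22, 5, 9, 10, 16, 7, 18, 14, 23, 6, 12, 15, 8, 11, 13, 1, 4, 17, 20, 3, 19, 21]
/-- the second element of the pair -/
def gt_5_23_23_Y : List ℕ := [0, 23, 19, 8, 13, 9, 15, 20, 17, 10, 2, 21, 5, 6, 1, 3, 12, 14, 4, 7, 18, 16, 11, 22]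
/-- a word for the first standard generator -/
def gt_5_23_23_w1 : List Bool := [false, true, false, false, false, true, false, false, true, true, true, false, false, true, true, false, true, true, true, false, true, true]
/-- a word for the second standard generator -/
def gt_5_23_23_w2 : List Bool := [true, true, true, true, true, true, false, true, true, false, false, true, false, false, false, false, true, true, true, true, false, false]
theorem gt_5_23_23_ok : tripleOK gt_5_23_23_X gt_5_23_23_Y 5 23 23 gt_5_23_23_w1 gt_5_23_23_w2 = true := by decide +kernel

/-- a generating pair with orders 7, 7 and product of order 7 -/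
def gt_7_7_7_X : List ℕ := [0, 21, 16, 9, 22, 5, 3, 10, 2, 20, 23, 11, 6, 4, 7, 1, 14, 19, 13, 12, 17, 18, 15, 8]
/-- the second element of the pair -/
def gt_7_7_7_Y : List ℕ := [0, 23, 20, 13, 14, 6, 18, 12, 8, 10, 7, 16, 1, 22, 15, 5, 2, 4, 17, 19, 3, 9, 11, 21]
/-- a word for the first standard generator -/
def gt_7_7_7_w1 : List Bool := [false, true, false, false, false, true, true, true, false, false, true, false, true, false, true, true, false, true, true, false, false, false, false]
/-- a word for the second standard generator -/
def gt_7_7_7_w2 : List Bool := [true, true, true, false, true, false, false, false, true, true, false, false, true, false, false, true, false, false, false, true, false, false, false, true]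
theorem gt_7_7_7_ok : tripleOK gt_7_7_7_X gt_7_7_7_Y 7 7 7 gt_7_7_7_w1 gt_7_7_7_w2 = true := by decide +kernel

/-- a generating pair with orders 7, 7 and product of order 11 -/
def gt_7_7_11_X : List ℕ := [0, 21, 8, 12, 22, 18, 6, 17, 20, 23, 11, 14, 9, 1, 3, 15, 2, 16, 13, 7, 19, 4, 5, 10]
/-- the second element of the pair -/
def gt_7_7_11_Y : List ℕ := [0, 11, 9, 4, 22, 20, 17, 15, 8, 5, 23, 3, 18, 14, 12, 1, 16, 2, 19, 10, 21, 6, 7, 13]
/-- a word for the first standard generator -/
def gt_7_7_11_w1 : List Bool := [false, true, false, false, true, true, false, true, true, false, true, false, true, true, true, false, true, false, false, false, true, true, false, true]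
/-- a word for the second standard generator -/
def gt_7_7_11_w2 : List Bool := [false, true, true, false, false, false, true, true, true, false, false, false, false, true, true, false, true, false, false, true, false, true, false]
theorem gt_7_7_11_ok : tripleOK gt_7_7_11_X gt_7_7_11_Y 7 7 11 gt_7_7_11_w1 gt_7_7_11_w2 = true := by decide +kernel

/-- a generating pair with orders 7, 7 and product of order 23 -/
def gt_7_7_23_X : List ℕ := [0, 13, 10, 20, 2, 3, 21, 7, 23, 9, 6, 14, 22, 4, 12, 11, 18, 19, 5, 16, 17, 1, 8, 15]
/-- the second element of the pair -/
def gt_7_7_23_Y : List ℕ := [0, 22, 20, 13, 4, 5, 9, 18, 7, 3, 14, 23, 19, 11, 21, 10, 6, 12, 15, 2, 1, 8, 17, 16]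
/-- a word for the first standard generator -/
def gt_7_7_23_w1 : List Bool := [false, false, true, false, true, false, true, false, false, false, true, false, false, true, false, true, true, false, false, false, false, true]
/-- a word for the second standard generator -/
def gt_7_7_23_w2 : List Bool := [true, false, false, true, false, true, true, false, false, true, false, true, false, true, false, false, true, true, true, true, false, false, true, false]
theorem gt_7_7_23_ok : tripleOK gt_7_7_23_X gt_7_7_23_Y 7 7 23 gt_7_7_23_w1 gt_7_7_23_w2 = true := by decide +kernel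

/-- a generating pair with orders 7, 11 and product of order 11 -/
def gt_7_11_11_X : List ℕ := [0, 18, 12, 8, 20, 7, 10, 13, 5, 3, 17, 16, 6, 23, 14, 15, 19, 4, 11, 22, 2, 1, 21, 9]
/-- the second element of the pair -/
def gt_7_11_11_Y : List ℕ := [0, 1, 5, 12, 15, 17, 10, 6, 3, 16, 2, 19, 13, 4, 18, 20, 8, 21, 22, 9, 11, 14, 23, 7]
/-- a word for the first standard generator -/
def gt_7_11_11_w1 : List Bool := [false, false, true, true, false, false, true, true, false, false, false, true, false, true, false, true, false, true, false, false, false, true, false]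
/-- a word for the second standard generator -/
def gt_7_11_11_w2 : List Bool := [true, true, false, true, true, false, false, false, true, true, true, true, true, false, true, false, false, false, false, true, true, false]
theorem gt_7_11_11_ok : tripleOK gt_7_11_11_X gt_7_11_11_Y 7 11 11 gt_7_11_11_w1 gt_7_11_11_w2 = true := by decide +kernel

/-- a generating pair with orders 7, 11 and product of order 23 -/
def gt_7_11_23_X : List ℕ := [0, 10, 3, 17, 4, 14, 9, 16, 6, 19, 15, 1, 23, 11, 18, 12, 22, 7, 8, 5, 20, 2, 21, 13]
/-- the second element of the pair -/
def gt_7_11_23_Y : List ℕ := [0, 6, 19, 21, 14, 16, 7, 9, 8, 2, 4, 1, 11, 10, 15, 3, 20, 12, 5, 22, 13, 18, 23, 17]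
/-- a word for the first standard generator -/
def gt_7_11_23_w1 : List Bool := [true, true, false, true, true, true, true, true, true, true, false, true, true, true, false, true, false, false, true, true, false, false]
/-- a word for the second standard generator -/
def gt_7_11_23_w2 : List Bool := [true, false, false, false, false, false, true, false, false, false, false, true, false, false, false, true, true, false, false, false, false, true, false]
theorem gt_7_11_23_ok : tripleOK gt_7_11_23_X gt_7_11_23_Y 7 11 23 gt_7_11_23_w1 gt_7_11_23_w2 = true := by decide +kernel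

/-- a generating pair with orders 7, 23 and product of order 23 -/
def gt_7_23_23_X : List ℕ := [0, 19, 12, 9, 11, 18, 8, 7, 14, 10, 1, 2, 15, 22, 20, 5, 13, 21, 4, 17, 16, 3, 6, 23]
/-- the second element of the pair -/
def gt_7_23_23_Y : List ℕ := [0, 9, 10, 11, 23, 6, 20, 12, 1, 22, 14, 19, 3, 18, 15, 4, 8, 13, 21, 16, 2, 7, 5, 17]
/-- a word for the first standard generator -/
def gt_7_23_23_w1 : List Bool := [true, false, false, true, true, true, false, true, true, false, false, true, true, true, true, true, true, false, true, true]
/-- a word for the second standard generator -/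
def gt_7_23_23_w2 : List Bool := [true, true, false, true, false, false, false, true, true, true, false, false, false, false, false, false, true, false, false, true, true, true, true, false]
theorem gt_7_23_23_ok : tripleOK gt_7_23_23_X gt_7_23_23_Y 7 23 23 gt_7_23_23_w1 gt_7_23_23_w2 = true := by decide +kernel

/-- a generating pair with orders 11, 11 and product of order 11 -/
def gt_11_11_11_X : List ℕ := [0, 1, 7, 22, 10, 19, 4, 11, 2, 20, 23, 9, 17, 16, 3, 14, 15, 5, 8, 18, 12, 6, 21, 13]
/-- the second element of the pair -/
def gt_11_11_11_Y : List ℕ := [0, 10, 1, 8, 18, 9, 23, 19, 14, 13, 7, 3, 20, 2, 4, 15, 17, 11, 22, 12, 21, 5, 6, 16]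
/-- a word for the first standard generator -/
def gt_11_11_11_w1 : List Bool := [true, false, false, false, false, true, true, false, true, true, true, true, true, true, true, false, true, true, true, false, true, false, true]
/-- a word for the second standard generator -/
def gt_11_11_11_w2 : List Bool := [true, false, true, false, false, false, true, false, true, false, true, false, false, true, true, true, false, false, true, true, true, false, false]
theorem gt_11_11_11_ok : tripleOK gt_11_11_11_X gt_11_11_11_Y 11 11 11 gt_11_11_11_w1 gt_11_11_11_w2 = true := by decide +kernel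

/-- a generating pair with orders 11, 11 and product of order 23 -/
def gt_11_11_23_X : List ℕ := [0, 9, 21, 5, 12, 13, 19, 10, 18, 7, 4, 8, 15, 2, 23, 22, 14, 11, 6, 3, 20, 17, 16, 1]
/-- the second element of the pair -/
def gt_11_11_23_Y : List ℕ := [0, 22, 14, 1, 6, 5, 20, 21, 15, 16, 13, 3, 17, 8, 12, 7, 18, 4, 19, 2, 9, 23, 10, 11]
/-- a word for the first standard generator -/
def gt_11_11_23_w1 : List Bool := [true, true, false, true, false, false, false, false, true, false, true, true, false, true, false, false, false]
/-- a word for the second standard generator -/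
def gt_11_11_23_w2 : List Bool := [true, true, true, true, true, true, true, false, false, false, true, false, false, true, true, false, true, false, false, true, true]
theorem gt_11_11_23_ok : tripleOK gt_11_11_23_X gt_11_11_23_Y 11 11 23 gt_11_11_23_w1 gt_11_11_23_w2 = true := by decide +kernel

/-- a generating pair with orders 11, 23 and product of order 23 -/
def gt_11_23_23_X : List ℕ := [0, 19, 5, 12, 14, 1, 6, 13, 2, 20, 9, 7, 17, 8, 16, 11, 3, 23, 15, 21, 22, 18, 4, 10]
/-- the second element of the pair -/
def gt_11_23_23_Y : List ℕ := [0, 22, 5, 12, 13, 17, 15, 20, 23, 18, 21, 8, 16, 1, 10, 9, 7, 6, 11, 2, 14, 4, 19, 3]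
/-- a word for the first standard generator -/
def gt_11_23_23_w1 : List Bool := [true, false, false, true, false, true, false, false, false, false, true, true, false, true, true, true, true, false]
/-- a word for the second standard generator -/
def gt_11_23_23_w2 : List Bool := [true, false, true, false, true, false, false, false, true, true, false, true, true, true, true, false, false, true, true, false, true, true]
theorem gt_11_23_23_ok : tripleOK gt_11_23_23_X gt_11_23_23_Y 11 23 23 gt_11_23_23_w1 gt_11_23_23_w2 = true := by decide +kernel

/-- a generating pair with orders 23, 23 and product of order 23 -/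
def gt_23_23_23_X : List ℕ := [0, 20, 6, 1, 14, 10, 16, 2, 18, 19, 4, 13, 8, 15, 21, 5, 22, 11, 17, 23, 7, 3, 9, 12]
/-- the second element of the pair -/
def gt_23_23_23_Y : List ℕ := [0, 13, 10, 15, 17, 1, 23, 9, 2, 5, 11, 22, 6, 3, 21, 8, 18, 16, 20, 4, 12, 19, 14, 7]
/-- a word for the first standard generator -/
def gt_23_23_23_w1 : List Bool := [true, false, false, true, false, false, true, true, false, true, true, true, false, false, true, true, true, false, false, true, true, true, false, true, true, true]
/-- a word for the second standard generator -/
def gt_23_23_23_w2 : List Bool := [true, false, false, true, false, false, true, false, false, true, false, false, true, true, false, true, true, false, false, true, true, false, true, true]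
theorem gt_23_23_23_ok : tripleOK gt_23_23_23_X gt_23_23_23_Y 23 23 23 gt_23_23_23_w1 gt_23_23_23_w2 = true := by decide +kernel

/-- the forty triples of primes -/
def posTriples : List (ℕ × ℕ × ℕ) := [(2, 5, 11), (2, 5, 23), (2, 7, 7), (2, 7, 11), (2, 7, 23), (2, 11, 11), (2, 11, 23), (2, 23, 23), (3, 3, 11), (3, 3, 23), (3, 5, 5), (3, 5, 7), (3, 5, 11), (3, 5, 23), (3, 7, 7), (3, 7, 11), (3, 7, 23), (3, 11, 11), (3, 11, 23), (3, 23, 23), (5, 5, 5), (5, 5, 7), (5, 5, 11), (5, 5, 23), (5, 7, 7), (5, 7, 11), (5, 7, 23), (5, 11, 11), (5, 11, 23), (5, 23, 23), (7, 7, 7), (7, 7, 11), (7, 7, 23), (7, 11, 11), (7, 11, 23), (7, 23, 23), (11, 11, 11), (11, 11, 23), (11, 23, 23), (23, 23, 23)]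

theorem G1_gen_triple (p q r : ℕ) (h : (p, q, r) ∈ posTriples) :
    ∃ x y z : ↥G1, orderOf x = p ∧ orderOf y = q ∧ orderOf z = r ∧ x * y * z = 1 ∧
      Subgroup.closure {x, y} = ⊤ := by
  simp only [posTriples, List.mem_cons, Prod.mk.injEq, List.not_mem_nil, or_false] at h
  rcases h with ⟨rfl, rfl, rfl⟩ | ⟨rfl, rfl, rfl⟩ | ⟨rfl, rfl, rfl⟩ | ⟨rfl, rfl, rfl⟩ | ⟨rfl, rfl, rfl⟩ | ⟨rfl, rfl, rfl⟩ | ⟨rfl, rfl, rfl⟩ | ⟨rfl, rfl, rfl⟩ | ⟨rfl, rfl, rfl⟩ | ⟨rfl, rfl, rfl⟩ | ⟨rfl, rfl, rfl⟩ | ⟨rfl, rfl, rfl⟩ | ⟨rfl, rfl, rfl⟩ | ⟨rfl, rfl, rfl⟩ | ⟨rfl, rfl, rfl⟩ | ⟨rfl, rfl, rfl⟩ | ⟨rfl, rfl, rfl⟩ | ⟨rfl, rfl, rfl⟩ | ⟨rfl, rfl, rfl⟩ | ⟨rfl, rfl, rfl⟩ | ⟨rfl, rfl, rfl⟩ | ⟨rfl, rfl, rfl⟩ | ⟨rfl, rfl, rfl⟩ | ⟨rfl, rfl, rfl⟩ | ⟨rfl, rfl, rfl⟩ | ⟨rfl, rfl, rfl⟩ | ⟨rfl, rfl, rfl⟩ | ⟨rfl, rfl, rfl⟩ | ⟨rfl, rfl, rfl⟩ | ⟨rfl, rfl, rfl⟩ | ⟨rfl, rfl, rfl⟩ | ⟨rfl, rfl, rfl⟩ | ⟨rfl, rfl, rfl⟩ | ⟨rfl, rfl, rfl⟩ | ⟨rfl, rfl, rfl⟩ | ⟨rfl, rfl, rfl⟩ | ⟨rfl, rfl, rfl⟩ | ⟨rfl, rfl, rfl⟩ | ⟨rfl, rfl, rfl⟩ | ⟨rfl, rfl, rfl⟩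
  · exact triple_sound (by norm_num) (by norm_num) (by norm_num) gt_2_5_11_ok
  · exact triple_sound (by norm_num) (by norm_num) (by norm_num) gt_2_5_23_ok
  · exact triple_sound (by norm_num) (by norm_num) (by norm_num) gt_2_7_7_ok
  · exact triple_sound (by norm_num) (by norm_num) (by norm_num) gt_2_7_11_ok
  · exact triple_sound (by norm_num) (by norm_num) (by norm_num) gt_2_7_23_ok
  · exact triple_sound (by norm_num) (by norm_num) (by norm_num) gt_2_11_11_ok
  · exact triple_sound (by norm_num) (by norm_num) (by norm_num) gt_2_11_23_ok
  · exact triple_sound (by norm_num) (by norm_num) (by norm_num) gt_2_23_23_ok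
  · exact triple_sound (by norm_num) (by norm_num) (by norm_num) gt_3_3_11_ok
  · exact triple_sound (by norm_num) (by norm_num) (by norm_num) gt_3_3_23_ok
  · exact triple_sound (by norm_num) (by norm_num) (by norm_num) gt_3_5_5_ok
  · exact triple_sound (by norm_num) (by norm_num) (by norm_num) gt_3_5_7_ok
  · exact triple_sound (by norm_num) (by norm_num) (by norm_num) gt_3_5_11_ok
  · exact triple_sound (by norm_num) (by norm_num) (by norm_num) gt_3_5_23_ok
  · exact triple_sound (by norm_num) (by norm_num) (by norm_num) gt_3_7_7_ok
  · exact triple_sound (by norm_num) (by norm_num) (by norm_num) gt_3_7_11_ok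
  · exact triple_sound (by norm_num) (by norm_num) (by norm_num) gt_3_7_23_ok
  · exact triple_sound (by norm_num) (by norm_num) (by norm_num) gt_3_11_11_ok
  · exact triple_sound (by norm_num) (by norm_num) (by norm_num) gt_3_11_23_ok
  · exact triple_sound (by norm_num) (by norm_num) (by norm_num) gt_3_23_23_ok
  · exact triple_sound (by norm_num) (by norm_num) (by norm_num) gt_5_5_5_ok
  · exact triple_sound (by norm_num) (by norm_num) (by norm_num) gt_5_5_7_ok
  · exact triple_sound (by norm_num) (by norm_num) (by norm_num) gt_5_5_11_ok
  · exact triple_sound (by norm_num) (by norm_num) (by norm_num) gt_5_5_23_ok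
  · exact triple_sound (by norm_num) (by norm_num) (by norm_num) gt_5_7_7_ok
  · exact triple_sound (by norm_num) (by norm_num) (by norm_num) gt_5_7_11_ok
  · exact triple_sound (by norm_num) (by norm_num) (by norm_num) gt_5_7_23_ok
  · exact triple_sound (by norm_num) (by norm_num) (by norm_num) gt_5_11_11_ok
  · exact triple_sound (by norm_num) (by norm_num) (by norm_num) gt_5_11_23_ok
  · exact triple_sound (by norm_num) (by norm_num) (by norm_num) gt_5_23_23_ok
  · exact triple_sound (by norm_num) (by norm_num) (by norm_num) gt_7_7_7_ok
  · exact triple_sound (by norm_num) (by norm_num) (by norm_num) gt_7_7_11_ok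
  · exact triple_sound (by norm_num) (by norm_num) (by norm_num) gt_7_7_23_ok
  · exact triple_sound (by norm_num) (by norm_num) (by norm_num) gt_7_11_11_ok
  · exact triple_sound (by norm_num) (by norm_num) (by norm_num) gt_7_11_23_ok
  · exact triple_sound (by norm_num) (by norm_num) (by norm_num) gt_7_23_23_ok
  · exact triple_sound (by norm_num) (by norm_num) (by norm_num) gt_11_11_11_ok
  · exact triple_sound (by norm_num) (by norm_num) (by norm_num) gt_11_11_23_ok
  · exact triple_sound (by norm_num) (by norm_num) (by norm_num) gt_11_23_23_ok
  · exact triple_sound (by norm_num) (by norm_num) (by norm_num) gt_23_23_23_ok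

theorem sporM23_gen_triple (p q r : ℕ) (h : (p, q, r) ∈ posTriples) :
    ∃ x y z : ↥Spor.M23, orderOf x = p ∧ orderOf y = q ∧ orderOf z = r ∧ x * y * z = 1 ∧
      Subgroup.closure {x, y} = ⊤ := by
  obtain ⟨e⟩ := nonempty_sporM23_equiv_G1
  exact gen_triple_transport e (G1_gen_triple p q r h)

end Cfsg.Agent.Helper27
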