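import Mathlib
import Cfsg.Prelude.Def_KGroupFacts

set_option autoImplicit false

/-!
# Stem extensions of a triply transitive group with perfect point stabilizers (part A)

Let `σ : Γ →* G` be a stem extension, `H ≤ G` a perfect subgroup all of whose finite stem extensions
are isomorphisms.  Then `K := ⁅σ⁻¹ H, σ⁻¹ H⁆` is mapped isomorphically onto `H` by `σ`; moreover for a
perfect subgroup `L ≤ H` the lift `K ⊓ σ⁻¹ L` equals `⁅σ⁻¹ L, σ⁻¹ L⁆`, so it is normalized by every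
element of `Γ` whose image normalizes `L`.
-/

namespace Cfsg.Agent.Helper27.StemExt3

open Cfsg
open scoped commutatorElement

universe u v

variable {G : Type v} [Group G] {Γ : Type u} [Group Γ]

/-- commutators do not see central factors -/
theorem commutatorElement_mul_central (k k' z z' : Γ) (hz : z ∈ Subgroup.center Γ)
    (hz' : z' ∈ Subgroup.center Γ) : ⁅k * z, k' * z'⁆ = ⁅k, k'⁆ := by
  rw [Subgroup.mem_center_iff] at hz hz'
  have h1 : ∀ y : Γ, ⁅k * z, y⁆ = ⁅k, y⁆ := by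
    intro y
    rw [commutatorElement_def, commutatorElement_def]
    have hzy : z * y * z⁻¹ = y := by rw [← hz y]; group
    calc k * z * y * (k * z)⁻¹ * y⁻¹ = k * (z * y * z⁻¹) * k⁻¹ * y⁻¹ := by group
      _ = k * y * k⁻¹ * y⁻¹ := by rw [hzy]
  have h2 : ∀ x : Γ, ⁅x, k' * z'⁆ = ⁅x, k'⁆ := by
    intro x
    rw [commutatorElement_def, commutatorElement_def]
    have hzx : z' * x⁻¹ * z'⁻¹ = x⁻¹ := by rw [← hz' x⁻¹]; group
    calc x * (k' * z') * x⁻¹ * (k' * z')⁻¹ = x * k' * (z' * x⁻¹ * z'⁻¹) * k'⁻¹ := by group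
      _ = x * k' * x⁻¹ * k'⁻¹ := by rw [hzx]
  rw [h1, h2]

/-- the lift `K` of a perfect subgroup `H`: it maps onto `H` -/
theorem map_lift (σ : Γ →* G) (hσ : Function.Surjective σ) (H : Subgroup G) (hH : ⁅H, H⁆ = H) :
    (⁅H.comap σ, H.comap σ⁆ : Subgroup Γ).map σ = H := by
  rw [Subgroup.map_commutator, Subgroup.map_comap_eq_self_of_surjective hσ, hH]

theorem exists_lift (σ : Γ →* G) (hσ : Function.Surjective σ) (H : Subgroup G) (hH : ⁅H, H⁆ = H)
    {h : G} (hh : h ∈ H) : ∃ k ∈ (⁅H.comap σ, H.comap σ⁆ : Subgroup Γ), σ k = h := by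
  have : h ∈ (⁅H.comap σ, H.comap σ⁆ : Subgroup Γ).map σ := by rw [map_lift σ hσ H hH]; exact hh
  exact Subgroup.mem_map.mp this

theorem lift_le (σ : Γ →* G) (H : Subgroup G) :
    (⁅H.comap σ, H.comap σ⁆ : Subgroup Γ) ≤ H.comap σ := Subgroup.commutator_le_self _

/-- the lift of a perfect subgroup is perfect, if the kernel is central -/
theorem lift_perfect (σ : Γ →* G) (hσ : Function.Surjective σ) (hc : σ.ker ≤ Subgroup.center Γ)
    (H : Subgroup G) (hH : ⁅H, H⁆ = H) :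
    ⁅(⁅H.comap σ, H.comap σ⁆ : Subgroup Γ), (⁅H.comap σ, H.comap σ⁆ : Subgroup Γ)⁆
      = ⁅H.comap σ, H.comap σ⁆ := by
  apply le_antisymm (Subgroup.commutator_le_self _)
  rw [Subgroup.commutator_le]
  intro x hx y hy
  obtain ⟨k, hk, hkx⟩ := exists_lift σ hσ H hH (Subgroup.mem_comap.mp hx)
  obtain ⟨k', hk', hky⟩ := exists_lift σ hσ H hH (Subgroup.mem_comap.mp hy)
  have hz : k⁻¹ * x ∈ Subgroup.center Γ := hc (by
    rw [MonoidHom.mem_ker, map_mul, map_inv, hkx, inv_mul_cancel])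
  have hz' : k'⁻¹ * y ∈ Subgroup.center Γ := hc (by
    rw [MonoidHom.mem_ker, map_mul, map_inv, hky, inv_mul_cancel])
  have e1 : x = k * (k⁻¹ * x) := by group
  have e2 : y = k' * (k'⁻¹ * y) := by group
  rw [e1, e2, commutatorElement_mul_central _ _ _ _ hz hz']
  exact Subgroup.commutator_mem_commutator hk hk'

/-- `σ` is injective on the lift `K`, if `H` has no nontrivial finite stem extensions -/
theorem lift_injOn [Finite Γ] (σ : Γ →* G) (hσ : Function.Surjective σ)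
    (hc : σ.ker ≤ Subgroup.center Γ) (H : Subgroup G) (hH : ⁅H, H⁆ = H)
    (hstem : ∀ (Δ : Type u) [Group Δ] [Finite Δ] (τ : Δ →* ↥H), IsStemExtension τ → τ.ker = ⊥)
    {k : Γ} (hk : k ∈ (⁅H.comap σ, H.comap σ⁆ : Subgroup Γ)) (h1 : σ k = 1) : k = 1 := by
  set K : Subgroup Γ := ⁅H.comap σ, H.comap σ⁆ with hK
  let τ : ↥K →* ↥H := (σ.comp K.subtype).codRestrict H (fun x => lift_le σ H x.2)
  have hτ : ∀ x : ↥K, ((τ x : ↥H) : G) = σ (x : Γ) := fun _ => rfl
  have hstemτ : IsStemExtension τ := by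
    refine ⟨?_, ?_, ?_⟩
    · rintro ⟨h, hh⟩
      obtain ⟨k, hk, hkh⟩ := exists_lift σ hσ H hH hh
      exact ⟨⟨k, hk⟩, Subtype.ext hkh⟩
    · intro x hx
      rw [MonoidHom.mem_ker] at hx
      have hx' : σ (x : Γ) = 1 := by rw [← hτ, hx]; rfl
      have hcen := hc (MonoidHom.mem_ker.mpr hx')
      rw [Subgroup.mem_center_iff] at hcen ⊢
      intro g
      exact Subtype.ext (hcen g)
    · have hperf : _root_.commutator ↥K = ⊤ := by
        have h1 := Subgroup.map_subtype_commutator K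
        rw [lift_perfect σ hσ hc H hH] at h1
        apply Subgroup.map_injective K.subtype_injective
        rw [h1, ← MonoidHom.range_eq_map, Subgroup.range_subtype]
      rw [hperf]
      exact le_top
  have hker := hstem ↥K τ hstemτ
  have hmem : (⟨k, hk⟩ : ↥K) ∈ τ.ker := by
    rw [MonoidHom.mem_ker]
    exact Subtype.ext (by rw [hτ]; exact h1)
  rw [hker, Subgroup.mem_bot] at hmem
  exact congrArg Subtype.val hmem

theorem lift_inj [Finite Γ] (σ : Γ →* G) (hσ : Function.Surjective σ)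
    (hc : σ.ker ≤ Subgroup.center Γ) (H : Subgroup G) (hH : ⁅H, H⁆ = H)
    (hstem : ∀ (Δ : Type u) [Group Δ] [Finite Δ] (τ : Δ →* ↥H), IsStemExtension τ → τ.ker = ⊥)
    {k k' : Γ} (hk : k ∈ (⁅H.comap σ, H.comap σ⁆ : Subgroup Γ))
    (hk' : k' ∈ (⁅H.comap σ, H.comap σ⁆ : Subgroup Γ)) (h : σ k = σ k') : k = k' := by
  have := lift_injOn σ hσ hc H hH hstem (Subgroup.mul_mem _ (Subgroup.inv_mem _ hk') hk)
    (by rw [map_mul, map_inv, h, inv_mul_cancel])
  exact (inv_mul_eq_one.mp this).symm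

/-- the lift of a perfect subgroup `L ≤ H` inside `K` is the commutator subgroup of `σ⁻¹ L` -/
theorem lift_inf_eq [Finite Γ] (σ : Γ →* G) (hσ : Function.Surjective σ)
    (hc : σ.ker ≤ Subgroup.center Γ) (H : Subgroup G) (hH : ⁅H, H⁆ = H)
    (hstem : ∀ (Δ : Type u) [Group Δ] [Finite Δ] (τ : Δ →* ↥H), IsStemExtension τ → τ.ker = ⊥)
    (L : Subgroup G) (hLH : L ≤ H) (hL : ⁅L, L⁆ = L) :
    (⁅H.comap σ, H.comap σ⁆ : Subgroup Γ) ⊓ L.comap σ = ⁅L.comap σ, L.comap σ⁆ := by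
  have hsub : (⁅L.comap σ, L.comap σ⁆ : Subgroup Γ) ≤ ⁅H.comap σ, H.comap σ⁆ :=
    Subgroup.commutator_mono (Subgroup.comap_mono hLH) (Subgroup.comap_mono hLH)
  apply le_antisymm
  · intro x hx
    obtain ⟨hxK, hxL⟩ := Subgroup.mem_inf.mp hx
    obtain ⟨y, hy, hyx⟩ := exists_lift σ hσ L hL (Subgroup.mem_comap.mp hxL)
    have := lift_inj σ hσ hc H hH hstem (hsub hy) hxK hyx
    rw [← this]; exact hy
  · exact le_inf hsub (Subgroup.commutator_le_self _)

/-- an element of `Γ` whose image normalizes the perfect subgroup `L` normalizes its lift -/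
theorem conj_mem_lift [Finite Γ] (σ : Γ →* G) (hσ : Function.Surjective σ)
    (hc : σ.ker ≤ Subgroup.center Γ) (H : Subgroup G) (hH : ⁅H, H⁆ = H)
    (hstem : ∀ (Δ : Type u) [Group Δ] [Finite Δ] (τ : Δ →* ↥H), IsStemExtension τ → τ.ker = ⊥)
    (L : Subgroup G) (hLH : L ≤ H) (hL : ⁅L, L⁆ = L) (u : Γ)
    (hu : ∀ l ∈ L, σ u * l * (σ u)⁻¹ ∈ L) {x : Γ}
    (hx : x ∈ (⁅H.comap σ, H.comap σ⁆ : Subgroup Γ) ⊓ L.comap σ) :
    u * x * u⁻¹ ∈ (⁅H.comap σ, H.comap σ⁆ : Subgroup Γ) ⊓ L.comap σ := by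
  rw [lift_inf_eq σ hσ hc H hH hstem L hLH hL] at hx ⊢
  have hmap : (L.comap σ).map (MulAut.conj u).toMonoidHom ≤ L.comap σ := by
    rintro _ ⟨y, hy, rfl⟩
    rw [Subgroup.mem_comap]
    simp only [MulEquiv.coe_toMonoidHom, MulAut.conj_apply, map_mul, map_inv]
    exact hu _ hy
  have h1 : (⁅L.comap σ, L.comap σ⁆ : Subgroup Γ).map (MulAut.conj u).toMonoidHom
      ≤ ⁅L.comap σ, L.comap σ⁆ := by
    rw [Subgroup.map_commutator]
    exact Subgroup.commutator_mono hmap hmap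
  have := h1 (Subgroup.mem_map_of_mem _ hx)
  simpa using this

end Cfsg.Agent.Helper27.StemExt3
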