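import Mathlib
import Cfsg.Prelude.Def_KGroupFacts
import Cfsg.Agent.Helper27.StemExt3A

set_option autoImplicit false

/-!
# Stem extensions of a triply transitive group with perfect point stabilizers (part B)

The combinatorial core: `Γ = K Z ∪ K t̂ K Z`, and after a central adjustment of `t̂` the set
`K ∪ K t̂ K` is a subgroup which `σ` maps injectively.
-/

namespace Cfsg.Agent.Helper27.StemExt3

open Cfsg
open scoped commutatorElement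

universe u v w

variable {G : Type v} [Group G] {Ω : Type w} [MulAction G Ω] {Γ : Type u} [Group Γ]

/-- the data of the situation, after the lift `K` of the point stabilizer has been constructed -/
structure Ctx (σ : Γ →* G) (a b : Ω) (t : G) (K : Subgroup Γ) : Prop where
  hab : a ≠ b
  hta : t • a = b
  htb : t • b = a
  hH2 : ∀ c : Ω, c ≠ a → ∃ h : G, h • a = a ∧ h • b = c
  hL3 : ∀ c c' : Ω, c ≠ a → c ≠ b → c' ≠ a → c' ≠ b → ∃ l : G, l • a = a ∧ l • b = b ∧ l • c = c'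
  hKa : ∀ k ∈ K, σ k • a = a
  hlift : ∀ h : G, h • a = a → ∃ k ∈ K, σ k = h
  hinj : ∀ k ∈ K, ∀ k' ∈ K, σ k = σ k' → k = k'
  hcen : σ.ker ≤ Subgroup.center Γ
  hnorm : ∀ u : Γ, (σ u = t ∨ σ u = t⁻¹) → ∀ x ∈ K, σ x • b = b → u * x * u⁻¹ ∈ K

variable {σ : Γ →* G} {a b : Ω} {t : G} {K : Subgroup Γ}

theorem Ctx.tinv_a (C : Ctx σ a b t K) : t⁻¹ • a = b := by
  rw [inv_smul_eq_iff, C.htb]

theorem Ctx.tinv_b (C : Ctx σ a b t K) : t⁻¹ • b = a := by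
  rw [inv_smul_eq_iff, C.hta]

/-- elements of `K t̂ K` move `a` -/
theorem Ctx.move (C : Ctx σ a b t K) {th : Γ} (hth : σ th = t) {k₁ k₂ : Γ} (h₁ : k₁ ∈ K)
    (h₂ : k₂ ∈ K) : σ (k₁ * th * k₂) • a ≠ a := by
  rw [map_mul, map_mul, hth, mul_smul, mul_smul, C.hKa k₂ h₂, C.hta]
  intro h
  have h' := C.hKa k₁ h₁
  have : σ k₁ • b = σ k₁ • a := by rw [h, h']
  exact C.hab (smul_left_cancel _ this).symm

/-- uniqueness of the form `k₁ t̂ k₂` -/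
theorem Ctx.uniq (C : Ctx σ a b t K) {th : Γ} (hth : σ th = t) {k₁ k₂ k₁' k₂' : Γ}
    (h₁ : k₁ ∈ K) (h₂ : k₂ ∈ K) (h₁' : k₁' ∈ K) (h₂' : k₂' ∈ K)
    (h : σ (k₁ * th * k₂) = σ (k₁' * th * k₂')) : k₁ * th * k₂ = k₁' * th * k₂' := by
  -- `l := k₂' k₂⁻¹` fixes `b`
  set l := k₂' * k₂⁻¹ with hl
  have hlK : l ∈ K := K.mul_mem h₂' (K.inv_mem h₂)
  have heq : σ k₁'⁻¹ * σ k₁ = t * σ l * t⁻¹ := by
    have hσl : σ l = σ k₂' * (σ k₂)⁻¹ := by rw [hl, map_mul, map_inv]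
    rw [hσl]
    simp only [map_mul, hth, map_inv] at h ⊢
    have : σ k₁ = σ k₁' * t * σ k₂' * (σ k₂)⁻¹ * t⁻¹ := by
      calc σ k₁ = (σ k₁ * t * σ k₂) * (σ k₂)⁻¹ * t⁻¹ := by group
        _ = (σ k₁' * t * σ k₂') * (σ k₂)⁻¹ * t⁻¹ := by rw [h]
    rw [this]; group
  have hlb : σ l • b = b := by
    have h1 : (σ k₁'⁻¹ * σ k₁) • a = a := by
      rw [mul_smul, C.hKa k₁ h₁, C.hKa _ (K.inv_mem h₁')]
    rw [heq, mul_smul, mul_smul, C.tinv_a] at h1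
    -- `t • σ l • b = a`, so `σ l • b = t⁻¹ • a = b`
    have : σ l • b = t⁻¹ • a := by rw [← h1, inv_smul_smul]
    rw [this, C.tinv_a]
  have hconj := C.hnorm th (Or.inl hth) l hlK hlb
  have hk : k₁'⁻¹ * k₁ = th * l * th⁻¹ := by
    apply C.hinj _ (K.mul_mem (K.inv_mem h₁') h₁) _ hconj
    rw [map_mul, heq]
    simp only [map_mul, hth, map_inv]
  calc k₁ * th * k₂ = k₁' * (k₁'⁻¹ * k₁) * th * k₂ := by group
    _ = k₁' * (th * l * th⁻¹) * th * k₂ := by rw [hk]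
    _ = k₁' * th * (l * k₂) := by group
    _ = k₁' * th * k₂' := by rw [hl]; group

/-- decomposition of the elements of `Γ` not mapped into the point stabilizer -/
theorem Ctx.decomp (C : Ctx σ a b t K) {th : Γ} (hth : σ th = t) (e : Γ) (he : σ e • a ≠ a) :
    ∃ k₁ ∈ K, ∃ k₂ ∈ K, ∃ z ∈ σ.ker, e = k₁ * th * k₂ * z := by
  obtain ⟨h₁, h₁a, h₁b⟩ := C.hH2 (σ e • a) he
  obtain ⟨k₁, hk₁, hσ₁⟩ := C.hlift h₁ h₁a
  have h₂a : (t⁻¹ * h₁⁻¹ * σ e) • a = a := by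
    rw [mul_smul, mul_smul, ← h₁b, inv_smul_smul, C.tinv_b]
  obtain ⟨k₂, hk₂, hσ₂⟩ := C.hlift _ h₂a
  refine ⟨k₁, hk₁, k₂, hk₂, (k₁ * th * k₂)⁻¹ * e, ?_, by group⟩
  rw [MonoidHom.mem_ker]
  simp only [map_mul, map_inv, hth, hσ₁, hσ₂]
  group

theorem Ctx.decomp0 (C : Ctx σ a b t K) (e : Γ) (he : σ e • a = a) :
    ∃ k ∈ K, ∃ z ∈ σ.ker, e = k * z := by
  obtain ⟨k, hk, hσk⟩ := C.hlift _ he
  refine ⟨k, hk, k⁻¹ * e, ?_, by group⟩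
  rw [MonoidHom.mem_ker, map_mul, map_inv, hσk, inv_mul_cancel]

/-- the normalized situation: `t̂ s₀ t̂ = a₀ t̂ b₀` for one `s₀ ∈ K` moving `b` -/
structure Norm (σ : Γ →* G) (b : Ω) (t : G) (K : Subgroup Γ) (th s₀ a₀ b₀ : Γ) : Prop where
  hth : σ th = t
  hs₀ : s₀ ∈ K
  hs₀b : σ s₀ • b ≠ b
  ha₀ : a₀ ∈ K
  hb₀ : b₀ ∈ K
  heq : th * s₀ * th = a₀ * th * b₀

variable {th s₀ a₀ b₀ : Γ}

/-- `t̂ k t̂ ∈ K t̂ K` for all `k ∈ K` moving `b` -/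
theorem Ctx.p1 (C : Ctx σ a b t K) (N : Norm σ b t K th s₀ a₀ b₀) {k : Γ} (hk : k ∈ K)
    (hkb : σ k • b ≠ b) : ∃ a' ∈ K, ∃ b' ∈ K, th * k * th = a' * th * b' := by
  have hne : ∀ x ∈ K, σ x • b ≠ a := by
    intro x hx h
    have := C.hKa x hx
    have h2 : σ x • b = σ x • a := by rw [h, this]
    exact C.hab (smul_left_cancel _ h2).symm
  obtain ⟨l, hla, hlb, hlc⟩ := C.hL3 (σ s₀ • b) (σ k • b) (hne _ N.hs₀) N.hs₀b (hne _ hk) hkb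
  obtain ⟨l₁, hl₁, hσl₁⟩ := C.hlift l hla
  set l₂ := (l₁ * s₀)⁻¹ * k with hl₂
  have hl₂K : l₂ ∈ K := K.mul_mem (K.inv_mem (K.mul_mem hl₁ N.hs₀)) hk
  have hl₂b : σ l₂ • b = b := by
    rw [hl₂, map_mul, map_inv, map_mul, hσl₁, mul_smul, inv_smul_eq_iff, mul_smul, hlc]
  have hl₁b : σ l₁ • b = b := by rw [hσl₁, hlb]
  have hc1 := C.hnorm th (Or.inl N.hth) l₁ hl₁ hl₁b
  have hc2 := C.hnorm th⁻¹ (Or.inr (by rw [map_inv, N.hth])) l₂ hl₂K hl₂b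
  rw [inv_inv] at hc2
  refine ⟨th * l₁ * th⁻¹ * a₀, K.mul_mem hc1 N.ha₀, b₀ * (th⁻¹ * l₂ * th), K.mul_mem N.hb₀ hc2, ?_⟩
  have hk' : k = l₁ * s₀ * l₂ := by rw [hl₂]; group
  calc th * k * th = th * (l₁ * s₀ * l₂) * th := by rw [hk']
    _ = (th * l₁ * th⁻¹) * (th * s₀ * th) * (th⁻¹ * l₂ * th) := by group
    _ = (th * l₁ * th⁻¹) * (a₀ * th * b₀) * (th⁻¹ * l₂ * th) := by rw [N.heq]
    _ = th * l₁ * th⁻¹ * a₀ * th * (b₀ * (th⁻¹ * l₂ * th)) := by group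

/-- `t̂² ∈ K` -/
theorem Ctx.p2 (C : Ctx σ a b t K) (N : Norm σ b t K th s₀ a₀ b₀) : th * th ∈ K := by
  have h₀a : (t * t) • a = a := by rw [mul_smul, C.hta, C.htb]
  obtain ⟨h₀, hh₀, hσh₀⟩ := C.hlift _ h₀a
  set z₁ := h₀⁻¹ * (th * th) with hz₁
  have hz₁ker : z₁ ∈ σ.ker := by
    rw [MonoidHom.mem_ker, hz₁, map_mul, map_inv, map_mul, N.hth, hσh₀, inv_mul_cancel]
  have hz₁c := C.hcen hz₁ker
  rw [Subgroup.mem_center_iff] at hz₁c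
  have hw : th * th = h₀ * z₁ := by rw [hz₁]; group
  -- `s₀⁻¹` also moves `b`
  have hsinv : σ s₀⁻¹ • b ≠ b := by
    intro h
    apply N.hs₀b
    rw [map_inv, inv_smul_eq_iff] at h
    exact h.symm
  obtain ⟨a', ha', b', hb', heq'⟩ := C.p1 N (K.inv_mem N.hs₀) hsinv
  -- invert the normalizing relation
  have hinv : th⁻¹ * s₀⁻¹ * th⁻¹ = b₀⁻¹ * th⁻¹ * a₀⁻¹ := by
    have := congrArg (fun x => x⁻¹) N.heq
    simp only [mul_inv_rev] at this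
    rw [← mul_assoc] at this
    rw [this]; group
  have hthinv : th⁻¹ = (th * th)⁻¹ * th := by group
  have hthinv' : th⁻¹ = th * (th * th)⁻¹ := by group
  have h2 : th * s₀⁻¹ * th = (th * th) * b₀⁻¹ * (th * th)⁻¹ * th * a₀⁻¹ * (th * th) := by
    have e1 : th * s₀⁻¹ * th = (th * th) * (th⁻¹ * s₀⁻¹ * th⁻¹) * (th * th) := by group
    rw [e1, hinv]
    group
  rw [hw] at h2
  -- pull the central `z₁` out
  have h3 : th * s₀⁻¹ * th = (h₀ * b₀⁻¹ * h₀⁻¹) * th * (a₀⁻¹ * h₀) * z₁ := by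
    rw [h2]
    have c1 : ∀ g, z₁ * g = g * z₁ := fun g => (hz₁c g).symm
    have e1 : (h₀ * z₁)⁻¹ = h₀⁻¹ * z₁⁻¹ := by
      rw [mul_inv_rev]
      have : z₁⁻¹ * h₀⁻¹ = h₀⁻¹ * z₁⁻¹ := by
        have := c1 h₀
        calc z₁⁻¹ * h₀⁻¹ = (h₀ * z₁)⁻¹ := by group
          _ = (z₁ * h₀)⁻¹ := by rw [this]
          _ = h₀⁻¹ * z₁⁻¹ := by group
      exact this
    rw [e1]
    calc h₀ * z₁ * b₀⁻¹ * (h₀⁻¹ * z₁⁻¹) * th * a₀⁻¹ * (h₀ * z₁)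
        = h₀ * (z₁ * (b₀⁻¹ * h₀⁻¹)) * z₁⁻¹ * th * a₀⁻¹ * h₀ * z₁ := by group
      _ = h₀ * ((b₀⁻¹ * h₀⁻¹) * z₁) * z₁⁻¹ * th * a₀⁻¹ * h₀ * z₁ := by rw [c1]
      _ = h₀ * b₀⁻¹ * h₀⁻¹ * th * (a₀⁻¹ * h₀) * z₁ := by group
  -- compare with `a' t̂ b'`
  have ha'' : h₀ * b₀⁻¹ * h₀⁻¹ ∈ K := K.mul_mem (K.mul_mem hh₀ (K.inv_mem N.hb₀)) (K.inv_mem hh₀)
  have hb'' : a₀⁻¹ * h₀ ∈ K := K.mul_mem (K.inv_mem N.ha₀) hh₀
  have hσ : σ (a' * th * b') = σ ((h₀ * b₀⁻¹ * h₀⁻¹) * th * (a₀⁻¹ * h₀)) := by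
    rw [← heq', h3, map_mul _ _ z₁, MonoidHom.mem_ker.mp hz₁ker, mul_one]
  have hu := C.uniq N.hth ha' hb' ha'' hb'' hσ
  rw [heq', hu] at h3
  have hz1 : z₁ = 1 := by
    have := mul_left_cancel (a := h₀ * b₀⁻¹ * h₀⁻¹ * th * (a₀⁻¹ * h₀)) (b := 1) (c := z₁)
      (by rw [mul_one]; exact h3)
    exact this.symm
  rw [hw, hz1, mul_one]
  exact hh₀

/-- `t̂ k t̂ ∈ K ∪ K t̂ K` for all `k ∈ K` -/
theorem Ctx.tkt (C : Ctx σ a b t K) (N : Norm σ b t K th s₀ a₀ b₀) {k : Γ} (hk : k ∈ K) :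
    th * k * th ∈ K ∨ ∃ a' ∈ K, ∃ b' ∈ K, th * k * th = a' * th * b' := by
  by_cases hkb : σ k • b = b
  · left
    have h1 := C.hnorm th (Or.inl N.hth) k hk hkb
    have h2 := C.p2 N
    have : th * k * th = (th * k * th⁻¹) * (th * th) := by group
    rw [this]
    exact K.mul_mem h1 h2
  · right
    exact C.p1 N hk hkb

/-- the subgroup `K ∪ K t̂ K` -/
def E0 (C : Ctx σ a b t K) (N : Norm σ b t K th s₀ a₀ b₀) : Subgroup Γ where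
  carrier := {e | e ∈ K ∨ ∃ k₁ ∈ K, ∃ k₂ ∈ K, e = k₁ * th * k₂}
  one_mem' := Or.inl K.one_mem
  mul_mem' := by
    rintro x y (hx | ⟨k₁, h₁, k₂, h₂, rfl⟩) (hy | ⟨k₃, h₃, k₄, h₄, rfl⟩)
    · exact Or.inl (K.mul_mem hx hy)
    · exact Or.inr ⟨x * k₃, K.mul_mem hx h₃, k₄, h₄, by group⟩
    · exact Or.inr ⟨k₁, h₁, k₂ * y, K.mul_mem h₂ hy, by group⟩
    · rcases C.tkt N (K.mul_mem h₂ h₃) with h | ⟨a', ha', b', hb', h⟩
      · left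
        have : k₁ * th * k₂ * (k₃ * th * k₄) = k₁ * (th * (k₂ * k₃) * th) * k₄ := by group
        rw [this]
        exact K.mul_mem (K.mul_mem h₁ h) h₄
      · right
        refine ⟨k₁ * a', K.mul_mem h₁ ha', b' * k₄, K.mul_mem hb' h₄, ?_⟩
        have : k₁ * th * k₂ * (k₃ * th * k₄) = k₁ * (th * (k₂ * k₃) * th) * k₄ := by group
        rw [this, h]; group
  inv_mem' := by
    rintro x (hx | ⟨k₁, h₁, k₂, h₂, rfl⟩)
    · exact Or.inl (K.inv_mem hx)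
    · right
      refine ⟨k₂⁻¹, K.inv_mem h₂, (th * th)⁻¹ * k₁⁻¹,
        K.mul_mem (K.inv_mem (C.p2 N)) (K.inv_mem h₁), ?_⟩
      group

theorem mem_E0 (C : Ctx σ a b t K) (N : Norm σ b t K th s₀ a₀ b₀) (e : Γ) :
    e ∈ E0 C N ↔ e ∈ K ∨ ∃ k₁ ∈ K, ∃ k₂ ∈ K, e = k₁ * th * k₂ := Iff.rfl

/-- the conclusion in the normalized situation -/
theorem Ctx.ker_eq_bot_of_norm (C : Ctx σ a b t K) (N : Norm σ b t K th s₀ a₀ b₀)
    (hstem : σ.ker ≤ _root_.commutator Γ) : σ.ker = ⊥ := by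
  -- every element is in `E₀ Z`
  have hdec : ∀ e : Γ, ∃ e₀ ∈ E0 C N, ∃ z ∈ σ.ker, e = e₀ * z := by
    intro e
    by_cases he : σ e • a = a
    · obtain ⟨k, hk, z, hz, rfl⟩ := C.decomp0 e he
      exact ⟨k, Or.inl hk, z, hz, rfl⟩
    · obtain ⟨k₁, h₁, k₂, h₂, z, hz, rfl⟩ := C.decomp N.hth e he
      exact ⟨k₁ * th * k₂, Or.inr ⟨k₁, h₁, k₂, h₂, rfl⟩, z, hz, rfl⟩
  have hcomm : _root_.commutator Γ ≤ E0 C N := by
    rw [commutator_def, Subgroup.commutator_le]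
    intro x _ y _
    obtain ⟨e, he, z, hz, rfl⟩ := hdec x
    obtain ⟨e', he', z', hz', rfl⟩ := hdec y
    rw [commutatorElement_mul_central _ _ _ _ (C.hcen hz) (C.hcen hz'), commutatorElement_def]
    exact (E0 C N).mul_mem ((E0 C N).mul_mem ((E0 C N).mul_mem he he') ((E0 C N).inv_mem he))
      ((E0 C N).inv_mem he')
  rw [Subgroup.eq_bot_iff_forall]
  intro z hz
  have hzE := hcomm (hstem hz)
  have hσz : σ z = 1 := MonoidHom.mem_ker.mp hz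
  rcases hzE with hzK | ⟨k₁, h₁, k₂, h₂, rfl⟩
  · exact C.hinj z hzK 1 K.one_mem (by rw [hσz, map_one])
  · exfalso
    apply C.move N.hth h₁ h₂
    rw [hσz, one_smul]

end Cfsg.Agent.Helper27.StemExt3
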