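import Mathlib
import Cfsg.Prelude.Def_KGroupFacts
import Cfsg.Agent.Helper27.StemExt3A
import Cfsg.Agent.Helper27.StemExt3B

set_option autoImplicit false

/-!
# Stem extensions of a triply transitive group with perfect point stabilizers (part C)

Main theorem: if `G` acts on `Ω` such that the stabilizer `H` of a point `a` is transitive on the other
points, the stabilizer `L` of two points `a, b` is transitive on the remaining points, some `t ∈ G`
interchanges `a` and `b`, `H` and `L` are perfect and `H` has no nontrivial finite stem extension, then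
`G` has no nontrivial finite stem extension.
-/

namespace Cfsg.Agent.Helper27.StemExt3

open Cfsg MulAction
open scoped commutatorElement

universe u v w

theorem ker_eq_bot_of_three_transitive
    {G : Type v} [Group G] {Ω : Type w} [MulAction G Ω] {Γ : Type u} [Group Γ] [Finite Γ]
    (a b : Ω) (hab : a ≠ b) (t : G) (hta : t • a = b) (htb : t • b = a)
    (hH2 : ∀ c : Ω, c ≠ a → ∃ h : G, h • a = a ∧ h • b = c)
    (hL3 : ∀ c c' : Ω, c ≠ a → c ≠ b → c' ≠ a → c' ≠ b →
      ∃ l : G, l • a = a ∧ l • b = b ∧ l • c = c')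
    (hc3 : ∃ c : Ω, c ≠ a ∧ c ≠ b)
    (hHperf : ⁅stabilizer G a, stabilizer G a⁆ = stabilizer G a)
    (hLperf : ⁅stabilizer G a ⊓ stabilizer G b, stabilizer G a ⊓ stabilizer G b⁆
      = stabilizer G a ⊓ stabilizer G b)
    (hstem : ∀ (Δ : Type u) [Group Δ] [Finite Δ] (τ : Δ →* ↥(stabilizer G a)),
      IsStemExtension τ → τ.ker = ⊥)
    (σ : Γ →* G) (hσ : IsStemExtension σ) : σ.ker = ⊥ := by
  obtain ⟨hsurj, hcen, hcomm⟩ := hσ
  set H : Subgroup G := stabilizer G a with hH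
  set L : Subgroup G := H ⊓ stabilizer G b with hL
  set K : Subgroup Γ := ⁅H.comap σ, H.comap σ⁆ with hK
  have hLH : L ≤ H := inf_le_left
  have hKa : ∀ k ∈ K, σ k • a = a := fun k hk => mem_stabilizer_iff.mp (lift_le σ H hk)
  have hinv_a : t⁻¹ • a = b := by rw [inv_smul_eq_iff, htb]
  have hinv_b : t⁻¹ • b = a := by rw [inv_smul_eq_iff, hta]
  have C : Ctx σ a b t K := by
    refine ⟨hab, hta, htb, hH2, hL3, hKa, ?_, ?_, hcen, ?_⟩
    · intro h hh
      exact exists_lift σ hsurj H hHperf (mem_stabilizer_iff.mpr hh)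
    · intro k hk k' hk' h
      exact lift_inj σ hsurj hcen H hHperf hstem hk hk' h
    · intro u hu x hx hxb
      have hxL : x ∈ K ⊓ L.comap σ := by
        refine Subgroup.mem_inf.mpr ⟨hx, ?_⟩
        rw [Subgroup.mem_comap, hL, Subgroup.mem_inf]
        exact ⟨mem_stabilizer_iff.mpr (hKa x hx), mem_stabilizer_iff.mpr hxb⟩
      have hnormL : ∀ l ∈ L, σ u * l * (σ u)⁻¹ ∈ L := by
        intro l hl
        obtain ⟨hla, hlb⟩ := Subgroup.mem_inf.mp hl
        rw [mem_stabilizer_iff] at hla hlb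
        rw [hL, Subgroup.mem_inf, mem_stabilizer_iff, mem_stabilizer_iff]
        rcases hu with hu | hu
        · rw [hu]
          constructor
          · rw [mul_smul, mul_smul, hinv_a, hlb, htb]
          · rw [mul_smul, mul_smul, hinv_b, hla, hta]
        · rw [hu, inv_inv]
          constructor
          · rw [mul_smul, mul_smul, hta, hlb, hinv_b]
          · rw [mul_smul, mul_smul, htb, hla, hinv_a]
      exact (Subgroup.mem_inf.mp
        (conj_mem_lift σ hsurj hcen H hHperf hstem L hLH hLperf u hnormL hxL)).1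
  -- a lift of `t` and its normalization
  obtain ⟨th₀, hth₀⟩ := hsurj t
  obtain ⟨c, hca, hcb⟩ := hc3
  obtain ⟨h, hha, hhb⟩ := hH2 c hca
  obtain ⟨s₀, hs₀, hσs₀⟩ := C.hlift h hha
  have hs₀b : σ s₀ • b ≠ b := by rw [hσs₀, hhb]; exact hcb
  have hmove : σ (th₀ * s₀ * th₀) • a ≠ a := by
    rw [map_mul, map_mul, hth₀, hσs₀, mul_smul, mul_smul, hta, hhb]
    intro h'
    apply hcb
    have : c = t⁻¹ • a := by rw [← h', inv_smul_smul]
    rw [this, hinv_a]
  obtain ⟨a₀, ha₀, b₀, hb₀, z, hz, hdec⟩ := C.decomp hth₀ _ hmove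
  have hzc := hcen hz
  rw [Subgroup.mem_center_iff] at hzc
  have hσz : σ z = 1 := MonoidHom.mem_ker.mp hz
  have N : Norm σ b t K (th₀ * z⁻¹) s₀ a₀ b₀ := by
    refine ⟨by rw [map_mul, map_inv, hσz, inv_one, mul_one, hth₀], hs₀, hs₀b, ha₀, hb₀, ?_⟩
    have c1 : ∀ g, z⁻¹ * g = g * z⁻¹ := by
      intro g
      have := hzc g
      calc z⁻¹ * g = z⁻¹ * (g * z) * z⁻¹ := by group
        _ = z⁻¹ * (z * g) * z⁻¹ := by rw [this]
        _ = g * z⁻¹ := by group
    calc th₀ * z⁻¹ * s₀ * (th₀ * z⁻¹) = th₀ * (z⁻¹ * (s₀ * th₀)) * z⁻¹ := by group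
      _ = th₀ * ((s₀ * th₀) * z⁻¹) * z⁻¹ := by rw [c1]
      _ = (th₀ * s₀ * th₀) * z⁻¹ * z⁻¹ := by group
      _ = (a₀ * th₀ * b₀ * z) * z⁻¹ * z⁻¹ := by rw [hdec]
      _ = a₀ * th₀ * (b₀ * z⁻¹) := by group
      _ = a₀ * th₀ * (z⁻¹ * b₀) := by rw [c1]
      _ = a₀ * (th₀ * z⁻¹) * b₀ := by group
  exact C.ker_eq_bot_of_norm N hcomm

end Cfsg.Agent.Helper27.StemExt3
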