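import Mathlib
import Cfsg.Prelude.Def_KGroupFacts
import Cfsg.Prelude.Def_Spor_Mathieu
import Cfsg.Agent.Helper27.StemExt3C
import Cfsg.Agent.Helper27.M24Trans
import Cfsg.Agent.Helper27.SimpleFinal

set_option autoImplicit false

/-!
# The Schur multiplier of `M24` is trivial, given that the multiplier of `M23` is trivial

Application of `StemExt3.ker_eq_bot_of_three_transitive`: `M24` is triply transitive on the 24 points,
its point stabilizer `M23` and two-point stabilizer `M22` are simple (hence perfect).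
-/

namespace Cfsg.Agent.Helper27.M24Mult

open Cfsg MulAction
open scoped commutatorElement

universe u

/-- three points can be moved to three points by a triply transitive group -/
theorem exists_smul_three {G : Type*} {α : Type*} [Group G] [MulAction G α]
    (h3 : IsMultiplyPretransitive G α 3) {p₁ p₂ p₃ q₁ q₂ q₃ : α}
    (hp12 : p₁ ≠ p₂) (hp13 : p₁ ≠ p₃) (hp23 : p₂ ≠ p₃)
    (hq12 : q₁ ≠ q₂) (hq13 : q₁ ≠ q₃) (hq23 : q₂ ≠ q₃) :
    ∃ g : G, g • p₁ = q₁ ∧ g • p₂ = q₂ ∧ g • p₃ = q₃ := by
  have hx : Function.Injective ![p₁, p₂, p₃] := by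
    intro i j hij
    fin_cases i <;> fin_cases j <;> simp_all
  have hy : Function.Injective ![q₁, q₂, q₃] := by
    intro i j hij
    fin_cases i <;> fin_cases j <;> simp_all
  obtain ⟨g, hg⟩ := MulAction.exists_smul_eq G (⟨![p₁, p₂, p₃], hx⟩ : Fin 3 ↪ α) ⟨![q₁, q₂, q₃], hy⟩
  refine ⟨g, ?_, ?_, ?_⟩
  · have := congrArg (fun e : Fin 3 ↪ α => e 0) hg
    simpa using this
  · have := congrArg (fun e : Fin 3 ↪ α => e 1) hg
    simpa using this
  · have := congrArg (fun e : Fin 3 ↪ α => e 2) hg
    simpa using this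

/-- a simple group of non-prime order is perfect -/
theorem commutator_eq_top_of_simple {G : Type*} [Group G] [Finite G] [IsSimpleGroup G]
    (h : ¬ (Nat.card G).Prime) : commutator G = ⊤ := by
  rcases (inferInstance : (commutator G).Normal).eq_bot_or_eq_top with hb | ht
  · exfalso
    apply h
    have hcomm : ∀ a b : G, a * b = b * a := by
      intro a b
      have : a * b * a⁻¹ * b⁻¹ ∈ commutator G := by
        have h1 := Subgroup.commutator_mem_commutator (Subgroup.mem_top a) (Subgroup.mem_top b)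
        rwa [commutatorElement_def] at h1
      rw [hb, Subgroup.mem_bot] at this
      have h2 : a * b = (a * b * a⁻¹ * b⁻¹) * (b * a) := by group
      rw [h2, this, one_mul]
    let _ : CommGroup G := { (inferInstance : Group G) with mul_comm := hcomm }
    exact IsSimpleGroup.prime_card
  · exact ht

/-- perfectness of a subgroup, in the form used by `StemExt3` -/
theorem bracket_self_of_commutator_eq_top {G : Type*} [Group G] (H : Subgroup G)
    (h : commutator ↥H = ⊤) : ⁅H, H⁆ = H := by
  rw [← Subgroup.map_subtype_commutator, h, ← MonoidHom.range_eq_map, Subgroup.range_subtype]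

/-- the abstract point stabilizer of `M24` is the concrete `Spor.M23` -/
def stabEquiv : ↥(stabilizer ↥M24 (none : GolayPt)) ≃* ↥Spor.M23 where
  toFun x := ⟨((x : ↥M24) : Equiv.Perm GolayPt), Subgroup.mem_inf.mpr ⟨(x : ↥M24).2, by
    have h := mem_stabilizer_iff.mp x.2
    exact mem_stabilizer_iff.mpr h⟩⟩
  invFun y := ⟨⟨(y : Equiv.Perm GolayPt), (Subgroup.mem_inf.mp y.2).1⟩, by
    have h := mem_stabilizer_iff.mp (Subgroup.mem_inf.mp y.2).2
    exact mem_stabilizer_iff.mpr h⟩
  left_inv x := rfl
  right_inv y := rfl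
  map_mul' x y := rfl

/-- a trivial multiplier forces trivial kernels of stem extensions, also for isomorphic groups -/
theorem ker_eq_bot_of_hasCyclic {G G' : Type u} [Group G] [Group G'] (e : G' ≃* G)
    (h : HasCyclicSchurMultiplier G 1) (Δ : Type u) [Group Δ] [Finite Δ] (τ : Δ →* G')
    (hτ : IsStemExtension τ) : τ.ker = ⊥ := by
  have hτ' : IsStemExtension (e.toMonoidHom.comp τ) := by
    obtain ⟨h1, h2, h3⟩ := hτ
    have hker : (e.toMonoidHom.comp τ).ker = τ.ker := by
      ext x
      simp [MonoidHom.mem_ker]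
    refine ⟨e.surjective.comp h1, ?_, ?_⟩
    · rw [hker]; exact h2
    · rw [hker]; exact h3
  obtain ⟨π, hπ⟩ := h.2 Δ (e.toMonoidHom.comp τ) hτ'
  have hker : (e.toMonoidHom.comp τ).ker = τ.ker := by
    ext x
    simp [MonoidHom.mem_ker]
  rw [Subgroup.eq_bot_iff_forall]
  intro x hx
  rw [← hker] at hx
  obtain ⟨y, hy⟩ := hπ ⟨x, hx⟩
  have : Unique (Multiplicative (ZMod 1)) := inferInstanceAs (Unique (ZMod 1))
  have hy1 : y = 1 := Subsingleton.elim _ _
  rw [hy1, map_one] at hy
  have := congrArg Subtype.val hy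
  simpa using this.symm

/-- the conclusion `HasCyclicSchurMultiplier G 1` from the triviality of all kernels -/
theorem hasCyclic_one_of_ker {G : Type u} [Group G] [Finite G]
    (h : ∀ (Γ : Type u) [Group Γ] [Finite Γ] (σ : Γ →* G), IsStemExtension σ → σ.ker = ⊥) :
    HasCyclicSchurMultiplier G 1 := by
  have : Unique (Multiplicative (ZMod 1)) := inferInstanceAs (Unique (ZMod 1))
  refine ⟨⟨G, inferInstance, inferInstance, MonoidHom.id G, ⟨fun g => ⟨g, rfl⟩, ?_, ?_⟩, ?_⟩, ?_⟩
  · rw [MonoidHom.ker_id]; exact bot_le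
  · rw [MonoidHom.ker_id]; exact bot_le
  · rw [MonoidHom.ker_id]
    exact ⟨MulEquiv.ofUnique⟩
  · intro Γ _ _ σ hσ
    have hk := h Γ σ hσ
    refine ⟨1, ?_⟩
    rintro ⟨x, hx⟩
    refine ⟨1, ?_⟩
    rw [hk, Subgroup.mem_bot] at hx
    exact Subtype.ext (by simp [hx])

theorem smul_def' (g : ↥M24) (p : GolayPt) : g • p = (g : Equiv.Perm GolayPt) p := rfl

/-- the Schur multiplier of `M24` is trivial if that of `M23` is -/
theorem m24_of_m23 (h23 : HasCyclicSchurMultiplier ↥Spor.M23 1) :
    HasCyclicSchurMultiplier ↥M24 1 := by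
  have : Finite ↥M24 := Subgroup.instFiniteSubtypeMem M24
  apply hasCyclic_one_of_ker
  intro Γ _ _ σ hσ
  have h3 : IsMultiplyPretransitive ↥M24 GolayPt 3 :=
    M24_isMultiplyPretransitive_of_le (by norm_num)
  have h01 : (some 0 : GolayPt) ≠ some 1 := by decide
  have hn0 : (none : GolayPt) ≠ some 0 := by decide
  have hn1 : (none : GolayPt) ≠ some 1 := by decide
  -- an element interchanging `none` and `some 0`
  obtain ⟨t, hta, htb, -⟩ := exists_smul_three h3 hn0 hn1 h01 hn0.symm h01 hn1
  -- perfectness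
  have hHperf : ⁅stabilizer ↥M24 (none : GolayPt), stabilizer ↥M24 (none : GolayPt)⁆
      = stabilizer ↥M24 (none : GolayPt) := by
    apply bracket_self_of_commutator_eq_top
    have := stabilizer_pt_simple (none : GolayPt)
    apply commutator_eq_top_of_simple
    rw [card_stabilizer_M24]
    norm_num
  have hLperf : ⁅stabilizer ↥M24 (none : GolayPt) ⊓ stabilizer ↥M24 (some 0 : GolayPt),
      stabilizer ↥M24 (none : GolayPt) ⊓ stabilizer ↥M24 (some 0 : GolayPt)⁆
      = stabilizer ↥M24 (none : GolayPt) ⊓ stabilizer ↥M24 (some 0 : GolayPt) := by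
    apply bracket_self_of_commutator_eq_top
    have := stabilizer_pt2_simple (none : GolayPt) (some 0) hn0
    apply commutator_eq_top_of_simple
    rw [card_stabilizer2_M24 _ _ hn0]
    norm_num
  refine StemExt3.ker_eq_bot_of_three_transitive (none : GolayPt) (some 0) hn0 t hta htb ?_ ?_
    ⟨some 1, hn1.symm, h01.symm⟩ hHperf hLperf ?_ σ hσ
  · intro c hc
    by_cases hc0 : c = some 0
    · exact ⟨1, one_smul _ _, by rw [one_smul, hc0]⟩
    · by_cases hc1 : c = some 1
      · -- third point `some 2`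
        have h02 : (some 0 : GolayPt) ≠ some 2 := by decide
        have hn2 : (none : GolayPt) ≠ some 2 := by decide
        have h12 : (some 1 : GolayPt) ≠ some 2 := by decide
        obtain ⟨g, h1, h2, -⟩ := exists_smul_three h3 hn0 hn2 h02 (Ne.symm hc) hn2
          (by rw [hc1]; exact h12)
        exact ⟨g, h1, h2⟩
      · obtain ⟨g, h1, h2, -⟩ := exists_smul_three h3 hn0 hn1 h01 (Ne.symm hc) hn1
          (fun h => hc1 h)
        exact ⟨g, h1, h2⟩
  · intro c c' hca hcb hca' hcb'
    exact exists_smul_three h3 hn0 (Ne.symm hca) (Ne.symm hcb) hn0 (Ne.symm hca') (Ne.symm hcb')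
  · intro Δ _ _ τ hτ
    exact ker_eq_bot_of_hasCyclic stabEquiv h23 Δ τ hτ

end Cfsg.Agent.Helper27.M24Mult
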