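import Mathlib
import Cfsg.Prelude.Def_KGroupFacts

set_option autoImplicit false

/-!
# Stem extensions: transfer lemmas (abelian Sylow subgroups, restriction to subgroups of coprime index)
-/

namespace Cfsg.Agent.Helper27.StemFusion

open scoped commutatorElement

universe u v

variable {Γ : Type u} {G : Type v} [Group Γ] [Group G]

open scoped IsMulCommutative in
/-- transfer into a commutative subgroup: a central element of the commutator subgroup lying in a
commutative subgroup `P` has `P.index`-th power one. -/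
theorem pow_index_eq_one_of_comm [Finite Γ] (P : Subgroup Γ)
    (hP : ∀ x ∈ P, ∀ y ∈ P, x * y = y * x)
    (z : Γ) (hzc : z ∈ Subgroup.center Γ) (hz' : z ∈ commutator Γ) : z ^ P.index = 1 := by
  haveI : IsMulCommutative P := ⟨⟨fun a b => Subtype.ext (hP a a.2 b b.2)⟩⟩
  have key : ∀ (k : ℕ) (g₀ : Γ), g₀⁻¹ * z ^ k * g₀ ∈ P → g₀⁻¹ * z ^ k * g₀ = z ^ k := by
    intro k g₀ _
    have hc : z ^ k ∈ Subgroup.center Γ := Subgroup.pow_mem _ hzc k
    have := (Subgroup.mem_center_iff.mp hc) g₀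
    rw [mul_assoc, ← this, inv_mul_cancel_left]
  have h1 := MonoidHom.transfer_eq_pow (MonoidHom.id ↥P) z key
  have h2 : MonoidHom.transfer (MonoidHom.id ↥P) z = 1 := by
    have := Abelianization.commutator_subset_ker (MonoidHom.transfer (MonoidHom.id ↥P)) hz'
    exact MonoidHom.mem_ker.mp this
  rw [h2] at h1
  have h3 := congrArg Subtype.val h1
  simpa using h3.symm



/-- a `p`-subgroup of a finite group whose order is not divisible by `p ^ 2` is cyclic -/
theorem isCyclic_of_isPGroup_of_sq_not_dvd [Finite G] (p : ℕ) [hp : Fact p.Prime]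
    (hG : ¬ p ^ 2 ∣ Nat.card G) (Q : Subgroup G) (hQ : IsPGroup p Q) : IsCyclic ↥Q := by
  obtain ⟨k, hk⟩ := IsPGroup.iff_card.mp hQ
  have hdvd : Nat.card Q ∣ Nat.card G := Subgroup.card_subgroup_dvd_card Q
  have hk1 : k ≤ 1 := by
    by_contra h
    have h : 2 ≤ k := by omega
    apply hG
    have : p ^ 2 ∣ p ^ k := pow_dvd_pow p h
    rw [← hk] at this
    exact this.trans hdvd
  interval_cases k
  · rw [pow_zero] at hk
    haveI : Subsingleton ↥Q := (Nat.card_eq_one_iff_unique.mp hk).1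
    exact isCyclic_of_subsingleton
  · rw [pow_one] at hk
    exact isCyclic_of_prime_card hk

/-- cyclic Sylow subgroups kill the `p`-part of the kernel of a stem extension -/
theorem not_dvd_card_ker_of_sq_not_dvd [Finite Γ] [Finite G] (σ : Γ →* G)
    (hσ : IsStemExtension σ) (p : ℕ) [hp : Fact p.Prime] (hG : ¬ p ^ 2 ∣ Nat.card G) :
    ¬ p ∣ Nat.card σ.ker := by
  intro hdvd
  obtain ⟨hsurj, hcen, hcomm⟩ := hσ
  obtain ⟨z, hz⟩ := exists_prime_orderOf_dvd_card' p hdvd
  have hzo : orderOf (z : Γ) = p := by rw [Subgroup.orderOf_coe]; exact hz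
  have hzp : IsPGroup p (Subgroup.zpowers (z : Γ)) := by
    apply IsPGroup.of_card (n := 1)
    rw [Nat.card_zpowers, hzo, pow_one]
  obtain ⟨P, hP⟩ := hzp.exists_le_sylow
  have hzP : (z : Γ) ∈ (P : Subgroup Γ) := hP (Subgroup.mem_zpowers _)
  -- the image of P is cyclic
  have hQ : IsPGroup p ((P : Subgroup Γ).map σ) := P.2.map σ
  haveI : IsCyclic ↥((P : Subgroup Γ).map σ) := isCyclic_of_isPGroup_of_sq_not_dvd p hG _ hQ
  have hker : (σ.subgroupMap (P : Subgroup Γ)).ker ≤ Subgroup.center ↥(P : Subgroup Γ) := by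
    intro x hx
    rw [MonoidHom.mem_ker] at hx
    have hx' : σ (x : Γ) = 1 := by
      have := congrArg Subtype.val hx
      simpa using this
    have hxc : (x : Γ) ∈ Subgroup.center Γ := hcen (MonoidHom.mem_ker.mpr hx')
    rw [Subgroup.mem_center_iff]
    intro y
    apply Subtype.ext
    have := (Subgroup.mem_center_iff.mp hxc) (y : Γ)
    simpa using this
  have hPc : ∀ x ∈ (P : Subgroup Γ), ∀ y ∈ (P : Subgroup Γ), x * y = y * x := by
    intro x hx y hy
    have hcm := MonoidHom.isMulCommutative_of_isCyclic_of_ker_le_center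
      (σ.subgroupMap (P : Subgroup Γ)) hker
    have := hcm.is_comm.comm (⟨x, hx⟩ : ↥(P : Subgroup Γ)) ⟨y, hy⟩
    have := congrArg Subtype.val this
    simpa using this
  have h1 := pow_index_eq_one_of_comm (P : Subgroup Γ) hPc (z : Γ) (hcen z.2) (hcomm z.2)
  have h2 : p ∣ (P : Subgroup Γ).index := by
    have := orderOf_dvd_of_pow_eq_one h1
    rwa [hzo] at this
  exact P.not_dvd_index h2



/-- restriction of a stem extension to the preimage of a subgroup of index prime to the order of the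
kernel is again a stem extension (transfer) -/
theorem isStemExtension_subgroupComap [Finite Γ] [Finite G] (σ : Γ →* G)
    (hσ : IsStemExtension σ) (H : Subgroup G)
    (hcop : Nat.Coprime (Nat.card σ.ker) H.index) : IsStemExtension (σ.subgroupComap H) := by
  obtain ⟨hsurj, hcen, hcomm⟩ := hσ
  have hkermem : ∀ x : ↥(H.comap σ), x ∈ (σ.subgroupComap H).ker ↔ (x : Γ) ∈ σ.ker := by
    intro x
    rw [MonoidHom.mem_ker, MonoidHom.mem_ker]
    constructor
    · intro h
      have := congrArg Subtype.val h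
      exact this
    · intro h
      apply Subtype.ext
      exact h
  refine ⟨MonoidHom.subgroupComap_surjective_of_surjective σ H hsurj, ?_, ?_⟩
  · intro x hx
    have hxc : (x : Γ) ∈ Subgroup.center Γ := hcen ((hkermem x).mp hx)
    rw [Subgroup.mem_center_iff]
    intro y
    apply Subtype.ext
    have := (Subgroup.mem_center_iff.mp hxc) (y : Γ)
    simpa using this
  · intro x hx
    have hxk : (x : Γ) ∈ σ.ker := (hkermem x).mp hx
    obtain ⟨w, hw⟩ := (powCoprime hcop).surjective ⟨(x : Γ), hxk⟩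
    have hw' : (w : Γ) ^ H.index = (x : Γ) := by
      have := congrArg Subtype.val hw
      simpa using this
    have hwc : (w : Γ) ∈ Subgroup.center Γ := hcen w.2
    have hidx : (H.comap σ).index = H.index := Subgroup.index_comap_of_surjective H hsurj
    have key : ∀ (k : ℕ) (g₀ : Γ), g₀⁻¹ * (w : Γ) ^ k * g₀ ∈ H.comap σ →
        g₀⁻¹ * (w : Γ) ^ k * g₀ = (w : Γ) ^ k := by
      intro k g₀ _
      have hc : (w : Γ) ^ k ∈ Subgroup.center Γ := Subgroup.pow_mem _ hwc k
      have := (Subgroup.mem_center_iff.mp hc) g₀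
      rw [mul_assoc, ← this, inv_mul_cancel_left]
    have h1 := MonoidHom.transfer_eq_pow (Abelianization.of (G := ↥(H.comap σ))) (w : Γ) key
    have h2 : MonoidHom.transfer (Abelianization.of (G := ↥(H.comap σ))) (w : Γ) = 1 := by
      have := Abelianization.commutator_subset_ker
        (MonoidHom.transfer (Abelianization.of (G := ↥(H.comap σ)))) (hcomm w.2)
      exact MonoidHom.mem_ker.mp this
    rw [h2] at h1
    have h3 : (⟨(w : Γ) ^ (H.comap σ).index, MonoidHom.transfer_eq_pow_aux (w : Γ) key⟩ :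
        ↥(H.comap σ)) ∈ commutator ↥(H.comap σ) := by
      rw [← Abelianization.ker_of, MonoidHom.mem_ker]
      exact h1.symm
    have h4 : (⟨(w : Γ) ^ (H.comap σ).index, MonoidHom.transfer_eq_pow_aux (w : Γ) key⟩ :
        ↥(H.comap σ)) = x := by
      apply Subtype.ext
      show (w : Γ) ^ (H.comap σ).index = (x : Γ)
      rw [hidx, hw']
    rw [← h4]
    exact h3


/-- commutators do not see central factors -/
theorem commutatorElement_mul_center (k k' z z' : Γ) (hz : z ∈ Subgroup.center Γ)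
    (hz' : z' ∈ Subgroup.center Γ) : ⁅k * z, k' * z'⁆ = ⁅k, k'⁆ := by
  have h1 : ∀ x, z * x = x * z := fun x => ((Subgroup.mem_center_iff.mp hz) x).symm
  have h2 : ∀ x, z' * x = x * z' := fun x => ((Subgroup.mem_center_iff.mp hz') x).symm
  rw [commutatorElement_def, commutatorElement_def, mul_inv_rev, mul_inv_rev]
  calc k * z * (k' * z') * (z⁻¹ * k⁻¹) * (z'⁻¹ * k'⁻¹)
      = k * (z * k') * (z' * z⁻¹) * k⁻¹ * z'⁻¹ * k'⁻¹ := by group
    _ = k * (k' * z) * (z⁻¹ * z') * k⁻¹ * z'⁻¹ * k'⁻¹ := by rw [h1 k', h2 z⁻¹]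
    _ = k * k' * (z' * k⁻¹) * z'⁻¹ * k'⁻¹ := by group
    _ = k * k' * (k⁻¹ * z') * z'⁻¹ * k'⁻¹ := by rw [h2 k⁻¹]
    _ = k * k' * k⁻¹ * k'⁻¹ := by group

/-- the commutator of lifts of a commuting pair is invariant under conjugation in the base group -/
theorem commutatorElement_conj_lifts (σ : Γ →* G) (hc : σ.ker ≤ Subgroup.center Γ)
    (g u v u' v' : Γ) (hu : σ u' = σ (g * u * g⁻¹)) (hv : σ v' = σ (g * v * g⁻¹))
    (hcz : ⁅u, v⁆ ∈ Subgroup.center Γ) : ⁅u', v'⁆ = ⁅u, v⁆ := by
  have hz1 : (g * u * g⁻¹)⁻¹ * u' ∈ Subgroup.center Γ := by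
    apply hc
    rw [MonoidHom.mem_ker, map_mul, map_inv, hu, inv_mul_cancel]
  have hz2 : (g * v * g⁻¹)⁻¹ * v' ∈ Subgroup.center Γ := by
    apply hc
    rw [MonoidHom.mem_ker, map_mul, map_inv, hv, inv_mul_cancel]
  have e1 : u' = (g * u * g⁻¹) * ((g * u * g⁻¹)⁻¹ * u') := by group
  have e2 : v' = (g * v * g⁻¹) * ((g * v * g⁻¹)⁻¹ * v') := by group
  rw [e1, e2, commutatorElement_mul_center _ _ _ _ hz1 hz2]
  have e3 : ⁅g * u * g⁻¹, g * v * g⁻¹⁆ = g * ⁅u, v⁆ * g⁻¹ := by
    rw [commutatorElement_def, commutatorElement_def]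
    group
  rw [e3, (Subgroup.mem_center_iff.mp hcz) g, mul_inv_cancel_right]

/-- a central commutator is inverted by inverting the second argument -/
theorem commutatorElement_inv_right_of_central (u v : Γ) (hcz : ⁅u, v⁆ ∈ Subgroup.center Γ) :
    ⁅u, v⁻¹⁆ = ⁅u, v⁆⁻¹ := by
  have h1 : ⁅u, v⁻¹⁆ = v⁻¹ * ⁅u, v⁆⁻¹ * v := by
    rw [commutatorElement_def, commutatorElement_def]
    group
  have hcz' : ⁅u, v⁆⁻¹ ∈ Subgroup.center Γ := Subgroup.inv_mem _ hcz
  rw [h1, (Subgroup.mem_center_iff.mp hcz') v⁻¹, inv_mul_cancel_right]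

end Cfsg.Agent.Helper27.StemFusion
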