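import Mathlib
import Cfsg.Agent.Helper27.M24Mult
import Cfsg.Agent.Helper27.StemFusionA
import Cfsg.Agent.Helper27.M23Conj

/-! The Schur multiplier of `M₂₃` is trivial: every finite stem extension restricts (transfer, index 23) to a stem
extension of `M₂₂`, whose kernel is generated by `κ`; the commutator invariants of the pairs `A`, `B` (fused in
`M₂₃`) and `C` (inverted in `M₂₃`) force `κ = 1`. -/

set_option autoImplicit false
set_option linter.all false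
set_option maxHeartbeats 1000000

namespace Cfsg.Agent.Helper27.M23Mult

open Cfsg Cfsg.Agent.Helper27 Cfsg.Agent.Helper19.TCS Cfsg.Agent.Helper19.Schur
  Cfsg.Agent.Helper27.M22Faces Cfsg.Agent.Helper27.M23Conj Cfsg.Agent.Helper27.StemFusion
open scoped commutatorElement

theorem G2_le_G1 : G2 ≤ G1 := by
  intro g hg
  rw [mem_fixH] at hg ⊢
  refine ⟨hg.1, fun q hq => hg.2 q ?_⟩
  rw [mem_ptsOf] at hq ⊢
  obtain ⟨f, hf, rfl⟩ := hq
  refine ⟨f, ?_, rfl⟩
  simp only [List.mem_cons, List.not_mem_nil, or_false] at hf ⊢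
  exact Or.inr hf

theorem index_G2 : (G2.subgroupOf G1).index = 23 := by
  have h1 : Nat.card ↥(G2.subgroupOf G1) = 443520 := by
    rw [Nat.card_congr (Subgroup.subgroupOfEquivOfLe G2_le_G1).toEquiv]
    exact card_G2
  have h2 := Subgroup.card_mul_index (G2.subgroupOf G1)
  have h3 : Nat.card ↥G1 = 10200960 := card_fix24_1
  rw [h1, h3] at h2
  omega

/-- arithmetic: an element with `κ^12 = 1`, `κ^(-162) = κ^(-1821)` and `κ^(-40) = (κ^(-40))⁻¹` is trivial -/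
theorem eq_one_of_relations {Δ : Type*} [Group Δ] (κ : Δ) (h12 : κ ^ 12 = 1)
    (hAB : κ ^ (-162 : ℤ) = κ ^ (-1821 : ℤ)) (hC : κ ^ (-40 : ℤ) = (κ ^ (-40 : ℤ))⁻¹) : κ = 1 := by
  have h1 : κ ^ (1659 : ℤ) = 1 := by
    have : κ ^ (1659 : ℤ) = κ ^ (-162 : ℤ) * (κ ^ (-1821 : ℤ))⁻¹ := by
      rw [← zpow_neg, ← zpow_add]; norm_num
    rw [this, hAB, mul_inv_cancel]
  have h2 : κ ^ (80 : ℤ) = 1 := by
    have e : κ ^ (-80 : ℤ) = 1 := by
      have : κ ^ (-80 : ℤ) = κ ^ (-40 : ℤ) * κ ^ (-40 : ℤ) := by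
        rw [← zpow_add]; norm_num
      rw [this]
      nth_rewrite 1 [hC]
      rw [inv_mul_cancel]
    have : κ ^ (80 : ℤ) = (κ ^ (-80 : ℤ))⁻¹ := by rw [← zpow_neg]; norm_num
    rw [this, e, inv_one]
  have h3 : κ ^ (12 : ℤ) = 1 := by
    have : κ ^ (12 : ℤ) = κ ^ (12 : ℕ) := by
      rw [← zpow_natCast]; norm_num
    rw [this, h12]
  have h4 : κ ^ (1 : ℤ) = 1 := by
    have : κ ^ (1 : ℤ) = (κ ^ (1659 : ℤ)) ^ (3 : ℤ) * (κ ^ (80 : ℤ)) ^ (-1 : ℤ) *
        (κ ^ (12 : ℤ)) ^ (-408 : ℤ) := by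
      rw [← zpow_mul, ← zpow_mul, ← zpow_mul, ← zpow_add, ← zpow_add]; norm_num
    rw [this, h1, h2, h3]; simp
  simpa using h4

/-- every finite stem extension of the stabiliser `G1 ≃ M₂₃` of a point in `M₂₄` has trivial kernel -/
theorem ker_eq_bot_G1 (Γ : Type) [Group Γ] [Finite Γ] (σ : Γ →* ↥G1) (hσ : IsStemExtension σ) :
    σ.ker = ⊥ := by
  have hcardG1 : Nat.card ↥G1 = 10200960 := card_fix24_1
  haveI hfin : Finite ↥G1 := Nat.finite_of_card_ne_zero (by rw [hcardG1]; norm_num)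
  haveI : Fact (Nat.Prime 23) := ⟨by norm_num⟩
  have h23 : ¬ 23 ∣ Nat.card σ.ker :=
    not_dvd_card_ker_of_sq_not_dvd σ hσ 23 (by rw [hcardG1]; norm_num)
  have hcop : Nat.Coprime (Nat.card σ.ker) (G2.subgroupOf G1).index := by
    rw [index_G2]
    exact Nat.Coprime.symm ((Nat.Prime.coprime_iff_not_dvd (by norm_num)).mpr h23)
  have hτ0 := isStemExtension_subgroupComap σ hσ (G2.subgroupOf G1) hcop
  obtain ⟨hsurj, hcenter, hcommu⟩ := hσ
  -- the restriction to the preimage of `G2`, with values in `G2`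
  have hΔ : ∀ δ : ↥((G2.subgroupOf G1).comap σ),
      ((G1.subtype.comp σ).comp ((G2.subgroupOf G1).comap σ).subtype) δ ∈ G2 :=
    fun δ => Subgroup.mem_subgroupOf.mp δ.2
  let τ' : ↥((G2.subgroupOf G1).comap σ) →* ↥G2 :=
    ((G1.subtype.comp σ).comp ((G2.subgroupOf G1).comap σ).subtype).codRestrict G2 hΔ
  have hτ'coe : ∀ δ : ↥((G2.subgroupOf G1).comap σ),
      ((τ' δ : ↥G2) : Equiv.Perm GolayPt) = ((σ (δ : Γ) : ↥G1) : Equiv.Perm GolayPt) := fun _ => rfl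
  have hker : τ'.ker = (σ.subgroupComap (G2.subgroupOf G1)).ker := by
    ext δ
    rw [MonoidHom.mem_ker, MonoidHom.mem_ker]
    constructor
    · intro h
      have h1 := congrArg Subtype.val h
      rw [hτ'coe] at h1
      apply Subtype.ext
      apply Subtype.ext
      exact h1
    · intro h
      have h1 : σ (δ : Γ) = 1 := congrArg Subtype.val h
      apply Subtype.ext
      rw [hτ'coe, h1]
      rfl
  have hτ' : IsStemExtension τ' := by
    refine ⟨?_, ?_, ?_⟩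
    · intro y
      obtain ⟨γ, hγ⟩ := hsurj ⟨(y : Equiv.Perm GolayPt), G2_le_G1 y.2⟩
      have hγΔ : γ ∈ (G2.subgroupOf G1).comap σ := by
        show σ γ ∈ G2.subgroupOf G1
        rw [hγ]
        exact Subgroup.mem_subgroupOf.mpr y.2
      refine ⟨⟨γ, hγΔ⟩, ?_⟩
      apply Subtype.ext
      rw [hτ'coe]
      show ((σ γ : ↥G1) : Equiv.Perm GolayPt) = y
      rw [hγ]
    · rw [hker]; exact hτ0.2.1
    · rw [hker]; exact hτ0.2.2
  obtain ⟨a0, b0, κ, ha0, hb0, hκ, hgen, hκ12, hA, hB, hC⟩ :=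
    m22_invariants ↥((G2.subgroupOf G1).comap σ) τ' hτ'
  -- values of words
  have hσW : ∀ w : List ℕ,
      ((σ ((prodw (gc2 a0 b0) w : ↥((G2.subgroupOf G1).comap σ)) : Γ) : ↥G1) :
        Equiv.Perm GolayPt) = valP w := by
    intro w
    have h1 : τ' (prodw (gc2 a0 b0) w) = prodw (gc2 m22xG m22yG) w := by
      rw [map_prodw, ha0, hb0]
    have h2 := congrArg Subtype.val h1
    rw [hτ'coe] at h2
    rw [h2]
    exact map_prodw G2.subtype m22xG m22yG w
  -- κ is central in Γ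
  have hκΓ : ((κ : ↥((G2.subgroupOf G1).comap σ)) : Γ) ∈ σ.ker := by
    rw [MonoidHom.mem_ker]
    have h1 := congrArg Subtype.val (MonoidHom.mem_ker.mp hκ)
    rw [hτ'coe] at h1
    apply Subtype.ext
    exact h1
  have hκc : ∀ t : ℤ, (((κ ^ t : ↥((G2.subgroupOf G1).comap σ))) : Γ) ∈ Subgroup.center Γ := by
    intro t
    rw [Subgroup.coe_zpow]
    exact Subgroup.zpow_mem _ (hcenter hκΓ) t
  have hcomm : ∀ U V : ↥((G2.subgroupOf G1).comap σ),
      ((⁅U, V⁆ : ↥((G2.subgroupOf G1).comap σ)) : Γ) = ⁅(U : Γ), (V : Γ)⁆ := fun U V =>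
    map_commutatorElement ((G2.subgroupOf G1).comap σ).subtype U V
  -- fusion of the pairs A and B
  obtain ⟨gt, hgt⟩ := hsurj m23xG
  have hAB : κ ^ (-162 : ℤ) = κ ^ (-1821 : ℤ) := by
    have hu : σ ((prodw (gc2 a0 b0) wuA : ↥((G2.subgroupOf G1).comap σ)) : Γ) =
        σ (gt * ((prodw (gc2 a0 b0) wuB : ↥((G2.subgroupOf G1).comap σ)) : Γ) * gt⁻¹) := by
      apply Subtype.ext
      rw [map_mul, map_mul, map_inv, hgt, hσW]
      show valP wuA = m23xP * ((σ _ : ↥G1) : Equiv.Perm GolayPt) * m23xP⁻¹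
      rw [hσW, conj_uB, mul_inv_cancel_right]
    have hv : σ ((prodw (gc2 a0 b0) wvA : ↥((G2.subgroupOf G1).comap σ)) : Γ) =
        σ (gt * ((prodw (gc2 a0 b0) wvB : ↥((G2.subgroupOf G1).comap σ)) : Γ) * gt⁻¹) := by
      apply Subtype.ext
      rw [map_mul, map_mul, map_inv, hgt, hσW]
      show valP wvA = m23xP * ((σ _ : ↥G1) : Equiv.Perm GolayPt) * m23xP⁻¹
      rw [hσW, conj_vB, mul_inv_cancel_right]
    have hcz : ⁅((prodw (gc2 a0 b0) wuB : ↥((G2.subgroupOf G1).comap σ)) : Γ),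
        ((prodw (gc2 a0 b0) wvB : ↥((G2.subgroupOf G1).comap σ)) : Γ)⁆ ∈ Subgroup.center Γ := by
      rw [← hcomm, hB]
      exact hκc _
    have h := commutatorElement_conj_lifts σ hcenter gt _ _ _ _ hu hv hcz
    rw [← hcomm, ← hcomm, hA, hB] at h
    exact Subtype.ext h
  -- the pair C
  obtain ⟨nt, hnt⟩ := hsurj ⟨m23iP, m23iP_mem⟩
  have hCC : κ ^ (-40 : ℤ) = (κ ^ (-40 : ℤ))⁻¹ := by
    have hu : σ ((prodw (gc2 a0 b0) wuC : ↥((G2.subgroupOf G1).comap σ)) : Γ) =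
        σ (nt * ((prodw (gc2 a0 b0) wuC : ↥((G2.subgroupOf G1).comap σ)) : Γ) * nt⁻¹) := by
      apply Subtype.ext
      rw [map_mul, map_mul, map_inv, hnt, hσW]
      show valP wuC = m23iP * ((σ _ : ↥G1) : Equiv.Perm GolayPt) * m23iP⁻¹
      rw [hσW, conj_uC, mul_inv_cancel_right]
    have hv : σ (((prodw (gc2 a0 b0) wvC : ↥((G2.subgroupOf G1).comap σ)) : Γ)⁻¹) =
        σ (nt * ((prodw (gc2 a0 b0) wvC : ↥((G2.subgroupOf G1).comap σ)) : Γ) * nt⁻¹) := by
      apply Subtype.ext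
      rw [map_mul, map_mul, map_inv, map_inv, hnt]
      show (((σ _ : ↥G1) : Equiv.Perm GolayPt))⁻¹ =
        m23iP * ((σ _ : ↥G1) : Equiv.Perm GolayPt) * m23iP⁻¹
      rw [hσW, conj_vC, mul_inv_cancel_right]
    have hcz : ⁅((prodw (gc2 a0 b0) wuC : ↥((G2.subgroupOf G1).comap σ)) : Γ),
        ((prodw (gc2 a0 b0) wvC : ↥((G2.subgroupOf G1).comap σ)) : Γ)⁆ ∈ Subgroup.center Γ := by
      rw [← hcomm, hC]
      exact hκc _
    have h := commutatorElement_conj_lifts σ hcenter nt _ _ _ _ hu hv hcz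
    rw [commutatorElement_inv_right_of_central _ _ hcz, ← hcomm, hC] at h
    apply Subtype.ext
    rw [Subgroup.coe_inv]
    exact h.symm
  have hκ1 : κ = 1 := eq_one_of_relations κ hκ12 hAB hCC
  -- conclusion
  rw [Subgroup.eq_bot_iff_forall]
  intro z hz
  have hzΔ : z ∈ (G2.subgroupOf G1).comap σ := by
    show σ z ∈ G2.subgroupOf G1
    rw [MonoidHom.mem_ker.mp hz]
    exact Subgroup.one_mem _
  have hzk : (⟨z, hzΔ⟩ : ↥((G2.subgroupOf G1).comap σ)) ∈ τ'.ker := by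
    rw [MonoidHom.mem_ker]
    apply Subtype.ext
    rw [hτ'coe]
    show ((σ z : ↥G1) : Equiv.Perm GolayPt) = 1
    rw [MonoidHom.mem_ker.mp hz]
    rfl
  obtain ⟨t, ht⟩ := hgen _ hzk
  rw [hκ1, one_zpow] at ht
  exact congrArg Subtype.val ht

/-- the Schur multiplier of `M₂₃` is trivial -/
theorem schur_M23 : HasCyclicSchurMultiplier ↥Spor.M23 1 := by
  obtain ⟨e⟩ := nonempty_sporM23_equiv_G1
  haveI : Finite ↥G1 := Nat.finite_of_card_ne_zero (by
    have : Nat.card ↥G1 = 10200960 := card_fix24_1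
    rw [this]; norm_num)
  haveI : Finite ↥Spor.M23 := Finite.of_equiv _ e.symm.toEquiv
  apply M24Mult.hasCyclic_one_of_ker
  intro Γ _ _ σ hσ
  have hσ' : IsStemExtension (e.toMonoidHom.comp σ) := isStemExtension_comp_mulEquiv σ e hσ
  have h := ker_eq_bot_G1 Γ (e.toMonoidHom.comp σ) hσ'
  rw [ker_comp_mulEquiv'] at h
  exact h

end Cfsg.Agent.Helper27.M23Mult
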