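import Cfsg.Agent.Helper27.M23OutData

/-!
The kernel computations for the automorphisms of the stabiliser of the first point in `M24`. The computations running
over the 3795 involutions are cut into 15 parts.
-/

set_option autoImplicit false

namespace Cfsg.Agent.Helper27

open Cfsg

/-- a Boolean test holds on a list if it holds on its consecutive parts of length `n` -/
theorem all_of_chunks {α : Type*} (L : List α) (P : α → Bool) (n k : ℕ) (hn : 0 < n)
    (hlen : L.length ≤ k * n)
    (h : ∀ i < k, ((L.drop (i * n)).take n).all P = true) : L.all P = true := by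
  rw [List.all_eq_true]
  intro T hT
  obtain ⟨j, hj, rfl⟩ := List.mem_iff_getElem.mp hT
  have hi : j / n < k := by
    apply Nat.div_lt_of_lt_mul
    calc j < L.length := hj
      _ ≤ k * n := hlen
      _ = n * k := Nat.mul_comm _ _
  have h1 := List.all_eq_true.mp (h (j / n) hi)
  apply h1
  have hdrop : j / n * n + j % n = j := by rw [Nat.mul_comm]; exact Nat.div_add_mod j n
  have hmod : j % n < n := Nat.mod_lt _ hn
  have hl1 : j % n < (L.drop (j / n * n)).length := by rw [List.length_drop]; omega
  have hl2 : j % n < ((L.drop (j / n * n)).take n).length := by rw [List.length_take]; exact lt_min hmod hl1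
  have : L[j] = ((L.drop (j / n * n)).take n)[j % n] := by
    rw [List.getElem_take, List.getElem_drop]
    congr 1
    exact hdrop.symm
  rw [this]
  exact List.getElem_mem _

/-- the table of the word `x t x² t x⁴ t` -/
def w124T (X T : List ℕ) : List ℕ :=
  compT (compT (compT (compT (compT X T) (compT X X)) T) (compT (compT X X) (compT X X))) T

theorem m23X_valid : validTbl m23X = true := by decide +kernel
theorem m23Xi_valid : validTbl m23Xi = true := by decide +kernel
theorem m23N_valid : validTbl m23N = true := by decide +kernel
theorem m23Y_valid : validTbl m23Y = true := by decide +kernel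

theorem m23X_cert : certFix tblInCode [0] m23X = true := by decide +kernel
theorem m23N_cert : certFix tblInCode [0] m23N = true := by decide +kernel
theorem m23Y_cert : certFix tblInCode [0] m23Y = true := by decide +kernel

theorem m23X_order : orderOK m23X 23 = true := by decide +kernel

theorem m23X_inv : compT m23X m23Xi = idT := by decide +kernel

theorem m23N_norm : compT m23N m23X = compT (compT m23X m23X) m23N := by decide +kernel

theorem m23Y_order : orderOK m23Y 2 = true := by decide +kernel

theorem m23Y_word : (powId (compT m23X m23Y) 7 && powId (w124T m23X m23Y) 3) = true := by decide +kernel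

theorem m23Y_fix : (List.range 24).filter (fun i => m23Y.getD i 0 == i) = m23Fix := by decide +kernel

theorem m23_cover : checkCover (slpRun [m23X, m23Y, idT] m23Prog)
    (m23L0 ++ m23L1 ++ m23L2 ++ m23L3 ++ m23L4 ++ m23L5) = true := by decide +kernel

theorem m23OK0 : transOKH tblInCode [0] m23L0 = true := by decide +kernel
theorem m23OK1 : transOKH tblInCode [1, 0] m23L1 = true := by decide +kernel
theorem m23OK2 : transOKH tblInCode [2, 1, 0] m23L2 = true := by decide +kernel
theorem m23OK3 : transOKH tblInCode [3, 2, 1, 0] m23L3 = true := by decide +kernel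
theorem m23OK4 : transOKH tblInCode [4, 3, 2, 1, 0] m23L4 = true := by decide +kernel
theorem m23OK5 : transOKH tblInCode [5, 4, 3, 2, 1, 0] m23L5 = true := by decide +kernel

theorem m23Img0 : transImg 1 m23L0 = onesMask ^^^ tblMask [0] := by decide +kernel
theorem m23Img1 : transImg 2 m23L1 = onesMask ^^^ tblMask [1, 0] := by decide +kernel
theorem m23Img2 : transImg 3 m23L2 = onesMask ^^^ tblMask [2, 1, 0] := by decide +kernel
theorem m23Img3 : transImg 4 m23L3 = onesMask ^^^ tblMask [3, 2, 1, 0] := by decide +kernel
theorem m23Img4 : transImg 5 m23L4 = onesMask ^^^ oct5 := by decide +kernel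
theorem m23Img5 : transImg 7 m23L5 = oct5 ^^^ (oct5 &&& 63) := by decide +kernel

theorem m23Inv_length : m23Inv.length = 3795 := by decide +kernel
theorem m23PiX_length : m23PiX.length = 3795 := by decide +kernel
theorem m23PiY_length : m23PiY.length = 3795 := by decide +kernel

theorem m23Inv_y : m23Inv.contains m23Y = true := by decide +kernel

theorem m23Conj_length : m23Conj.length = 23 := by decide
theorem m23XPow_length : m23XPow.length = 23 := by decide

/-- the conjugates of `y` under the powers of `x` -/
theorem m23Conj_ok : (m23XPow.zip m23Conj).all (fun ct => validTbl ct.1 && certFix tblInCode [0] ct.1 &&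
    (compT ct.1 m23X == compT m23X ct.1) && (compT ct.2 ct.1 == compT ct.1 m23Y)) = true := by
  decide +kernel

theorem m23Fix_length : m23Fix.length = 8 := by decide
theorem m23C_length : m23C.length = 8 := by decide

/-- elements of the centraliser of `y` in `M24` moving the fixed points of `y` to the first point -/
theorem m23C_ok : (m23Fix.zip m23C).all (fun fc => validTbl fc.2 && tblInCode fc.2 &&
    (compT fc.2 m23Y == compT m23Y fc.2) && (fc.2.getD fc.1 0 == 0)) = true := by
  decide +kernel

theorem m23Inv_valid_c0 : (((m23Inv).drop (0 * 256)).take 256).all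
    (validTbl) = true := by
  decide +kernel

theorem m23Inv_valid_c1 : (((m23Inv).drop (1 * 256)).take 256).all
    (validTbl) = true := by
  decide +kernel

theorem m23Inv_valid_c2 : (((m23Inv).drop (2 * 256)).take 256).all
    (validTbl) = true := by
  decide +kernel

theorem m23Inv_valid_c3 : (((m23Inv).drop (3 * 256)).take 256).all
    (validTbl) = true := by
  decide +kernel

theorem m23Inv_valid_c4 : (((m23Inv).drop (4 * 256)).take 256).all
    (validTbl) = true := by
  decide +kernel

theorem m23Inv_valid_c5 : (((m23Inv).drop (5 * 256)).take 256).all
    (validTbl) = true := by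
  decide +kernel

theorem m23Inv_valid_c6 : (((m23Inv).drop (6 * 256)).take 256).all
    (validTbl) = true := by
  decide +kernel

theorem m23Inv_valid_c7 : (((m23Inv).drop (7 * 256)).take 256).all
    (validTbl) = true := by
  decide +kernel

theorem m23Inv_valid_c8 : (((m23Inv).drop (8 * 256)).take 256).all
    (validTbl) = true := by
  decide +kernel

theorem m23Inv_valid_c9 : (((m23Inv).drop (9 * 256)).take 256).all
    (validTbl) = true := by
  decide +kernel

theorem m23Inv_valid_c10 : (((m23Inv).drop (10 * 256)).take 256).all
    (validTbl) = true := by
  decide +kernel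

theorem m23Inv_valid_c11 : (((m23Inv).drop (11 * 256)).take 256).all
    (validTbl) = true := by
  decide +kernel

theorem m23Inv_valid_c12 : (((m23Inv).drop (12 * 256)).take 256).all
    (validTbl) = true := by
  decide +kernel

theorem m23Inv_valid_c13 : (((m23Inv).drop (13 * 256)).take 256).all
    (validTbl) = true := by
  decide +kernel

theorem m23Inv_valid_c14 : (((m23Inv).drop (14 * 256)).take 256).all
    (validTbl) = true := by
  decide +kernel

/-- the tables of the involutions are valid -/
theorem m23Inv_valid : (m23Inv).all
    (validTbl) = true :=
  all_of_chunks _ _ 256 15 (by norm_num) (by rw [m23Inv_length]; norm_num) (by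
    intro i hi
    interval_cases i
    · exact m23Inv_valid_c0
    · exact m23Inv_valid_c1
    · exact m23Inv_valid_c2
    · exact m23Inv_valid_c3
    · exact m23Inv_valid_c4
    · exact m23Inv_valid_c5
    · exact m23Inv_valid_c6
    · exact m23Inv_valid_c7
    · exact m23Inv_valid_c8
    · exact m23Inv_valid_c9
    · exact m23Inv_valid_c10
    · exact m23Inv_valid_c11
    · exact m23Inv_valid_c12
    · exact m23Inv_valid_c13
    · exact m23Inv_valid_c14)

end Cfsg.Agent.Helper27
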