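import Cfsg.Agent.Helper27.M23OutCheck

/-!
The kernel computation for the stabiliser of the first point in `M24`: the list of involutions is closed under
conjugation by the element of order 23.
-/

set_option autoImplicit false

namespace Cfsg.Agent.Helper27

open Cfsg

theorem m23Inv_closed_x_c0 : (((m23Inv.zip m23PiX).drop (0 * 256)).take 256).all
    (fun tj => decide (tj.2 < 3795) && (compT m23X tj.1 == compT (m23Inv.getD tj.2 []) m23X)) = true := by
  decide +kernel

theorem m23Inv_closed_x_c1 : (((m23Inv.zip m23PiX).drop (1 * 256)).take 256).all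
    (fun tj => decide (tj.2 < 3795) && (compT m23X tj.1 == compT (m23Inv.getD tj.2 []) m23X)) = true := by
  decide +kernel

theorem m23Inv_closed_x_c2 : (((m23Inv.zip m23PiX).drop (2 * 256)).take 256).all
    (fun tj => decide (tj.2 < 3795) && (compT m23X tj.1 == compT (m23Inv.getD tj.2 []) m23X)) = true := by
  decide +kernel

theorem m23Inv_closed_x_c3 : (((m23Inv.zip m23PiX).drop (3 * 256)).take 256).all
    (fun tj => decide (tj.2 < 3795) && (compT m23X tj.1 == compT (m23Inv.getD tj.2 []) m23X)) = true := by
  decide +kernel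

theorem m23Inv_closed_x_c4 : (((m23Inv.zip m23PiX).drop (4 * 256)).take 256).all
    (fun tj => decide (tj.2 < 3795) && (compT m23X tj.1 == compT (m23Inv.getD tj.2 []) m23X)) = true := by
  decide +kernel

theorem m23Inv_closed_x_c5 : (((m23Inv.zip m23PiX).drop (5 * 256)).take 256).all
    (fun tj => decide (tj.2 < 3795) && (compT m23X tj.1 == compT (m23Inv.getD tj.2 []) m23X)) = true := by
  decide +kernel

theorem m23Inv_closed_x_c6 : (((m23Inv.zip m23PiX).drop (6 * 256)).take 256).all
    (fun tj => decide (tj.2 < 3795) && (compT m23X tj.1 == compT (m23Inv.getD tj.2 []) m23X)) = true := by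
  decide +kernel

theorem m23Inv_closed_x_c7 : (((m23Inv.zip m23PiX).drop (7 * 256)).take 256).all
    (fun tj => decide (tj.2 < 3795) && (compT m23X tj.1 == compT (m23Inv.getD tj.2 []) m23X)) = true := by
  decide +kernel

theorem m23Inv_closed_x_c8 : (((m23Inv.zip m23PiX).drop (8 * 256)).take 256).all
    (fun tj => decide (tj.2 < 3795) && (compT m23X tj.1 == compT (m23Inv.getD tj.2 []) m23X)) = true := by
  decide +kernel

theorem m23Inv_closed_x_c9 : (((m23Inv.zip m23PiX).drop (9 * 256)).take 256).all
    (fun tj => decide (tj.2 < 3795) && (compT m23X tj.1 == compT (m23Inv.getD tj.2 []) m23X)) = true := by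
  decide +kernel

theorem m23Inv_closed_x_c10 : (((m23Inv.zip m23PiX).drop (10 * 256)).take 256).all
    (fun tj => decide (tj.2 < 3795) && (compT m23X tj.1 == compT (m23Inv.getD tj.2 []) m23X)) = true := by
  decide +kernel

theorem m23Inv_closed_x_c11 : (((m23Inv.zip m23PiX).drop (11 * 256)).take 256).all
    (fun tj => decide (tj.2 < 3795) && (compT m23X tj.1 == compT (m23Inv.getD tj.2 []) m23X)) = true := by
  decide +kernel

theorem m23Inv_closed_x_c12 : (((m23Inv.zip m23PiX).drop (12 * 256)).take 256).all
    (fun tj => decide (tj.2 < 3795) && (compT m23X tj.1 == compT (m23Inv.getD tj.2 []) m23X)) = true := by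
  decide +kernel

theorem m23Inv_closed_x_c13 : (((m23Inv.zip m23PiX).drop (13 * 256)).take 256).all
    (fun tj => decide (tj.2 < 3795) && (compT m23X tj.1 == compT (m23Inv.getD tj.2 []) m23X)) = true := by
  decide +kernel

theorem m23Inv_closed_x_c14 : (((m23Inv.zip m23PiX).drop (14 * 256)).take 256).all
    (fun tj => decide (tj.2 < 3795) && (compT m23X tj.1 == compT (m23Inv.getD tj.2 []) m23X)) = true := by
  decide +kernel

/-- the list of involutions is closed under conjugation by `x` -/
theorem m23Inv_closed_x : (m23Inv.zip m23PiX).all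
    (fun tj => decide (tj.2 < 3795) && (compT m23X tj.1 == compT (m23Inv.getD tj.2 []) m23X)) = true :=
  all_of_chunks _ _ 256 15 (by norm_num) (by rw [List.length_zip, m23Inv_length, m23PiX_length]; norm_num) (by
    intro i hi
    interval_cases i
    · exact m23Inv_closed_x_c0
    · exact m23Inv_closed_x_c1
    · exact m23Inv_closed_x_c2
    · exact m23Inv_closed_x_c3
    · exact m23Inv_closed_x_c4
    · exact m23Inv_closed_x_c5
    · exact m23Inv_closed_x_c6
    · exact m23Inv_closed_x_c7
    · exact m23Inv_closed_x_c8
    · exact m23Inv_closed_x_c9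
    · exact m23Inv_closed_x_c10
    · exact m23Inv_closed_x_c11
    · exact m23Inv_closed_x_c12
    · exact m23Inv_closed_x_c13
    · exact m23Inv_closed_x_c14)

end Cfsg.Agent.Helper27
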