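import Cfsg.Agent.Helper27.ScottRee
import Cfsg.Agent.Helper27.M24InvolClass
import Cfsg.Agent.Helper27.M24ThreeClass

/-!
The inequality of Ree and Scott in the Mathieu group of degree 23: triples of elements of small prime orders with
product one do not generate the group.
-/

set_option autoImplicit false

namespace Cfsg.Agent.Helper27

open Cfsg
open scoped Pointwise

theorem card_golayPt_eq : Fintype.card GolayPt = 24 := by
  rfl

theorem sporM23_apply_none {g : Equiv.Perm GolayPt} (hg : g ∈ Spor.M23) : g none = none := by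
  rw [Spor.M23, Subgroup.mem_inf, MulAction.mem_stabilizer_iff] at hg
  exact hg.2

theorem sporM23_le_M24 {g : Equiv.Perm GolayPt} (hg : g ∈ Spor.M23) : g ∈ M24 := by
  rw [Spor.M23, Subgroup.mem_inf] at hg
  exact hg.1

theorem fixCard_pos_of_sporM23 {g : Equiv.Perm GolayPt} (hg : g ∈ Spor.M23) :
    1 ≤ (Finset.univ.filter fun p => g p = p).card := by
  apply Finset.card_pos.mpr
  exact ⟨none, Finset.mem_filter.mpr ⟨Finset.mem_univ _, sporM23_apply_none hg⟩⟩

theorem fixCard_modEq {g : Equiv.Perm GolayPt} {p : ℕ} (hp : p.Prime) (hord : orderOf g = p) :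
    (Finset.univ.filter fun a => g a = a).card ≡ 24 [MOD p] := by
  haveI : Fact p.Prime := ⟨hp⟩
  have h1 : g ^ p ^ 1 = 1 := by
    rw [pow_one, ← hord]
    exact pow_orderOf_eq_one g
  have h2 := Equiv.Perm.card_compl_support_modEq h1
  rw [card_golayPt_eq] at h2
  have e : (Finset.univ.filter fun a => g a = a) = g.supportᶜ := by
    ext a
    simp [Equiv.Perm.mem_support]
  rw [e]
  exact h2

theorem permRk_le_of_two {g : Equiv.Perm GolayPt} (hg : g ∈ Spor.M23) (hord : orderOf g = 2) : permRk g ≤ 8 := by
  have hfix : (Finset.univ.filter fun p => g p = p).card = 8 := by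
    rcases invol_class (sporM23_le_M24 hg) hord with ⟨h1, -⟩ | ⟨h1, -⟩
    · exact absurd (sporM23_apply_none hg) (h1 none)
    · exact h1.2
  have h := permRk_bound g
  rw [hord, hfix, card_golayPt_eq] at h
  omega

theorem permRk_le_of_three {g : Equiv.Perm GolayPt} (hg : g ∈ Spor.M23) (hord : orderOf g = 3) :
    permRk g ≤ 12 := by
  have hfix : (Finset.univ.filter fun p => g p = p).card = 6 := by
    rcases three_class_fixed (sporM23_le_M24 hg) hord with ⟨h1, -⟩ | ⟨h1, -⟩
    · exact h1
    · have := fixCard_pos_of_sporM23 hg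
      omega
  have h := permRk_bound g
  rw [hord, hfix, card_golayPt_eq] at h
  omega

theorem permRk_le_of_five {g : Equiv.Perm GolayPt} (hord : orderOf g = 5) : permRk g ≤ 16 := by
  have hmod := fixCard_modEq (by norm_num : Nat.Prime 5) hord
  have h := permRk_bound g
  rw [hord, card_golayPt_eq] at h
  unfold Nat.ModEq at hmod
  omega

theorem permRk_le_of_seven {g : Equiv.Perm GolayPt} (hord : orderOf g = 7) : permRk g ≤ 18 := by
  have hmod := fixCard_modEq (by norm_num : Nat.Prime 7) hord
  have h := permRk_bound g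
  rw [hord, card_golayPt_eq] at h
  unfold Nat.ModEq at hmod
  omega

theorem permRk_le_of_prime {g : Equiv.Perm GolayPt} (hg : g ∈ Spor.M23) {p : ℕ} (hp : p.Prime)
    (hord : orderOf g = p) : permRk g ≤ 22 := by
  have hpos := fixCard_pos_of_sporM23 hg
  have h := permRk_bound g
  rw [hord, card_golayPt_eq] at h
  by_contra hcon
  have h23 : 23 ≤ permRk g := by omega
  have h1 : p * 23 ≤ p * permRk g := Nat.mul_le_mul_left _ h23
  have h2 : (p - 1) * 1 ≤ (p - 1) * (Finset.univ.filter fun a => g a = a).card := Nat.mul_le_mul_left _ hpos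
  have hp2 := hp.two_le
  have h3 : p * 24 = p * 23 + p := by ring
  omega

/-- the inequality of Ree and Scott in the Mathieu group of degree 23 -/
theorem sporM23_ree {x y z : Equiv.Perm GolayPt} (hxyz : x * y * z = 1)
    (hgen : Subgroup.closure ({x, y} : Set (Equiv.Perm GolayPt)) = Spor.M23) :
    44 ≤ permRk x + permRk y + permRk z := by
  have h := scott_ree x y z hxyz ![(none : GolayPt), some 0] (by
    intro a
    cases a with
    | none => exact ⟨0, 1, Subgroup.one_mem _, rfl⟩
    | some t =>
      have hx : Function.Injective ![(none : GolayPt), some 0] := by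
        intro i j hij
        fin_cases i <;> fin_cases j <;> simp_all
      have hy : Function.Injective ![(none : GolayPt), some t] := by
        intro i j hij
        fin_cases i <;> fin_cases j <;> simp_all
      obtain ⟨g, hg, hmap⟩ := exists_M24_map_k (by norm_num : 2 ≤ 5) _ _ hx hy
      refine ⟨1, g, ?_, hmap 1⟩
      rw [hgen, Spor.M23, Subgroup.mem_inf, MulAction.mem_stabilizer_iff]
      exact ⟨hg, hmap 0⟩)
  rw [card_golayPt_eq] at h
  omega

/-- the triples of prime orders excluded by the inequality -/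
theorem sporM23_not_generated (p q r : ℕ) (hr : r.Prime)
    (hbad : (p = 2 ∧ q = 3) ∨ (p = 2 ∧ q = 5 ∧ r = 5) ∨ (p = 2 ∧ q = 5 ∧ r = 7) ∨ (p = 3 ∧ q = 3 ∧ r ≤ 7)) :
    ¬ ∃ x y z : Spor.M23, orderOf x = p ∧ orderOf y = q ∧ orderOf z = r ∧ x * y * z = 1 ∧
        Subgroup.closure {x, y} = ⊤ := by
  rintro ⟨x, y, z, hx, hy, hz, hxyz, hgen⟩
  have hx' : orderOf (x : Equiv.Perm GolayPt) = p := by rw [Subgroup.orderOf_coe, hx]
  have hy' : orderOf (y : Equiv.Perm GolayPt) = q := by rw [Subgroup.orderOf_coe, hy]
  have hz' : orderOf (z : Equiv.Perm GolayPt) = r := by rw [Subgroup.orderOf_coe, hz]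
  have hxyz' : (x : Equiv.Perm GolayPt) * y * z = 1 := by
    have := congrArg (Subtype.val) hxyz
    simpa using this
  have hgen' : Subgroup.closure ({(x : Equiv.Perm GolayPt), (y : Equiv.Perm GolayPt)} : Set (Equiv.Perm GolayPt)) =
      Spor.M23 := by
    have h1 : (Subgroup.closure ({x, y} : Set ↥Spor.M23)).map Spor.M23.subtype =
        Subgroup.closure ({(x : Equiv.Perm GolayPt), (y : Equiv.Perm GolayPt)} : Set (Equiv.Perm GolayPt)) := by
      rw [MonoidHom.map_closure]
      congr 1
      rw [Set.image_insert_eq, Set.image_singleton]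
      rfl
    rw [← h1, hgen, ← MonoidHom.range_eq_map, Subgroup.range_subtype]
  have hree := sporM23_ree hxyz' hgen'
  have hzb := permRk_le_of_prime z.2 hr hz'
  rcases hbad with ⟨rfl, rfl⟩ | ⟨rfl, rfl, rfl⟩ | ⟨rfl, rfl, rfl⟩ | ⟨rfl, rfl, hr7⟩
  · have h1 := permRk_le_of_two x.2 hx'
    have h2 := permRk_le_of_three y.2 hy'
    omega
  · have h1 := permRk_le_of_two x.2 hx'
    have h2 := permRk_le_of_five hy'
    have h3 := permRk_le_of_five hz'
    omega
  · have h1 := permRk_le_of_two x.2 hx'
    have h2 := permRk_le_of_five hy'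
    have h3 := permRk_le_of_seven hz'
    omega
  · have h1 := permRk_le_of_three x.2 hx'
    have h2 := permRk_le_of_three y.2 hy'
    have h3 : permRk (z : Equiv.Perm GolayPt) ≤ 18 := by
      have hr2 := hr.two_le
      interval_cases r
      · have := permRk_le_of_two z.2 hz'
        omega
      · have := permRk_le_of_three z.2 hz'
        omega
      · exact absurd hr (by norm_num)
      · have := permRk_le_of_five hz'
        omega
      · exact absurd hr (by norm_num)
      · exact permRk_le_of_seven hz'
    omega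

end Cfsg.Agent.Helper27
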