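import Cfsg.Agent.Helper27.M24Octad

/-!
The minimal base size of `Cfsg.M24` on the 24 points is seven.
-/

set_option autoImplicit false

namespace Cfsg.Agent.Helper27

open Cfsg
open scoped Pointwise

/-- the pointwise stabiliser of a set of `n` points has index at most `24 ^ n` -/
theorem card_M24_le_fixG (B : Finset GolayPt) : Nat.card M24 ≤ 24 ^ B.card * Nat.card (fixG B) := by
  induction B using Finset.induction_on with
  | empty => simp [fixG_empty]
  | insert a F ha ih =>
    rw [Finset.card_insert_of_notMem ha]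
    have h := card_fixG_insert F a
    have hle : (orbitSet (fixG F) a).ncard ≤ 24 := by
      calc (orbitSet (fixG F) a).ncard ≤ (Set.univ : Set GolayPt).ncard := Set.ncard_le_ncard (Set.subset_univ _)
        _ = 24 := by rw [Set.ncard_univ, card_GolayPt]
    calc Nat.card M24 ≤ 24 ^ F.card * Nat.card (fixG F) := ih
      _ = 24 ^ F.card * ((orbitSet (fixG F) a).ncard * Nat.card (fixG (insert a F))) := by rw [h]
      _ ≤ 24 ^ F.card * (24 * Nat.card (fixG (insert a F))) :=
        Nat.mul_le_mul_left _ (Nat.mul_le_mul_right _ hle)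
      _ = 24 ^ (F.card + 1) * Nat.card (fixG (insert a F)) := by ring

theorem exists_ne_one_fixing {B : Finset GolayPt} (hB : B.card ≤ 6) :
    ∃ g ∈ M24, g ≠ 1 ∧ ∀ b ∈ B, g b = b := by
  have h := card_M24_le_fixG B
  rw [card_M24] at h
  have hpow : 24 ^ B.card ≤ 24 ^ 6 := Nat.pow_le_pow_right (by norm_num) hB
  have h2 : 1 < Nat.card (fixG B) := by
    by_contra hcon
    have hle : Nat.card (fixG B) ≤ 1 := by omega
    have : 24 ^ B.card * Nat.card (fixG B) ≤ 24 ^ 6 * 1 := Nat.mul_le_mul hpow hle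
    norm_num at this
    omega
  have : Finite (fixG B) := Subtype.finite
  rw [Finite.one_lt_card_iff_nontrivial] at h2
  obtain ⟨g, hg⟩ := exists_ne (1 : fixG B)
  have hg' := (mem_fixG B g.1).mp g.2
  refine ⟨g.1, hg'.1, ?_, hg'.2⟩
  intro h1
  exact hg (Subtype.ext h1)

theorem base_size_seven :
    (∀ B : Finset GolayPt, B.card ≤ 6 → ∃ g ∈ M24, g ≠ 1 ∧ ∀ b ∈ B, g b = b) ∧
    (∃ B : Finset GolayPt, B.card = 7 ∧ ∀ g ∈ M24, (∀ b ∈ B, g b = b) → g = 1) := by
  refine ⟨fun B hB => exists_ne_one_fixing hB, ptsOf [7, 5, 4, 3, 2, 1, 0], ?_, ?_⟩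
  · have hfix : ∀ f ∈ ([7, 5, 4, 3, 2, 1, 0] : List ℕ), f < 24 := fixed_lt_24 (by decide)
    rw [ptsOf_eq_maskSet hfix, card_maskSet]
    decide +kernel
  · intro g hg hfix
    have : g ∈ fixG (ptsOf [7, 5, 4, 3, 2, 1, 0]) := (mem_fixG _ g).mpr ⟨hg, hfix⟩
    rw [fixG_base_eq_bot, Subgroup.mem_bot] at this
    exact this

end Cfsg.Agent.Helper27
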