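import Cfsg.Agent.Helper27.GolaySteiner
import Cfsg.Agent.Helper27.GolayPerm

/-!
Fixed-point propagation in `Cfsg.M24`: an element fixing five points of an octad fixes the octad, and certificates
proving that the pointwise stabiliser of a set of points is trivial.
-/

set_option autoImplicit false

namespace Cfsg.Agent.Helper27

open Cfsg
open scoped Pointwise

/-! ### Sets of points given by masks -/

/-- the set of points whose bit is set -/
def maskSet (n : ℕ) : Finset GolayPt := support₂ (decW n)

theorem mem_maskSet (n : ℕ) (q : GolayPt) : q ∈ maskSet n ↔ n.testBit (idx q) = true :=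
  mem_support_decW n q

theorem maskSet_and (a b : ℕ) : maskSet (a &&& b) = maskSet a ∩ maskSet b := by
  ext q
  simp [mem_maskSet, Nat.testBit_and]

theorem maskSet_or (a b : ℕ) : maskSet (a ||| b) = maskSet a ∪ maskSet b := by
  ext q
  simp [mem_maskSet, Nat.testBit_or]

theorem maskSet_xor_and (a b : ℕ) : maskSet (a ^^^ (a &&& b)) = maskSet a \ maskSet b := by
  ext q
  simp only [mem_maskSet, Nat.testBit_xor, Nat.testBit_and, Finset.mem_sdiff]
  cases a.testBit (idx q) <;> cases b.testBit (idx q) <;> simp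

theorem maskSet_two_pow {p : ℕ} (hp : p < 24) : maskSet (2 ^ p) = {pt p} := by
  ext q
  rw [mem_maskSet, Nat.testBit_two_pow, Finset.mem_singleton]
  simp only [decide_eq_true_eq]
  constructor
  · intro h
    rw [h, pt_idx]
  · intro h
    rw [h, idx_pt hp]

theorem card_maskSet (n : ℕ) : (maskSet n).card = popc 24 n := card_support_decW n

theorem maskSet_ones : maskSet onesMask = Finset.univ := by
  ext q
  rw [mem_maskSet]
  simp only [Finset.mem_univ, iff_true]
  have : ∀ i < 24, onesMask.testBit i = true := by decide +kernel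
  exact this _ (idx_lt q)

/-- a mask of an octad -/
def isOct (o : ℕ) : Bool := Nat.blt o 16777216 && (cw (o % 4096) == o) && (popc 24 o == 8)

theorem maskSet_mem_octads {o : ℕ} (h : isOct o = true) : maskSet o ∈ octads := by
  simp only [isOct, Bool.and_eq_true, beq_iff_eq, Nat.blt_eq] at h
  obtain ⟨⟨h1, h2⟩, h3⟩ := h
  have hmem : decW o ∈ golayCode := (decW_mem_iff (by norm_num at h1 ⊢; exact h1)).mpr h2
  exact ⟨⟨decW o, hmem, rfl⟩, by rw [card_maskSet, h3]⟩

/-! ### Octads under `M24` -/

theorem smul_octad_mem {σ : Equiv.Perm GolayPt} (hσ : σ ∈ M24) {O : Finset GolayPt} (hO : O ∈ octads) :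
    σ • O ∈ octads := by
  have h1 : σ ∈ MulAction.stabilizer (Equiv.Perm GolayPt) (supports (golayCode : Set (GolayPt → ZMod 2))) := hσ
  rw [MulAction.mem_stabilizer_set' supports_finite] at h1
  exact ⟨h1 hO.1, by rw [Finset.card_smul_finset, hO.2]⟩

theorem mem_smul_finset_perm (σ : Equiv.Perm GolayPt) (s : Finset GolayPt) (q : GolayPt) :
    σ q ∈ σ • s ↔ q ∈ s := by
  rw [← Equiv.Perm.smul_def, Finset.smul_mem_smul_finset_iff]

/-- an element of `M24` fixing five points of an octad fixes the octad -/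
theorem octad_fixed {σ : Equiv.Perm GolayPt} (hσ : σ ∈ M24) {O : Finset GolayPt} (hO : O ∈ octads)
    {F : Finset GolayPt} (hF : ∀ q ∈ F, σ q = q) (h5 : 5 ≤ (O ∩ F).card) : σ • O = O := by
  apply octad_eq_of_inter (smul_octad_mem hσ hO) hO
  have hsub : O ∩ F ⊆ σ • O ∩ O := by
    intro q hq
    rw [Finset.mem_inter] at hq ⊢
    refine ⟨?_, hq.1⟩
    rw [← hF q hq.2, mem_smul_finset_perm]
    exact hq.1
  exact le_trans h5 (Finset.card_le_card hsub)

/-- a set is invariant under `σ` -/
def InvSet (σ : Equiv.Perm GolayPt) (X : Finset GolayPt) : Prop := σ • X = X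

theorem InvSet.apply_mem {σ : Equiv.Perm GolayPt} {X : Finset GolayPt} (h : InvSet σ X) {q : GolayPt}
    (hq : q ∈ X) : σ q ∈ X := by
  rw [← h, mem_smul_finset_perm]
  exact hq

theorem InvSet.inter {σ : Equiv.Perm GolayPt} {X Y : Finset GolayPt} (hX : InvSet σ X) (hY : InvSet σ Y) :
    InvSet σ (X ∩ Y) := by
  unfold InvSet at *
  rw [Finset.smul_finset_inter, hX, hY]

/-- a new fixed point: the only non-fixed point of an invariant set -/
theorem fixed_of_invSet {σ : Equiv.Perm GolayPt} {X F : Finset GolayPt} (hX : InvSet σ X)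
    (hF : ∀ q ∈ F, σ q = q) {p : GolayPt} (hp : X \ F = {p}) : σ p = p := by
  have hpX : p ∈ X \ F := by rw [hp]; exact Finset.mem_singleton_self p
  rw [Finset.mem_sdiff] at hpX
  have h1 : σ p ∈ X := hX.apply_mem hpX.1
  have h2 : σ p ∉ F := by
    intro h
    have := hF _ h
    have h3 : σ p = p := σ.injective this
    rw [h3] at h
    exact hpX.2 h
  have : σ p ∈ X \ F := Finset.mem_sdiff.mpr ⟨h1, h2⟩
  rw [hp, Finset.mem_singleton] at this
  exact this

/-! ### Certificates for trivial pointwise stabilisers -/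

/-- one propagation step: `o1`, `o2` are masks of sets known to be invariant (octads with five fixed points, or members
of the list `inv` of given invariant masks); the intersection has exactly one point `p` outside the fixed set `F` -/
def stepOK (inv : List ℕ) (F o1 o2 p : ℕ) : Bool :=
  ((isOct o1 && Nat.ble 5 (popc 24 (o1 &&& F))) || inv.contains o1) &&
  ((isOct o2 && Nat.ble 5 (popc 24 (o2 &&& F))) || inv.contains o2) &&
  Nat.blt p 24 && ((o1 &&& o2) ^^^ ((o1 &&& o2) &&& F) == 2 ^ p)

/-- check a whole certificate -/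
def checkCert (inv : List ℕ) : ℕ → List (ℕ × ℕ × ℕ) → Bool
  | F, [] => F == onesMask
  | F, (o1, o2, p) :: rest => stepOK inv F o1 o2 p && checkCert inv (F ||| 2 ^ p) rest

theorem invSet_of_ok {σ : Equiv.Perm GolayPt} (hσ : σ ∈ M24) {inv : List ℕ}
    (hinv : ∀ m ∈ inv, InvSet σ (maskSet m)) {F o : ℕ} (hF : ∀ q ∈ maskSet F, σ q = q)
    (h : ((isOct o && Nat.ble 5 (popc 24 (o &&& F))) || inv.contains o) = true) : InvSet σ (maskSet o) := by
  rw [Bool.or_eq_true] at h
  rcases h with h | h
  · rw [Bool.and_eq_true] at h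
    apply octad_fixed hσ (maskSet_mem_octads h.1) hF
    rw [← maskSet_and, card_maskSet]
    exact Nat.le_of_ble_eq_true h.2
  · rw [List.contains_iff_mem] at h
    exact hinv o h

theorem checkCert_sound {σ : Equiv.Perm GolayPt} (hσ : σ ∈ M24) {inv : List ℕ}
    (hinv : ∀ m ∈ inv, InvSet σ (maskSet m)) (cert : List (ℕ × ℕ × ℕ)) :
    ∀ F : ℕ, checkCert inv F cert = true → (∀ q ∈ maskSet F, σ q = q) → σ = 1 := by
  induction cert with
  | nil =>
    intro F h hF
    simp only [checkCert, beq_iff_eq] at h
    rw [h, maskSet_ones] at hF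
    apply Equiv.ext
    intro q
    exact hF q (Finset.mem_univ q)
  | cons s rest ih =>
    obtain ⟨o1, o2, p⟩ := s
    intro F h hF
    simp only [checkCert, Bool.and_eq_true] at h
    obtain ⟨hstep, hrest⟩ := h
    simp only [stepOK, Bool.and_eq_true, beq_iff_eq, Nat.blt_eq] at hstep
    obtain ⟨⟨⟨h1, h2⟩, hp⟩, heq⟩ := hstep
    have hI1 := invSet_of_ok hσ hinv hF h1
    have hI2 := invSet_of_ok hσ hinv hF h2
    have hI := hI1.inter hI2
    rw [← maskSet_and] at hI
    have hsd : maskSet (o1 &&& o2) \ maskSet F = {pt p} := by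
      rw [← maskSet_xor_and, heq, maskSet_two_pow hp]
    have hfix : σ (pt p) = pt p := fixed_of_invSet hI hF hsd
    apply ih _ hrest
    intro q hq
    rw [maskSet_or, Finset.mem_union, maskSet_two_pow hp, Finset.mem_singleton] at hq
    rcases hq with hq | hq
    · exact hF q hq
    · rw [hq]; exact hfix

end Cfsg.Agent.Helper27
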