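import Cfsg.Agent.Helper27.M24Octad
import Cfsg.Agent.Helper27.M24Trans
import Cfsg.Agent.Helper27.M24Gen
import Cfsg.Agent.Helper27.SimpleTools
import Cfsg.Agent.Helper27.M22Outer

/-!
The involutions of `Cfsg.M24`: an involution is conjugate to one interchanging the first two pairs of base points,
and the 960 elements with these images are enumerated along the stabiliser chain.
-/

set_option autoImplicit false

namespace Cfsg.Agent.Helper27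

open Cfsg
open scoped Pointwise

/-- all products of an initial table with one table from each list -/
def allProdM : List (List (List ℕ)) → List ℕ → (List ℕ → Bool) → Bool
  | [], acc, P => P acc
  | L :: rest, acc, P => L.all (fun T => allProdM rest (compT acc T) P)

theorem represents_unique {g h : Equiv.Perm GolayPt} {T : List ℕ} (hg : Represents g T) (hh : Represents h T) :
    g = h := by
  apply Equiv.ext
  intro p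
  apply idx_injective
  rw [hg.2 p, hh.2 p]

/-- one level of a stabiliser chain: split off a coset representative -/
theorem level_stepM {H : Subgroup (Equiv.Perm GolayPt)} {cert : List ℕ → Bool} (hc : CertSound H cert)
    {fixed : List ℕ} {L : List (List ℕ)} (hfix : ∀ f ∈ fixed, f < 24) {a : ℕ} (ha : a < 24)
    (h : transOKH cert fixed L = true) {g : Equiv.Perm GolayPt} (hg : g ∈ fixH H (ptsOf fixed))
    (hga : g (pt a) ∈ maskSet (transImg a L)) :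
    ∃ T ∈ L, ∃ t g' : Equiv.Perm GolayPt, Represents t T ∧ g' ∈ fixH H (ptsOf (a :: fixed)) ∧ g = t * g' := by
  rw [mem_maskSet, transImg, testBit_tblMask] at hga
  simp only [decide_eq_true_eq, List.mem_map] at hga
  obtain ⟨T, hT, hTb⟩ := hga
  obtain ⟨hv, htm⟩ := transOKH_mem hc hfix h hT
  refine ⟨T, hT, tblPerm T hv, (tblPerm T hv)⁻¹ * g, tblPerm_represents T hv, ?_, by group⟩
  have hta : tblPerm T hv (pt a) = g (pt a) := by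
    rw [tblPerm_pt T hv ha, hTb, pt_idx]
  have h1 : (tblPerm T hv)⁻¹ * g ∈ fixH H (ptsOf fixed) := (fixH H _).mul_mem ((fixH H _).inv_mem htm) hg
  rw [mem_fixH] at h1 ⊢
  refine ⟨h1.1, ?_⟩
  intro q hq
  rw [ptsOf_cons, Finset.mem_insert] at hq
  rcases hq with rfl | hq
  · rw [Equiv.Perm.mul_apply, Equiv.Perm.inv_eq_iff_eq, hta]
  · exact h1.2 q hq

/-- the elements of the pointwise stabiliser of the first four base points are products of coset representatives -/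
theorem m24_tail_enum (P : List ℕ → Bool) {A : List ℕ} {a : Equiv.Perm GolayPt} (hA : Represents a A)
    (hP : allProdM [transL4, transL5, transL6] A P = true)
    {s : Equiv.Perm GolayPt} (hs : s ∈ fixG (ptsOf [3, 2, 1, 0])) : ∃ T, Represents (a * s) T ∧ P T = true := by
  have i4 : transImg 4 transL4 = onesMask ^^^ tblMask [3, 2, 1, 0] := by decide +kernel
  have i5 : transImg 5 transL5 = onesMask ^^^ oct5 := by decide +kernel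
  have i6 : transImg 7 transL6 = oct5 ^^^ (oct5 &&& 63) := by decide +kernel
  have o4 : s (pt 4) ∈ maskSet (transImg 4 transL4) := by
    have : s (pt 4) ∈ orbitSet (fixG (ptsOf [3, 2, 1, 0])) (pt 4) := ⟨s, hs, rfl⟩
    rw [orbit_eq4] at this
    rw [i4]; exact this
  obtain ⟨T4, hT4, t4, g4, r4, hg4, e4⟩ :=
    level_stepM certSound_M24 (fixed_lt_24 (by decide)) (by norm_num) transOK4 hs o4
  have o5 : g4 (pt 5) ∈ maskSet (transImg 5 transL5) := by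
    have : g4 (pt 5) ∈ orbitSet (fixG (ptsOf [4, 3, 2, 1, 0])) (pt 5) := ⟨g4, hg4, rfl⟩
    rw [orbit_eq5] at this
    rw [i5]; exact this
  obtain ⟨T5, hT5, t5, g5, r5, hg5, e5⟩ :=
    level_stepM certSound_M24 (fixed_lt_24 (by decide)) (by norm_num) transOK5 hg4 o5
  have o6 : g5 (pt 7) ∈ maskSet (transImg 7 transL6) := by
    have : g5 (pt 7) ∈ orbitSet (fixG (ptsOf [5, 4, 3, 2, 1, 0])) (pt 7) := ⟨g5, hg5, rfl⟩
    rw [orbit_eq6] at this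
    rw [i6]; exact this
  obtain ⟨T6, hT6, t6, g6, r6, hg6, e6⟩ :=
    level_stepM certSound_M24 (fixed_lt_24 (by decide)) (by norm_num) transOK6 hg5 o6
  have hbot : g6 = 1 := by
    have : g6 ∈ fixG (ptsOf [7, 5, 4, 3, 2, 1, 0]) := hg6
    rwa [fixG_base_eq_bot, Subgroup.mem_bot] at this
  refine ⟨compT (compT (compT A T4) T5) T6, ?_, ?_⟩
  · have : a * s = a * t4 * t5 * t6 := by
      rw [e4, e5, e6, hbot]; group
    rw [this]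
    exact represents_compT (represents_compT (represents_compT hA r4) r5) r6
  · simp only [allProdM, List.all_eq_true] at hP
    exact hP T4 hT4 T5 hT5 T6 hT6

/-! ### The data -/

/-- an element with the prescribed images of the first four points -/
def t0T : List ℕ := [1, 0, 3, 2, 22, 20, 19, 6, 5, 16, 9, 15, 11, 4, 13, 23, 17, 21, 10, 14, 7, 12, 8, 18]

/-- an involution whose fixed points form an octad -/
def zAT : List ℕ := [1, 0, 3, 2, 4, 17, 11, 7, 19, 22, 10, 6, 12, 13, 23, 16, 15, 5, 18, 8, 20, 21, 9, 14]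

/-- a fixed-point-free involution -/
def zBT : List ℕ := [1, 0, 3, 2, 22, 19, 12, 9, 23, 7, 11, 10, 6, 18, 15, 14, 17, 16, 13, 5, 21, 20, 4, 8]

/-- conjugators for the involutions among the 960 candidates, indexed by a key -/
def involCerts : List (ℕ × List ℕ) := [
  (13137, [0, 1, 2, 3, 4, 5, 6, 7, 8, 9, 10, 11, 12, 13, 14, 15, 16, 17, 18, 19, 20, 21, 22, 23]),
  (13187, [2, 3, 22, 4, 1, 16, 20, 14, 7, 5, 21, 15, 19, 11, 8, 13, 9, 10, 12, 18, 23, 17, 0, 6]),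
  (13014, [14, 15, 16, 17, 18, 19, 20, 21, 22, 0, 1, 2, 3, 4, 5, 6, 7, 8, 9, 10, 11, 12, 13, 23]),
  (11749, [8, 23, 13, 18, 12, 20, 7, 14, 2, 21, 19, 22, 10, 15, 4, 17, 16, 1, 11, 3, 6, 5, 0, 9]),
  (11925, [23, 8, 18, 13, 22, 10, 2, 7, 5, 16, 0, 3, 21, 20, 14, 6, 11, 12, 1, 15, 4, 9, 17, 19]),
  (11946, [23, 8, 12, 6, 18, 16, 19, 9, 14, 20, 3, 15, 22, 2, 10, 21, 0, 17, 7, 5, 13, 4, 1, 11]),
  (11432, [7, 9, 5, 19, 12, 17, 4, 18, 13, 15, 10, 14, 3, 0, 1, 11, 2, 20, 8, 6, 16, 21, 22, 23]),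
  (11512, [5, 19, 17, 16, 3, 8, 6, 18, 21, 9, 20, 4, 0, 11, 14, 1, 13, 15, 22, 2, 7, 12, 10, 23]),
  (11223, [4, 22, 14, 15, 6, 17, 21, 13, 10, 8, 2, 16, 11, 7, 20, 18, 3, 1, 19, 12, 5, 9, 0, 23]),
  (3814, [16, 17, 21, 20, 6, 1, 12, 3, 19, 11, 13, 18, 10, 4, 0, 22, 14, 8, 7, 9, 15, 5, 2, 23]),
  (3659, [4, 22, 2, 3, 15, 12, 14, 5, 6, 1, 0, 19, 20, 7, 11, 16, 10, 17, 9, 8, 13, 18, 21, 23]),
  (3945, [8, 23, 3, 2, 1, 12, 0, 22, 13, 4, 20, 9, 7, 19, 10, 17, 18, 15, 14, 16, 6, 11, 21, 5]),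
  (2999, [15, 14, 7, 9, 20, 21, 2, 1, 5, 13, 8, 12, 16, 11, 23, 19, 4, 17, 3, 22, 6, 18, 10, 0]),
  (2990, [0, 1, 22, 4, 11, 10, 16, 5, 18, 23, 12, 2, 14, 20, 19, 3, 8, 6, 7, 17, 21, 9, 13, 15]),
  (2993, [20, 21, 10, 11, 16, 17, 12, 22, 14, 6, 7, 0, 8, 5, 23, 19, 18, 4, 13, 3, 15, 2, 1, 9]),
  (9543, [2, 3, 12, 6, 4, 16, 10, 5, 7, 13, 9, 18, 14, 17, 0, 19, 22, 20, 21, 15, 1, 8, 11, 23]),
  (9787, [9, 7, 17, 16, 3, 8, 11, 13, 5, 21, 15, 1, 19, 10, 4, 14, 2, 22, 20, 18, 0, 12, 6, 23]),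
  (9752, [3, 2, 19, 5, 20, 16, 8, 6, 12, 22, 10, 9, 1, 15, 4, 0, 21, 7, 13, 11, 18, 14, 17, 23]),
  (5531, [9, 7, 8, 23, 12, 17, 11, 1, 3, 6, 21, 0, 10, 19, 16, 14, 13, 4, 15, 5, 2, 18, 20, 22]),
  (5502, [3, 2, 11, 10, 5, 21, 4, 22, 13, 19, 14, 15, 7, 20, 1, 6, 18, 16, 0, 12, 8, 17, 9, 23]),
  (5566, [19, 5, 2, 3, 7, 6, 17, 4, 0, 9, 16, 8, 23, 18, 10, 12, 21, 1, 13, 11, 15, 14, 22, 20]),
  (8803, [20, 21, 19, 5, 4, 16, 17, 3, 18, 10, 13, 12, 9, 14, 6, 22, 7, 11, 0, 2, 1, 15, 8, 23]),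
  (9088, [4, 22, 11, 10, 19, 21, 9, 23, 17, 12, 14, 6, 16, 2, 13, 5, 8, 3, 20, 15, 1, 18, 7, 0]),
  (9200, [21, 20, 19, 5, 11, 1, 22, 6, 12, 2, 16, 18, 23, 13, 15, 10, 17, 14, 9, 8, 4, 3, 7, 0]),
  (6790, [6, 12, 19, 5, 22, 2, 20, 1, 10, 7, 9, 4, 21, 13, 18, 14, 11, 17, 3, 15, 16, 8, 0, 23]),
  (6726, [2, 3, 19, 5, 1, 7, 21, 20, 22, 11, 6, 0, 10, 13, 4, 8, 9, 16, 18, 17, 14, 15, 12, 23]),
  (6681, [23, 8, 13, 18, 15, 17, 12, 11, 9, 10, 6, 14, 5, 22, 16, 1, 4, 2, 7, 20, 0, 21, 19, 3]),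
  (2719, [0, 1, 2, 3, 4, 5, 6, 7, 8, 9, 10, 11, 12, 13, 14, 15, 16, 17, 18, 19, 20, 21, 22, 23]),
  (2647, [3, 2, 23, 14, 21, 5, 20, 12, 19, 13, 7, 10, 18, 9, 17, 11, 8, 1, 22, 6, 15, 16, 4, 0]),
  (2431, [23, 14, 0, 1, 4, 7, 9, 18, 16, 22, 10, 19, 21, 17, 20, 15, 11, 12, 3, 6, 5, 2, 8, 13]),
  (2863, [22, 9, 2, 3, 18, 14, 5, 7, 10, 19, 4, 8, 13, 1, 15, 20, 21, 16, 11, 12, 6, 0, 17, 23]),
  (7652, [12, 6, 3, 2, 15, 0, 1, 7, 10, 8, 22, 21, 19, 14, 16, 18, 13, 20, 4, 11, 9, 5, 17, 23]),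
  (7962, [23, 8, 13, 18, 20, 19, 17, 1, 15, 2, 4, 16, 9, 21, 10, 6, 11, 14, 0, 5, 7, 22, 3, 12]),
  (7917, [14, 15, 7, 9, 17, 19, 2, 0, 3, 12, 23, 13, 21, 16, 4, 11, 6, 5, 20, 18, 8, 1, 10, 22]),
  (13421, [8, 23, 11, 10, 0, 20, 22, 21, 16, 9, 15, 13, 19, 18, 5, 17, 12, 14, 7, 6, 3, 4, 2, 1]),
  (13502, [3, 2, 10, 11, 8, 1, 13, 20, 7, 18, 0, 6, 17, 15, 21, 22, 5, 16, 9, 14, 19, 4, 12, 23]),
  (13553, [19, 5, 7, 9, 8, 1, 13, 21, 18, 2, 16, 11, 0, 22, 17, 3, 10, 20, 14, 12, 4, 15, 6, 23]),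
  (9965, [23, 8, 14, 15, 12, 4, 17, 22, 20, 16, 7, 5, 11, 13, 9, 0, 18, 6, 1, 3, 2, 21, 19, 10]),
  (10055, [0, 1, 3, 2, 15, 5, 6, 8, 7, 11, 19, 9, 16, 21, 17, 4, 12, 14, 18, 10, 20, 13, 22, 23]),
  (10094, [22, 4, 11, 10, 16, 5, 18, 23, 12, 2, 14, 20, 19, 3, 8, 6, 7, 17, 21, 9, 13, 0, 1, 15]),
  (12517, [17, 16, 15, 14, 11, 5, 0, 4, 18, 2, 12, 20, 9, 22, 8, 1, 21, 19, 6, 3, 7, 10, 13, 23]),
  (12476, [3, 2, 17, 16, 6, 20, 23, 11, 7, 18, 5, 8, 15, 19, 9, 21, 0, 1, 14, 22, 10, 12, 13, 4]),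
  (12378, [5, 19, 6, 12, 22, 2, 13, 1, 15, 16, 21, 3, 9, 7, 17, 11, 10, 18, 0, 14, 20, 4, 8, 23]),
  (5892, [14, 23, 11, 6, 2, 21, 17, 8, 15, 22, 3, 9, 19, 12, 10, 1, 16, 7, 20, 0, 18, 4, 5, 13]),
  (6276, [22, 4, 2, 3, 13, 17, 5, 9, 19, 20, 18, 0, 7, 6, 12, 1, 14, 23, 8, 21, 10, 16, 15, 11]),
  (6204, [9, 7, 14, 15, 5, 21, 2, 4, 18, 12, 19, 10, 22, 8, 17, 6, 3, 0, 20, 11, 16, 1, 13, 23]),
  (6084, [12, 6, 2, 3, 11, 1, 5, 18, 22, 4, 10, 9, 13, 0, 8, 15, 7, 21, 16, 19, 20, 23, 14, 17]),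
  (6180, [6, 11, 0, 1, 22, 16, 10, 2, 18, 20, 9, 21, 3, 19, 14, 7, 13, 15, 17, 4, 8, 5, 12, 23]),
  (6324, [18, 13, 2, 3, 7, 8, 15, 22, 21, 14, 9, 19, 4, 10, 17, 0, 1, 16, 11, 20, 6, 12, 5, 23]),
  (6252, [23, 8, 13, 18, 16, 6, 0, 2, 9, 22, 17, 7, 3, 10, 15, 1, 4, 11, 14, 20, 12, 19, 21, 5]),
  (6108, [22, 4, 9, 7, 20, 14, 16, 0, 13, 8, 21, 17, 1, 6, 15, 18, 2, 5, 11, 3, 10, 12, 23, 19]),
  (8321, [23, 8, 13, 18, 9, 0, 5, 4, 3, 15, 1, 11, 20, 19, 7, 2, 17, 22, 12, 16, 14, 10, 6, 21]),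
  (8375, [3, 2, 17, 16, 20, 0, 23, 4, 15, 8, 9, 13, 1, 14, 21, 5, 6, 7, 10, 11, 19, 12, 18, 22]),
  (8237, [9, 7, 3, 2, 16, 10, 19, 11, 15, 14, 8, 20, 12, 18, 17, 5, 1, 6, 4, 21, 13, 22, 0, 23]),
  (4228, [16, 17, 1, 0, 23, 10, 4, 8, 11, 14, 20, 7, 21, 22, 18, 12, 3, 2, 9, 13, 5, 15, 19, 6]),
  (4492, [6, 12, 1, 0, 20, 17, 13, 21, 22, 5, 11, 2, 10, 19, 4, 7, 8, 9, 14, 16, 3, 18, 15, 23]),
  (4396, [8, 23, 10, 11, 17, 18, 19, 16, 2, 0, 6, 15, 12, 14, 4, 13, 22, 7, 5, 9, 1, 20, 21, 3]),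
  (4588, [23, 14, 15, 16, 9, 17, 13, 22, 11, 7, 2, 4, 3, 12, 19, 6, 1, 8, 21, 0, 20, 10, 18, 5]),
  (4156, [0, 1, 17, 5, 23, 18, 6, 14, 4, 19, 3, 11, 2, 16, 12, 10, 20, 7, 15, 13, 9, 22, 8, 21]),
  (4372, [4, 22, 7, 9, 16, 20, 13, 17, 6, 2, 8, 3, 23, 5, 21, 11, 10, 1, 14, 12, 19, 15, 18, 0]),
  (4444, [22, 4, 9, 7, 11, 21, 17, 10, 13, 16, 12, 8, 6, 15, 1, 3, 18, 20, 5, 2, 19, 14, 23, 0]),
  (4420, [10, 11, 23, 8, 16, 20, 7, 17, 15, 18, 6, 4, 12, 2, 5, 19, 21, 14, 13, 0, 9, 22, 3, 1]),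
  (7450, [17, 16, 20, 21, 8, 5, 22, 1, 3, 9, 0, 14, 23, 2, 15, 10, 6, 4, 11, 13, 12, 18, 19, 7]),
  (7066, [7, 9, 13, 18, 2, 12, 6, 22, 5, 10, 4, 8, 3, 21, 11, 0, 20, 17, 14, 15, 19, 1, 16, 23]),
  (7186, [13, 18, 20, 21, 2, 5, 8, 1, 7, 16, 0, 19, 3, 22, 14, 10, 12, 17, 6, 4, 11, 9, 15, 23]),
  (7042, [14, 23, 6, 11, 15, 21, 4, 0, 9, 18, 1, 12, 16, 2, 10, 17, 5, 13, 19, 22, 8, 3, 20, 7]),
  (7258, [0, 1, 3, 2, 15, 5, 6, 8, 7, 11, 19, 9, 16, 21, 17, 4, 12, 14, 18, 10, 20, 13, 22, 23]),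
  (7474, [9, 7, 22, 4, 18, 8, 12, 2, 15, 11, 3, 6, 13, 20, 16, 19, 14, 17, 1, 5, 21, 0, 10, 23]),
  (7330, [18, 13, 3, 2, 19, 17, 9, 15, 0, 22, 14, 4, 5, 6, 8, 1, 20, 16, 12, 21, 11, 10, 7, 23]),
  (7138, [5, 19, 12, 6, 11, 2, 13, 15, 1, 3, 14, 16, 10, 4, 18, 22, 9, 17, 0, 21, 20, 7, 8, 23]),
  (4840, [7, 9, 20, 21, 12, 16, 18, 14, 6, 17, 5, 8, 11, 4, 2, 19, 15, 13, 0, 10, 1, 22, 3, 23]),
  (5175, [17, 16, 4, 22, 3, 8, 20, 13, 2, 11, 5, 6, 14, 10, 9, 18, 15, 7, 21, 19, 1, 12, 0, 23]),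
  (5131, [14, 15, 18, 13, 7, 20, 3, 16, 9, 19, 4, 5, 23, 0, 6, 8, 22, 10, 12, 17, 11, 21, 2, 1]),
  (10573, [8, 23, 9, 7, 1, 19, 16, 21, 5, 22, 12, 17, 10, 20, 2, 3, 13, 15, 0, 14, 6, 11, 4, 18]),
  (10796, [17, 16, 5, 19, 13, 15, 9, 21, 11, 10, 2, 4, 1, 0, 8, 22, 7, 14, 18, 12, 20, 3, 6, 23]),
  (10917, [15, 14, 23, 8, 0, 11, 9, 3, 17, 6, 18, 4, 20, 13, 7, 19, 5, 12, 1, 16, 21, 2, 10, 22])]

/-- key identifying an element of a coset of the stabiliser of four points -/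
def keyOf (T : List ℕ) : ℕ := T.getD 4 0 * 576 + T.getD 5 0 * 24 + T.getD 7 0

/-- mask of the fixed points of a table -/
def fixMaskT (T : List ℕ) : ℕ := tblMask ((List.range 24).filter (fun i => T.getD i 0 == i))

/-- the conjugator certificate -/
def certOK (T : List ℕ) : Bool :=
  match involCerts.find? (fun c => c.1 == keyOf T) with
  | none => false
  | some c => validTbl c.2 && tblInCode c.2 &&
      (compT c.2 T == compT (if fixMaskT T == 0 then zBT else zAT) c.2)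

/-- the property checked on the 960 candidates -/
def involP (T : List ℕ) : Bool :=
  !(tblInvol T) || ((fixMaskT T == 0 || isOct (fixMaskT T)) && certOK T)

theorem invol_check : allProdM [transL4, transL5, transL6] t0T involP = true := by decide +kernel

end Cfsg.Agent.Helper27
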