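import Cfsg.Agent.Helper27.M24OutCheckAll
import Cfsg.Agent.Helper27.M23Out

/-!
Every automorphism of the Mathieu group of degree 24 is inner.
-/

set_option autoImplicit false

namespace Cfsg.Agent.Helper27

open Cfsg
open scoped Pointwise

/-! ### The generators -/

/-- the involution -/
noncomputable def m24yP : Equiv.Perm GolayPt := tblPerm m24Y m24Y_valid

/-- the element of order 7 -/
noncomputable def m24uP : Equiv.Perm GolayPt := tblPerm m24U m24U_valid

theorem m24yP_rep : Represents m24yP m24Y := tblPerm_represents _ _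
theorem m24uP_rep : Represents m24uP m24U := tblPerm_represents _ _

theorem m24xP_mem : m23xP ∈ M24 := fixH_le _ _ m23xP_mem
theorem m24nP_mem : m23nP ∈ M24 := fixH_le _ _ m23nP_mem
theorem m24yP_mem : m24yP ∈ M24 := tblPerm_mem_M24 _ _ m24Y_code
theorem m24uP_mem : m24uP ∈ M24 := tblPerm_mem_M24 _ _ m24U_code

theorem m24yP_order : orderOf m24yP = 2 :=
  haveI : Fact (Nat.Prime 2) := ⟨Nat.prime_two⟩
  tblPerm_orderOf m24Y_valid m24Y_order

theorem m24uP_order : orderOf m24uP = 7 :=
  haveI : Fact (Nat.Prime 7) := ⟨by norm_num⟩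
  tblPerm_orderOf m24U_valid m24U_order

theorem m24_uy_comm : m24uP * m24yP = m24yP * m24uP := by
  have r1 := represents_compT m24uP_rep m24yP_rep
  have r2 := represents_compT m24yP_rep m24uP_rep
  rw [m24UY_comm] at r1
  exact represents_inj r1 r2

theorem m24_words : (m23xP * m24yP) ^ 10 = 1 ∧ (w124G m23xP m24yP) ^ 4 = 1 := by
  have h := m24Y_word
  simp only [Bool.and_eq_true] at h
  exact ⟨pow_eq_one_of_powId (represents_compT m23xP_rep m24yP_rep) h.1,
    pow_eq_one_of_powId (represents_w124 m23xP_rep m24yP_rep) h.2⟩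

theorem fixed_of_table {g : Equiv.Perm GolayPt} {T : List ℕ} (h : Represents g T) {i : ℕ} (hi : i < 24)
    (hT : T.getD i 0 = i) : g (pt i) = pt i := by
  have h1 := h.2 (pt i)
  rw [idx_pt hi, hT] at h1
  rw [← pt_idx (g (pt i)), h1]

theorem m24yP_fixed : m24yP (pt 5) = pt 5 := fixed_of_table m24yP_rep (by norm_num) m24Y_fix

/-! ### Generation -/

theorem M24_le_closure_xy : M24 ≤ Subgroup.closure ({m23xP, m24yP} : Set (Equiv.Perm GolayPt)) := by
  have hleaf : ∀ T ∈ [m23X, m24Y, idT],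
      InK (Subgroup.closure ({m23xP, m24yP} : Set (Equiv.Perm GolayPt))) T := by
    intro T hT
    simp only [List.mem_cons, List.not_mem_nil, or_false] at hT
    rcases hT with rfl | rfl | rfl
    · exact ⟨m23xP, Subgroup.subset_closure (by simp), m23xP_rep⟩
    · exact ⟨m24yP, Subgroup.subset_closure (by simp), m24yP_rep⟩
    · exact inK_idT _
  have hinK : ∀ T ∈ m24L0 ++ m24L1 ++ m24L2 ++ m24L3 ++ m24L4 ++ m24L5 ++ m24L6,
      InK (Subgroup.closure ({m23xP, m24yP} : Set (Equiv.Perm GolayPt))) T := fun T hT =>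
    slpRun_inK m24Prog _ hleaf T (checkCover_sound _ _ m24_cover T hT)
  have h7 : fixH M24 (ptsOf (7 :: [5, 4, 3, 2, 1, 0])) ≤
      Subgroup.closure ({m23xP, m24yP} : Set (Equiv.Perm GolayPt)) := by
    have : fixH M24 (ptsOf (7 :: [5, 4, 3, 2, 1, 0])) = ⊥ := fixG_base_eq_bot
    rw [this]
    exact bot_le
  have h6 : fixH M24 (ptsOf (5 :: [4, 3, 2, 1, 0])) ≤
      Subgroup.closure ({m23xP, m24yP} : Set (Equiv.Perm GolayPt)) :=
    fixH_le_of_trans certSound_M24 (fixed_lt_24 (by decide)) (by norm_num) m24OK6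
      (fun T hT => hinK T (by simp [hT])) h7 (fun g hg => by
        have h := apply_mem_of_orbit_eq orbit_eq6 hg
        rw [m24Img6]; exact h)
  have h5 : fixH M24 (ptsOf (4 :: [3, 2, 1, 0])) ≤
      Subgroup.closure ({m23xP, m24yP} : Set (Equiv.Perm GolayPt)) :=
    fixH_le_of_trans certSound_M24 (fixed_lt_24 (by decide)) (by norm_num) m24OK5
      (fun T hT => hinK T (by simp [hT])) h6 (fun g hg => by
        have h := apply_mem_of_orbit_eq orbit_eq5 hg
        rw [m24Img5]; exact h)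
  have h4 : fixH M24 (ptsOf (3 :: [2, 1, 0])) ≤
      Subgroup.closure ({m23xP, m24yP} : Set (Equiv.Perm GolayPt)) :=
    fixH_le_of_trans certSound_M24 (fixed_lt_24 (by decide)) (by norm_num) m24OK4
      (fun T hT => hinK T (by simp [hT])) h5 (fun g hg => by
        have h := apply_mem_of_orbit_eq orbit_eq4 hg
        rw [m24Img4]; exact h)
  have h3 : fixH M24 (ptsOf (2 :: [1, 0])) ≤
      Subgroup.closure ({m23xP, m24yP} : Set (Equiv.Perm GolayPt)) :=
    fixH_le_of_trans certSound_M24 (fixed_lt_24 (by decide)) (by norm_num) m24OK3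
      (fun T hT => hinK T (by simp [hT])) h4 (fun g hg => by
        have h := apply_mem_of_orbit_eq orbit_eq3 hg
        rw [m24Img3]; exact h)
  have h2 : fixH M24 (ptsOf (1 :: [0])) ≤
      Subgroup.closure ({m23xP, m24yP} : Set (Equiv.Perm GolayPt)) :=
    fixH_le_of_trans certSound_M24 (fixed_lt_24 (by decide)) (by norm_num) m24OK2
      (fun T hT => hinK T (by simp [hT])) h3 (fun g hg => by
        have h := apply_mem_of_orbit_eq orbit_eq2 hg
        rw [m24Img2]; exact h)
  have h1 : fixH M24 (ptsOf (0 :: [])) ≤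
      Subgroup.closure ({m23xP, m24yP} : Set (Equiv.Perm GolayPt)) :=
    fixH_le_of_trans certSound_M24 (fixed_lt_24 (by decide)) (by norm_num) m24OK1
      (fun T hT => hinK T (by simp [hT])) h2 (fun g hg => by
        have h := apply_mem_of_orbit_eq orbit_eq1 hg
        rw [m24Img1]; exact h)
  have h0 : fixH M24 (ptsOf []) ≤
      Subgroup.closure ({m23xP, m24yP} : Set (Equiv.Perm GolayPt)) :=
    fixH_le_of_trans certSound_M24 (fixed_lt_24 (by decide)) (by norm_num) m24OK0
      (fun T hT => hinK T (by simp [hT])) h1 (fun g hg => by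
        have h := apply_mem_of_orbit_eq orbit_eq0 hg
        rw [m24Img0]; exact h)
  have hE : ptsOf [] = ∅ := by simp [ptsOf]
  rw [hE, fixH_empty] at h0
  exact h0

/-! ### Involutions commuting with an element of order seven -/

/-- in a finite group whose order is divisible by the prime `p` only once, the elements of order `p` are conjugate to
powers of each other -/
theorem exists_conj_pow_of_sylow {G : Type*} [Group G] [Finite G] (p : ℕ) [hp : Fact p.Prime] (m : ℕ)
    (hcard : Nat.card G = p * m) (hm : ¬ p ∣ m) (x z : G) (hxo : orderOf x = p) (hz : orderOf z = p) :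
    ∃ g : G, ∃ k : ℕ, g * z * g⁻¹ = x ^ k := by
  have hm0 : m ≠ 0 := by
    rintro rfl
    exact hm (dvd_zero p)
  have hfac : (Nat.card G).factorization p = 1 := by
    rw [hcard, Nat.factorization_mul hp.out.ne_zero hm0, Finsupp.add_apply, hp.out.factorization_self,
      Nat.factorization_eq_zero_of_not_dvd hm]
  have hcx : Nat.card (Subgroup.zpowers x) = p ^ (Nat.card G).factorization p := by
    rw [Nat.card_zpowers, hxo, hfac, pow_one]
  have hcz : Nat.card (Subgroup.zpowers z) = p ^ (Nat.card G).factorization p := by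
    rw [Nat.card_zpowers, hz, hfac, pow_one]
  obtain ⟨g, hg⟩ := MulAction.exists_smul_eq G (Sylow.ofCard (Subgroup.zpowers z) hcz)
    (Sylow.ofCard (Subgroup.zpowers x) hcx)
  have hmem : g * z * g⁻¹ ∈ Subgroup.zpowers x := by
    have h1 : g * z * g⁻¹ ∈ ((g • Sylow.ofCard (Subgroup.zpowers z) hcz : Sylow p G) : Subgroup G) := by
      rw [Sylow.coe_subgroup_smul, Subgroup.mem_pointwise_smul_iff_inv_smul_mem, MulAut.smul_def, ← map_inv,
        MulAut.conj_apply, Sylow.coe_ofCard]
      have : g⁻¹ * (g * z * g⁻¹) * g⁻¹⁻¹ = z := by group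
      rw [this]
      exact Subgroup.mem_zpowers z
    rw [hg, Sylow.coe_ofCard] at h1
    exact h1
  rw [← mem_powers_iff_mem_zpowers, Submonoid.mem_powers_iff] at hmem
  obtain ⟨k, hk⟩ := hmem
  exact ⟨g, k, hk.symm⟩

/-- an involution of `M24` commuting with an element of order seven has a fixed point -/
theorem invol_fixed_of_commute_seven {t u : Equiv.Perm GolayPt} (ht : t ∈ M24) (hu : u ∈ M24)
    (hto : orderOf t = 2) (huo : orderOf u = 7) (hc : t * u = u * t) : ∃ p, t p = p := by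
  haveI : Fact (Nat.Prime 7) := ⟨by norm_num⟩
  have hcard : Nat.card ↥M24 = 7 * 34974720 := by rw [card_M24]
  have hy0 : orderOf (⟨y7, y7_mem⟩ : ↥M24) = 7 := by
    rw [← y7_order]
    exact (Subgroup.orderOf_coe (⟨y7, y7_mem⟩ : ↥M24)).symm
  have hu0 : orderOf (⟨u, hu⟩ : ↥M24) = 7 := by
    rw [← huo]
    exact (Subgroup.orderOf_coe (⟨u, hu⟩ : ↥M24)).symm
  obtain ⟨g, k, hgk⟩ := exists_conj_pow_of_sylow 7 34974720 hcard (by norm_num) (⟨y7, y7_mem⟩ : ↥M24) ⟨u, hu⟩ hy0 hu0
  have hgk' : (g : Equiv.Perm GolayPt) * u * (g : Equiv.Perm GolayPt)⁻¹ = y7 ^ k := by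
    have := congrArg Subtype.val hgk
    rwa [Subgroup.coe_pow] at this
  -- the exponent is prime to 7
  have hk7 : ¬ 7 ∣ k := by
    intro hdvd
    have h1 : y7 ^ k = 1 := by
      rw [← y7_order] at hdvd
      exact orderOf_dvd_iff_pow_eq_one.mp hdvd
    rw [h1] at hgk'
    have h2 : u = 1 := by
      have : u = (g : Equiv.Perm GolayPt)⁻¹ * ((g : Equiv.Perm GolayPt) * u * (g : Equiv.Perm GolayPt)⁻¹) *
          (g : Equiv.Perm GolayPt) := by group
      rw [this, hgk']
      group
    rw [h2, orderOf_one] at huo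
    exact absurd huo (by norm_num)
  have hcop : k.Coprime (orderOf y7) := by
    rw [y7_order]
    exact ((Nat.Prime.coprime_iff_not_dvd (by norm_num)).mpr hk7).symm
  obtain ⟨m, hm⟩ := exists_pow_eq_self_of_coprime hcop
  -- the conjugate of `t` commutes with the standard element
  have hc' : ((g : Equiv.Perm GolayPt) * t * (g : Equiv.Perm GolayPt)⁻¹) * y7 =
      y7 * ((g : Equiv.Perm GolayPt) * t * (g : Equiv.Perm GolayPt)⁻¹) := by
    have h1 : Commute ((g : Equiv.Perm GolayPt) * t * (g : Equiv.Perm GolayPt)⁻¹) (y7 ^ k) := by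
      rw [← hgk']
      show (g : Equiv.Perm GolayPt) * t * (g : Equiv.Perm GolayPt)⁻¹ *
        ((g : Equiv.Perm GolayPt) * u * (g : Equiv.Perm GolayPt)⁻¹) =
        (g : Equiv.Perm GolayPt) * u * (g : Equiv.Perm GolayPt)⁻¹ *
        ((g : Equiv.Perm GolayPt) * t * (g : Equiv.Perm GolayPt)⁻¹)
      have e1 : (g : Equiv.Perm GolayPt) * t * (g : Equiv.Perm GolayPt)⁻¹ *
          ((g : Equiv.Perm GolayPt) * u * (g : Equiv.Perm GolayPt)⁻¹) =
          (g : Equiv.Perm GolayPt) * (t * u) * (g : Equiv.Perm GolayPt)⁻¹ := by group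
      have e2 : (g : Equiv.Perm GolayPt) * u * (g : Equiv.Perm GolayPt)⁻¹ *
          ((g : Equiv.Perm GolayPt) * t * (g : Equiv.Perm GolayPt)⁻¹) =
          (g : Equiv.Perm GolayPt) * (u * t) * (g : Equiv.Perm GolayPt)⁻¹ := by group
      rw [e1, e2, hc]
    have h2 := h1.pow_right m
    rw [hm] at h2
    exact h2.eq
  have hmem : (g : Equiv.Perm GolayPt) * t * (g : Equiv.Perm GolayPt)⁻¹ ∈ M24 :=
    M24.mul_mem (M24.mul_mem g.2 ht) (M24.inv_mem g.2)
  have hlist := (inCent_iff hmem).mp hc'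
  have hP := List.all_eq_true.mp norm7_invol _ hlist
  have ho : orderOf ((g : Equiv.Perm GolayPt) * t * (g : Equiv.Perm GolayPt)⁻¹) = 2 := by
    have : (g : Equiv.Perm GolayPt) * t * (g : Equiv.Perm GolayPt)⁻¹ = MulAut.conj (g : Equiv.Perm GolayPt) t := by
      simp [MulAut.conj_apply]
    rw [this, MulEquiv.orderOf_eq]
    exact hto
  have hinv := tblInvol_of_sq (represents_tblOf _) (sq_eq_one_of_orderOf ho)
  have hne : (g : Equiv.Perm GolayPt) * t * (g : Equiv.Perm GolayPt)⁻¹ ≠ 1 := by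
    intro h
    rw [h, orderOf_one] at ho
    exact absurd ho (by norm_num)
  have hne' : (tblOf ((g : Equiv.Perm GolayPt) * t * (g : Equiv.Perm GolayPt)⁻¹) == idT) = false := by
    rw [beq_eq_false_iff_ne]
    intro h
    apply hne
    have hr := represents_tblOf ((g : Equiv.Perm GolayPt) * t * (g : Equiv.Perm GolayPt)⁻¹)
    rw [h] at hr
    exact represents_unique hr represents_one
  simp only [hinv, hne', Bool.not_true, Bool.false_or, List.any_eq_true, List.mem_range, beq_iff_eq] at hP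
  obtain ⟨i, hi, hfix⟩ := hP
  have hfp := fixed_of_table (represents_tblOf _) hi hfix
  refine ⟨(g : Equiv.Perm GolayPt)⁻¹ (pt i), ?_⟩
  have h3 : ((g : Equiv.Perm GolayPt) * t * (g : Equiv.Perm GolayPt)⁻¹) (pt i) =
      (g : Equiv.Perm GolayPt) (t ((g : Equiv.Perm GolayPt)⁻¹ (pt i))) := by
    simp [Equiv.Perm.mul_apply]
  rw [h3] at hfp
  have h4 := congrArg (⇑(g : Equiv.Perm GolayPt)⁻¹) hfp
  rwa [perm_inv_apply_self] at h4

/-- the involutions of `M24` with a fixed point are conjugate -/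
theorem M24_invol_conj_y {t : Equiv.Perm GolayPt} (ht : t ∈ M24) (hord : orderOf t = 2) (hfix : ∃ p, t p = p) :
    ∃ g ∈ M24, g * t * g⁻¹ = m24yP := by
  have key : ∀ {s : Equiv.Perm GolayPt}, s ∈ M24 → (∃ p, s p = p) → orderOf s = 2 →
      ∃ k ∈ M24, k * s * k⁻¹ = zA := by
    intro s hs hs0 hso
    obtain ⟨p, hp⟩ := hs0
    rcases invol_class hs hso with ⟨h1, -⟩ | ⟨-, h2⟩
    · exact absurd hp (h1 p)
    · exact h2
  obtain ⟨k, hk, hkt⟩ := key ht hfix hord
  obtain ⟨k', hk', hky⟩ := key m24yP_mem ⟨pt 5, m24yP_fixed⟩ m24yP_order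
  refine ⟨k'⁻¹ * k, M24.mul_mem (M24.inv_mem hk') hk, ?_⟩
  have : (k'⁻¹ * k) * t * (k'⁻¹ * k)⁻¹ = k'⁻¹ * (k * t * k⁻¹) * k' := by group
  rw [this, hkt, ← hky]
  group

/-! ### The list of involutions -/

/-- the set of permutations represented by a member of the list of involutions -/
def repSet24 : Set (Equiv.Perm GolayPt) := {t | ∃ C ∈ m24InvC, ∃ T ∈ C, Represents t T}

theorem m24_chunk_spec {c : ℕ} (hc : c < 45) :
    (m24InvC.getD c []).length = 253 ∧ (m24PiXC.getD c []).length = 253 ∧ (m24PiYC.getD c []).length = 253 ∧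
    ∀ i (hi : i < (m24InvC.getD c []).length),
      ∃ jx jy, m24EntryOK ((m24InvC.getD c [])[i]) jx jy = true := by
  have h := m24Chunk_all c hc
  simp only [m24ChunkOK, Bool.and_eq_true, beq_iff_eq] at h
  obtain ⟨⟨⟨h1, h2⟩, h3⟩, h4⟩ := h
  refine ⟨h1, h2, h3, ?_⟩
  intro i hi
  have hi2 : i < (m24PiXC.getD c []).length := by rw [h2, ← h1]; exact hi
  have hi3 : i < (m24PiYC.getD c []).length := by rw [h3, ← h1]; exact hi
  have hz2 : i < ((m24PiXC.getD c []).zip (m24PiYC.getD c [])).length := by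
    rw [List.length_zip]; exact lt_min hi2 hi3
  have hz : i < ((m24InvC.getD c []).zip ((m24PiXC.getD c []).zip (m24PiYC.getD c []))).length := by
    rw [List.length_zip]; exact lt_min hi hz2
  have h5 := List.all_eq_true.mp h4 _ (List.getElem_mem hz)
  rw [List.getElem_zip, List.getElem_zip] at h5
  exact ⟨_, _, h5⟩

theorem m24_entry {C T : List _} (hC : C ∈ m24InvC) (hT : T ∈ C) : ∃ jx jy, m24EntryOK T jx jy = true := by
  obtain ⟨c, hc, rfl⟩ := List.mem_iff_getElem.mp hC
  have hc45 : c < 45 := by rwa [m24InvC_length] at hc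
  obtain ⟨i, hi, rfl⟩ := List.mem_iff_getElem.mp hT
  have hspec := (m24_chunk_spec hc45).2.2.2
  rw [List.getD_eq_getElem _ _ hc] at hspec
  exact hspec i hi

theorem m24Look_mem {j : ℕ} (hj : j < 11385) : ∃ C ∈ m24InvC, m24Look j ∈ C := by
  have hc45 : j / 253 < 45 := by omega
  have hc : j / 253 < m24InvC.length := by rw [m24InvC_length]; exact hc45
  have hlen := (m24_chunk_spec hc45).1
  refine ⟨m24InvC[j / 253], List.getElem_mem hc, ?_⟩
  rw [m24Look, List.getD_eq_getElem _ _ hc]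
  rw [List.getD_eq_getElem _ _ hc] at hlen
  have hi : j % 253 < (m24InvC[j / 253]).length := by rw [hlen]; exact Nat.mod_lt _ (by norm_num)
  rw [List.getD_eq_getElem _ _ hi]
  exact List.getElem_mem hi

theorem m24_valid {C T : List _} (hC : C ∈ m24InvC) (hT : T ∈ C) : validTbl T = true := by
  obtain ⟨jx, jy, h⟩ := m24_entry hC hT
  simp only [m24EntryOK, Bool.and_eq_true] at h
  exact h.1.1.1.1.1.1

theorem repSet24_closed_x : ∀ t ∈ repSet24, m23xP * t * m23xP⁻¹ ∈ repSet24 := by
  rintro t ⟨C, hC, T, hT, hTr⟩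
  obtain ⟨jx, jy, h⟩ := m24_entry hC hT
  simp only [m24EntryOK, Bool.and_eq_true, decide_eq_true_eq, beq_iff_eq] at h
  obtain ⟨⟨⟨⟨⟨⟨-, hjx⟩, -⟩, hcx⟩, -⟩, -⟩, -⟩ := h
  obtain ⟨C', hC', hmem⟩ := m24Look_mem hjx
  have hv := m24_valid hC' hmem
  refine ⟨C', hC', m24Look jx, hmem, ?_⟩
  have r1 := represents_compT m23xP_rep hTr
  have r2 := represents_compT (tblPerm_represents _ hv) m23xP_rep
  rw [hcx] at r1
  have h3 : m23xP * t = tblPerm _ hv * m23xP := represents_inj r1 r2
  have h4 : m23xP * t * m23xP⁻¹ = tblPerm _ hv := by rw [h3]; group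
  rw [h4]
  exact tblPerm_represents _ hv

theorem repSet24_closed_y : ∀ t ∈ repSet24, m24yP * t * m24yP⁻¹ ∈ repSet24 := by
  rintro t ⟨C, hC, T, hT, hTr⟩
  obtain ⟨jx, jy, h⟩ := m24_entry hC hT
  simp only [m24EntryOK, Bool.and_eq_true, decide_eq_true_eq, beq_iff_eq] at h
  obtain ⟨⟨⟨⟨⟨⟨-, -⟩, hjy⟩, -⟩, hcy⟩, -⟩, -⟩ := h
  obtain ⟨C', hC', hmem⟩ := m24Look_mem hjy
  have hv := m24_valid hC' hmem
  refine ⟨C', hC', m24Look jy, hmem, ?_⟩
  have r1 := represents_compT m24yP_rep hTr
  have r2 := represents_compT (tblPerm_represents _ hv) m24yP_rep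
  rw [hcy] at r1
  have h3 : m24yP * t = tblPerm _ hv * m24yP := represents_inj r1 r2
  have h4 : m24yP * t * m24yP⁻¹ = tblPerm _ hv := by rw [h3]; group
  rw [h4]
  exact tblPerm_represents _ hv

/-- every involution of `M24` with a fixed point is in the list -/
theorem M24_invol_mem_list {t : Equiv.Perm GolayPt} (ht : t ∈ M24) (hord : orderOf t = 2)
    (hfix : ∃ p, t p = p) : t ∈ repSet24 := by
  obtain ⟨g, hg, hgt⟩ := M24_invol_conj_y ht hord hfix
  have hy : m24yP ∈ repSet24 := by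
    have h := m24Y_listed
    rw [List.any_eq_true] at h
    obtain ⟨C, hC, hCy⟩ := h
    exact ⟨C, hC, m24Y, by simpa using hCy, m24yP_rep⟩
  have hcl := conj_closed_of_gens ({m23xP, m24yP} : Set (Equiv.Perm GolayPt)) repSet24 (by
    intro s hs
    rw [Set.mem_insert_iff, Set.mem_singleton_iff] at hs
    rcases hs with rfl | rfl
    · exact repSet24_closed_x
    · exact repSet24_closed_y)
  have h1 := hcl g⁻¹ (M24_le_closure_xy (M24.inv_mem hg)) m24yP hy
  have h2 : g⁻¹ * m24yP * g⁻¹⁻¹ = t := by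
    rw [← hgt]
    group
  rwa [h2] at h1

/-! ### Rigidity -/

/-- the element of order 23 -/
noncomputable def m24xG : ↥M24 := ⟨m23xP, m24xP_mem⟩

/-- the element normalising it -/
noncomputable def m24nG : ↥M24 := ⟨m23nP, m24nP_mem⟩

/-- the involution -/
noncomputable def m24yG : ↥M24 := ⟨m24yP, m24yP_mem⟩

/-- the element of order 7 -/
noncomputable def m24uG : ↥M24 := ⟨m24uP, m24uP_mem⟩

theorem M24_closure_xy : Subgroup.closure ({m24xG, m24yG} : Set ↥M24) = ⊤ := by
  rw [eq_top_iff]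
  intro g _
  have h1 : (g : Equiv.Perm GolayPt) ∈ Subgroup.closure ({m23xP, m24yP} : Set (Equiv.Perm GolayPt)) :=
    M24_le_closure_xy g.2
  have h2 : (Subgroup.closure ({m24xG, m24yG} : Set ↥M24)).map M24.subtype =
      Subgroup.closure ({m23xP, m24yP} : Set (Equiv.Perm GolayPt)) := by
    rw [MonoidHom.map_closure]
    congr 1
    rw [Set.image_insert_eq, Set.image_singleton]
    rfl
  rw [← h2] at h1
  obtain ⟨h, hh, hhg⟩ := h1
  have : h = g := Subtype.ext hhg
  rw [← this]
  exact hh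

theorem orderOf_m24xG : orderOf m24xG = 23 := by
  rw [← m23xP_order]
  exact (Subgroup.orderOf_coe m24xG).symm

theorem orderOf_m24yG : orderOf m24yG = 2 := by
  rw [← m24yP_order]
  exact (Subgroup.orderOf_coe m24yG).symm

theorem orderOf_m24uG : orderOf m24uG = 7 := by
  rw [← m24uP_order]
  exact (Subgroup.orderOf_coe m24uG).symm

theorem M24_conj_x (α : MulAut ↥M24) :
    ∃ g : ↥M24, g * α m24xG * g⁻¹ = m24xG ∨ g * α m24xG * g⁻¹ = m24xG⁻¹ := by
  haveI := fact_prime_23
  have hcard : Nat.card ↥M24 = 23 * 10644480 := by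
    rw [card_M24]
  have hn : m24nG * m24xG * m24nG⁻¹ = m24xG ^ 2 := by
    apply Subtype.ext
    rw [Subgroup.coe_pow]
    exact m23nP_norm
  exact exists_conj_pm 23 10644480 hcard (by norm_num) m24xG m24nG 2 orderOf_m24xG hn m23_units (α m24xG)
    (by rw [MulEquiv.orderOf_eq]; exact orderOf_m24xG)

/-- the table of the image of the involution under an automorphism -/
theorem M24_image_table (α : MulAut ↥M24) :
    ∃ C ∈ m24InvC, ∃ T ∈ C, Represents ((α m24yG : ↥M24) : Equiv.Perm GolayPt) T := by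
  have ho : orderOf ((α m24yG : ↥M24) : Equiv.Perm GolayPt) = 2 := by
    rw [Subgroup.orderOf_coe, MulEquiv.orderOf_eq]
    exact orderOf_m24yG
  have hou : orderOf ((α m24uG : ↥M24) : Equiv.Perm GolayPt) = 7 := by
    rw [Subgroup.orderOf_coe, MulEquiv.orderOf_eq]
    exact orderOf_m24uG
  have hcomm : m24yG * m24uG = m24uG * m24yG := by
    apply Subtype.ext
    exact m24_uy_comm.symm
  have hcomm' : ((α m24yG : ↥M24) : Equiv.Perm GolayPt) * ((α m24uG : ↥M24) : Equiv.Perm GolayPt) =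
      ((α m24uG : ↥M24) : Equiv.Perm GolayPt) * ((α m24yG : ↥M24) : Equiv.Perm GolayPt) := by
    have := congrArg (fun z => ((α z : ↥M24) : Equiv.Perm GolayPt)) hcomm
    simpa only [map_mul, Subgroup.coe_mul] using this
  have hfix := invol_fixed_of_commute_seven (α m24yG).2 (α m24uG).2 ho hou hcomm'
  exact M24_invol_mem_list (α m24yG).2 ho hfix

theorem M24_words (α : MulAut ↥M24) :
    (((α m24xG : ↥M24) : Equiv.Perm GolayPt) * ((α m24yG : ↥M24) : Equiv.Perm GolayPt)) ^ 10 = 1 ∧
    (w124G ((α m24xG : ↥M24) : Equiv.Perm GolayPt) ((α m24yG : ↥M24) : Equiv.Perm GolayPt)) ^ 4 = 1 := by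
  obtain ⟨w1, w2⟩ := m24_words
  have e1 : (m24xG * m24yG) ^ 10 = 1 := by
    apply Subtype.ext
    rw [Subgroup.coe_pow]
    exact w1
  have e2 : (w124G m24xG m24yG) ^ 4 = 1 := by
    apply Subtype.ext
    rw [Subgroup.coe_pow]
    exact w2
  have f1 : (α m24xG * α m24yG) ^ 10 = 1 := by
    have := congrArg α e1
    rwa [map_pow, map_mul, map_one] at this
  have f2 : (w124G (α m24xG) (α m24yG)) ^ 4 = 1 := by
    have := congrArg α e2
    rwa [map_pow, ← MulEquiv.coe_toMonoidHom, map_w124G, MulEquiv.coe_toMonoidHom, map_one] at this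
  constructor
  · have := congrArg Subtype.val f1
    rwa [Subgroup.coe_pow] at this
  · have := congrArg Subtype.val f2
    rwa [Subgroup.coe_pow] at this

theorem M24_rigid (α : MulAut ↥M24) (hα : α m24xG = m24xG) :
    ∃ c : ↥M24, c * m24xG = m24xG * c ∧ α m24yG = c * m24yG * c⁻¹ := by
  obtain ⟨C, hC, T, hTmem, hT⟩ := M24_image_table α
  obtain ⟨w1, w2⟩ := M24_words α
  rw [hα] at w1 w2
  have q1 := powId_of_pow_eq_one (represents_compT m23xP_rep hT) w1
  have q2 := powId_of_pow_eq_one (represents_w124 m23xP_rep hT) w2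
  obtain ⟨jx, jy, h⟩ := m24_entry hC hTmem
  simp only [m24EntryOK, Bool.and_eq_true] at h
  have hfp := h.1.2
  rw [q1, q2] at hfp
  have hcont : m24Conj.contains T = true := by simpa using hfp
  have hTc : T ∈ m24Conj := by simpa using hcont
  obtain ⟨k, hk, rfl⟩ := List.mem_iff_getElem.mp hTc
  have hk23 : k < 23 := by rwa [m24Conj_length] at hk
  have hkc : k < m23XPow.length := by rw [m23XPow_length]; exact hk23
  have hz : k < (m23XPow.zip m24Conj).length := by rw [List.length_zip]; exact lt_min hkc hk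
  have hzip := List.all_eq_true.mp m24Conj_ok ((m23XPow.zip m24Conj)[k]) (List.getElem_mem hz)
  have hp2 : ((m23XPow.zip m24Conj)[k]).2 = m24Conj[k] := by
    rw [List.getElem_zip]
    rfl
  simp only [Bool.and_eq_true, beq_iff_eq] at hzip
  obtain ⟨⟨⟨hv, hcode⟩, hcx⟩, hcy⟩ := hzip
  rw [hp2] at hcy
  generalize ((m23XPow.zip m24Conj)[k]).1 = c at hv hcode hcx hcy
  have hmem : tblPerm c hv ∈ M24 := tblPerm_mem_M24 _ hv hcode
  have hγr := tblPerm_represents c hv
  refine ⟨⟨tblPerm c hv, hmem⟩, ?_, ?_⟩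
  · apply Subtype.ext
    show tblPerm c hv * m23xP = m23xP * tblPerm c hv
    have r1 := represents_compT hγr m23xP_rep
    have r2 := represents_compT m23xP_rep hγr
    rw [hcx] at r1
    exact represents_inj r1 r2
  · rw [eq_mul_inv_iff_mul_eq]
    apply Subtype.ext
    show ((α m24yG : ↥M24) : Equiv.Perm GolayPt) * tblPerm c hv = tblPerm c hv * m24yP
    have r1 := represents_compT hT hγr
    have r2 := represents_compT hγr m24yP_rep
    have r1' : Represents (⇑(((α m24yG : ↥M24) : Equiv.Perm GolayPt) * tblPerm c hv)) (compT c m24Y) := by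
      rw [← hcy]
      exact r1
    exact represents_inj r1' r2

theorem M24_no_inversion (α : MulAut ↥M24) (hα : α m24xG = m24xG⁻¹) : False := by
  obtain ⟨C, hC, T, hTmem, hT⟩ := M24_image_table α
  obtain ⟨w1, w2⟩ := M24_words α
  rw [hα] at w1 w2
  have hinv : ((m24xG⁻¹ : ↥M24) : Equiv.Perm GolayPt) = m23xP⁻¹ := rfl
  rw [hinv] at w1 w2
  have q1 := powId_of_pow_eq_one (represents_compT m23xP_inv_rep hT) w1
  have q2 := powId_of_pow_eq_one (represents_w124 m23xP_inv_rep hT) w2
  obtain ⟨jx, jy, h⟩ := m24_entry hC hTmem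
  simp only [m24EntryOK, Bool.and_eq_true] at h
  have hfp := h.2
  rw [q1, q2] at hfp
  exact absurd hfp (by decide)

theorem M24_aut_inner (α : MulAut ↥M24) : ∃ g : ↥M24, α = MulAut.conj g :=
  aut_inner_of_rigid2 m24xG m24yG M24_closure_xy M24_conj_x M24_rigid M24_no_inversion α

/-- the outer automorphism group of the Mathieu group of degree 24 is trivial -/
theorem card_out_M24 : Nat.card (Cfsg.Out ↥M24) = 1 :=
  card_out_eq_one M24_aut_inner

end Cfsg.Agent.Helper27
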