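import Cfsg.Agent.Helper27.M24ThreeClass

/-!
Subgroups of prime order of `Cfsg.M24`: generators, fixed points and conjugation.
-/

set_option autoImplicit false

namespace Cfsg.Agent.Helper27

open Cfsg
open scoped Pointwise

/-- a subgroup of prime order is generated by an element of that order -/
theorem exists_gen_of_card_prime {G : Type*} [Group G] {p : ℕ} [hp : Fact p.Prime] (X : Subgroup G)
    (hX : Nat.card X = p) : ∃ x : G, orderOf x = p ∧ X = Subgroup.zpowers x := by
  have hfin : Finite X := Nat.finite_of_card_ne_zero (by rw [hX]; exact hp.out.ne_zero)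
  have hnt : Nontrivial X := (Finite.one_lt_card_iff_nontrivial).mp (by rw [hX]; exact hp.out.one_lt)
  obtain ⟨x, hx⟩ := exists_ne (1 : X)
  have hord : orderOf x = p := by
    have hd := orderOf_dvd_natCard x
    rw [hX] at hd
    rcases (Nat.dvd_prime hp.out).mp hd with h | h
    · exact absurd (orderOf_eq_one_iff.mp h) hx
    · exact h
  have hord' : orderOf (x : G) = p := by rw [Subgroup.orderOf_coe, hord]
  refine ⟨x.1, hord', ?_⟩
  symm
  apply Subgroup.eq_of_le_of_card_ge (Subgroup.zpowers_le_of_mem x.2)
  rw [Nat.card_zpowers, hord', hX]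

/-- the common fixed points of a cyclic subgroup of `M24` are those of the generator -/
theorem zpowers_fixed_set (x : ↥M24) :
    {p : GolayPt | ∀ y ∈ Subgroup.zpowers x, ((y : ↥M24) : Equiv.Perm GolayPt) p = p} =
      ↑(Finset.univ.filter fun p => (x : Equiv.Perm GolayPt) p = p) := by
  ext p
  simp only [Set.mem_ofPred_eq, Finset.coe_filter, Finset.mem_univ, true_and]
  constructor
  · intro h
    exact h x (Subgroup.mem_zpowers x)
  · intro h y hy
    obtain ⟨n, rfl⟩ := Subgroup.mem_zpowers_iff.mp hy
    rw [Subgroup.coe_zpow]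
    exact Equiv.Perm.zpow_apply_eq_self_of_apply_eq_self h n

theorem zpowers_fixed_ncard (x : ↥M24) :
    {p : GolayPt | ∀ y ∈ Subgroup.zpowers x, ((y : ↥M24) : Equiv.Perm GolayPt) p = p}.ncard =
      (Finset.univ.filter fun p => (x : Equiv.Perm GolayPt) p = p).card := by
  rw [zpowers_fixed_set, Set.ncard_coe_finset]

theorem conj_smul_zpowers {G : Type*} [Group G] (k x : G) :
    MulAut.conj k • Subgroup.zpowers x = Subgroup.zpowers (k * x * k⁻¹) := by
  rw [Subgroup.pointwise_smul_def]
  exact MonoidHom.map_zpowers (MulAut.conj k).toMonoidHom x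

end Cfsg.Agent.Helper27
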