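import Cfsg.Agent.Helper27.OctadPairS6

/-!
Families of sets of points given by lists of masks, and the families invariant under a permutation.
-/

set_option autoImplicit false

namespace Cfsg.Agent.Helper27

open Cfsg
open scoped Pointwise

/-- the family of point sets given by a list of masks -/
def famOf (L : List ℕ) : Finset (Finset GolayPt) := (L.map maskSet).toFinset

theorem mem_famOf (L : List ℕ) (X : Finset GolayPt) : X ∈ famOf L ↔ ∃ m ∈ L, maskSet m = X := by
  simp [famOf]

theorem maskSet_injOn {a b : ℕ} (ha : a < 2 ^ 24) (hb : b < 2 ^ 24) (h : maskSet a = maskSet b) : a = b :=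
  decW_injOn ha hb (support₂_injective h)

/-- strictly increasing masks below `2 ^ 24` -/
def sortedB : List ℕ → Bool
  | [] => true
  | [a] => Nat.blt a 16777216
  | a :: b :: l => Nat.blt a b && sortedB (b :: l)

theorem sortedB_spec : ∀ {L : List ℕ}, sortedB L = true → L.Pairwise (· < ·) ∧ ∀ m ∈ L, m < 2 ^ 24
  | [], _ => ⟨List.Pairwise.nil, by simp⟩
  | [a], h => by
    simp only [sortedB, Nat.blt_eq] at h
    exact ⟨List.pairwise_singleton _ _, by simpa using h⟩
  | a :: b :: l, h => by
    simp only [sortedB, Bool.and_eq_true, Nat.blt_eq] at h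
    obtain ⟨hab, hrest⟩ := h
    obtain ⟨hp, hlt⟩ := sortedB_spec hrest
    constructor
    · rw [List.pairwise_cons]
      refine ⟨?_, hp⟩
      intro c hc
      rcases List.mem_cons.mp hc with rfl | hc
      · exact hab
      · exact lt_trans hab ((List.pairwise_cons.mp hp).1 c hc)
    · intro m hm
      rcases List.mem_cons.mp hm with rfl | hm
      · exact lt_trans hab (hlt b (List.mem_cons_self))
      · exact hlt m hm

theorem famOf_inj {L L' : List ℕ} (h : sortedB L = true) (h' : sortedB L' = true) (he : famOf L = famOf L') :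
    L = L' := by
  obtain ⟨hp, hlt⟩ := sortedB_spec h
  obtain ⟨hp', hlt'⟩ := sortedB_spec h'
  apply List.Pairwise.eq_of_mem_iff hp hp'
  intro a
  constructor
  · intro ha
    have : maskSet a ∈ famOf L' := by rw [← he, mem_famOf]; exact ⟨a, ha, rfl⟩
    obtain ⟨m, hm, hma⟩ := (mem_famOf _ _).mp this
    rw [← maskSet_injOn (hlt' m hm) (hlt a ha) hma]
    exact hm
  · intro ha
    have : maskSet a ∈ famOf L := by rw [he, mem_famOf]; exact ⟨a, ha, rfl⟩
    obtain ⟨m, hm, hma⟩ := (mem_famOf _ _).mp this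
    rw [← maskSet_injOn (hlt m hm) (hlt' a ha) hma]
    exact hm

/-- `applyTbl` computes the preimage of a set of points -/
theorem maskSet_applyTbl' {g : Equiv.Perm GolayPt} {T : List ℕ} (h : Represents g T) (n : ℕ) :
    maskSet (applyTbl T n) = g⁻¹ • maskSet n := by
  ext q
  rw [mem_smul_perm_iff, inv_inv, mem_maskSet, mem_maskSet,
    testBit_applyTbl T n (idx q) (by rw [h.1]; exact idx_lt q), h.2 q]

theorem inv_smul_famOf {g : Equiv.Perm GolayPt} {T : List ℕ} (h : Represents g T) (L : List ℕ) :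
    g⁻¹ • famOf L = famOf (L.map (applyTbl T)) := by
  ext X
  rw [Finset.mem_smul_finset, mem_famOf]
  constructor
  · rintro ⟨Y, hY, rfl⟩
    obtain ⟨m, hm, rfl⟩ := (mem_famOf _ _).mp hY
    exact ⟨applyTbl T m, List.mem_map.mpr ⟨m, hm, rfl⟩, maskSet_applyTbl' h m⟩
  · rintro ⟨m', hm', rfl⟩
    obtain ⟨m, hm, rfl⟩ := List.mem_map.mp hm'
    exact ⟨maskSet m, (mem_famOf _ _).mpr ⟨m, hm, rfl⟩, (maskSet_applyTbl' h m).symm⟩

/-- the table maps the list of masks into itself -/
def invB (T : List ℕ) (L : List ℕ) : Bool := (L.map (applyTbl T)).all (fun m => L.contains m)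

theorem smul_famOf_eq_iff {g : Equiv.Perm GolayPt} {T : List ℕ} (hT : Represents g T) {L : List ℕ}
    (hL : ∀ m ∈ L, m < 2 ^ 24) : g • famOf L = famOf L ↔ invB T L = true := by
  have h1 : g • famOf L = famOf L ↔ g⁻¹ • famOf L = famOf L := by
    constructor
    · intro h
      rw [inv_smul_eq_iff, h]
    · intro h
      rw [inv_smul_eq_iff] at h
      exact h.symm
  rw [h1, inv_smul_famOf hT]
  simp only [invB, List.all_eq_true, List.mem_map, List.contains_iff_mem, forall_exists_index, and_imp,
    forall_apply_eq_imp_iff₂]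
  constructor
  · intro h m hm
    have : maskSet (applyTbl T m) ∈ famOf L := by
      rw [← h, mem_famOf]
      exact ⟨applyTbl T m, List.mem_map.mpr ⟨m, hm, rfl⟩, rfl⟩
    obtain ⟨m', hm', hmm⟩ := (mem_famOf _ _).mp this
    have hlt : applyTbl T m < 2 ^ 24 := by
      have := applyTbl_lt T m
      rwa [hT.1] at this
    rw [← maskSet_injOn (hL m' hm') hlt hmm]
    exact hm'
  · intro h
    apply Finset.eq_of_subset_of_card_le
    · intro X hX
      obtain ⟨m', hm', rfl⟩ := (mem_famOf _ _).mp hX
      obtain ⟨m, hm, rfl⟩ := List.mem_map.mp hm'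
      exact (mem_famOf _ _).mpr ⟨applyTbl T m, h m hm, rfl⟩
    · rw [← inv_smul_famOf hT, Finset.card_smul_finset]

/-- the number of members of a family of families, listed by sorted lists of masks, invariant under a
permutation -/
theorem ncard_invariant {fam : Set (Finset (Finset GolayPt))} {LL : List (List ℕ)}
    (hs : ∀ L ∈ LL, sortedB L = true ∧ famOf L ∈ fam) (hc : ∀ X ∈ fam, ∃ L ∈ LL, famOf L = X)
    {g : Equiv.Perm GolayPt} {T : List ℕ} (hT : Represents g T) :
    {X | X ∈ fam ∧ g • X = X}.ncard = ((LL.filter (invB T)).dedup).length := by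
  have hset : {X | X ∈ fam ∧ g • X = X} = famOf '' ↑((LL.filter (invB T)).toFinset) := by
    ext X
    simp only [Set.mem_ofPred_eq, Set.mem_image, Finset.mem_coe, List.mem_toFinset, List.mem_filter]
    constructor
    · rintro ⟨hX, hg⟩
      obtain ⟨L, hL, rfl⟩ := hc X hX
      refine ⟨L, ⟨hL, ?_⟩, rfl⟩
      exact (smul_famOf_eq_iff hT (sortedB_spec (hs L hL).1).2).mp hg
    · rintro ⟨L, ⟨hL, hinv⟩, rfl⟩
      exact ⟨(hs L hL).2, (smul_famOf_eq_iff hT (sortedB_spec (hs L hL).1).2).mpr hinv⟩
  rw [hset, Set.ncard_image_of_injOn, Set.ncard_coe_finset, List.card_toFinset]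
  intro L hL L' hL' he
  simp only [Finset.mem_coe, List.mem_toFinset, List.mem_filter] at hL hL'
  exact famOf_inj (hs L hL.1).1 (hs L' hL'.1).1 he

end Cfsg.Agent.Helper27
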