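import Cfsg.Agent.Helper27.M24SevenData
import Cfsg.Agent.Helper27.M24Sub3
import Cfsg.Agent.Helper27.MaskFamily

/-!
The normaliser and the centraliser in `Cfsg.M24` of a subgroup of order seven.
-/

set_option autoImplicit false

namespace Cfsg.Agent.Helper27

open Cfsg
open scoped Pointwise

/-! ### Generic lemmas -/

/-- the normaliser of the subgroup generated by an element of prime order -/
theorem mem_normalizer_zpowers {G : Type*} [Group G] {y : G} {p : ℕ} [hp : Fact p.Prime] (hy : orderOf y = p)
    (n : G) : n ∈ Subgroup.normalizer (Subgroup.zpowers y : Set G) ↔ ∃ j, 0 < j ∧ j < p ∧ n * y = y ^ j * n := by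
  constructor
  · intro hn
    have h1 : n * y * n⁻¹ ∈ Subgroup.zpowers y :=
      (Subgroup.mem_normalizer_iff.mp hn y).mp (Subgroup.mem_zpowers y)
    obtain ⟨k, hk⟩ := Subgroup.mem_zpowers_iff.mp h1
    have hk' : y ^ (k % (p : ℤ)) = n * y * n⁻¹ := by
      rw [← hy, zpow_mod_orderOf, hk]
    have hpos : (0 : ℤ) < p := by exact_mod_cast hp.out.pos
    have hnn : 0 ≤ k % (p : ℤ) := Int.emod_nonneg _ (ne_of_gt hpos)
    have hlt : k % (p : ℤ) < p := Int.emod_lt_of_pos _ hpos
    obtain ⟨j, hj⟩ := Int.eq_ofNat_of_zero_le hnn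
    rw [hj, zpow_natCast] at hk'
    have hjlt : j < p := by
      have : (j : ℤ) < p := by rw [← hj]; exact hlt
      exact_mod_cast this
    refine ⟨j, ?_, hjlt, ?_⟩
    · rcases Nat.eq_zero_or_pos j with h0 | h0
      · exfalso
        rw [h0, pow_zero] at hk'
        have : y = 1 := by
          have h2 : n * y * n⁻¹ = 1 := hk'.symm
          have h3 : y = n⁻¹ * (n * y * n⁻¹) * n := by group
          rw [h3, h2]; group
        rw [this, orderOf_one] at hy
        exact hp.out.one_lt.ne hy
      · exact h0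
    · rw [hk']; group
  · rintro ⟨j, -, -, hj⟩
    have hfin : Finite (Subgroup.zpowers y : Set G) := by
      have : orderOf y ≠ 0 := by rw [hy]; exact hp.out.ne_zero
      exact (IsOfFinOrder.finite_zpowers (orderOf_pos_iff.mp (Nat.pos_of_ne_zero this))).to_subtype
    apply Subgroup.mem_normalizer_fintype
    intro h hh
    obtain ⟨m, rfl⟩ := Subgroup.mem_zpowers_iff.mp hh
    have h1 : n * y * n⁻¹ = y ^ j := by rw [hj]; group
    have h2 : n * y ^ m * n⁻¹ = (n * y * n⁻¹) ^ m := by
      rw [← MulAut.conj_apply, ← MulAut.conj_apply, map_zpow]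
    show n * y ^ m * n⁻¹ ∈ Subgroup.zpowers y
    rw [h2, h1]
    exact Subgroup.zpow_mem _ (Subgroup.pow_mem _ (Subgroup.mem_zpowers y) j) m

theorem mem_centralizer_zpowers {G : Type*} [Group G] (y n : G) :
    n ∈ Subgroup.centralizer (Subgroup.zpowers y : Set G) ↔ n * y = y * n := by
  rw [Subgroup.mem_centralizer_iff]
  constructor
  · intro h
    exact (h y (Subgroup.mem_zpowers y)).symm
  · intro h x hx
    obtain ⟨m, rfl⟩ := Subgroup.mem_zpowers_iff.mp hx
    have : Commute n y := h
    exact (this.zpow_right m).eq.symm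

/-- the order of a subgroup of `M24` whose elements are those with tables in a list -/
theorem card_of_tbl_list (K : Subgroup ↥M24) (L : List (List ℕ)) (hnd : L.Nodup)
    (hv : ∀ T ∈ L, validTbl T = true ∧ tblInCode T = true)
    (h : ∀ n : ↥M24, n ∈ K ↔ tblOf n.1 ∈ L) : Nat.card K = L.length := by
  have hv1 : ∀ T : {T // T ∈ L}, validTbl T.1 = true := fun T => (hv T.1 T.2).1
  have hv2 : ∀ T : {T // T ∈ L}, tblInCode T.1 = true := fun T => (hv T.1 T.2).2
  let f : ↥K → {T // T ∈ L} := fun n => ⟨tblOf n.1.1, (h n.1).mp n.2⟩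
  have hmem : ∀ T : {T // T ∈ L},
      (⟨tblPerm T.1 (hv1 T), tblPerm_mem_M24 T.1 (hv1 T) (hv2 T)⟩ : ↥M24) ∈ K := by
    intro T
    rw [h]
    show tblOf (tblPerm T.1 (hv1 T)) ∈ L
    rw [tblOf_eq (tblPerm_represents T.1 _)]
    exact T.2
  let g : {T // T ∈ L} → ↥K := fun T =>
    ⟨⟨tblPerm T.1 (hv1 T), tblPerm_mem_M24 T.1 (hv1 T) (hv2 T)⟩, hmem T⟩
  have hfg : ∀ T, f (g T) = T := by
    intro T
    apply Subtype.ext
    show tblOf (tblPerm T.1 (hv1 T)) = T.1
    exact tblOf_eq (tblPerm_represents T.1 _)
  have hgf : ∀ n, g (f n) = n := by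
    intro n
    apply Subtype.ext
    apply Subtype.ext
    show tblPerm (tblOf n.1.1) (hv1 (f n)) = n.1.1
    exact represents_unique (tblPerm_represents _ _) (represents_tblOf n.1.1)
  have e : ↥K ≃ {T // T ∈ L} := ⟨f, g, hgf, hfg⟩
  rw [Nat.card_congr e, Nat.card_eq_fintype_card, Fintype.card_of_subtype L.toFinset (fun T => List.mem_toFinset),
    List.toFinset_card_of_nodup hnd]

/-! ### The standard element of order seven -/

theorem y7T_valid : validTbl y7T = true := by decide +kernel

/-- the standard element of order seven -/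
noncomputable def y7 : Equiv.Perm GolayPt := tblPerm y7T y7T_valid

theorem y7_mem : y7 ∈ M24 := tblPerm_mem_M24 y7T y7T_valid (by decide +kernel)

theorem y7_order : orderOf y7 = 7 := by
  have : Fact (Nat.Prime 7) := ⟨by norm_num⟩
  exact tblPerm_orderOf y7T_valid (by decide +kernel)

theorem y7_rep1 : Represents (⇑(y7 ^ 1)) y7T := by rw [pow_one]; exact tblPerm_represents y7T y7T_valid

theorem y7_rep_succ {j : ℕ} {Y Y' : List ℕ} (h : Represents (⇑(y7 ^ j)) Y) (he : Y' = compT Y y7T) :
    Represents (⇑(y7 ^ (j + 1))) Y' := by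
  rw [pow_succ, he]
  exact represents_compT h (tblPerm_represents y7T y7T_valid)

theorem y7_rep2 : Represents (⇑(y7 ^ 2)) y7T2 := y7_rep_succ y7_rep1 (by decide +kernel)
theorem y7_rep3 : Represents (⇑(y7 ^ 3)) y7T3 := y7_rep_succ y7_rep2 (by decide +kernel)
theorem y7_rep4 : Represents (⇑(y7 ^ 4)) y7T4 := y7_rep_succ y7_rep3 (by decide +kernel)
theorem y7_rep5 : Represents (⇑(y7 ^ 5)) y7T5 := y7_rep_succ y7_rep4 (by decide +kernel)
theorem y7_rep6 : Represents (⇑(y7 ^ 6)) y7T6 := y7_rep_succ y7_rep5 (by decide +kernel)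

/-- the elements `n` with `n * y = y' * n` found by the enumeration -/
def normList (Yj : List ℕ) : List (List ℕ) :=
  (enumL chainL [] idT (okC Yj cs7)).filter (fun T => compT T y7T == compT Yj T)

set_option maxRecDepth 100000 in
theorem norm1_eq : normList y7T = norm7L1 := by decide +kernel
set_option maxRecDepth 100000 in
theorem norm2_eq : normList y7T2 = norm7L2 := by decide +kernel
set_option maxRecDepth 100000 in
theorem norm3_eq : normList y7T3 = [] := by decide +kernel
set_option maxRecDepth 100000 in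
theorem norm4_eq : normList y7T4 = norm7L4 := by decide +kernel
set_option maxRecDepth 100000 in
theorem norm5_eq : normList y7T5 = [] := by decide +kernel
set_option maxRecDepth 100000 in
theorem norm6_eq : normList y7T6 = [] := by decide +kernel

theorem mem_normList_iff {n : Equiv.Perm GolayPt} (hn : n ∈ M24) {yj : Equiv.Perm GolayPt} {Yj : List ℕ}
    (hY : Represents yj Yj) : tblOf n ∈ normList Yj ↔ n * y7 = yj * n := by
  have hr := tblPerm_represents y7T y7T_valid
  constructor
  · intro h
    rw [normList, List.mem_filter, beq_iff_eq] at h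
    apply represents_unique (represents_compT (represents_tblOf n) hr)
    rw [h.2]
    exact represents_compT hY (represents_tblOf n)
  · intro hc
    rw [normList, List.mem_filter, beq_iff_eq]
    refine ⟨conj_enum_sound hn hr hY (by decide +kernel) hc, ?_⟩
    apply represents_tbl_unique (represents_compT (represents_tblOf n) hr)
    have : Represents (n * y7) (compT Yj (tblOf n)) := by
      rw [show n * y7 = yj * n from hc]
      exact represents_compT hY (represents_tblOf n)
    exact this

/-- the tables of the normaliser -/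
def norm7L : List (List ℕ) := norm7L1 ++ norm7L2 ++ norm7L4

theorem norm7L_valid : ∀ T ∈ norm7L, validTbl T = true ∧ tblInCode T = true := by
  have : norm7L.all (fun T => validTbl T && tblInCode T) = true := by decide +kernel
  intro T hT
  have := List.all_eq_true.mp this T hT
  rwa [Bool.and_eq_true] at this

theorem norm7L_nodup : norm7L.Nodup := by decide +kernel

theorem norm7L1_nodup : norm7L1.Nodup := by decide +kernel

theorem inNorm_iff {n : Equiv.Perm GolayPt} (hn : n ∈ M24) :
    (∃ j, 0 < j ∧ j < 7 ∧ n * y7 = y7 ^ j * n) ↔ tblOf n ∈ norm7L := by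
  constructor
  · rintro ⟨j, hj0, hj7, hc⟩
    have h1 := (mem_normList_iff hn y7_rep1).mpr
    have h2 := (mem_normList_iff hn y7_rep2).mpr
    have h3 := (mem_normList_iff hn y7_rep3).mpr
    have h4 := (mem_normList_iff hn y7_rep4).mpr
    have h5 := (mem_normList_iff hn y7_rep5).mpr
    have h6 := (mem_normList_iff hn y7_rep6).mpr
    rw [norm1_eq] at h1
    rw [norm2_eq] at h2
    rw [norm3_eq] at h3
    rw [norm4_eq] at h4
    rw [norm5_eq] at h5
    rw [norm6_eq] at h6
    simp only [norm7L, List.mem_append]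
    interval_cases j
    · exact Or.inl (Or.inl (h1 hc))
    · exact Or.inl (Or.inr (h2 hc))
    · exact absurd (h3 hc) (by simp)
    · exact Or.inr (h4 hc)
    · exact absurd (h5 hc) (by simp)
    · exact absurd (h6 hc) (by simp)
  · intro h
    simp only [norm7L, List.mem_append] at h
    rcases h with (h | h) | h
    · rw [← norm1_eq] at h
      exact ⟨1, by norm_num, by norm_num, (mem_normList_iff hn y7_rep1).mp h⟩
    · rw [← norm2_eq] at h
      exact ⟨2, by norm_num, by norm_num, (mem_normList_iff hn y7_rep2).mp h⟩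
    · rw [← norm4_eq] at h
      exact ⟨4, by norm_num, by norm_num, (mem_normList_iff hn y7_rep4).mp h⟩

theorem inCent_iff {n : Equiv.Perm GolayPt} (hn : n ∈ M24) : n * y7 = y7 * n ↔ tblOf n ∈ norm7L1 := by
  rw [← norm1_eq, mem_normList_iff hn y7_rep1, pow_one]

end Cfsg.Agent.Helper27
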