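import Cfsg.Agent.Helper27.M24OutData
import Cfsg.Agent.Helper27.M24Seven

/-!
The kernel computations for the automorphisms of `M24`. The computation running over the 11385 involutions with fixed
points is cut into 45 parts.
-/

set_option autoImplicit false

namespace Cfsg.Agent.Helper27

open Cfsg

theorem m24Y_valid : validTbl m24Y = true := by decide +kernel
theorem m24U_valid : validTbl m24U = true := by decide +kernel

theorem m24Y_code : tblInCode m24Y = true := by decide +kernel
theorem m24U_code : tblInCode m24U = true := by decide +kernel
theorem m23X_code : tblInCode m23X = true := by decide +kernel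
theorem m23N_code : tblInCode m23N = true := by decide +kernel

theorem m24Y_order : orderOK m24Y 2 = true := by decide +kernel
theorem m24U_order : orderOK m24U 7 = true := by decide +kernel

theorem m24UY_comm : compT m24U m24Y = compT m24Y m24U := by decide +kernel

theorem m24Y_fix : m24Y.getD 5 0 = 5 := by decide +kernel

theorem m24Y_word : (powId (compT m23X m24Y) 10 && powId (w124T m23X m24Y) 4) = true := by decide +kernel

theorem m24_cover : checkCover (slpRun [m23X, m24Y, idT] m24Prog)
    (m24L0 ++ m24L1 ++ m24L2 ++ m24L3 ++ m24L4 ++ m24L5 ++ m24L6) = true := by decide +kernel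

theorem m24OK0 : transOKH tblInCode [] m24L0 = true := by decide +kernel
theorem m24OK1 : transOKH tblInCode [0] m24L1 = true := by decide +kernel
theorem m24OK2 : transOKH tblInCode [1, 0] m24L2 = true := by decide +kernel
theorem m24OK3 : transOKH tblInCode [2, 1, 0] m24L3 = true := by decide +kernel
theorem m24OK4 : transOKH tblInCode [3, 2, 1, 0] m24L4 = true := by decide +kernel
theorem m24OK5 : transOKH tblInCode [4, 3, 2, 1, 0] m24L5 = true := by decide +kernel
theorem m24OK6 : transOKH tblInCode [5, 4, 3, 2, 1, 0] m24L6 = true := by decide +kernel

theorem m24Img0 : transImg 0 m24L0 = onesMask ^^^ tblMask [] := by decide +kernel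
theorem m24Img1 : transImg 1 m24L1 = onesMask ^^^ tblMask [0] := by decide +kernel
theorem m24Img2 : transImg 2 m24L2 = onesMask ^^^ tblMask [1, 0] := by decide +kernel
theorem m24Img3 : transImg 3 m24L3 = onesMask ^^^ tblMask [2, 1, 0] := by decide +kernel
theorem m24Img4 : transImg 4 m24L4 = onesMask ^^^ tblMask [3, 2, 1, 0] := by decide +kernel
theorem m24Img5 : transImg 5 m24L5 = onesMask ^^^ oct5 := by decide +kernel
theorem m24Img6 : transImg 7 m24L6 = oct5 ^^^ (oct5 &&& 63) := by decide +kernel

theorem m24Conj_length : m24Conj.length = 23 := by decide

/-- the conjugates of `y` under the powers of `x` -/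
theorem m24Conj_ok : (m23XPow.zip m24Conj).all (fun ct => validTbl ct.1 && tblInCode ct.1 &&
    (compT ct.1 m23X == compT m23X ct.1) && (compT ct.2 ct.1 == compT ct.1 m24Y)) = true := by
  decide +kernel

/-- the involutions commuting with the standard element of order seven have fixed points -/
theorem norm7_invol : norm7L1.all (fun T => !(tblInvol T) || T == idT ||
    (List.range 24).any (fun i => T.getD i 0 == i)) = true := by
  decide +kernel

/-- the involution with a given number -/
def m24Look (j : ℕ) : List ℕ := (m24InvC.getD (j / 253) []).getD (j % 253) []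

/-- the test of an involution `T`, with the numbers of its conjugates under `x` and `y` -/
def m24EntryOK (T : List ℕ) (jx jy : ℕ) : Bool :=
  validTbl T && decide (jx < 11385) && decide (jy < 11385) &&
  (compT m23X T == compT (m24Look jx) m23X) && (compT m24Y T == compT (m24Look jy) m24Y) &&
  (!(powId (compT m23X T) 10 && powId (w124T m23X T) 4) || m24Conj.contains T) &&
  !(powId (compT m23Xi T) 10 && powId (w124T m23Xi T) 4)

/-- the test of a part of the list of involutions -/
def m24ChunkOK (c : ℕ) : Bool :=
  ((m24InvC.getD c []).length == 253) && ((m24PiXC.getD c []).length == 253) &&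
  ((m24PiYC.getD c []).length == 253) &&
  ((m24InvC.getD c []).zip ((m24PiXC.getD c []).zip (m24PiYC.getD c []))).all
    (fun e => m24EntryOK e.1 e.2.1 e.2.2)

theorem m24InvC_length : m24InvC.length = 45 := by decide

theorem m24Y_listed : m24InvC.any (fun C => C.contains m24Y) = true := by decide +kernel

end Cfsg.Agent.Helper27
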