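import Cfsg.Agent.Helper27.M24OutCheck

/-!
The kernel computation for the automorphisms of `M24`: parts 0 to 8 of the list of involutions.
-/

set_option autoImplicit false

namespace Cfsg.Agent.Helper27

open Cfsg

theorem m24Chunk_c0 : m24ChunkOK 0 = true := by decide +kernel

theorem m24Chunk_c1 : m24ChunkOK 1 = true := by decide +kernel

theorem m24Chunk_c2 : m24ChunkOK 2 = true := by decide +kernel

theorem m24Chunk_c3 : m24ChunkOK 3 = true := by decide +kernel

theorem m24Chunk_c4 : m24ChunkOK 4 = true := by decide +kernel

theorem m24Chunk_c5 : m24ChunkOK 5 = true := by decide +kernel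

theorem m24Chunk_c6 : m24ChunkOK 6 = true := by decide +kernel

theorem m24Chunk_c7 : m24ChunkOK 7 = true := by decide +kernel

theorem m24Chunk_c8 : m24ChunkOK 8 = true := by decide +kernel

end Cfsg.Agent.Helper27
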