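import Cfsg.Agent.Helper27.M24OutCheck

/-!
The kernel computation for the automorphisms of `M24`: parts 9 to 17 of the list of involutions.
-/

set_option autoImplicit false

namespace Cfsg.Agent.Helper27

open Cfsg

theorem m24Chunk_c9 : m24ChunkOK 9 = true := by decide +kernel

theorem m24Chunk_c10 : m24ChunkOK 10 = true := by decide +kernel

theorem m24Chunk_c11 : m24ChunkOK 11 = true := by decide +kernel

theorem m24Chunk_c12 : m24ChunkOK 12 = true := by decide +kernel

theorem m24Chunk_c13 : m24ChunkOK 13 = true := by decide +kernel

theorem m24Chunk_c14 : m24ChunkOK 14 = true := by decide +kernel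

theorem m24Chunk_c15 : m24ChunkOK 15 = true := by decide +kernel

theorem m24Chunk_c16 : m24ChunkOK 16 = true := by decide +kernel

theorem m24Chunk_c17 : m24ChunkOK 17 = true := by decide +kernel

end Cfsg.Agent.Helper27
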