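import Cfsg.Agent.Helper27.M24OutCheck

/-!
The kernel computation for the automorphisms of `M24`: parts 18 to 26 of the list of involutions.
-/

set_option autoImplicit false

namespace Cfsg.Agent.Helper27

open Cfsg

theorem m24Chunk_c18 : m24ChunkOK 18 = true := by decide +kernel

theorem m24Chunk_c19 : m24ChunkOK 19 = true := by decide +kernel

theorem m24Chunk_c20 : m24ChunkOK 20 = true := by decide +kernel

theorem m24Chunk_c21 : m24ChunkOK 21 = true := by decide +kernel

theorem m24Chunk_c22 : m24ChunkOK 22 = true := by decide +kernel

theorem m24Chunk_c23 : m24ChunkOK 23 = true := by decide +kernel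

theorem m24Chunk_c24 : m24ChunkOK 24 = true := by decide +kernel

theorem m24Chunk_c25 : m24ChunkOK 25 = true := by decide +kernel

theorem m24Chunk_c26 : m24ChunkOK 26 = true := by decide +kernel

end Cfsg.Agent.Helper27
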