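import Cfsg.Agent.Helper27.M24OutCheck

/-!
The kernel computation for the automorphisms of `M24`: parts 27 to 35 of the list of involutions.
-/

set_option autoImplicit false

namespace Cfsg.Agent.Helper27

open Cfsg

theorem m24Chunk_c27 : m24ChunkOK 27 = true := by decide +kernel

theorem m24Chunk_c28 : m24ChunkOK 28 = true := by decide +kernel

theorem m24Chunk_c29 : m24ChunkOK 29 = true := by decide +kernel

theorem m24Chunk_c30 : m24ChunkOK 30 = true := by decide +kernel

theorem m24Chunk_c31 : m24ChunkOK 31 = true := by decide +kernel

theorem m24Chunk_c32 : m24ChunkOK 32 = true := by decide +kernel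

theorem m24Chunk_c33 : m24ChunkOK 33 = true := by decide +kernel

theorem m24Chunk_c34 : m24ChunkOK 34 = true := by decide +kernel

theorem m24Chunk_c35 : m24ChunkOK 35 = true := by decide +kernel

end Cfsg.Agent.Helper27
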