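import Cfsg.Agent.Helper27.M24OutCheck

/-!
The kernel computation for the automorphisms of `M24`: parts 36 to 44 of the list of involutions.
-/

set_option autoImplicit false

namespace Cfsg.Agent.Helper27

open Cfsg

theorem m24Chunk_c36 : m24ChunkOK 36 = true := by decide +kernel

theorem m24Chunk_c37 : m24ChunkOK 37 = true := by decide +kernel

theorem m24Chunk_c38 : m24ChunkOK 38 = true := by decide +kernel

theorem m24Chunk_c39 : m24ChunkOK 39 = true := by decide +kernel

theorem m24Chunk_c40 : m24ChunkOK 40 = true := by decide +kernel

theorem m24Chunk_c41 : m24ChunkOK 41 = true := by decide +kernel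

theorem m24Chunk_c42 : m24ChunkOK 42 = true := by decide +kernel

theorem m24Chunk_c43 : m24ChunkOK 43 = true := by decide +kernel

theorem m24Chunk_c44 : m24ChunkOK 44 = true := by decide +kernel

end Cfsg.Agent.Helper27
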