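import Cfsg.Agent.Helper27.M24OutCheckA
import Cfsg.Agent.Helper27.M24OutCheckB
import Cfsg.Agent.Helper27.M24OutCheckC
import Cfsg.Agent.Helper27.M24OutCheckD
import Cfsg.Agent.Helper27.M24OutCheckE

/-!
The kernel computation for the automorphisms of `M24`: all 45 parts of the list of involutions pass the test.
-/

set_option autoImplicit false

namespace Cfsg.Agent.Helper27

open Cfsg

theorem m24Chunk_all : ∀ c < 45, m24ChunkOK c = true := by
  intro c hc
  interval_cases c
  · exact m24Chunk_c0
  · exact m24Chunk_c1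
  · exact m24Chunk_c2
  · exact m24Chunk_c3
  · exact m24Chunk_c4
  · exact m24Chunk_c5
  · exact m24Chunk_c6
  · exact m24Chunk_c7
  · exact m24Chunk_c8
  · exact m24Chunk_c9
  · exact m24Chunk_c10
  · exact m24Chunk_c11
  · exact m24Chunk_c12
  · exact m24Chunk_c13
  · exact m24Chunk_c14
  · exact m24Chunk_c15
  · exact m24Chunk_c16
  · exact m24Chunk_c17
  · exact m24Chunk_c18
  · exact m24Chunk_c19
  · exact m24Chunk_c20
  · exact m24Chunk_c21
  · exact m24Chunk_c22
  · exact m24Chunk_c23
  · exact m24Chunk_c24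
  · exact m24Chunk_c25
  · exact m24Chunk_c26
  · exact m24Chunk_c27
  · exact m24Chunk_c28
  · exact m24Chunk_c29
  · exact m24Chunk_c30
  · exact m24Chunk_c31
  · exact m24Chunk_c32
  · exact m24Chunk_c33
  · exact m24Chunk_c34
  · exact m24Chunk_c35
  · exact m24Chunk_c36
  · exact m24Chunk_c37
  · exact m24Chunk_c38
  · exact m24Chunk_c39
  · exact m24Chunk_c40
  · exact m24Chunk_c41
  · exact m24Chunk_c42
  · exact m24Chunk_c43
  · exact m24Chunk_c44

end Cfsg.Agent.Helper27
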