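import Cfsg.Agent.Helper27.MaskFamily
import Cfsg.Prelude.Def_SporadicCombinatorics

/-!
A computable list of all trios of `Cfsg.octads`, as sorted triples of masks.
-/

set_option autoImplicit false

namespace Cfsg.Agent.Helper27

open Cfsg
open scoped Pointwise

/-- the masks of the octads -/
def octL : List ℕ := ((List.range 4096).map cw).filter (fun m => popc 24 m == 8)

theorem mem_octL (m : ℕ) : m ∈ octL ↔ ∃ k < 4096, m = cw k ∧ popc 24 m = 8 := by
  simp only [octL, List.mem_filter, List.mem_map, List.mem_range, beq_iff_eq]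
  constructor
  · rintro ⟨⟨k, hk, rfl⟩, h⟩
    exact ⟨k, hk, rfl, h⟩
  · rintro ⟨k, hk, rfl, h⟩
    exact ⟨⟨k, hk, rfl⟩, h⟩

theorem octL_lt {m : ℕ} (h : m ∈ octL) : m < 2 ^ 24 := by
  obtain ⟨k, _, rfl, _⟩ := (mem_octL m).mp h
  exact cw_lt k

theorem octad_iff_octL (o : Finset GolayPt) : o ∈ octads ↔ ∃ m ∈ octL, o = maskSet m := by
  rw [octads, mem_wordsOfWeight_iff]
  constructor
  · rintro ⟨k, hk, hp, rfl⟩
    exact ⟨cw k, (mem_octL _).mpr ⟨k, hk, rfl, hp⟩, rfl⟩
  · rintro ⟨m, hm, rfl⟩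
    obtain ⟨k, hk, rfl, hp⟩ := (mem_octL m).mp hm
    exact ⟨k, hk, hp, rfl⟩

/-- all trios, as increasing triples of masks -/
def trioL : List (List ℕ) :=
  octL.flatMap (fun m1 => (octL.filter (fun m2 =>
    Nat.blt m1 m2 && (m1 &&& m2 == 0) && Nat.blt m2 (onesMask ^^^ m1 ^^^ m2))).map
      (fun m2 => [m1, m2, onesMask ^^^ m1 ^^^ m2]))

theorem mem_trioL (L : List ℕ) : L ∈ trioL ↔ ∃ m1 ∈ octL, ∃ m2 ∈ octL, m1 < m2 ∧ m1 &&& m2 = 0 ∧
    m2 < onesMask ^^^ m1 ^^^ m2 ∧ L = [m1, m2, onesMask ^^^ m1 ^^^ m2] := by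
  simp only [trioL, List.mem_flatMap, List.mem_map, List.mem_filter, Bool.and_eq_true, Nat.blt_eq, beq_iff_eq]
  constructor
  · rintro ⟨m1, h1, m2, ⟨h2, ⟨h3, h4⟩, h5⟩, rfl⟩
    exact ⟨m1, h1, m2, h2, h3, h4, h5, rfl⟩
  · rintro ⟨m1, h1, m2, h2, h3, h4, h5, rfl⟩
    exact ⟨m1, h1, m2, ⟨h2, ⟨h3, h4⟩, h5⟩, rfl⟩

theorem maskSet_zero : maskSet 0 = ∅ := by
  ext q
  simp [mem_maskSet]

theorem maskSet_xor_of_disjoint {a b : ℕ} (h : a &&& b = 0) : maskSet (a ^^^ b) = maskSet a ∪ maskSet b := by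
  have hd : Disjoint (maskSet a) (maskSet b) := by
    rw [Finset.disjoint_iff_inter_eq_empty, ← maskSet_and, h, maskSet_zero]
  show support₂ (decW (a ^^^ b)) = _
  rw [decW_xor, support₂_add]
  exact hd.symmDiff_eq_sup

theorem and_eq_zero_of_disjoint {a b : ℕ} (ha : a < 2 ^ 24) (h : Disjoint (maskSet a) (maskSet b)) :
    a &&& b = 0 := by
  apply maskSet_injOn (lt_of_le_of_lt Nat.and_le_left ha) (by norm_num)
  rw [maskSet_and, maskSet_zero, Finset.disjoint_iff_inter_eq_empty.mp h]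

theorem popc_octL {m : ℕ} (h : m ∈ octL) : (maskSet m).card = 8 := by
  obtain ⟨k, _, rfl, hp⟩ := (mem_octL m).mp h
  rw [card_maskSet, hp]

theorem octL_isOct {m : ℕ} (h : m ∈ octL) : maskSet m ∈ octads := (octad_iff_octL _).mpr ⟨m, h, rfl⟩

theorem xor_mem_octL {a b : ℕ} (ha : a ∈ octL) (hb : b ∈ octL) (hab : a &&& b = 0) :
    onesMask ^^^ a ^^^ b ∈ octL := by
  obtain ⟨k, hk, rfl, hp⟩ := (mem_octL a).mp ha
  obtain ⟨k', hk', rfl, hp'⟩ := (mem_octL b).mp hb
  have hones : cw (onesMask % 4096) = onesMask := gens_eq_cw onesMask (by simp [gensL])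
  have hlt : onesMask % 4096 ^^^ k ^^^ k' < 4096 := by
    have h1 : onesMask % 4096 < 2 ^ 12 := Nat.mod_lt _ (by norm_num)
    have h2 : k < 2 ^ 12 := hk
    have h3 : k' < 2 ^ 12 := hk'
    exact Nat.xor_lt_two_pow (Nat.xor_lt_two_pow h1 h2) h3
  rw [mem_octL]
  refine ⟨onesMask % 4096 ^^^ k ^^^ k', hlt, ?_, ?_⟩
  · rw [← cw_xor, ← cw_xor, hones]
  · have h1 : (maskSet (onesMask ^^^ cw k ^^^ cw k')).card = 8 := by
      rw [Nat.xor_assoc, maskSet_compl, maskSet_xor_of_disjoint hab, Finset.card_sdiff_of_subset (Finset.subset_univ _)]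
      have hd : Disjoint (maskSet (cw k)) (maskSet (cw k')) := by
        rw [Finset.disjoint_iff_inter_eq_empty, ← maskSet_and, hab, maskSet_zero]
      rw [Finset.card_union_of_disjoint hd, card_maskSet, card_maskSet, hp, hp']
      rfl
    rwa [card_maskSet] at h1

/-- members of the list are trios -/
theorem trioL_sound {L : List ℕ} (hL : L ∈ trioL) : sortedB L = true ∧ famOf L ∈ trios := by
  obtain ⟨a, ha, b, hb, hab, hand, hbc, rfl⟩ := (mem_trioL L).mp hL
  have hc := xor_mem_octL ha hb hand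
  set c := onesMask ^^^ a ^^^ b with hcdef
  have hcl : c < 2 ^ 24 := octL_lt hc
  have hsorted : sortedB [a, b, c] = true := by
    simp only [sortedB, Bool.and_eq_true, Nat.blt_eq]
    exact ⟨hab, hbc, hcl⟩
  refine ⟨hsorted, ?_⟩
  have hA : Disjoint (maskSet a) (maskSet b) := by
    rw [Finset.disjoint_iff_inter_eq_empty, ← maskSet_and, hand, maskSet_zero]
  have hCeq : maskSet c = Finset.univ \ (maskSet a ∪ maskSet b) := by
    rw [hcdef, Nat.xor_assoc, maskSet_compl, maskSet_xor_of_disjoint hand]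
  have hAC : Disjoint (maskSet a) (maskSet c) := by
    rw [hCeq]
    exact Finset.disjoint_sdiff.mono_left Finset.subset_union_left
  have hBC : Disjoint (maskSet b) (maskSet c) := by
    rw [hCeq]
    exact Finset.disjoint_sdiff.mono_left Finset.subset_union_right
  have hne : ∀ {x y : ℕ}, x ∈ octL → Disjoint (maskSet x) (maskSet y) → maskSet x ≠ maskSet y := by
    intro x y hx hd he
    rw [← he, disjoint_self, Finset.bot_eq_empty] at hd
    have := popc_octL hx
    rw [hd] at this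
    simp at this
  have hfam : famOf [a, b, c] = {maskSet a, maskSet b, maskSet c} := by
    ext X
    simp [famOf]
  rw [hfam]
  refine ⟨?_, ?_, ?_⟩
  · rw [Finset.card_insert_of_notMem, Finset.card_insert_of_notMem, Finset.card_singleton]
    · rw [Finset.mem_singleton]; exact hne hb hBC
    · rw [Finset.mem_insert, Finset.mem_singleton, not_or]
      exact ⟨hne ha hA, hne ha hAC⟩
  · intro o ho
    simp only [Finset.mem_insert, Finset.mem_singleton] at ho
    rcases ho with rfl | rfl | rfl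
    · exact octL_isOct ha
    · exact octL_isOct hb
    · exact octL_isOct hc
  · intro o ho o' ho' hoo
    simp only [Finset.mem_insert, Finset.mem_singleton] at ho ho'
    rcases ho with rfl | rfl | rfl <;> rcases ho' with rfl | rfl | rfl
    · exact absurd rfl hoo
    · exact hA
    · exact hAC
    · exact hA.symm
    · exact absurd rfl hoo
    · exact hBC
    · exact hAC.symm
    · exact hBC.symm
    · exact absurd rfl hoo

/-- every trio is in the list -/
theorem trioL_complete {T : Finset (Finset GolayPt)} (hT : T ∈ trios) : ∃ L ∈ trioL, famOf L = T := by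
  obtain ⟨h3, hoct, hdisj⟩ := hT
  have hmask : ∀ o ∈ T, ∃ m, m ∈ octL ∧ o = maskSet m := fun o ho => by
    obtain ⟨m, hm, h⟩ := (octad_iff_octL o).mp (hoct o ho)
    exact ⟨m, hm, h⟩
  choose! mk hmk using hmask
  have hinj : Set.InjOn mk (T : Set (Finset GolayPt)) := by
    intro o ho o' ho' h
    rw [(hmk o ho).2, (hmk o' ho').2, h]
  have hMc : (T.image mk).card = 3 := by rw [Finset.card_image_of_injOn hinj, h3]
  have hMmem : ∀ m ∈ T.image mk, m ∈ octL ∧ maskSet m ∈ T := by
    intro m hm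
    obtain ⟨o, ho, rfl⟩ := Finset.mem_image.mp hm
    exact ⟨(hmk o ho).1, by rw [← (hmk o ho).2]; exact ho⟩
  have hMd : ∀ m ∈ T.image mk, ∀ m' ∈ T.image mk, m ≠ m' → m &&& m' = 0 := by
    intro m hm m' hm' hne
    apply and_eq_zero_of_disjoint (octL_lt (hMmem m hm).1)
    apply hdisj _ (hMmem m hm).2 _ (hMmem m' hm').2
    intro h
    exact hne (maskSet_injOn (octL_lt (hMmem m hm).1) (octL_lt (hMmem m' hm').1) h)
  have hLp : ((T.image mk).sort).Pairwise (· < ·) := (Finset.sortedLT_sort _).pairwise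
  have hLl : ((T.image mk).sort).length = 3 := by rw [Finset.length_sort, hMc]
  obtain ⟨a, b, c, hL⟩ := List.length_eq_three.mp hLl
  have hmemL : ∀ m, m ∈ [a, b, c] ↔ m ∈ T.image mk := by
    intro m
    rw [← hL, Finset.mem_sort]
  rw [hL] at hLp
  simp only [List.pairwise_cons, List.mem_cons, List.not_mem_nil, or_false, forall_eq_or_imp, forall_eq,
    IsEmpty.forall_iff, implies_true, List.Pairwise.nil, and_true] at hLp
  obtain ⟨⟨hab, hac⟩, hbc⟩ := hLp
  have haM := (hmemL a).mp (by simp)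
  have hbM := (hmemL b).mp (by simp)
  have hcM := (hmemL c).mp (by simp)
  have hand := hMd a haM b hbM (ne_of_lt hab)
  have hand2 := hMd a haM c hcM (ne_of_lt hac)
  have hand3 := hMd b hbM c hcM (ne_of_lt hbc)
  -- the third mask is the complement of the union of the first two
  have hceq : c = onesMask ^^^ a ^^^ b := by
    apply maskSet_injOn (octL_lt (hMmem c hcM).1) (octL_lt (xor_mem_octL (hMmem a haM).1 (hMmem b hbM).1 hand))
    rw [Nat.xor_assoc, maskSet_compl, maskSet_xor_of_disjoint hand]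
    have hA : Disjoint (maskSet a) (maskSet b) := by
      rw [Finset.disjoint_iff_inter_eq_empty, ← maskSet_and, hand, maskSet_zero]
    have hAC : Disjoint (maskSet a) (maskSet c) := by
      rw [Finset.disjoint_iff_inter_eq_empty, ← maskSet_and, hand2, maskSet_zero]
    have hBC : Disjoint (maskSet b) (maskSet c) := by
      rw [Finset.disjoint_iff_inter_eq_empty, ← maskSet_and, hand3, maskSet_zero]
    apply Finset.eq_of_subset_of_card_le
    · intro q hq
      rw [Finset.mem_sdiff, Finset.mem_union, not_or]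
      exact ⟨Finset.mem_univ _, fun h => Finset.disjoint_left.mp hAC h hq,
        fun h => Finset.disjoint_left.mp hBC h hq⟩
    · rw [Finset.card_sdiff_of_subset (Finset.subset_univ _), Finset.card_union_of_disjoint hA,
        popc_octL (hMmem a haM).1, popc_octL (hMmem b hbM).1, popc_octL (hMmem c hcM).1]
      decide
  refine ⟨[a, b, c], ?_, ?_⟩
  · rw [mem_trioL]
    exact ⟨a, (hMmem a haM).1, b, (hMmem b hbM).1, hab, hand, by rw [← hceq]; exact hbc, by rw [← hceq]⟩
  · ext X
    rw [mem_famOf]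
    constructor
    · rintro ⟨m, hm, rfl⟩
      exact (hMmem m ((hmemL m).mp hm)).2
    · intro hX
      refine ⟨mk X, (hmemL _).mpr (Finset.mem_image_of_mem mk hX), ((hmk X hX).2).symm⟩

end Cfsg.Agent.Helper27
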