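import Cfsg.Agent.Helper27.M24Seven
import Cfsg.Agent.Helper27.TrioModel
import Cfsg.Agent.Helper27.FamCount

/-!
The normaliser and the centraliser in `Cfsg.M24` of the standard subgroup of order seven, and the transfer to an
arbitrary subgroup of order seven.
-/

set_option autoImplicit false

namespace Cfsg.Agent.Helper27

open Cfsg
open scoped Pointwise

/-- the standard element of order seven, in `M24` -/
noncomputable def y0 : ↥M24 := ⟨y7, y7_mem⟩

theorem y0_order : orderOf y0 = 7 := by
  rw [← y7_order]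
  exact Subgroup.orderOf_mk _ _

theorem mem_norm_y0 (n : ↥M24) :
    n ∈ Subgroup.normalizer (Subgroup.zpowers y0 : Set ↥M24) ↔ tblOf n.1 ∈ norm7L := by
  have : Fact (Nat.Prime 7) := ⟨by norm_num⟩
  rw [mem_normalizer_zpowers y0_order, ← inNorm_iff n.2]
  constructor
  · rintro ⟨j, h0, h7, h⟩
    refine ⟨j, h0, h7, ?_⟩
    have := congrArg Subtype.val h
    simpa [y0] using this
  · rintro ⟨j, h0, h7, h⟩
    refine ⟨j, h0, h7, ?_⟩
    apply Subtype.ext
    simpa [y0] using h

theorem mem_cent_y0 (n : ↥M24) :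
    n ∈ Subgroup.centralizer (Subgroup.zpowers y0 : Set ↥M24) ↔ tblOf n.1 ∈ norm7L1 := by
  rw [mem_centralizer_zpowers, ← inCent_iff n.2]
  constructor
  · intro h
    have := congrArg Subtype.val h
    simpa [y0] using this
  · intro h
    apply Subtype.ext
    simpa [y0] using h

theorem norm7L1_sub {T : List ℕ} (h : T ∈ norm7L1) : T ∈ norm7L := by
  simp only [norm7L, List.mem_append]
  exact Or.inl (Or.inl h)

theorem card_norm_y0 : Nat.card (Subgroup.normalizer (Subgroup.zpowers y0 : Set ↥M24)) = 126 := by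
  rw [card_of_tbl_list _ norm7L norm7L_nodup norm7L_valid mem_norm_y0]
  decide +kernel

theorem card_cent_y0 : Nat.card (Subgroup.centralizer (Subgroup.zpowers y0 : Set ↥M24)) = 42 := by
  rw [card_of_tbl_list _ norm7L1 norm7L1_nodup (fun T hT => norm7L_valid T (norm7L1_sub hT)) mem_cent_y0]
  decide +kernel

theorem c7a_mem : c7aT ∈ norm7L1 := by decide +kernel
theorem c7b_mem : c7bT ∈ norm7L1 := by decide +kernel

theorem cent_y0_nonabelian : ∃ x ∈ Subgroup.centralizer (Subgroup.zpowers y0 : Set ↥M24),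
    ∃ y ∈ Subgroup.centralizer (Subgroup.zpowers y0 : Set ↥M24), x * y ≠ y * x := by
  have hva := norm7L_valid c7aT (norm7L1_sub c7a_mem)
  have hvb := norm7L_valid c7bT (norm7L1_sub c7b_mem)
  refine ⟨⟨tblPerm c7aT hva.1, tblPerm_mem_M24 _ hva.1 hva.2⟩, ?_,
    ⟨tblPerm c7bT hvb.1, tblPerm_mem_M24 _ hvb.1 hvb.2⟩, ?_, ?_⟩
  · rw [mem_cent_y0]
    show tblOf (tblPerm c7aT hva.1) ∈ norm7L1
    rw [tblOf_eq (tblPerm_represents _ _)]
    exact c7a_mem
  · rw [mem_cent_y0]
    show tblOf (tblPerm c7bT hvb.1) ∈ norm7L1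
    rw [tblOf_eq (tblPerm_represents _ _)]
    exact c7b_mem
  · intro h
    have h' : tblPerm c7aT hva.1 * tblPerm c7bT hvb.1 = tblPerm c7bT hvb.1 * tblPerm c7aT hva.1 :=
      congrArg Subtype.val h
    have h1 := represents_compT (tblPerm_represents c7aT hva.1) (tblPerm_represents c7bT hvb.1)
    have h2 := represents_compT (tblPerm_represents c7bT hvb.1) (tblPerm_represents c7aT hva.1)
    rw [h'] at h1
    have := represents_tbl_unique h1 h2
    revert this
    decide +kernel

theorem trio7_mem : famOf trio7 ∈ trios := by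
  have : trio7 ∈ trioL := by
    rw [mem_trioL]
    refine ⟨5279, ?_, 5621792, ?_, ?_⟩
    · decide +kernel
    · decide +kernel
    · decide +kernel
  exact (trioL_sound this).2

theorem trio7_inv : ∀ n ∈ Subgroup.normalizer (Subgroup.zpowers y0 : Set ↥M24),
    ((n : ↥M24) : Equiv.Perm GolayPt) • famOf trio7 = famOf trio7 := by
  intro n hn
  rw [mem_norm_y0] at hn
  rw [smul_famOf_eq_iff (represents_tblOf n.1) (by decide)]
  have : norm7L.all (fun T => invB T trio7) = true := by decide +kernel
  exact List.all_eq_true.mp this _ hn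

end Cfsg.Agent.Helper27
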