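import Cfsg.Agent.Helper27.OctadTrios

/-!
The kernel of the action of the stabiliser of an octad on the fifteen trios through it.
-/

set_option autoImplicit false

namespace Cfsg.Agent.Helper27

open Cfsg
open scoped Pointwise

theorem famOf_three (o a b : ℕ) (X : Finset GolayPt) :
    X ∈ famOf [o, a, b] ↔ X = maskSet o ∨ X = maskSet a ∨ X = maskSet b := by
  rw [mem_famOf]
  constructor
  · rintro ⟨m, hm, rfl⟩
    simp only [List.mem_cons, List.not_mem_nil, or_false] at hm
    rcases hm with rfl | rfl | rfl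
    · exact Or.inl rfl
    · exact Or.inr (Or.inl rfl)
    · exact Or.inr (Or.inr rfl)
  · rintro (rfl | rfl | rfl)
    · exact ⟨o, by simp, rfl⟩
    · exact ⟨a, by simp, rfl⟩
    · exact ⟨b, by simp, rfl⟩

/-- an element fixing an octad and a trio through it either fixes or swaps the two other octads of the trio -/
theorem side_flip {g : Equiv.Perm GolayPt} {o a b : ℕ} (ho : o < 2 ^ 24) (ha : a < 2 ^ 24) (hb : b < 2 ^ 24)
    (hoa : o ≠ a) (hob : o ≠ b) (hab : a ≠ b) (hdisj : a &&& b = 0) (hcover : o ||| a ||| b = onesMask)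
    (hgo : g • maskSet o = maskSet o) (hgT : g • famOf [o, a, b] = famOf [o, a, b]) :
    ∃ s : Bool, ∀ x, x ∉ maskSet o → a.testBit (idx (g x)) = (a.testBit (idx x) != s) := by
  have hmem : ∀ c, maskSet c ∈ famOf [o, a, b] → g • maskSet c ∈ famOf [o, a, b] := by
    intro c hc
    rw [← hgT]
    exact Finset.smul_mem_smul_finset hc
  have hA := (famOf_three o a b _).mp (hmem a ((famOf_three o a b _).mpr (Or.inr (Or.inl rfl))))
  have hB := (famOf_three o a b _).mp (hmem b ((famOf_three o a b _).mpr (Or.inr (Or.inr rfl))))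
  have hinj : ∀ {c c' : ℕ}, c < 2 ^ 24 → c' < 2 ^ 24 → g • maskSet c = g • maskSet c' → c = c' := by
    intro c c' hc hc' h
    exact maskSet_injOn hc hc' (smul_left_cancel g h)
  have hbits : ∀ x : GolayPt, x ∉ maskSet o → (b.testBit (idx x) = !a.testBit (idx x)) := by
    intro x hx
    rw [mem_maskSet, Bool.not_eq_true] at hx
    have h1 : (o ||| a ||| b).testBit (idx x) = true := by
      rw [hcover]
      have := idx_lt x
      have h24 : ∀ i < 24, onesMask.testBit i = true := by decide
      exact h24 _ this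
    have h2 : (a &&& b).testBit (idx x) = false := by rw [hdisj]; simp
    rw [Nat.testBit_or, Nat.testBit_or, hx] at h1
    rw [Nat.testBit_and] at h2
    revert h1 h2
    cases a.testBit (idx x) <;> cases b.testBit (idx x) <;> simp
  rcases hA with hA | hA | hA
  · exact absurd (hinj ha ho (hA.trans hgo.symm)).symm hoa
  · refine ⟨false, fun x _ => ?_⟩
    have h1 : g x ∈ maskSet a ↔ x ∈ maskSet a := by
      conv_lhs => rw [← hA]
      exact mem_smul_finset_perm g _ x
    rw [mem_maskSet, mem_maskSet] at h1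
    rw [Bool.bne_false]
    exact Bool.eq_iff_iff.mpr h1
  · have hB' : g • maskSet b = maskSet a := by
      rcases hB with hB | hB | hB
      · exact absurd (hinj hb ho (hB.trans hgo.symm)).symm hob
      · exact hB
      · exact absurd (hinj ha hb (hA.trans hB.symm)) hab
    refine ⟨true, fun x hx => ?_⟩
    have h1 : g x ∈ maskSet a ↔ x ∈ maskSet b := by
      conv_lhs => rw [← hB']
      exact mem_smul_finset_perm g _ x
    rw [mem_maskSet, mem_maskSet, hbits x hx] at h1
    rw [Bool.bne_true]
    exact Bool.eq_iff_iff.mpr h1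

/-! ### The enumeration of the kernel -/

/-- for each trio through `oBm`, one of its other two octads -/
def sides15 : List ℕ := tr15.map (fun L => (L.filter (fun m => m != oBm)).headD 0)

/-- pruning: the images of the base points stay outside the octad and flip sides consistently -/
def okTr (vs : List ℕ) : Bool :=
  (vs.zip baseL).all (fun p => !oBm.testBit p.1) &&
    sides15.all (fun a => (vs.zip baseL).all (fun p =>
      (a.testBit p.1 != a.testBit p.2) == (a.testBit (vs.headD 0) != a.testBit 0)))

theorem zip_baseImgs_all (T : List ℕ) (Q : ℕ → ℕ → Bool) (h : ∀ β ∈ baseL, Q (T.getD β 0) β = true) (n : ℕ) :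
    ((baseImgs T n).zip baseL).all (fun p => Q p.1 p.2) = true := by
  unfold baseImgs
  have key : ∀ (l : List ℕ) (n : ℕ), (∀ β ∈ l, Q (T.getD β 0) β = true) →
      (((l.take n).map (fun b => T.getD b 0)).zip l).all (fun p => Q p.1 p.2) = true := by
    intro l
    induction l with
    | nil => intro n _; simp
    | cons b l ih =>
      intro n hl
      cases n with
      | zero => simp
      | succ n =>
        simp only [List.take_succ_cons, List.map_cons, List.zip_cons_cons, List.all_cons, Bool.and_eq_true]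
        exact ⟨hl b (by simp), ih n (fun β hβ => hl β (by simp [hβ]))⟩
  exact key baseL n h

theorem baseImgs_head (T : List ℕ) {n : ℕ} (hn : 1 ≤ n) : (baseImgs T n).headD 0 = T.getD 0 0 := by
  obtain ⟨k, rfl⟩ : ∃ k, n = k + 1 := ⟨n - 1, by omega⟩
  simp [baseImgs, baseL]

/-- the data of the sides -/
def sideOK (a : ℕ) : Bool :=
  decide (a < 2 ^ 24) && (oBm != a) && (oBm != (onesMask ^^^ oBm ^^^ a)) && (a != (onesMask ^^^ oBm ^^^ a)) &&
    (a &&& (onesMask ^^^ oBm ^^^ a) == 0) && (oBm ||| a ||| (onesMask ^^^ oBm ^^^ a) == onesMask) &&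
    decide ((onesMask ^^^ oBm ^^^ a) < 2 ^ 24) &&
    tr15.any (fun L => sameFam L [oBm, a, onesMask ^^^ oBm ^^^ a])

theorem sides15_ok : sides15.all sideOK = true := by decide +kernel

theorem baseL_out : baseL.all (fun β => !oBm.testBit β) = true := by decide

set_option maxRecDepth 100000 in
theorem ker_check : (enumL chainL [] idT okTr).all
    (fun T => (List.range 24).all (fun i => !oBm.testBit i || T.getD i 0 == i)) = true := by decide +kernel

theorem mem_baseL_lt {β : ℕ} (h : β ∈ baseL) : β < 24 := by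
  simp only [baseL, List.mem_cons, List.not_mem_nil, or_false] at h
  omega

/-- the kernel fixes the standard octad pointwise -/
theorem ker_oB {g : Equiv.Perm GolayPt} (hg : g ∈ M24) (hgo : g • maskSet oBm = maskSet oBm)
    (hT : ∀ T ∈ trios, maskSet oBm ∈ T → g • T = T) : ∀ p ∈ maskSet oBm, g p = p := by
  have hr := represents_tblOf g
  have himg : ∀ β, β < 24 → (tblOf g).getD β 0 = idx (g (pt β)) := fun β hβ => tblOf_getD g hβ
  have hout : ∀ x : GolayPt, x ∉ maskSet oBm → oBm.testBit (idx (g x)) = false := by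
    intro x hx
    have h1 : g x ∈ maskSet oBm ↔ x ∈ maskSet oBm := by
      conv_lhs => rw [← hgo]
      exact mem_smul_finset_perm g _ x
    rw [← Bool.not_eq_true, ← mem_maskSet, h1]
    exact hx
  have hbase_out : ∀ β ∈ baseL, pt β ∉ maskSet oBm := by
    intro β hβ
    rw [mem_maskSet, idx_pt (mem_baseL_lt hβ)]
    have := List.all_eq_true.mp baseL_out β hβ
    simpa using this
  have hmem : tblOf g ∈ enumL chainL [] idT okTr := by
    apply m24_enum_sound _ hg
    intro n hn1 hn7
    rw [okTr, Bool.and_eq_true]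
    constructor
    · apply zip_baseImgs_all (tblOf g) (fun v _ => !oBm.testBit v)
      intro β hβ
      rw [himg β (mem_baseL_lt hβ), hout _ (hbase_out β hβ)]
      rfl
    · rw [List.all_eq_true]
      intro a ha
      have hok := List.all_eq_true.mp sides15_ok a ha
      simp only [sideOK, Bool.and_eq_true, decide_eq_true_eq, bne_iff_ne, ne_eq, beq_iff_eq, List.any_eq_true] at hok
      obtain ⟨⟨⟨⟨⟨⟨⟨ha24, hoa⟩, hob⟩, hab⟩, hdisj⟩, hcover⟩, hb24⟩, L, hL, hsame⟩ := hok
      have hfam : famOf [oBm, a, onesMask ^^^ oBm ^^^ a] ∈ trios ∧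
          maskSet oBm ∈ famOf [oBm, a, onesMask ^^^ oBm ^^^ a] := by
        rw [mem_triosThrough_iff oBm_lt, tr15_eq]
        exact ⟨L, hL, famOf_eq_of_sameFam hsame⟩
      obtain ⟨s, hs⟩ := side_flip oBm_lt ha24 hb24 hoa hob hab hdisj hcover hgo (hT _ hfam.1 hfam.2)
      have hflip : ∀ β ∈ baseL, (a.testBit ((tblOf g).getD β 0) != a.testBit β) = s := by
        intro β hβ
        rw [himg β (mem_baseL_lt hβ), hs _ (hbase_out β hβ), idx_pt (mem_baseL_lt hβ)]
        cases a.testBit β <;> cases s <;> rfl
      rw [baseImgs_head _ hn1]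
      apply zip_baseImgs_all (tblOf g)
        (fun v β => (a.testBit v != a.testBit β) == (a.testBit ((tblOf g).getD 0 0) != a.testBit 0))
      intro β hβ
      rw [hflip β hβ, hflip 0 (by simp [baseL])]
      exact beq_self_eq_true s
  intro p hp
  have hP := List.all_eq_true.mp ker_check _ hmem
  have hP2 := List.all_eq_true.mp hP (idx p) (List.mem_range.mpr (idx_lt p))
  rw [mem_maskSet] at hp
  rw [hp] at hP2
  simp only [Bool.not_true, Bool.false_or, beq_iff_eq] at hP2
  have := (apply_pt_iff hr (idx_lt p) (idx_lt p)).mpr hP2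
  rwa [pt_idx] at this

/-! ### The pointwise stabiliser fixes the trios -/

set_option maxRecDepth 100000 in
theorem octFix_trios : octFixL.all (fun C => (triosThrough oct5).all (fun L => invB C L)) = true := by
  decide +kernel

theorem fix_oct5 {g : Equiv.Perm GolayPt} (hg : g ∈ M24) (hfix : ∀ p ∈ maskSet oct5, g p = p) :
    ∀ T ∈ trios, maskSet oct5 ∈ T → g • T = T := by
  intro T hT ho
  have hg' : g ∈ fixG (maskSet oct5) := (mem_fixG _ _).mpr ⟨hg, hfix⟩
  rw [fixG_oct5_eq] at hg'
  obtain ⟨C, hC, hv, rfl⟩ := fixG6_enum hg'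
  obtain ⟨L, hL, rfl⟩ := (mem_triosThrough_iff (by decide) T).mp ⟨hT, ho⟩
  have h1 := List.all_eq_true.mp (List.all_eq_true.mp octFix_trios C hC) L hL
  exact (smul_famOf_eq_iff (tblPerm_represents C hv)
    (sortedB_spec (trioL_sound (mem_triosThrough hL).1).1).2).mpr h1

end Cfsg.Agent.Helper27
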