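import Cfsg.Agent.Helper27.M24Enum
import Cfsg.Agent.Helper27.M24Invol

/-!
The order of a subgroup of `Cfsg.M24` whose elements are listed by their tables.
-/

set_option autoImplicit false

namespace Cfsg.Agent.Helper27

open Cfsg

/-- the order of a subgroup of `M24` whose elements are those with tables in a list -/
theorem card_subgroup_of_tbls (K : Subgroup ↥M24) (L : List (List ℕ)) (hnd : L.Nodup)
    (hv : ∀ T ∈ L, validTbl T = true ∧ tblInCode T = true)
    (h : ∀ n : ↥M24, n ∈ K ↔ tblOf n.1 ∈ L) : Nat.card K = L.length := by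
  have hv1 : ∀ T : {T // T ∈ L}, validTbl T.1 = true := fun T => (hv T.1 T.2).1
  have hv2 : ∀ T : {T // T ∈ L}, tblInCode T.1 = true := fun T => (hv T.1 T.2).2
  let f : ↥K → {T // T ∈ L} := fun n => ⟨tblOf n.1.1, (h n.1).mp n.2⟩
  have hmem : ∀ T : {T // T ∈ L},
      (⟨tblPerm T.1 (hv1 T), tblPerm_mem_M24 T.1 (hv1 T) (hv2 T)⟩ : ↥M24) ∈ K := by
    intro T
    rw [h]
    show tblOf (tblPerm T.1 (hv1 T)) ∈ L
    rw [tblOf_eq (tblPerm_represents T.1 _)]
    exact T.2
  let g : {T // T ∈ L} → ↥K := fun T =>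
    ⟨⟨tblPerm T.1 (hv1 T), tblPerm_mem_M24 T.1 (hv1 T) (hv2 T)⟩, hmem T⟩
  have hfg : ∀ T, f (g T) = T := by
    intro T
    apply Subtype.ext
    show tblOf (tblPerm T.1 (hv1 T)) = T.1
    exact tblOf_eq (tblPerm_represents T.1 _)
  have hgf : ∀ n, g (f n) = n := by
    intro n
    apply Subtype.ext
    apply Subtype.ext
    show tblPerm (tblOf n.1.1) (hv1 (f n)) = n.1.1
    exact represents_unique (tblPerm_represents _ _) (represents_tblOf n.1.1)
  have e : ↥K ≃ {T // T ∈ L} := ⟨f, g, hgf, hfg⟩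
  rw [Nat.card_congr e, Nat.card_eq_fintype_card, Fintype.card_of_subtype L.toFinset (fun T => List.mem_toFinset),
    List.toFinset_card_of_nodup hnd]

end Cfsg.Agent.Helper27
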