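import Cfsg.Agent.Helper27.M24Syl2Data
import Cfsg.Agent.Helper27.TblList
import Cfsg.Agent.Helper27.M24Cent
import Cfsg.Agent.Helper27.OctadTriosKer
import Cfsg.Agent.Helper27.M24SixSets

/-!
A Sylow 2-subgroup of `Cfsg.M24`, as the centraliser of an involution intersected with the stabilisers of a trio and
a sextet, enumerated.
-/

set_option autoImplicit false

namespace Cfsg.Agent.Helper27

open Cfsg
open scoped Pointwise

/-- the constraints for the centraliser of `zS` -/
def csS : List (List (ℕ × ℕ)) := [[], [(0, 1), (1, 0)], [], [(2, 3), (3, 2)], [], [(5, 5)], [(4, 6), (6, 4)]]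

theorem csS_ok : consOK zS csS = true := by decide +kernel

/-- the trio, beginning with the octad of fixed points -/
def trioU : List ℕ := [oS, sideS, thirdS]

/-- pruning: the octad of fixed points is preserved and the base points outside it flip sides consistently -/
def okSide (vs : List ℕ) : Bool :=
  (vs.zip baseL).all (fun p => (oS.testBit p.1 == oS.testBit p.2) &&
    (oS.testBit p.2 || ((sideS.testBit p.1 != sideS.testBit p.2) == (sideS.testBit (vs.headD 0) != sideS.testBit 0))))

/-- pruning for the Sylow subgroup -/
def okS (vs : List ℕ) : Bool := okC zS csS vs && okSide vs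

/-- the exact test at the leaves -/
def exactS (T : List ℕ) : Bool := (compT T zS == compT zS T) && invB T trioU && invB T sextS

/-- the tail of the stabiliser chain -/
def chainTail : List (ℕ × List (List ℕ)) :=
  [(1, transL1), (2, transL2), (3, transL3), (4, transL4), (5, transL5), (7, transL6)]

theorem chainL_eq : chainL = (0, transL0) :: chainTail := rfl

/-- the check of the part of the enumeration below the `i`-th element of the first transversal -/
def partCheck (i : ℕ) : Bool :=
  (if okS [idT.getD ((transL0.getD i []).getD 0 0) 0] then
    (enumL chainTail [idT.getD ((transL0.getD i []).getD 0 0) 0] (compT idT (transL0.getD i [])) okS).filter exactS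
    else []) == syl2Parts.getD i []

/-- the tables of a part are valid, preserve the code and map the first base point to `i` -/
def partOK (i : ℕ) : Bool :=
  (syl2Parts.getD i []).all (fun T => validTbl T && tblInCode T && (T.getD 0 0 == i))

set_option maxRecDepth 100000 in
theorem partCheck_0 : partCheck 0 = true := by decide +kernel
set_option maxRecDepth 100000 in
theorem partCheck_1 : partCheck 1 = true := by decide +kernel
set_option maxRecDepth 100000 in
theorem partCheck_2 : partCheck 2 = true := by decide +kernel
set_option maxRecDepth 100000 in
theorem partCheck_3 : partCheck 3 = true := by decide +kernel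
set_option maxRecDepth 100000 in
theorem partCheck_4 : partCheck 4 = true := by decide +kernel
set_option maxRecDepth 100000 in
theorem partCheck_5 : partCheck 5 = true := by decide +kernel
set_option maxRecDepth 100000 in
theorem partCheck_6 : partCheck 6 = true := by decide +kernel
set_option maxRecDepth 100000 in
theorem partCheck_7 : partCheck 7 = true := by decide +kernel
set_option maxRecDepth 100000 in
theorem partCheck_8 : partCheck 8 = true := by decide +kernel
set_option maxRecDepth 100000 in
theorem partCheck_9 : partCheck 9 = true := by decide +kernel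
set_option maxRecDepth 100000 in
theorem partCheck_10 : partCheck 10 = true := by decide +kernel
set_option maxRecDepth 100000 in
theorem partCheck_11 : partCheck 11 = true := by decide +kernel
set_option maxRecDepth 100000 in
theorem partCheck_12 : partCheck 12 = true := by decide +kernel
set_option maxRecDepth 100000 in
theorem partCheck_13 : partCheck 13 = true := by decide +kernel
set_option maxRecDepth 100000 in
theorem partCheck_14 : partCheck 14 = true := by decide +kernel
set_option maxRecDepth 100000 in
theorem partCheck_15 : partCheck 15 = true := by decide +kernel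
set_option maxRecDepth 100000 in
theorem partCheck_16 : partCheck 16 = true := by decide +kernel
set_option maxRecDepth 100000 in
theorem partCheck_17 : partCheck 17 = true := by decide +kernel
set_option maxRecDepth 100000 in
theorem partCheck_18 : partCheck 18 = true := by decide +kernel
set_option maxRecDepth 100000 in
theorem partCheck_19 : partCheck 19 = true := by decide +kernel
set_option maxRecDepth 100000 in
theorem partCheck_20 : partCheck 20 = true := by decide +kernel
set_option maxRecDepth 100000 in
theorem partCheck_21 : partCheck 21 = true := by decide +kernel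
set_option maxRecDepth 100000 in
theorem partCheck_22 : partCheck 22 = true := by decide +kernel
set_option maxRecDepth 100000 in
theorem partCheck_23 : partCheck 23 = true := by decide +kernel
set_option maxRecDepth 100000 in
theorem partOK_0 : partOK 0 = true := by decide +kernel
set_option maxRecDepth 100000 in
theorem partOK_1 : partOK 1 = true := by decide +kernel
set_option maxRecDepth 100000 in
theorem partOK_2 : partOK 2 = true := by decide +kernel
set_option maxRecDepth 100000 in
theorem partOK_3 : partOK 3 = true := by decide +kernel
set_option maxRecDepth 100000 in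
theorem partOK_4 : partOK 4 = true := by decide +kernel
set_option maxRecDepth 100000 in
theorem partOK_5 : partOK 5 = true := by decide +kernel
set_option maxRecDepth 100000 in
theorem partOK_6 : partOK 6 = true := by decide +kernel
set_option maxRecDepth 100000 in
theorem partOK_7 : partOK 7 = true := by decide +kernel
set_option maxRecDepth 100000 in
theorem partOK_8 : partOK 8 = true := by decide +kernel
set_option maxRecDepth 100000 in
theorem partOK_9 : partOK 9 = true := by decide +kernel
set_option maxRecDepth 100000 in
theorem partOK_10 : partOK 10 = true := by decide +kernel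
set_option maxRecDepth 100000 in
theorem partOK_11 : partOK 11 = true := by decide +kernel
set_option maxRecDepth 100000 in
theorem partOK_12 : partOK 12 = true := by decide +kernel
set_option maxRecDepth 100000 in
theorem partOK_13 : partOK 13 = true := by decide +kernel
set_option maxRecDepth 100000 in
theorem partOK_14 : partOK 14 = true := by decide +kernel
set_option maxRecDepth 100000 in
theorem partOK_15 : partOK 15 = true := by decide +kernel
set_option maxRecDepth 100000 in
theorem partOK_16 : partOK 16 = true := by decide +kernel
set_option maxRecDepth 100000 in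
theorem partOK_17 : partOK 17 = true := by decide +kernel
set_option maxRecDepth 100000 in
theorem partOK_18 : partOK 18 = true := by decide +kernel
set_option maxRecDepth 100000 in
theorem partOK_19 : partOK 19 = true := by decide +kernel
set_option maxRecDepth 100000 in
theorem partOK_20 : partOK 20 = true := by decide +kernel
set_option maxRecDepth 100000 in
theorem partOK_21 : partOK 21 = true := by decide +kernel
set_option maxRecDepth 100000 in
theorem partOK_22 : partOK 22 = true := by decide +kernel
set_option maxRecDepth 100000 in
theorem partOK_23 : partOK 23 = true := by decide +kernel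
set_option maxRecDepth 100000 in
theorem partNodup_0 : (syl2Parts.getD 0 []).Nodup := by decide +kernel
set_option maxRecDepth 100000 in
theorem partNodup_1 : (syl2Parts.getD 1 []).Nodup := by decide +kernel
set_option maxRecDepth 100000 in
theorem partNodup_2 : (syl2Parts.getD 2 []).Nodup := by decide +kernel
set_option maxRecDepth 100000 in
theorem partNodup_3 : (syl2Parts.getD 3 []).Nodup := by decide +kernel
set_option maxRecDepth 100000 in
theorem partNodup_4 : (syl2Parts.getD 4 []).Nodup := by decide +kernel
set_option maxRecDepth 100000 in
theorem partNodup_5 : (syl2Parts.getD 5 []).Nodup := by decide +kernel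
set_option maxRecDepth 100000 in
theorem partNodup_6 : (syl2Parts.getD 6 []).Nodup := by decide +kernel
set_option maxRecDepth 100000 in
theorem partNodup_7 : (syl2Parts.getD 7 []).Nodup := by decide +kernel
set_option maxRecDepth 100000 in
theorem partNodup_8 : (syl2Parts.getD 8 []).Nodup := by decide +kernel
set_option maxRecDepth 100000 in
theorem partNodup_9 : (syl2Parts.getD 9 []).Nodup := by decide +kernel
set_option maxRecDepth 100000 in
theorem partNodup_10 : (syl2Parts.getD 10 []).Nodup := by decide +kernel
set_option maxRecDepth 100000 in
theorem partNodup_11 : (syl2Parts.getD 11 []).Nodup := by decide +kernel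
set_option maxRecDepth 100000 in
theorem partNodup_12 : (syl2Parts.getD 12 []).Nodup := by decide +kernel
set_option maxRecDepth 100000 in
theorem partNodup_13 : (syl2Parts.getD 13 []).Nodup := by decide +kernel
set_option maxRecDepth 100000 in
theorem partNodup_14 : (syl2Parts.getD 14 []).Nodup := by decide +kernel
set_option maxRecDepth 100000 in
theorem partNodup_15 : (syl2Parts.getD 15 []).Nodup := by decide +kernel
set_option maxRecDepth 100000 in
theorem partNodup_16 : (syl2Parts.getD 16 []).Nodup := by decide +kernel
set_option maxRecDepth 100000 in
theorem partNodup_17 : (syl2Parts.getD 17 []).Nodup := by decide +kernel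
set_option maxRecDepth 100000 in
theorem partNodup_18 : (syl2Parts.getD 18 []).Nodup := by decide +kernel
set_option maxRecDepth 100000 in
theorem partNodup_19 : (syl2Parts.getD 19 []).Nodup := by decide +kernel
set_option maxRecDepth 100000 in
theorem partNodup_20 : (syl2Parts.getD 20 []).Nodup := by decide +kernel
set_option maxRecDepth 100000 in
theorem partNodup_21 : (syl2Parts.getD 21 []).Nodup := by decide +kernel
set_option maxRecDepth 100000 in
theorem partNodup_22 : (syl2Parts.getD 22 []).Nodup := by decide +kernel
set_option maxRecDepth 100000 in
theorem partNodup_23 : (syl2Parts.getD 23 []).Nodup := by decide +kernel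

theorem partCheck_all {i : ℕ} (hi : i < 24) : partCheck i = true := by
  interval_cases i
  · exact partCheck_0
  · exact partCheck_1
  · exact partCheck_2
  · exact partCheck_3
  · exact partCheck_4
  · exact partCheck_5
  · exact partCheck_6
  · exact partCheck_7
  · exact partCheck_8
  · exact partCheck_9
  · exact partCheck_10
  · exact partCheck_11
  · exact partCheck_12
  · exact partCheck_13
  · exact partCheck_14
  · exact partCheck_15
  · exact partCheck_16
  · exact partCheck_17
  · exact partCheck_18
  · exact partCheck_19
  · exact partCheck_20
  · exact partCheck_21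
  · exact partCheck_22
  · exact partCheck_23

theorem partOK_all {i : ℕ} (hi : i < 24) : partOK i = true := by
  interval_cases i
  · exact partOK_0
  · exact partOK_1
  · exact partOK_2
  · exact partOK_3
  · exact partOK_4
  · exact partOK_5
  · exact partOK_6
  · exact partOK_7
  · exact partOK_8
  · exact partOK_9
  · exact partOK_10
  · exact partOK_11
  · exact partOK_12
  · exact partOK_13
  · exact partOK_14
  · exact partOK_15
  · exact partOK_16
  · exact partOK_17
  · exact partOK_18
  · exact partOK_19
  · exact partOK_20
  · exact partOK_21
  · exact partOK_22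
  · exact partOK_23

theorem partNodup_all {i : ℕ} (hi : i < 24) : (syl2Parts.getD i []).Nodup := by
  interval_cases i
  · exact partNodup_0
  · exact partNodup_1
  · exact partNodup_2
  · exact partNodup_3
  · exact partNodup_4
  · exact partNodup_5
  · exact partNodup_6
  · exact partNodup_7
  · exact partNodup_8
  · exact partNodup_9
  · exact partNodup_10
  · exact partNodup_11
  · exact partNodup_12
  · exact partNodup_13
  · exact partNodup_14
  · exact partNodup_15
  · exact partNodup_16
  · exact partNodup_17
  · exact partNodup_18
  · exact partNodup_19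
  · exact partNodup_20
  · exact partNodup_21
  · exact partNodup_22
  · exact partNodup_23

theorem transL0_length : transL0.length = 24 := by decide +kernel

theorem syl2Parts_length : syl2Parts.length = 24 := by decide

theorem mem_syl2L_iff (X : List ℕ) : X ∈ syl2L ↔ ∃ i < 24, X ∈ syl2Parts.getD i [] := by
  rw [syl2L, List.mem_flatten]
  constructor
  · rintro ⟨l, hl, hX⟩
    obtain ⟨i, hi, rfl⟩ := List.mem_iff_getElem.mp hl
    refine ⟨i, by rwa [syl2Parts_length] at hi, ?_⟩
    rwa [List.getD_eq_getElem _ _ hi]
  · rintro ⟨i, hi, hX⟩
    have hi' : i < syl2Parts.length := by rwa [syl2Parts_length]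
    rw [List.getD_eq_getElem _ _ hi'] at hX
    exact ⟨_, List.getElem_mem hi', hX⟩

/-- the members of the parts are exactly the leaves passing the exact test -/
theorem mem_part_iff {i : ℕ} (hi : i < 24) (X : List ℕ) : X ∈ syl2Parts.getD i [] ↔
    okS [idT.getD ((transL0.getD i []).getD 0 0) 0] = true ∧
      X ∈ enumL chainTail [idT.getD ((transL0.getD i []).getD 0 0) 0] (compT idT (transL0.getD i [])) okS ∧
      exactS X = true := by
  have hpc := partCheck_all hi
  rw [partCheck, beq_iff_eq] at hpc
  rw [← hpc]
  split_ifs with hok
  · rw [List.mem_filter]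
    exact ⟨fun h => ⟨hok, h.1, h.2⟩, fun h => ⟨h.2.1, h.2.2⟩⟩
  · constructor
    · intro h
      simp at h
    · intro h
      exact absurd h.1 hok

/-- every leaf of the enumeration passing the exact test is listed -/
theorem syl2_enum {X : List ℕ} (h : X ∈ enumL chainL [] idT okS) (hx : exactS X = true) : X ∈ syl2L := by
  rw [chainL_eq, enumL, List.mem_flatMap] at h
  obtain ⟨T, hT, hX⟩ := h
  obtain ⟨i, hi, rfl⟩ := List.mem_iff_getElem.mp hT
  have hi24 : i < 24 := by rwa [transL0_length] at hi
  rw [List.nil_append] at hX
  rw [mem_syl2L_iff]
  refine ⟨i, hi24, ?_⟩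
  rw [mem_part_iff hi24, List.getD_eq_getElem _ _ hi]
  split_ifs at hX with hok
  · exact ⟨hok, hX, hx⟩
  · simp at hX

theorem syl2L_props {X : List ℕ} (h : X ∈ syl2L) : exactS X = true ∧ validTbl X = true ∧ tblInCode X = true := by
  obtain ⟨i, hi, hX⟩ := (mem_syl2L_iff X).mp h
  have h1 := ((mem_part_iff hi X).mp hX).2.2
  have h2 := List.all_eq_true.mp (partOK_all hi) X hX
  simp only [Bool.and_eq_true] at h2
  exact ⟨h1, h2.1.1, h2.1.2⟩

theorem syl2L_nodup : syl2L.Nodup := by
  rw [syl2L, List.nodup_flatten]
  constructor
  · intro l hl
    obtain ⟨i, hi, rfl⟩ := List.mem_iff_getElem.mp hl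
    have := partNodup_all (by rwa [syl2Parts_length] at hi : i < 24)
    rwa [List.getD_eq_getElem _ _ hi] at this
  · rw [List.pairwise_iff_getElem]
    intro i j hi hj hij
    have hi24 : i < 24 := by rwa [syl2Parts_length] at hi
    have hj24 : j < 24 := by rwa [syl2Parts_length] at hj
    intro X hXi hXj
    have h1 := List.all_eq_true.mp (partOK_all hi24) X (by rwa [List.getD_eq_getElem _ _ hi])
    have h2 := List.all_eq_true.mp (partOK_all hj24) X (by rwa [List.getD_eq_getElem _ _ hj])
    simp only [Bool.and_eq_true, beq_iff_eq] at h1 h2
    omega

theorem syl2L_length : syl2L.length = 1024 := by decide +kernel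

theorem zS_valid : validTbl zS = true := by decide +kernel

/-- the involution -/
noncomputable def zP : Equiv.Perm GolayPt := tblPerm zS zS_valid

theorem zP_mem : zP ∈ M24 := tblPerm_mem_M24 zS zS_valid (by decide +kernel)

theorem zP_rep : Represents zP zS := tblPerm_represents zS zS_valid

/-- membership in the standard Sylow subgroup -/
def InSyl (g : Equiv.Perm GolayPt) : Prop :=
  g ∈ M24 ∧ g * zP = zP * g ∧ g • famOf trioU = famOf trioU ∧ g • famOf sextS = famOf sextS

theorem fix_check : (List.range 24).all (fun i => oS.testBit i == (zS.getD i 0 == i)) = true := by decide +kernel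

theorem mem_oS_iff (p : GolayPt) : p ∈ maskSet oS ↔ zP p = p := by
  have h := List.all_eq_true.mp fix_check (idx p) (List.mem_range.mpr (idx_lt p))
  rw [mem_maskSet]
  have h2 := (apply_pt_iff zP_rep (idx_lt p) (idx_lt p))
  rw [pt_idx] at h2
  rw [h2]
  rw [beq_iff_eq] at h
  rw [h]
  simp

theorem smul_oS {g : Equiv.Perm GolayPt} (hc : g * zP = zP * g) : g • maskSet oS = maskSet oS := by
  apply smul_eq_of_maps
  intro p hp
  rw [mem_oS_iff] at hp ⊢
  have := congrArg (fun f : Equiv.Perm GolayPt => f p) hc
  simp only [Equiv.Perm.mul_apply] at this
  rw [hp] at this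
  exact this.symm

theorem trioU_lt : ∀ m ∈ trioU, m < 2 ^ 24 := by decide
theorem sextS_lt : ∀ m ∈ sextS, m < 2 ^ 24 := by decide

theorem okSide_sound {g : Equiv.Perm GolayPt} (hc : g * zP = zP * g) (hT : g • famOf trioU = famOf trioU)
    {n : ℕ} (hn1 : 1 ≤ n) : okSide (baseImgs (tblOf g) n) = true := by
  have hgo := smul_oS hc
  have himg : ∀ β, β < 24 → (tblOf g).getD β 0 = idx (g (pt β)) := fun β hβ => tblOf_getD g hβ
  have hmem : ∀ x : GolayPt, oS.testBit (idx (g x)) = oS.testBit (idx x) := by
    intro x
    have h1 : g x ∈ maskSet oS ↔ x ∈ maskSet oS := by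
      conv_lhs => rw [← hgo]
      exact mem_smul_finset_perm g _ x
    rw [mem_maskSet, mem_maskSet] at h1
    exact Bool.eq_iff_iff.mpr h1
  obtain ⟨s, hs⟩ := side_flip (o := oS) (a := sideS) (b := thirdS) (by decide) (by decide) (by decide) (by decide)
    (by decide) (by decide) (by decide) (by decide) hgo hT
  have h0 : pt 0 ∉ maskSet oS := by
    rw [mem_maskSet, idx_pt (by norm_num)]
    decide
  have hflip0 : (sideS.testBit ((tblOf g).getD 0 0) != sideS.testBit 0) = s := by
    rw [himg 0 (by norm_num), hs _ h0, idx_pt (by norm_num)]
    cases sideS.testBit 0 <;> cases s <;> rfl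
  rw [okSide, baseImgs_head _ hn1]
  apply zip_baseImgs_all (tblOf g) (fun v β => (oS.testBit v == oS.testBit β) &&
    (oS.testBit β || ((sideS.testBit v != sideS.testBit β) == (sideS.testBit ((tblOf g).getD 0 0) != sideS.testBit 0))))
  intro β hβ
  have hβ24 := mem_baseL_lt hβ
  have e1 : oS.testBit ((tblOf g).getD β 0) = oS.testBit β := by
    rw [himg β hβ24, hmem, idx_pt hβ24]
  rw [e1, beq_self_eq_true, Bool.true_and, hflip0]
  by_cases hb : oS.testBit β = true
  · rw [hb, Bool.true_or]
  · have hout : pt β ∉ maskSet oS := by rw [mem_maskSet, idx_pt hβ24]; exact hb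
    have : (sideS.testBit ((tblOf g).getD β 0) != sideS.testBit β) = s := by
      rw [himg β hβ24, hs _ hout, idx_pt hβ24]
      cases sideS.testBit β <;> cases s <;> rfl
    rw [this, beq_self_eq_true, Bool.or_true]

theorem inSyl_iff (g : Equiv.Perm GolayPt) : InSyl g ↔ tblOf g ∈ syl2L := by
  have hr := represents_tblOf g
  constructor
  · rintro ⟨hg, hc, hT, hX⟩
    apply syl2_enum
    · apply m24_enum_sound _ hg
      intro n hn1 hn7
      rw [okS, Bool.and_eq_true]
      exact ⟨okC_sound zP_rep zP_rep csS_ok hc n hn1 hn7, okSide_sound hc hT hn1⟩
    · rw [exactS, Bool.and_eq_true, Bool.and_eq_true, beq_iff_eq]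
      refine ⟨⟨?_, (smul_famOf_eq_iff hr trioU_lt).mp hT⟩, (smul_famOf_eq_iff hr sextS_lt).mp hX⟩
      apply represents_tbl_unique (represents_compT hr zP_rep)
      rw [hc]
      exact represents_compT zP_rep hr
  · intro hmem
    obtain ⟨h2, hv, hcode⟩ := syl2L_props hmem
    rw [exactS, Bool.and_eq_true, Bool.and_eq_true, beq_iff_eq] at h2
    have hok : validTbl (tblOf g) = true ∧ tblInCode (tblOf g) = true := ⟨hv, hcode⟩
    have hgM : g ∈ M24 := by
      have : g = tblPerm (tblOf g) hok.1 := represents_unique hr (tblPerm_represents _ hok.1)
      rw [this]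
      exact tblPerm_mem_M24 _ hok.1 hok.2
    refine ⟨hgM, ?_, (smul_famOf_eq_iff hr trioU_lt).mpr h2.1.2, (smul_famOf_eq_iff hr sextS_lt).mpr h2.2⟩
    apply represents_unique (represents_compT hr zP_rep)
    rw [h2.1.1]
    exact represents_compT zP_rep hr

end Cfsg.Agent.Helper27
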