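import Cfsg.Agent.Helper27.M24Syl2
import Cfsg.Agent.Helper27.SylowConj
import Cfsg.Agent.Helper27.M24Order
import Cfsg.Agent.Helper27.FamCount

/-!
The Sylow 2-subgroups of `Cfsg.M24` are self-normalising.
-/

set_option autoImplicit false

namespace Cfsg.Agent.Helper27

open Cfsg
open scoped Pointwise

/-- the standard Sylow 2-subgroup -/
def sylB : Subgroup ↥M24 where
  carrier := {g | InSyl g.1}
  mul_mem' := by
    intro a b ha hb
    obtain ⟨-, hca, hTa, hXa⟩ := ha
    obtain ⟨-, hcb, hTb, hXb⟩ := hb
    refine ⟨(a * b).2, ?_, ?_, ?_⟩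
    · show a.1 * b.1 * zP = zP * (a.1 * b.1)
      rw [mul_assoc, hcb, ← mul_assoc, hca, mul_assoc]
    · show (a.1 * b.1) • famOf trioU = famOf trioU
      rw [mul_smul, hTb, hTa]
    · show (a.1 * b.1) • famOf sextS = famOf sextS
      rw [mul_smul, hXb, hXa]
  one_mem' := ⟨(1 : ↥M24).2, by show (1 : Equiv.Perm GolayPt) * zP = zP * 1; rw [one_mul, mul_one],
    by show (1 : Equiv.Perm GolayPt) • famOf trioU = famOf trioU; rw [one_smul],
    by show (1 : Equiv.Perm GolayPt) • famOf sextS = famOf sextS; rw [one_smul]⟩
  inv_mem' := by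
    intro a ha
    obtain ⟨-, hca, hTa, hXa⟩ := ha
    refine ⟨(a⁻¹).2, ?_, ?_, ?_⟩
    · show a.1⁻¹ * zP = zP * a.1⁻¹
      rw [eq_mul_inv_iff_mul_eq, mul_assoc, ← hca, ← mul_assoc, inv_mul_cancel, one_mul]
    · show a.1⁻¹ • famOf trioU = famOf trioU
      rw [inv_smul_eq_iff, hTa]
    · show a.1⁻¹ • famOf sextS = famOf sextS
      rw [inv_smul_eq_iff, hXa]

theorem mem_sylB (g : ↥M24) : g ∈ sylB ↔ tblOf g.1 ∈ syl2L := inSyl_iff g.1

theorem card_sylB : Nat.card sylB = 2 ^ 10 := by
  rw [card_subgroup_of_tbls sylB syl2L syl2L_nodup (fun T hT => (syl2L_props hT).2) mem_sylB, syl2L_length]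
  norm_num

/-- the element of the standard Sylow subgroup with a given table -/
theorem exists_of_tbl {T : List ℕ} (hT : T ∈ syl2L) : ∃ b : ↥M24, b ∈ sylB ∧ Represents b.1 T := by
  obtain ⟨-, hv, hc⟩ := syl2L_props hT
  refine ⟨⟨tblPerm T hv, tblPerm_mem_M24 T hv hc⟩, ?_, tblPerm_represents T hv⟩
  rw [mem_sylB]
  show tblOf (tblPerm T hv) ∈ syl2L
  rw [tblOf_eq (tblPerm_represents T hv)]
  exact hT

theorem gens_mem : syl2Gens.all (fun G => syl2L.contains G) = true := by decide +kernel

theorem zS_mem : syl2L.contains zS = true := by decide +kernel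

/-- the centre: the elements commuting with the generators -/
def centOK (i : ℕ) : Bool :=
  (syl2Parts.getD i []).all (fun T => !(syl2Gens.all (fun G => compT T G == compT G T)) || T == idT || T == zS)

set_option maxRecDepth 100000 in
theorem centOK_0 : centOK 0 = true := by decide +kernel
set_option maxRecDepth 100000 in
theorem centOK_1 : centOK 1 = true := by decide +kernel
set_option maxRecDepth 100000 in
theorem centOK_2 : centOK 2 = true := by decide +kernel
set_option maxRecDepth 100000 in
theorem centOK_3 : centOK 3 = true := by decide +kernel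
set_option maxRecDepth 100000 in
theorem centOK_4 : centOK 4 = true := by decide +kernel
set_option maxRecDepth 100000 in
theorem centOK_5 : centOK 5 = true := by decide +kernel
set_option maxRecDepth 100000 in
theorem centOK_6 : centOK 6 = true := by decide +kernel
set_option maxRecDepth 100000 in
theorem centOK_7 : centOK 7 = true := by decide +kernel
set_option maxRecDepth 100000 in
theorem centOK_8 : centOK 8 = true := by decide +kernel
set_option maxRecDepth 100000 in
theorem centOK_9 : centOK 9 = true := by decide +kernel
set_option maxRecDepth 100000 in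
theorem centOK_10 : centOK 10 = true := by decide +kernel
set_option maxRecDepth 100000 in
theorem centOK_11 : centOK 11 = true := by decide +kernel
set_option maxRecDepth 100000 in
theorem centOK_12 : centOK 12 = true := by decide +kernel
set_option maxRecDepth 100000 in
theorem centOK_13 : centOK 13 = true := by decide +kernel
set_option maxRecDepth 100000 in
theorem centOK_14 : centOK 14 = true := by decide +kernel
set_option maxRecDepth 100000 in
theorem centOK_15 : centOK 15 = true := by decide +kernel
set_option maxRecDepth 100000 in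
theorem centOK_16 : centOK 16 = true := by decide +kernel
set_option maxRecDepth 100000 in
theorem centOK_17 : centOK 17 = true := by decide +kernel
set_option maxRecDepth 100000 in
theorem centOK_18 : centOK 18 = true := by decide +kernel
set_option maxRecDepth 100000 in
theorem centOK_19 : centOK 19 = true := by decide +kernel
set_option maxRecDepth 100000 in
theorem centOK_20 : centOK 20 = true := by decide +kernel
set_option maxRecDepth 100000 in
theorem centOK_21 : centOK 21 = true := by decide +kernel
set_option maxRecDepth 100000 in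
theorem centOK_22 : centOK 22 = true := by decide +kernel
set_option maxRecDepth 100000 in
theorem centOK_23 : centOK 23 = true := by decide +kernel

theorem centOK_all {i : ℕ} (hi : i < 24) : centOK i = true := by
  interval_cases i
  · exact centOK_0
  · exact centOK_1
  · exact centOK_2
  · exact centOK_3
  · exact centOK_4
  · exact centOK_5
  · exact centOK_6
  · exact centOK_7
  · exact centOK_8
  · exact centOK_9
  · exact centOK_10
  · exact centOK_11
  · exact centOK_12
  · exact centOK_13
  · exact centOK_14
  · exact centOK_15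
  · exact centOK_16
  · exact centOK_17
  · exact centOK_18
  · exact centOK_19
  · exact centOK_20
  · exact centOK_21
  · exact centOK_22
  · exact centOK_23

set_option maxRecDepth 100000 in
theorem trio_unique : trioData.filter (fun L => syl2Gens.all (fun G => invB G L)) = [trioS] := by decide +kernel

set_option maxRecDepth 100000 in
theorem sext_unique : sextData.filter (fun L => syl2Gens.all (fun G => invB G L)) = [sextS] := by decide +kernel

theorem trioU_same : sameFam trioU trioS = true := by decide

theorem zS_ne : zS ≠ idT := by decide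

/-- the normaliser of the standard Sylow subgroup is contained in it -/
theorem normalizer_sylB_le : Subgroup.normalizer (sylB : Set ↥M24) ≤ sylB := by
  intro n hn
  have hn' : n⁻¹ ∈ Subgroup.normalizer (sylB : Set ↥M24) := inv_mem hn
  have hconj : ∀ b ∈ sylB, n * b * n⁻¹ ∈ sylB := fun b hb => (Subgroup.mem_normalizer_iff.mp hn b).mp hb
  have hconj' : ∀ b ∈ sylB, n⁻¹ * b * n ∈ sylB := fun b hb => by
    have := (Subgroup.mem_normalizer_iff.mp hn' b).mp hb
    rwa [inv_inv] at this
  -- the generators
  have hgen : ∀ G ∈ syl2Gens, ∃ b : ↥M24, b ∈ sylB ∧ Represents b.1 G := by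
    intro G hG
    have := List.all_eq_true.mp gens_mem G hG
    exact exists_of_tbl (List.contains_iff_mem.mp this)
  -- the involution
  obtain ⟨z0, hz0, hz0r⟩ := exists_of_tbl (List.contains_iff_mem.mp zS_mem)
  have hz0P : z0.1 = zP := represents_unique hz0r zP_rep
  have hcent : ∀ b ∈ sylB, b * z0 = z0 * b := by
    intro b hb
    apply Subtype.ext
    show b.1 * z0.1 = z0.1 * b.1
    rw [hz0P]
    exact hb.2.1
  -- the conjugate of the involution is central, hence equal to it
  have hc : n * z0 * n⁻¹ = z0 := by
    have hcmem := hconj z0 hz0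
    have hccent : ∀ b ∈ sylB, (n * z0 * n⁻¹) * b = b * (n * z0 * n⁻¹) := by
      intro b hb
      have h1 := hcent _ (hconj' b hb)
      have h2 : n * z0 * n⁻¹ * b = n * (z0 * (n⁻¹ * b * n)) * n⁻¹ := by group
      have h3 : b * (n * z0 * n⁻¹) = n * ((n⁻¹ * b * n) * z0) * n⁻¹ := by group
      rw [h2, h3, h1]
    have hmem := (mem_sylB _).mp hcmem
    obtain ⟨i, hi, hpart⟩ := (mem_syl2L_iff _).mp hmem
    have hck := List.all_eq_true.mp (centOK_all hi) _ hpart
    have hall : syl2Gens.all (fun G => compT (tblOf (n * z0 * n⁻¹).1) G == compT G (tblOf (n * z0 * n⁻¹).1)) = true := by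
      rw [List.all_eq_true]
      intro G hG
      obtain ⟨b, hb, hbr⟩ := hgen G hG
      rw [beq_iff_eq]
      have e := congrArg Subtype.val (hccent b hb)
      have e' : (n * z0 * n⁻¹).1 * b.1 = b.1 * (n * z0 * n⁻¹).1 := e
      apply represents_tbl_unique (represents_compT (represents_tblOf _) hbr)
      rw [e']
      exact represents_compT hbr (represents_tblOf _)
    rw [hall] at hck
    simp only [Bool.not_true, Bool.false_or, Bool.or_eq_true, beq_iff_eq] at hck
    rcases hck with h | h
    · exfalso
      have h1 : (n * z0 * n⁻¹).1 = 1 := by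
        have := represents_tblOf (n * z0 * n⁻¹).1
        rw [h] at this
        exact represents_unique this represents_one
      have h2 : n * z0 * n⁻¹ = 1 := Subtype.ext h1
      have h3 : z0 = 1 := by
        have : z0 = n⁻¹ * (n * z0 * n⁻¹) * n := by group
        rw [this, h2]; group
      have h4 : zP = 1 := by rw [← hz0P, h3]; rfl
      have h5 := zP_rep
      rw [h4] at h5
      exact zS_ne (represents_tbl_unique h5 represents_one)
    · apply Subtype.ext
      have := represents_tblOf (n * z0 * n⁻¹).1
      rw [h] at this
      exact represents_unique this hz0r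
  -- the trio and the sextet are the only ones fixed by the subgroup
  have hfixfam : ∀ (F : Finset (Finset GolayPt)), (∀ b ∈ sylB, b.1 • F = F) → ∀ b ∈ sylB, b.1 • (n.1 • F) = n.1 • F := by
    intro F hF b hb
    have h1 := hF _ (hconj' b hb)
    have h2 : (n⁻¹ * b * n).1 = n.1⁻¹ * b.1 * n.1 := rfl
    rw [h2, mul_smul, mul_smul, inv_smul_eq_iff] at h1
    exact h1
  have hT0 : famOf trioU ∈ trios := by
    rw [famOf_eq_of_sameFam trioU_same]
    have : trioS ∈ trioL := by
      rw [← trioData_eq]
      have h := trio_unique
      have : trioS ∈ trioData.filter (fun L => syl2Gens.all (fun G => invB G L)) := by rw [h]; simp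
      exact (List.mem_filter.mp this).1
    exact (trioL_sound this).2
  have hX0 : famOf sextS ∈ sextets := by
    have : sextS ∈ sextL := by
      rw [← sextData_eq]
      have h := sext_unique
      have : sextS ∈ sextData.filter (fun L => syl2Gens.all (fun G => invB G L)) := by rw [h]; simp
      exact (List.mem_filter.mp this).1
    exact (sextL_sound this).2
  have hnT : n.1 • famOf trioU = famOf trioU := by
    have hfix := hfixfam (famOf trioU) (fun b hb => hb.2.2.1)
    obtain ⟨L, hL, hLe⟩ := trioL_complete (smul_mem_trios n.2 hT0)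
    have hLmem : L ∈ trioData.filter (fun L => syl2Gens.all (fun G => invB G L)) := by
      rw [List.mem_filter, trioData_eq]
      refine ⟨hL, ?_⟩
      rw [List.all_eq_true]
      intro G hG
      obtain ⟨b, hb, hbr⟩ := hgen G hG
      rw [← smul_famOf_eq_iff hbr (sortedB_spec (trioL_sound hL).1).2, hLe]
      exact hfix b hb
    rw [trio_unique, List.mem_singleton] at hLmem
    rw [← hLe, hLmem, famOf_eq_of_sameFam trioU_same]
  have hnX : n.1 • famOf sextS = famOf sextS := by
    have hfix := hfixfam (famOf sextS) (fun b hb => hb.2.2.2)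
    obtain ⟨L, hL, hLe⟩ := sextL_complete (smul_mem_sextets n.2 hX0)
    have hLmem : L ∈ sextData.filter (fun L => syl2Gens.all (fun G => invB G L)) := by
      rw [List.mem_filter, sextData_eq]
      refine ⟨hL, ?_⟩
      rw [List.all_eq_true]
      intro G hG
      obtain ⟨b, hb, hbr⟩ := hgen G hG
      rw [← smul_famOf_eq_iff hbr (sortedB_spec (sextL_sound hL).1).2, hLe]
      exact hfix b hb
    rw [sext_unique, List.mem_singleton] at hLmem
    rw [← hLe, hLmem]
  refine ⟨n.2, ?_, hnT, hnX⟩
  have h1 : n * z0 = z0 * n := by
    have : n * z0 = (n * z0 * n⁻¹) * n := by group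
    rw [this, hc]
  have h2 := congrArg Subtype.val h1
  have h3 : n.1 * z0.1 = z0.1 * n.1 := h2
  rwa [hz0P] at h3

theorem normalizer_sylB : Subgroup.normalizer (sylB : Set ↥M24) = sylB :=
  le_antisymm normalizer_sylB_le Subgroup.le_normalizer

/-- every Sylow 2-subgroup is self-normalising -/
theorem sylow2_self_normalizing (S : Sylow 2 ↥M24) :
    Subgroup.normalizer ((S : Subgroup ↥M24) : Set ↥M24) = (S : Subgroup ↥M24) := by
  have h2 : Fact (Nat.Prime 2) := ⟨by norm_num⟩
  have hfin : Finite ↥M24 := Nat.finite_of_card_ne_zero (by rw [card_M24]; norm_num)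
  have hS : Nat.card (S : Subgroup ↥M24) = 2 ^ 10 :=
    sylow_card_of_card (p := 2) (n := 10) (m := 239085) (by rw [card_M24]; norm_num) (by norm_num) S
  obtain ⟨g, hg⟩ := exists_conj_of_card_eq (p := 2) (k := 10) (S : Subgroup ↥M24) sylB hS card_sylB
    (by rw [card_M24]; norm_num)
  rw [hg, ← Subgroup.map_equiv_normalizer_eq, normalizer_sylB]

end Cfsg.Agent.Helper27
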