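import Cfsg.Agent.Helper27.M24Invol

/-!
The elements of order three of `Cfsg.M24`: such an element is conjugate to one with prescribed images of four base
points, and the 960 elements with these images are enumerated along the stabiliser chain.
-/

set_option autoImplicit false

namespace Cfsg.Agent.Helper27

open Cfsg
open scoped Pointwise

/-- an element with the prescribed images of the first four points -/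
def t3T : List ℕ := [1, 2, 0, 4, 9, 7, 23, 5, 15, 13, 18, 16, 19, 6, 10, 21, 11, 12, 8, 17, 20, 14, 22, 3]

/-- an element of order three with six fixed points -/
def wAT : List ℕ := [1, 2, 0, 4, 7, 21, 16, 3, 5, 23, 10, 13, 12, 14, 11, 9, 18, 17, 6, 19, 20, 8, 22, 15]

/-- a fixed-point-free element of order three -/
def wBT : List ℕ := [1, 2, 0, 4, 9, 6, 10, 19, 15, 3, 5, 7, 18, 16, 20, 17, 21, 8, 22, 11, 23, 13, 12, 14]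

/-- conjugators for the elements of order three among the 960 candidates, indexed by a key -/
def threeCerts : List (ℕ × List ℕ) := [
  (5347, [0, 1, 2, 3, 4, 5, 6, 7, 8, 9, 10, 11, 12, 13, 14, 15, 16, 17, 18, 19, 20, 21, 22, 23]),
  (5466, [7, 19, 11, 18, 22, 5, 21, 13, 3, 12, 15, 6, 10, 4, 23, 1, 2, 14, 16, 17, 9, 20, 8, 0]),
  (5717, [16, 21, 13, 9, 3, 2, 18, 1, 11, 4, 8, 17, 22, 14, 7, 10, 19, 20, 15, 12, 5, 6, 0, 23]),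
  (4539, [0, 1, 2, 3, 4, 5, 6, 7, 8, 9, 10, 11, 12, 13, 14, 15, 16, 17, 18, 19, 20, 21, 22, 23]),
  (4227, [8, 5, 21, 13, 14, 15, 4, 11, 9, 10, 22, 16, 19, 6, 17, 2, 12, 3, 7, 18, 1, 20, 23, 0]),
  (4563, [23, 15, 9, 13, 14, 2, 8, 11, 10, 16, 20, 12, 19, 7, 4, 18, 21, 5, 22, 3, 6, 1, 0, 17]),
  (4155, [21, 8, 5, 11, 13, 17, 10, 14, 16, 3, 22, 9, 19, 20, 23, 12, 1, 2, 0, 15, 4, 18, 6, 7]),
  (13438, [11, 7, 19, 18, 22, 6, 23, 10, 9, 14, 13, 0, 15, 17, 21, 4, 16, 8, 1, 20, 3, 2, 5, 12]),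
  (13549, [2, 0, 1, 13, 16, 20, 15, 4, 19, 5, 22, 6, 23, 9, 3, 10, 14, 18, 7, 11, 8, 17, 12, 21]),
  (13504, [4, 9, 3, 12, 18, 0, 8, 11, 15, 10, 1, 17, 21, 2, 16, 23, 7, 19, 6, 20, 5, 14, 13, 22]),
  (2961, [16, 21, 13, 12, 18, 22, 15, 1, 19, 2, 6, 3, 23, 17, 20, 11, 9, 5, 14, 10, 8, 7, 4, 0]),
  (2971, [5, 6, 10, 8, 15, 17, 7, 16, 3, 23, 0, 19, 20, 18, 13, 11, 9, 14, 1, 21, 4, 12, 22, 2]),
  (2970, [23, 14, 20, 1, 2, 0, 5, 18, 6, 11, 19, 8, 16, 4, 7, 9, 3, 12, 22, 21, 15, 17, 10, 13]),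
  (8877, [1, 2, 0, 5, 6, 14, 11, 12, 22, 20, 15, 16, 13, 19, 3, 10, 21, 17, 4, 8, 9, 18, 7, 23]),
  (8987, [1, 2, 0, 8, 15, 12, 22, 16, 7, 5, 3, 21, 19, 20, 18, 17, 9, 11, 6, 13, 14, 4, 10, 23]),
  (8969, [7, 19, 11, 20, 23, 16, 15, 12, 6, 8, 10, 5, 2, 21, 4, 14, 22, 18, 13, 1, 17, 0, 3, 9]),
  (7655, [22, 12, 18, 4, 9, 1, 2, 20, 11, 0, 17, 21, 5, 3, 19, 16, 8, 7, 10, 13, 14, 15, 6, 23]),
  (7966, [3, 4, 9, 6, 10, 16, 8, 0, 17, 7, 20, 19, 18, 5, 13, 15, 22, 11, 14, 21, 12, 2, 1, 23]),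
  (7912, [20, 23, 14, 9, 3, 17, 22, 21, 19, 7, 6, 18, 1, 4, 12, 15, 13, 8, 16, 11, 5, 0, 10, 2]),
  (10689, [6, 10, 5, 14, 20, 9, 11, 22, 17, 12, 4, 15, 21, 3, 7, 8, 2, 0, 23, 13, 18, 16, 19, 1]),
  (10877, [22, 12, 18, 1, 2, 4, 8, 3, 17, 21, 5, 14, 16, 13, 7, 11, 15, 19, 0, 6, 10, 9, 20, 23]),
  (10867, [21, 13, 16, 19, 11, 3, 1, 12, 20, 5, 10, 2, 9, 22, 14, 8, 15, 0, 7, 18, 4, 6, 17, 23]),
  (9454, [8, 15, 17, 6, 10, 0, 16, 3, 9, 1, 19, 13, 18, 11, 2, 7, 5, 23, 14, 12, 21, 20, 4, 22]),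
  (9709, [10, 5, 6, 1, 2, 21, 8, 19, 14, 12, 20, 18, 3, 11, 17, 9, 0, 15, 16, 7, 13, 22, 4, 23]),
  (9647, [18, 22, 12, 6, 10, 9, 2, 20, 7, 0, 16, 4, 19, 11, 8, 14, 5, 3, 1, 13, 17, 15, 21, 23]),
  (11337, [4, 9, 3, 8, 15, 21, 7, 5, 12, 6, 18, 19, 16, 14, 23, 10, 13, 2, 22, 17, 20, 11, 1, 0]),
  (11322, [13, 16, 21, 11, 7, 22, 0, 3, 10, 6, 18, 8, 5, 20, 15, 12, 9, 17, 4, 19, 1, 14, 2, 23]),
  (11141, [21, 13, 16, 14, 20, 7, 15, 11, 19, 9, 4, 5, 1, 10, 8, 0, 3, 12, 2, 23, 18, 22, 6, 17]),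
  (3830, [23, 14, 20, 0, 1, 17, 2, 7, 18, 22, 13, 11, 12, 9, 19, 8, 3, 10, 4, 15, 16, 5, 21, 6]),
  (3896, [20, 23, 14, 5, 6, 9, 10, 15, 17, 1, 2, 11, 7, 22, 0, 18, 13, 4, 3, 21, 19, 12, 8, 16]),
  (4028, [21, 13, 16, 9, 3, 20, 4, 8, 12, 17, 22, 18, 1, 14, 2, 11, 19, 7, 6, 10, 15, 5, 0, 23]),
  (5887, [18, 6, 16, 9, 23, 10, 1, 20, 21, 14, 15, 22, 17, 0, 13, 2, 19, 7, 5, 3, 12, 11, 4, 8]),
  (6079, [4, 7, 3, 21, 8, 6, 17, 22, 15, 1, 5, 23, 12, 16, 2, 18, 0, 11, 9, 19, 14, 10, 13, 20]),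
  (6127, [5, 21, 8, 14, 11, 6, 18, 19, 20, 10, 13, 15, 22, 17, 0, 16, 2, 12, 9, 3, 4, 1, 7, 23]),
  (5911, [9, 23, 15, 14, 11, 4, 7, 19, 5, 0, 13, 21, 20, 3, 10, 12, 1, 6, 22, 18, 16, 2, 17, 8]),
  (12569, [5, 6, 10, 3, 4, 14, 12, 13, 1, 22, 7, 17, 15, 11, 18, 19, 2, 16, 21, 20, 8, 9, 0, 23]),
  (12443, [14, 20, 23, 16, 21, 4, 1, 12, 3, 19, 10, 18, 15, 22, 9, 17, 11, 5, 8, 7, 6, 13, 2, 0]),
  (12639, [16, 21, 13, 15, 17, 10, 9, 22, 4, 6, 23, 14, 11, 19, 0, 12, 2, 7, 20, 3, 18, 8, 5, 1]),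
  (6735, [5, 6, 10, 20, 23, 17, 4, 13, 0, 21, 12, 14, 9, 19, 11, 16, 8, 18, 1, 15, 2, 3, 22, 7]),
  (6789, [5, 6, 10, 4, 9, 0, 13, 17, 20, 7, 16, 3, 19, 18, 23, 21, 22, 11, 1, 14, 12, 8, 15, 2]),
  (6689, [0, 1, 2, 13, 16, 19, 20, 23, 5, 3, 4, 21, 22, 17, 11, 12, 6, 14, 8, 15, 7, 9, 18, 10]),
  (7183, [11, 13, 14, 5, 21, 6, 12, 19, 15, 23, 22, 16, 8, 9, 0, 1, 17, 20, 10, 7, 18, 4, 2, 3]),
  (7399, [7, 3, 4, 18, 6, 11, 15, 12, 5, 21, 17, 19, 16, 22, 10, 1, 14, 8, 2, 20, 13, 9, 0, 23]),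
  (7303, [4, 7, 3, 16, 18, 21, 2, 12, 13, 19, 17, 5, 6, 11, 9, 20, 8, 14, 15, 0, 22, 1, 23, 10]),
  (7039, [21, 8, 5, 15, 9, 17, 2, 22, 12, 4, 20, 6, 23, 7, 13, 11, 16, 3, 14, 1, 18, 10, 19, 0]),
  (4838, [14, 20, 23, 19, 11, 10, 3, 15, 7, 5, 9, 12, 13, 2, 17, 4, 21, 6, 1, 8, 16, 18, 22, 0]),
  (5118, [23, 14, 20, 11, 7, 1, 4, 3, 19, 12, 16, 6, 17, 22, 8, 15, 9, 5, 0, 13, 21, 2, 18, 10]),
  (5180, [6, 10, 5, 19, 11, 21, 17, 14, 7, 9, 12, 4, 15, 1, 18, 23, 22, 0, 3, 8, 20, 2, 16, 13]),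
  (10095, [9, 3, 4, 0, 1, 21, 19, 14, 6, 12, 15, 16, 13, 5, 8, 20, 10, 2, 11, 18, 7, 17, 22, 23]),
  (9981, [16, 21, 13, 3, 4, 8, 11, 15, 14, 5, 12, 18, 2, 6, 1, 0, 19, 9, 10, 23, 20, 17, 7, 22]),
  (10043, [22, 12, 18, 19, 11, 4, 15, 2, 17, 8, 9, 0, 14, 10, 1, 3, 21, 7, 16, 13, 6, 20, 5, 23]),
  (11984, [23, 14, 20, 0, 1, 15, 16, 7, 19, 4, 13, 5, 12, 21, 18, 10, 6, 8, 22, 17, 2, 11, 9, 3]),
  (12086, [16, 21, 13, 20, 23, 22, 3, 2, 19, 17, 7, 10, 9, 1, 0, 8, 18, 5, 11, 15, 14, 4, 6, 12]),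
  (11790, [5, 6, 10, 11, 7, 1, 23, 20, 8, 0, 18, 2, 17, 15, 22, 21, 3, 16, 14, 9, 19, 12, 4, 13]),
  (8358, [8, 15, 17, 18, 22, 23, 16, 13, 3, 0, 9, 7, 14, 5, 12, 19, 10, 21, 2, 6, 20, 1, 11, 4]),
  (8324, [23, 14, 20, 6, 10, 15, 8, 19, 1, 16, 17, 13, 0, 18, 5, 3, 9, 2, 12, 21, 11, 4, 22, 7]),
  (8240, [6, 10, 5, 15, 17, 20, 2, 23, 14, 18, 21, 9, 1, 3, 8, 19, 12, 16, 7, 11, 13, 4, 22, 0]),
  (13127, [4, 9, 3, 5, 6, 7, 23, 2, 16, 1, 14, 22, 12, 20, 11, 15, 18, 17, 19, 8, 13, 21, 10, 0]),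
  (13096, [8, 15, 17, 1, 2, 9, 12, 18, 19, 10, 20, 14, 5, 6, 11, 7, 22, 3, 16, 21, 13, 4, 0, 23]),
  (12877, [15, 17, 8, 19, 11, 20, 1, 12, 23, 21, 13, 22, 2, 18, 9, 5, 16, 4, 6, 14, 3, 10, 7, 0])]

/-- the table has order dividing three -/
def tblCube (T : List ℕ) : Bool := (List.range 24).all (fun j => T.getD (T.getD (T.getD j 0) 0) 0 == j)

/-- the conjugator certificate -/
def certOK3 (T : List ℕ) : Bool :=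
  match threeCerts.find? (fun c => c.1 == keyOf T) with
  | none => false
  | some c => validTbl c.2 && tblInCode c.2 &&
      (compT c.2 T == compT (if fixMaskT T == 0 then wBT else wAT) c.2)

/-- the property checked on the 960 candidates -/
def threeP (T : List ℕ) : Bool := !(tblCube T) || certOK3 T

theorem three_check : allProdM [transL4, transL5, transL6] t3T threeP = true := by decide +kernel

end Cfsg.Agent.Helper27
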