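import Cfsg.Agent.Helper27.M24Octad
import Cfsg.Agent.Helper27.OctadPair
import Cfsg.Agent.Helper27.AffLift

/-!
The elementary abelian group of order 16 fixing the standard octad pointwise, labelled by the vectors of the
four-dimensional space over the field with two elements, and its regular action on the sixteen points outside the
octad.
-/

set_option autoImplicit false

namespace Cfsg.Agent.Helper27

open Cfsg
open scoped Pointwise

/-- vectors as numbers below 16 -/
def code4 (v : V4) : ℕ := (v 0).val + 2 * (v 1).val + 4 * (v 2).val + 8 * (v 3).val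

theorem code4_lt (v : V4) : code4 v < 16 := by revert v; decide

theorem code4_injective : Function.Injective code4 := by
  intro v w; revert v w; decide

theorem code4_add (v w : V4) : code4 (v + w) = code4 v ^^^ code4 w := by revert v w; decide

theorem code4_surj : ∀ k < 16, ∃ v : V4, code4 v = k := by decide

/-- the sixteen elements fixing the standard octad pointwise, indexed by codes -/
def tL : List (List ℕ) := [
  [0,1,2,3,4,5,6,7,8,9,10,11,12,13,14,15,16,17,18,19,20,21,22,23],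
  [0,1,2,3,4,6,5,7,18,14,10,23,12,15,9,13,21,22,8,20,19,16,17,11],
  [0,1,2,3,4,8,18,7,5,20,10,13,12,11,19,23,17,16,6,14,9,22,21,15],
  [0,1,2,3,4,18,8,7,6,19,10,15,12,23,20,11,22,21,5,9,14,17,16,13],
  [0,1,2,3,4,9,14,7,20,5,10,17,12,16,6,21,13,11,19,18,8,15,23,22],
  [0,1,2,3,4,14,9,7,19,6,10,22,12,21,5,16,15,23,20,8,18,13,11,17],
  [0,1,2,3,4,20,19,7,9,8,10,16,12,17,18,22,11,13,14,6,5,23,15,21],
  [0,1,2,3,4,19,20,7,14,18,10,21,12,22,8,17,23,15,9,5,6,11,13,16],
  [0,1,2,3,4,11,23,7,13,17,10,5,12,8,22,18,20,9,15,21,16,19,14,6],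
  [0,1,2,3,4,23,11,7,15,22,10,6,12,18,17,8,19,14,13,16,21,20,9,5],
  [0,1,2,3,4,13,15,7,11,16,10,8,12,5,21,6,9,20,23,22,17,14,19,18],
  [0,1,2,3,4,15,13,7,23,21,10,18,12,6,16,5,14,19,11,17,22,9,20,8],
  [0,1,2,3,4,17,22,7,16,11,10,9,12,20,23,19,8,5,21,15,13,18,6,14],
  [0,1,2,3,4,22,17,7,21,23,10,14,12,19,11,20,18,6,16,13,15,8,5,9],
  [0,1,2,3,4,16,21,7,17,13,10,20,12,9,15,14,5,8,22,23,11,6,18,19],
  [0,1,2,3,4,21,16,7,22,15,10,19,12,14,13,9,6,18,17,11,23,5,8,20]]

/-- the table with a given code -/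
def tT (k : ℕ) : List ℕ := tL.getD k (List.range 24)

theorem tT_ge {k : ℕ} (hk : 16 ≤ k) : tT k = List.range 24 := by
  rw [tT, List.getD_eq_default]
  simpa [tL] using hk

theorem tT_valid (k : ℕ) : validTbl (tT k) = true := by
  by_cases hk : k < 16
  · interval_cases k <;> decide
  · rw [tT_ge (by omega)]; decide

theorem tT_inCode : ∀ k, k < 16 → tblInCode (tT k) = true := by decide +kernel

theorem tT_lt : ∀ k, k < 16 → ∀ i, i < 24 → (tT k).getD i 0 < 24 := by decide +kernel

theorem tT_mul : ∀ k, k < 16 → ∀ l, l < 16 → ∀ i, i < 24 →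
    (tT k).getD ((tT l).getD i 0) 0 = (tT (k ^^^ l)).getD i 0 := by decide +kernel

theorem tT_zero : ∀ i, i < 24 → (tT 0).getD i 0 = i := by decide +kernel

theorem tT_inj5 : ∀ k, k < 16 → ∀ l, l < 16 → (tT k).getD 5 0 = (tT l).getD 5 0 → k = l := by decide +kernel

theorem tT_out : ∀ i, i < 24 → oct5.testBit i = false → ∃ k, k < 16 ∧ (tT k).getD 5 0 = i := by decide +kernel

theorem tT_fix : ∀ k, k < 16 → ∀ i, i < 24 → oct5.testBit i = true → (tT k).getD i 0 = i := by decide +kernel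

theorem tT_five : ∀ k, k < 16 → oct5.testBit ((tT k).getD 5 0) = false := by decide +kernel

theorem tT_one_fixed : ∀ i, i < 24 → ((tT 1).getD i 0 = i ↔ oct5.testBit i = true) := by decide +kernel

theorem octFixL_sub : ∀ T ∈ octFixL, ∃ k, k < 16 ∧ T = tT k := by decide +kernel

end Cfsg.Agent.Helper27
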