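import Cfsg.Agent.Helper27.SL5Unip3
import Cfsg.Agent.Helper27.SplitTools
import Cfsg.Agent.Helper3.LargeES
import Cfsg.Agent.S5396
import Cfsg.Prelude.Def_MonsterType

/-!
The structure of a group element whose centraliser is isomorphic to the centraliser of a transvection in `SL(5, 2)`:
the largest normal 2-subgroup of the centraliser is extraspecial of order `2 ^ 7`, it is a large extraspecial
subgroup under a mild extra hypothesis, and it is complemented in the centraliser by a copy of `SL(3, 2)`.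
-/

set_option autoImplicit false
set_option linter.style.haveILetI false

namespace Cfsg.Agent.Helper27

open Cfsg Cfsg.Agent.Helper3

section

variable {G : Type*} [Group G] {z : G} (θ : ↥(Subgroup.centralizer ({z} : Set G)) ≃* ↥BT)

/-- the element as a member of its centraliser -/
def zCent (z : G) : ↥(Subgroup.centralizer ({z} : Set G)) := ⟨z, Subgroup.mem_centralizer_singleton_iff.mpr rfl⟩

theorem zCent_central (x : ↥(Subgroup.centralizer ({z} : Set G))) : x * zCent z = zCent z * x :=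
  Subtype.ext (Subgroup.mem_centralizer_singleton_iff.mp x.2)

include θ in
/-- the image of the element is the transvection -/
theorem theta_z (hz1 : z ≠ 1) : θ (zCent z) = uB hz := by
  have hc : ∀ a : HP, θ (zCent z) * uB a = uB a * θ (zCent z) := by
    intro a
    have h1 := zCent_central (θ.symm (uB a))
    have h2 := congrArg θ h1
    rw [map_mul, map_mul, MulEquiv.apply_symm_apply] at h2
    exact h2.symm
  rcases cent_ker _ hc with h | h
  · exfalso
    apply hz1
    have : zCent z = 1 := θ.injective (by rw [h, map_one])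
    exact congrArg Subtype.val this
  · exact h

/-- the block homomorphism on the centraliser -/
def nuC : ↥(Subgroup.centralizer ({z} : Set G)) →* SL3 := nuHom.comp θ.toMonoidHom

theorem nuC_apply (x : ↥(Subgroup.centralizer ({z} : Set G))) : nuC θ x = nuHom (θ x) := rfl

theorem nuC_surjective : Function.Surjective (nuC θ) := by
  intro N
  obtain ⟨c, hc⟩ := nuHom_surjective N
  exact ⟨θ.symm c, by rw [nuC_apply, MulEquiv.apply_symm_apply, hc]⟩

theorem nuC_ker_pgroup : IsPGroup 2 (nuC θ).ker := by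
  haveI : Fact (Nat.Prime 2) := ⟨Nat.prime_two⟩
  have h1 : IsPGroup 2 nuHom.ker := IsPGroup.of_card card_ker
  have h2 : (nuC θ).ker = nuHom.ker.comap θ.toMonoidHom := (MonoidHom.comap_ker nuHom θ.toMonoidHom).symm
  rw [h2]
  exact h1.comap_of_injective θ.toMonoidHom θ.injective

/-- the largest normal 2-subgroup of the centraliser is the kernel of the block homomorphism -/
theorem pCore_cent : Cfsg.pCore 2 ↥(Subgroup.centralizer ({z} : Set G)) = (nuC θ).ker :=
  pCore_eq_ker 2 (nuC θ) (nuC_surjective θ) (nuC_ker_pgroup θ) sl3_no_normal_two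

/-- the largest normal 2-subgroup of the centraliser, as a subgroup of the group -/
def QC (z : G) : Subgroup G :=
  (Cfsg.pCore 2 ↥(Subgroup.centralizer ({z} : Set G))).map (Subgroup.centralizer ({z} : Set G)).subtype

theorem mem_QC_iff (g : G) : g ∈ QC z ↔ ∃ a : HP, g = ((θ.symm (uB a) : ↥(Subgroup.centralizer ({z} : Set G))) : G) := by
  rw [QC, pCore_cent θ]
  constructor
  · rintro ⟨x, hx, rfl⟩
    have hx' : nuC θ x = 1 := hx
    rw [nuC_apply] at hx'
    obtain ⟨a, ha⟩ := exists_uB (MonoidHom.mem_ker.mpr hx')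
    refine ⟨a, ?_⟩
    rw [← ha, MulEquiv.symm_apply_apply]
    rfl
  · rintro ⟨a, rfl⟩
    refine ⟨θ.symm (uB a), ?_, rfl⟩
    show nuC θ (θ.symm (uB a)) = 1
    rw [nuC_apply, MulEquiv.apply_symm_apply]
    exact uB_mem_ker a

/-- the parametrisation of the largest normal 2-subgroup -/
def uQ (a : HP) : ↥(QC z) := ⟨_, (mem_QC_iff θ _).mpr ⟨a, rfl⟩⟩

theorem uQ_coe (a : HP) : ((uQ θ a : ↥(QC z)) : G) = ((θ.symm (uB a) : ↥(Subgroup.centralizer ({z} : Set G))) : G) :=
  rfl

theorem uQ_bijective : Function.Bijective (uQ θ) := by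
  constructor
  · intro a b h
    have h1 : ((θ.symm (uB a) : ↥(Subgroup.centralizer ({z} : Set G))) : G) = θ.symm (uB b) :=
      congrArg (fun q : ↥(QC z) => (q : G)) h
    exact uB_injective (θ.symm.injective (Subtype.ext h1))
  · intro q
    obtain ⟨a, ha⟩ := (mem_QC_iff θ _).mp q.2
    exact ⟨a, Subtype.ext ha.symm⟩

theorem uQ_mul (a b : HP) : uQ θ a * uQ θ b = uQ θ (hmul a b) := by
  apply Subtype.ext
  show ((θ.symm (uB a) : ↥(Subgroup.centralizer ({z} : Set G))) : G) * θ.symm (uB b) = θ.symm (uB (hmul a b))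
  rw [← uB_mul, map_mul]
  rfl

/-- the largest normal 2-subgroup is extraspecial -/
theorem es2_QC : ES2 ↥(QC z) (uQ θ hz) := es2_of_param (uQ θ) (uQ_bijective θ) (uQ_mul θ)

theorem uQ_hz (hz1 : z ≠ 1) : ((uQ θ hz : ↥(QC z)) : G) = z := by
  rw [uQ_coe, ← theta_z θ hz1, MulEquiv.symm_apply_apply]
  rfl

include θ in
theorem card_QC : Nat.card ↥(QC z) = 2 ^ 7 := by
  rw [← Nat.card_congr (Equiv.ofBijective (uQ θ) (uQ_bijective θ))]
  simp [Nat.card_eq_fintype_card, ZMod.card]

include θ in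
theorem z_mem_QC (hz1 : z ≠ 1) : z ∈ QC z := by
  have := (uQ θ hz).2
  rwa [uQ_hz θ hz1] at this

include θ in
/-- elements centralising the largest normal 2-subgroup -/
theorem cent_QC (hz1 : z ≠ 1) (x : G) (hx : ∀ q ∈ QC z, x * q = q * x) : x = 1 ∨ x = z := by
  have hxC : x ∈ Subgroup.centralizer ({z} : Set G) :=
    Subgroup.mem_centralizer_singleton_iff.mpr (hx z (z_mem_QC θ hz1))
  have hc : ∀ a : HP, θ ⟨x, hxC⟩ * uB a = uB a * θ ⟨x, hxC⟩ := by
    intro a
    have h1 : (⟨x, hxC⟩ : ↥(Subgroup.centralizer ({z} : Set G))) * θ.symm (uB a) = θ.symm (uB a) * ⟨x, hxC⟩ :=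
      Subtype.ext (hx _ (uQ θ a).2)
    have h2 := congrArg θ h1
    rwa [map_mul, map_mul, MulEquiv.apply_symm_apply] at h2
  rcases cent_ker _ hc with h | h
  · left
    have : (⟨x, hxC⟩ : ↥(Subgroup.centralizer ({z} : Set G))) = 1 := θ.injective (by rw [h, map_one])
    exact congrArg Subtype.val this
  · right
    rw [← theta_z θ hz1] at h
    exact congrArg Subtype.val (θ.injective h)

include θ in
/-- the centraliser of the element normalises the largest normal 2-subgroup -/
theorem conj_mem_QC (x : G) (hx : x * z = z * x) (q : G) (hq : q ∈ QC z) : x * q * x⁻¹ ∈ QC z := by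
  have hxC : x ∈ Subgroup.centralizer ({z} : Set G) := Subgroup.mem_centralizer_singleton_iff.mpr hx
  rw [QC, pCore_cent θ] at hq ⊢
  obtain ⟨y, hy, rfl⟩ := hq
  refine ⟨⟨x, hxC⟩ * y * ⟨x, hxC⟩⁻¹, ?_, rfl⟩
  exact (MonoidHom.normal_ker (nuC θ)).conj_mem y hy ⟨x, hxC⟩


include θ in
theorem isExtraspecial_QC [Finite G] : Cfsg.IsExtraspecial 2 ↥(QC z) :=
  Cfsg.Agent.S5396.isExtraspecial_of_es2 (es2_QC θ)

include θ in
theorem mem_center_QC_iff (hz1 : z ≠ 1) (g : G) :
    g ∈ (Subgroup.center ↥(QC z)).map (QC z).subtype ↔ g = 1 ∨ g = z := by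
  have hes := es2_QC θ
  have hzq := uQ_hz θ hz1
  constructor
  · rintro ⟨q, hq, rfl⟩
    rcases hes.center_sub q (fun r => (Subgroup.mem_center_iff.mp hq r).symm) with h | h
    · left; rw [h]; rfl
    · right; rw [h]; exact hzq
  · rintro (rfl | rfl)
    · exact one_mem _
    · refine ⟨uQ θ hz, Subgroup.mem_center_iff.mpr (fun r => hes.central r), hzq⟩

include θ in
theorem centralizer_QC (hz1 : z ≠ 1) :
    Subgroup.centralizer (QC z : Set G) = (Subgroup.center ↥(QC z)).map (QC z).subtype := by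
  ext g
  rw [mem_center_QC_iff θ hz1, Subgroup.mem_centralizer_iff]
  constructor
  · intro h
    exact cent_QC θ hz1 g (fun q hq => (h q hq).symm)
  · rintro (h | h) q hq
    · rw [h, mul_one, one_mul]
    · rw [h]
      have := (es2_QC θ).central ⟨q, hq⟩
      have h2 := congrArg (fun x : ↥(QC z) => (x : G)) this
      simp only [Subgroup.coe_mul] at h2
      rw [uQ_hz θ hz1] at h2
      exact h2

include θ in
theorem centralizer_center_le (hz1 : z ≠ 1) :
    Subgroup.centralizer (((Subgroup.center ↥(QC z)).map (QC z).subtype : Subgroup G) : Set G) ≤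
      Subgroup.normalizer (QC z : Set G) := by
  intro g hg
  have hgz : g * z = z * g := by
    have := Subgroup.mem_centralizer_iff.mp hg z ((mem_center_QC_iff θ hz1 z).mpr (Or.inr rfl))
    exact this.symm
  have hgz' : g⁻¹ * z = z * g⁻¹ := by
    have : g⁻¹ * z = g⁻¹ * (z * g) * g⁻¹ := by group
    rw [this, ← hgz]
    group
  rw [Subgroup.mem_normalizer_iff]
  intro q
  constructor
  · exact conj_mem_QC θ g hgz q
  · intro h
    have := conj_mem_QC θ g⁻¹ hgz' _ h
    have e : g⁻¹ * (g * q * g⁻¹) * g⁻¹⁻¹ = q := by group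
    rwa [e] at this


/-- a 2-subgroup of the centraliser normalised by it lies in the largest normal 2-subgroup -/
theorem le_QC_of_normal (T : Subgroup G) (hT2 : IsPGroup 2 T) (hTC : T ≤ Subgroup.centralizer ({z} : Set G))
    (hTn : ∀ x : G, x * z = z * x → ∀ t ∈ T, x * t * x⁻¹ ∈ T) : T ≤ QC z := by
  intro t ht
  have hmem : T.subgroupOf (Subgroup.centralizer ({z} : Set G)) ≤
      Cfsg.pCore 2 ↥(Subgroup.centralizer ({z} : Set G)) := by
    apply le_sSup
    refine ⟨⟨?_⟩, ?_⟩
    · intro n hn g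
      rw [Subgroup.mem_subgroupOf] at hn ⊢
      exact hTn g (Subgroup.mem_centralizer_singleton_iff.mp g.2) n hn
    · exact hT2.comap_of_injective _ (Subgroup.subtype_injective _)
  exact ⟨⟨t, hTC ht⟩, hmem (Subgroup.mem_subgroupOf.mpr ht), rfl⟩

include θ in
/-- the largest normal 2-subgroup normalises no nontrivial subgroup of odd order -/
theorem odd_normalized_QC [Finite G] (hz1 : z ≠ 1) (b : G) (T : Subgroup G) (hbb : b * b = 1) (hb1 : b ≠ 1)
    (hbz : b ≠ z) (hbT : b ∈ T) (hzT : z ∈ T) (hT2 : IsPGroup 2 T)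
    (hTC : T ≤ Subgroup.centralizer ({z} : Set G))
    (hTn : ∀ x : G, x * z = z * x → ∀ t ∈ T, x * t * x⁻¹ ∈ T)
    (hTb : ∀ x : G, x * b = b * x → ∀ t ∈ T, x * t * x⁻¹ ∈ T)
    (K : Subgroup G) (hK : Odd (Nat.card K)) (hQK : QC z ≤ Subgroup.normalizer (K : Set G)) : K = ⊥ := by
  have hzq := uQ_hz θ hz1
  have hbQ : b ∈ QC z := le_QC_of_normal T hT2 hTC hTn hbT
  refine Cfsg.Agent.Helper3.LargeES.odd_normalized_eq_bot (es2_QC θ) ?_ ?_ hbQ hb1 ?_ hbb T hT2 ?_ hTb K hK hQK
  · intro x hx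
    rw [hzq]
    exact cent_QC θ hz1 x hx
  · intro x hx q hq
    rw [hzq] at hx
    exact conj_mem_QC θ x hx q hq
  · rw [hzq]; exact hbz
  · rw [hzq]; exact hzT


include θ in
/-- an elementary abelian subgroup of order 16 of the largest normal 2-subgroup -/
theorem exists_elemAb_QC : ∃ E : Subgroup G, E ≤ QC z ∧ Cfsg.IsElementaryAbelian 2 E ∧ Nat.card ↥E = 2 ^ 4 := by
  refine ⟨(EB.comap θ.toMonoidHom).map (Subgroup.centralizer ({z} : Set G)).subtype, ?_, ⟨?_, ?_⟩, ?_⟩
  · rw [QC, pCore_cent θ]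
    apply Subgroup.map_mono
    intro x hx
    have hx' : θ x ∈ EB := hx
    exact EB_le_ker hx'
  · refine ⟨⟨fun a b => ?_⟩⟩
    obtain ⟨x, hx, hxa⟩ := a.2
    obtain ⟨y, hy, hyb⟩ := b.2
    apply Subtype.ext
    show (a : G) * b = b * a
    rw [← hxa, ← hyb]
    have hx' : θ x ∈ EB := hx
    have hy' : θ y ∈ EB := hy
    have h1 : x * y = y * x := θ.injective (by rw [map_mul, map_mul, EB_comm hx' hy'])
    exact congrArg Subtype.val h1
  · rintro _ ⟨x, hx, rfl⟩
    have hx' : θ x ∈ EB := hx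
    have h1 : x * x = 1 := θ.injective (by rw [map_mul, map_one, EB_sq hx'])
    rw [pow_two]
    exact congrArg Subtype.val h1
  · rw [Subgroup.card_map_of_injective (Subgroup.subtype_injective _), ← card_EB]
    exact Nat.card_congr (Equiv.subtypeEquiv θ.toEquiv (fun _ => Iff.rfl))

/-- the section of the block homomorphism on the centraliser -/
def jC : SL3 →* ↥(Subgroup.centralizer ({z} : Set G)) := θ.symm.toMonoidHom.comp jHom

theorem nuC_jC (N : SL3) : nuC θ (jC θ N) = N := by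
  show nuHom (θ (θ.symm (jHom N))) = N
  rw [MulEquiv.apply_symm_apply, nuHom_jHom]

include θ in
/-- a complement isomorphic to `SL(3, 2)` -/
theorem exists_complement_QC : ∃ K : Subgroup G, K ≤ Subgroup.centralizer ({z} : Set G) ∧ QC z ⊓ K = ⊥ ∧
    QC z ⊔ K = Subgroup.centralizer ({z} : Set G) ∧ Nonempty (↥K ≃* SL3) := by
  obtain ⟨h1, h2, ⟨e⟩⟩ := split_complement (nuC θ) (jC θ) (nuC_jC θ)
  have hinj := Subgroup.subtype_injective (Subgroup.centralizer ({z} : Set G))
  refine ⟨(jC θ).range.map (Subgroup.centralizer ({z} : Set G)).subtype, Subgroup.map_subtype_le _, ?_, ?_, ?_⟩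
  · rw [QC, pCore_cent θ, ← Subgroup.map_inf _ _ _ hinj, h1, Subgroup.map_bot]
  · rw [QC, pCore_cent θ, ← Subgroup.map_sup, h2, ← MonoidHom.range_eq_map, Subgroup.range_subtype]
  · exact ⟨(((jC θ).range.equivMapOfInjective _ hinj).symm).trans e⟩


include θ in
/-- the structure of the centraliser -/
theorem tv_struct [Finite G] (hz1 : z ≠ 1) (b : G) (T : Subgroup G) (hbb : b * b = 1) (hb1 : b ≠ 1)
    (hbz : b ≠ z) (hbT : b ∈ T) (hzT : z ∈ T) (hT2 : IsPGroup 2 T)
    (hTC : T ≤ Subgroup.centralizer ({z} : Set G))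
    (hTn : ∀ x : G, x * z = z * x → ∀ t ∈ T, x * t * x⁻¹ ∈ T)
    (hTb : ∀ x : G, x * b = b * x → ∀ t ∈ T, x * t * x⁻¹ ∈ T)
    (Q : Subgroup G) (hQ : Q = (Cfsg.pCore 2 ↥(Subgroup.centralizer ({z} : Set G))).map
      (Subgroup.centralizer ({z} : Set G)).subtype) :
    Cfsg.IsExtraspecial 2 ↥Q ∧ Nat.card ↥Q = 2 ^ 7 ∧
      (∃ E : Subgroup G, E ≤ Q ∧ Cfsg.IsElementaryAbelian 2 E ∧ Nat.card ↥E = 2 ^ 4) ∧
      Cfsg.IsLargeExtraspecial Q ∧
      ∃ K : Subgroup G, K ≤ Subgroup.centralizer ({z} : Set G) ∧ Q ⊓ K = ⊥ ∧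
        Q ⊔ K = Subgroup.centralizer ({z} : Set G) ∧ Nonempty (↥K ≃* SL3) := by
  have hQ' : Q = QC z := hQ
  subst hQ'
  exact ⟨isExtraspecial_QC θ, card_QC θ, exists_elemAb_QC θ,
    ⟨isExtraspecial_QC θ, centralizer_QC θ hz1, centralizer_center_le θ hz1,
      fun K hK hQK => odd_normalized_QC θ hz1 b T hbb hb1 hbz hbT hzT hT2 hTC hTn hTb K hK hQK⟩,
    exists_complement_QC θ⟩

end

end Cfsg.Agent.Helper27
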