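import Cfsg.Agent.Helper27.M24TvMain
import Cfsg.Agent.Helper27.M24InvolClass
import Cfsg.Agent.Helper27.TvStruct

/-!
The centraliser in `Cfsg.M24` of an involution fixing the points of an octad: its largest normal 2-subgroup is a
large extraspecial subgroup of order `2 ^ 7`, complemented by a copy of `SL(3, 2)`.
-/

set_option autoImplicit false
set_option linter.style.haveILetI false

namespace Cfsg.Agent.Helper27

open Cfsg
open scoped Pointwise

/-- the fixed points of a permutation -/
def fixSet (g : Equiv.Perm GolayPt) : Finset GolayPt := Finset.univ.filter fun p => g p = p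

theorem mem_fixSet (g : Equiv.Perm GolayPt) (p : GolayPt) : p ∈ fixSet g ↔ g p = p := by
  rw [fixSet, Finset.mem_filter]
  exact ⟨fun h => h.2, fun h => ⟨Finset.mem_univ _, h⟩⟩

/-- a permutation commuting with another one preserves its fixed points -/
theorem smul_fixSet_of_comm {x g : Equiv.Perm GolayPt} (h : x * g = g * x) : x • fixSet g = fixSet g := by
  apply smul_eq_of_forall_mem
  intro q
  rw [mem_fixSet, mem_fixSet]
  have h1 : g (x q) = x (g q) := by
    have := congrArg (fun f : Equiv.Perm GolayPt => f q) h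
    simpa using this.symm
  rw [h1]
  exact x.injective.eq_iff

/-- elements fixing a set normalise its pointwise stabiliser -/
theorem conj_mem_fixG {x : Equiv.Perm GolayPt} (hx : x ∈ M24) {o : Finset GolayPt} (ho : x • o = o)
    {t : Equiv.Perm GolayPt} (ht : t ∈ fixG o) : x * t * x⁻¹ ∈ fixG o := by
  rw [mem_fixG] at ht ⊢
  refine ⟨M24.mul_mem (M24.mul_mem hx ht.1) (M24.inv_mem hx), ?_⟩
  intro q hq
  have hq' : x⁻¹ q ∈ o := by
    rw [← apply_mem_iff_of_smul ho]
    simpa using hq
  rw [Equiv.Perm.mul_apply, Equiv.Perm.mul_apply, ht.2 _ hq']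
  simp

/-- the pointwise stabiliser of an octad is abelian -/
theorem fixG_octad_comm {o : Finset GolayPt} (ho : o ∈ octads) {s t : Equiv.Perm GolayPt} (hs : s ∈ fixG o)
    (ht : t ∈ fixG o) : s * t = t * s := by
  have h1 := fixG_octad_invol ho hs
  have h2 := fixG_octad_invol ho ht
  have h3 := fixG_octad_invol ho ((fixG o).mul_mem hs ht)
  calc s * t = s * (s * t * (s * t)) * t := by rw [h3, mul_one]
    _ = (s * s) * (t * s) * (t * t) := by group
    _ = t * s := by rw [h1, h2, one_mul, mul_one]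

theorem zT0_order : orderOf zT0 = 2 := by
  have := zM0_order
  rwa [← Subgroup.orderOf_coe] at this

/-- involutions of `M24` with fixed points are conjugate to the standard one -/
theorem exists_conj_z0M (z : ↥M24) (hz : orderOf z = 2) (hfix : fixSet (z : Equiv.Perm GolayPt) ∈ octads) :
    ∃ γ : ↥M24, γ * z * γ⁻¹ = zM0 := by
  have hz' : orderOf (z : Equiv.Perm GolayPt) = 2 := by rw [Subgroup.orderOf_coe]; exact hz
  have hiff : (∀ p, (z : Equiv.Perm GolayPt) p ≠ p) ↔ (∀ p, zT0 p ≠ p) := by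
    constructor
    · intro h
      obtain ⟨p, hp⟩ := octad_nonempty hfix
      exact absurd ((mem_fixSet _ p).mp hp) (h p)
    · intro h
      exfalso
      apply h (pt 0)
      rw [zT0_fixed_iff, mem_maskSet, idx_pt (by norm_num)]
      decide
  obtain ⟨k, hk, hconj⟩ := M24_involution_classes.2.2.2 _ z.2 _ zT0_mem hz' zT0_order hiff
  exact ⟨⟨k, hk⟩, Subtype.ext hconj⟩

/-- the structure of the centraliser of an involution of `M24` fixing the points of an octad -/
theorem m24_octad_invol_large (z : ↥M24) (hz : orderOf z = 2)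
    (hfix : (Finset.univ.filter fun p : GolayPt => (z : Equiv.Perm GolayPt) p = p) ∈ octads)
    (Q : Subgroup ↥M24) (hQ : Q = (Cfsg.pCore 2 ↥(Subgroup.centralizer ({z} : Set ↥M24))).map
      (Subgroup.centralizer ({z} : Set ↥M24)).subtype) :
    Cfsg.IsExtraspecial 2 ↥Q ∧ Nat.card ↥Q = 2 ^ 7 ∧
      (∃ E : Subgroup ↥M24, E ≤ Q ∧ Cfsg.IsElementaryAbelian 2 E ∧ Nat.card ↥E = 2 ^ 4) ∧
      Cfsg.IsLargeExtraspecial Q ∧
      ∃ K : Subgroup ↥M24, K ≤ Subgroup.centralizer ({z} : Set ↥M24) ∧ Q ⊓ K = ⊥ ∧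
        Q ⊔ K = Subgroup.centralizer ({z} : Set ↥M24) ∧ Nonempty (↥K ≃* SL3) := by
  have hfin := finite_M24'
  have hO : fixSet (z : Equiv.Perm GolayPt) ∈ octads := hfix
  have hz1 : z ≠ 1 := by
    intro h
    rw [h, orderOf_one] at hz
    omega
  have hzz : z * z = 1 := by
    have := pow_orderOf_eq_one z
    rwa [hz, pow_two] at this
  -- the isomorphism
  obtain ⟨γ, hγ⟩ := exists_conj_z0M z hz hO
  obtain ⟨e3⟩ := Cz_iso s0 s0_coe
  have hconj : MulAut.conj γ z = zM0 := by rw [MulAut.conj_apply, hγ]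
  let θ : ↥(Subgroup.centralizer ({z} : Set ↥M24)) ≃* ↥BT :=
    ((centralizerSingletonEquiv (MulAut.conj γ) z).trans (MulEquiv.subgroupCongr (by rw [hconj]))).trans e3
  -- the group of order 16
  let T : Subgroup ↥M24 := (fixG (fixSet (z : Equiv.Perm GolayPt))).comap M24.subtype
  have hmemT : ∀ t : ↥M24, t ∈ T ↔ (t : Equiv.Perm GolayPt) ∈ fixG (fixSet (z : Equiv.Perm GolayPt)) :=
    fun t => Iff.rfl
  have hzT : z ∈ T := by
    rw [hmemT, mem_fixG]
    exact ⟨z.2, fun q hq => (mem_fixSet _ q).mp hq⟩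
  have hTsq : ∀ t ∈ T, t * t = 1 := fun t ht => Subtype.ext (fixG_octad_invol hO ((hmemT t).mp ht))
  have hTcomm : ∀ s ∈ T, ∀ t ∈ T, s * t = t * s :=
    fun s hs t ht => Subtype.ext (fixG_octad_comm hO ((hmemT s).mp hs) ((hmemT t).mp ht))
  have hT2 : IsPGroup 2 T := by
    intro t
    refine ⟨1, ?_⟩
    rw [pow_one, pow_two]
    exact Subtype.ext (hTsq t.1 t.2)
  have hTC : T ≤ Subgroup.centralizer ({z} : Set ↥M24) :=
    fun t ht => Subgroup.mem_centralizer_singleton_iff.mpr (hTcomm t ht z hzT)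
  have hnorm : ∀ x : ↥M24, (x : Equiv.Perm GolayPt) • fixSet (z : Equiv.Perm GolayPt) = fixSet (z : Equiv.Perm GolayPt) →
      ∀ t ∈ T, x * t * x⁻¹ ∈ T := by
    intro x hx t ht
    rw [hmemT] at ht ⊢
    exact conj_mem_fixG x.2 hx ht
  have hTn : ∀ x : ↥M24, x * z = z * x → ∀ t ∈ T, x * t * x⁻¹ ∈ T := by
    intro x hx
    apply hnorm
    exact smul_fixSet_of_comm (congrArg Subtype.val hx)
  -- a further element
  have hcardT : Nat.card ↥T = 16 := by
    have hle : fixG (fixSet (z : Equiv.Perm GolayPt)) ≤ M24 := fun g hg => ((mem_fixG _ _).mp hg).1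
    rw [← card_fixG_octad hO]
    exact Nat.card_congr (Subgroup.subgroupOfEquivOfLe hle).toEquiv
  have hexb : ∃ b ∈ T, b ≠ 1 ∧ b ≠ z := by
    by_contra hcon
    push Not at hcon
    have hinj : Function.Injective (fun t : ↥T => decide ((t : ↥M24) = 1)) := by
      intro s t hst
      have hst' : decide ((s : ↥M24) = 1) = decide ((t : ↥M24) = 1) := hst
      have hiff : ((s : ↥M24) = 1) ↔ ((t : ↥M24) = 1) := decide_eq_decide.mp hst'
      apply Subtype.ext
      by_cases hs : (s : ↥M24) = 1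
      · rw [hs, hiff.mp hs]
      · have ht : (t : ↥M24) ≠ 1 := fun h => hs (hiff.mpr h)
        rw [hcon s.1 s.2 hs, hcon t.1 t.2 ht]
    have := Nat.card_le_card_of_injective _ hinj
    rw [hcardT] at this
    simp at this
  obtain ⟨b, hbT, hb1, hbz⟩ := hexb
  have hbb : b * b = 1 := hTsq b hbT
  -- the fixed points of the further element
  have hbfix : fixSet (b : Equiv.Perm GolayPt) = fixSet (z : Equiv.Perm GolayPt) := by
    have hb2 : orderOf (b : Equiv.Perm GolayPt) = 2 := by
      rw [Subgroup.orderOf_coe]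
      apply orderOf_eq_prime
      · rw [pow_two]; exact hbb
      · exact hb1
    have hsub : fixSet (z : Equiv.Perm GolayPt) ⊆ fixSet (b : Equiv.Perm GolayPt) := by
      intro q hq
      rw [mem_fixSet]
      exact ((mem_fixG _ _).mp ((hmemT b).mp hbT)).2 q hq
    have hoct : fixSet (b : Equiv.Perm GolayPt) ∈ octads := by
      rcases M24_involution_classes.1 _ b.2 hb2 with h | h
      · exact h
      · exfalso
        obtain ⟨p, hp⟩ := octad_nonempty hO
        exact h p ((mem_fixSet _ p).mp (hsub hp))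
    exact (Finset.eq_of_subset_of_card_le hsub (by rw [hoct.2, hO.2])).symm
  have hTb : ∀ x : ↥M24, x * b = b * x → ∀ t ∈ T, x * t * x⁻¹ ∈ T := by
    intro x hx
    apply hnorm
    rw [← hbfix]
    exact smul_fixSet_of_comm (congrArg Subtype.val hx)
  exact tv_struct θ hz1 b T hbb hb1 hbz hbT hzT hT2 hTC hTn hTb Q hQ

end Cfsg.Agent.Helper27
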