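import Cfsg.Agent.Helper27.M24Tv
import Cfsg.Agent.Helper27.FiberCount
import Cfsg.Agent.Helper27.GLIso3

/-!
The centraliser in `Cfsg.M24` of an involution fixing an octad pointwise is isomorphic to the centraliser of a
transvection in `SL(5, 2)`.
-/

set_option autoImplicit false

namespace Cfsg.Agent.Helper27

open Cfsg
open scoped Pointwise

/-! ### The group of order 16 -/

/-- the elements fixing the standard octad pointwise, indexed by vectors -/
noncomputable def fT (v : V4) : Equiv.Perm GolayPt := tblPerm (tT (code4 v)) (tT_valid _)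

theorem fT_apply (v : V4) (q : GolayPt) : fT v q = pt ((tT (code4 v)).getD (idx q) 0) := rfl

theorem fT_mem (v : V4) : fT v ∈ M24 := tblPerm_mem_M24 _ _ (tT_inCode _ (code4_lt v))

theorem fT_add (v w : V4) : fT (v + w) = fT v * fT w := by
  apply Equiv.ext
  intro q
  rw [Equiv.Perm.mul_apply, fT_apply, fT_apply, fT_apply, idx_pt (tT_lt _ (code4_lt w) _ (idx_lt q)), code4_add,
    tT_mul _ (code4_lt v) _ (code4_lt w) _ (idx_lt q)]

theorem fT_zero : fT 0 = 1 := by
  apply Equiv.ext
  intro q
  rw [fT_apply, Equiv.Perm.one_apply]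
  have : code4 0 = 0 := by decide
  rw [this, tT_zero _ (idx_lt q), pt_idx]

theorem fT_fix (v : V4) {q : GolayPt} (hq : q ∈ maskSet oct5) : fT v q = q := by
  rw [mem_maskSet] at hq
  rw [fT_apply, tT_fix _ (code4_lt v) _ (idx_lt q) hq, pt_idx]

theorem fT_mem_fixG (v : V4) : fT v ∈ fixG (maskSet oct5) :=
  (mem_fixG _ _).mpr ⟨fT_mem v, fun _ hq => fT_fix v hq⟩

/-- the elements fixing the standard octad pointwise are the sixteen listed ones -/
theorem mem_range_fT {y : Equiv.Perm GolayPt} (hy : y ∈ fixG (maskSet oct5)) : ∃ w, y = fT w := by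
  rw [fixG_oct5_eq] at hy
  obtain ⟨T, hT, hv, rfl⟩ := fixG6_enum hy
  obtain ⟨k, hk, rfl⟩ := octFixL_sub T hT
  obtain ⟨w, rfl⟩ := code4_surj k hk
  exact ⟨w, rfl⟩

/-! ### The sixteen points outside the octad -/

/-- the points outside the standard octad, indexed by vectors -/
noncomputable def fQ (v : V4) : GolayPt := fT v (pt 5)

theorem fQ_eq (v : V4) : fQ v = pt ((tT (code4 v)).getD 5 0) := by
  rw [fQ, fT_apply, idx_pt (by norm_num)]

theorem fQ_injective : Function.Injective fQ := by
  intro v w h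
  apply code4_injective
  apply tT_inj5 _ (code4_lt v) _ (code4_lt w)
  have := congrArg idx h
  rwa [fQ_eq, fQ_eq, idx_pt (tT_lt _ (code4_lt v) _ (by norm_num)),
    idx_pt (tT_lt _ (code4_lt w) _ (by norm_num))] at this

theorem fQ_not_mem (v : V4) : fQ v ∉ maskSet oct5 := by
  rw [fQ_eq, mem_maskSet, idx_pt (tT_lt _ (code4_lt v) _ (by norm_num)), tT_five _ (code4_lt v)]
  exact Bool.false_ne_true

theorem exists_fQ {q : GolayPt} (hq : q ∉ maskSet oct5) : ∃ v, q = fQ v := by
  rw [mem_maskSet, Bool.not_eq_true] at hq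
  obtain ⟨k, hk, hk5⟩ := tT_out _ (idx_lt q) hq
  obtain ⟨v, rfl⟩ := code4_surj k hk
  refine ⟨v, ?_⟩
  rw [fQ_eq, hk5, pt_idx]

theorem fT_fQ (a x : V4) : fT a (fQ x) = fQ (a + x) := by
  rw [fQ, fQ, fT_add, Equiv.Perm.mul_apply]

/-! ### The standard involution -/

/-- the first basis vector -/
def e04 : V4 := Pi.single 0 1

theorem code4_e04 : code4 e04 = 1 := by decide

/-- the standard involution -/
noncomputable def zT0 : Equiv.Perm GolayPt := fT e04

theorem zT0_mem : zT0 ∈ M24 := fT_mem _

theorem zT0_fixed_iff (q : GolayPt) : zT0 q = q ↔ q ∈ maskSet oct5 := by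
  rw [zT0, fT_apply, code4_e04, mem_maskSet, ← tT_one_fixed _ (idx_lt q)]
  constructor
  · intro h
    have := congrArg idx h
    rwa [idx_pt (tT_lt 1 (by norm_num) _ (idx_lt q))] at this
  · intro h
    rw [h, pt_idx]

theorem zT0_sq : zT0 * zT0 = 1 := by
  rw [zT0, ← fT_add, ← fT_zero]
  congr 1
  decide

theorem zT0_ne_one : zT0 ≠ 1 := by
  intro h
  have h1 := (zT0_fixed_iff (pt 5)).mp (by rw [h, Equiv.Perm.one_apply])
  rw [mem_maskSet, idx_pt (by norm_num)] at h1
  revert h1
  decide

/-- the standard involution as an element of `M24` -/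
noncomputable def zM0 : ↥M24 := ⟨zT0, zT0_mem⟩

theorem zM0_order : orderOf zM0 = 2 := by
  apply orderOf_eq_prime
  · rw [pow_two]
    apply Subtype.ext
    exact zT0_sq
  · intro h
    exact zT0_ne_one (congrArg Subtype.val h)

/-! ### Elements fixing the octad -/

theorem smul_eq_of_forall_mem {g : Equiv.Perm GolayPt} {o : Finset GolayPt} (h : ∀ x, g x ∈ o ↔ x ∈ o) :
    g • o = o := by
  ext y
  have h1 := mem_smul_finset_perm g o (g⁻¹ y)
  have e : g (g⁻¹ y) = y := by simp
  rw [e] at h1
  rw [h1, ← h (g⁻¹ y), e]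

theorem apply_mem_iff_of_smul {g : Equiv.Perm GolayPt} {o : Finset GolayPt} (h : g • o = o) (x : GolayPt) :
    g x ∈ o ↔ x ∈ o := by
  have := mem_smul_finset_perm g o x
  rwa [h] at this

/-- elements of `M24` commuting with the standard involution fix the standard octad -/
theorem smul_oct5_of_comm {g : Equiv.Perm GolayPt} (hc : g * zT0 = zT0 * g) : g • maskSet oct5 = maskSet oct5 := by
  apply smul_eq_of_forall_mem
  intro x
  rw [← zT0_fixed_iff, ← zT0_fixed_iff]
  have h1 : zT0 (g x) = g (zT0 x) := by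
    have := congrArg (fun f : Equiv.Perm GolayPt => f x) hc
    simpa using this.symm
  rw [h1]
  exact g.injective.eq_iff

/-- elements of `M24` fixing the standard octad normalise the group of order 16 -/
theorem conj_fT {g : Equiv.Perm GolayPt} (hg : g ∈ M24) (ho : g • maskSet oct5 = maskSet oct5) (a : V4) :
    ∃ a', g * fT a * g⁻¹ = fT a' := by
  apply mem_range_fT
  rw [mem_fixG]
  refine ⟨M24.mul_mem (M24.mul_mem hg (fT_mem a)) (M24.inv_mem hg), ?_⟩
  intro q hq
  have hq' : g⁻¹ q ∈ maskSet oct5 := by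
    rw [← apply_mem_iff_of_smul ho]
    simpa using hq
  rw [Equiv.Perm.mul_apply, Equiv.Perm.mul_apply, fT_fix a hq']
  simp

theorem apply_fQ {g : Equiv.Perm GolayPt} (ho : g • maskSet oct5 = maskSet oct5) (v : V4) : ∃ w, g (fQ v) = fQ w := by
  apply exists_fQ
  rw [apply_mem_iff_of_smul ho]
  exact fQ_not_mem v

/-- an element of `M24` fixing all points outside the standard octad is the identity -/
def gT : List ℕ := [5, 6, 8, 9, 11, 13, 2, 21, 12, 23, 3, 1, 10, 14, 22, 17, 7, 0, 18, 15, 20, 19, 16, 4]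

theorem gT_valid : validTbl gT = true := by decide +kernel

theorem gT_inCode : tblInCode gT = true := by decide +kernel

theorem gT_out : ∀ f ∈ ([5, 7, 4, 3, 2, 1, 0] : List ℕ), oct5.testBit (gT.getD f 0) = false := by decide

theorem eq_one_of_fix_out {g : Equiv.Perm GolayPt} (hg : g ∈ M24) (h : ∀ q, q ∉ maskSet oct5 → g q = q) : g = 1 := by
  have hγ : tblPerm gT gT_valid ∈ M24 := tblPerm_mem_M24 _ _ gT_inCode
  have hmem : (tblPerm gT gT_valid)⁻¹ * g * tblPerm gT gT_valid ∈ fixG (ptsOf (5 :: [7, 4, 3, 2, 1, 0])) := by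
    rw [mem_fixG]
    refine ⟨M24.mul_mem (M24.mul_mem (M24.inv_mem hγ) hg) hγ, ?_⟩
    intro q hq
    obtain ⟨f, hf, rfl⟩ := (mem_ptsOf _ q).mp hq
    have hf24 : f < 24 := by
      simp only [List.mem_cons, List.not_mem_nil, or_false] at hf
      omega
    rw [Equiv.Perm.mul_apply, Equiv.Perm.mul_apply, Equiv.Perm.inv_eq_iff_eq]
    apply h
    rw [tblPerm_pt _ _ hf24, mem_maskSet, idx_pt (by
      have : ∀ f, f < 24 → gT.getD f 0 < 24 := by decide
      exact this f hf24), gT_out f hf]
    exact Bool.false_ne_true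
  rw [fixG_base', Subgroup.mem_bot] at hmem
  have : g = tblPerm gT gT_valid * ((tblPerm gT gT_valid)⁻¹ * g * tblPerm gT gT_valid) * (tblPerm gT gT_valid)⁻¹ := by
    group
  rw [this, hmem]
  group

/-! ### The centraliser of the standard involution -/

/-- the centraliser of the standard involution -/
abbrev Cz : Subgroup ↥M24 := Subgroup.centralizer ({zM0} : Set ↥M24)

/-- the permutation underlying an element of the centraliser -/
def toZ (c : ↥Cz) : Equiv.Perm GolayPt := ((c : ↥M24) : Equiv.Perm GolayPt)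

theorem toZ_mem (c : ↥Cz) : toZ c ∈ M24 := (c : ↥M24).2

theorem toZ_comm (c : ↥Cz) : toZ c * zT0 = zT0 * toZ c := by
  have h := Subgroup.mem_centralizer_singleton_iff.mp c.2
  exact congrArg (fun y : ↥M24 => (y : Equiv.Perm GolayPt)) h

theorem toZ_oct (c : ↥Cz) : toZ c • maskSet oct5 = maskSet oct5 := smul_oct5_of_comm (toZ_comm c)

theorem toZ_injective : Function.Injective toZ := fun _ _ h => Subtype.ext (Subtype.ext h)

theorem smulZ_def (c : ↥Cz) (q : GolayPt) : c • q = toZ c q := rfl

theorem finite_M24' : Finite ↥M24 := Nat.finite_of_card_ne_zero (by rw [card_M24]; norm_num)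

/-- the standard involution as an element of its centraliser -/
noncomputable def zC0 : ↥Cz := ⟨zM0, Subgroup.mem_centralizer_singleton_iff.mpr rfl⟩

/-- the centraliser has at least 21504 elements -/
theorem card_Cz_ge : 21504 ≤ Nat.card ↥Cz := by
  classical
  have hfin := finite_M24'
  let F : Finset (Equiv.Perm GolayPt) := (Finset.univ.erase (0 : V4)).image fT
  have hFcard : F.card ≤ 15 := by
    refine le_trans Finset.card_image_le ?_
    rw [Finset.card_erase_of_mem (Finset.mem_univ _), Finset.card_univ]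
    simp
  have hF : ∀ h ∈ stabP (maskSet oct5), h * zT0 * h⁻¹ ∈ F := by
    intro h hh
    obtain ⟨hM, ho⟩ := (mem_stabP _ _).mp hh
    obtain ⟨a', ha'⟩ := conj_fT hM ho e04
    rw [Finset.mem_image]
    refine ⟨a', ?_, ha'.symm⟩
    rw [Finset.mem_erase]
    refine ⟨?_, Finset.mem_univ _⟩
    rintro rfl
    rw [fT_zero] at ha'
    apply zT0_ne_one
    have : zT0 = h⁻¹ * (h * fT e04 * h⁻¹) * h := by rw [zT0]; group
    rw [this, ha']
    group
  have h1 := card_le_mul_of_conj (stabP (maskSet oct5)) zT0 F hF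
  rw [card_stabP_octad (maskSet_mem_octads isOct_oct5)] at h1
  let φ : ↥(Subgroup.centralizer ({zT0} : Set (Equiv.Perm GolayPt)) ⊓ stabP (maskSet oct5) :
      Subgroup (Equiv.Perm GolayPt)) → ↥Cz := fun g =>
    ⟨⟨g.1, ((mem_stabP _ _).mp (Subgroup.mem_inf.mp g.2).2).1⟩, by
      rw [Subgroup.mem_centralizer_singleton_iff]
      apply Subtype.ext
      exact Subgroup.mem_centralizer_singleton_iff.mp (Subgroup.mem_inf.mp g.2).1⟩
  have hφ : Function.Injective φ := by
    intro a b hab
    apply Subtype.ext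
    exact congrArg toZ hab
  have h2 := Nat.card_le_card_of_injective φ hφ
  have h3 : 322560 ≤ 15 * Nat.card ↥Cz :=
    le_trans h1 (Nat.mul_le_mul hFcard h2)
  omega

/-! ### The action on the points outside the octad -/

theorem hinvZ (c : ↥Cz) (v : V4) : ∃ w, c • fQ v = fQ w := apply_fQ (toZ_oct c) v

/-- the centraliser is isomorphic to the centraliser of the transvection in `SL(5, 2)` -/
theorem Cz_iso (s : SL5) (hs : (s : Matrix (Fin 5) (Fin 5) (ZMod 2)) = Matrix.transvection 0 1 1) :
    Nonempty (↥Cz ≃* ↥(Subgroup.centralizer ({s} : Set SL5))) := by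
  have hfin := finite_M24'
  obtain ⟨π, hπ⟩ := exists_permHom (G := ↥Cz) fQ fQ_injective hinvZ
  -- the action is affine
  have htr : ∀ (c : ↥Cz) (a a' : V4), toZ c * fT a * (toZ c)⁻¹ = fT a' → ∀ x, π c (a + x) = a' + π c x := by
    intro c a a' h x
    apply fQ_injective
    rw [hπ, smulZ_def, ← fT_fQ, ← fT_fQ, hπ, smulZ_def, ← h]
    simp
  have haff : ∀ c, IsAff (π c) := by
    intro c x a
    obtain ⟨a', ha'⟩ := conj_fT (toZ_mem c) (toZ_oct c) a
    have h1 := htr c a a' ha' x
    have h2 := htr c a a' ha' 0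
    rw [add_zero] at h2
    have h3 : a' = π c a + π c 0 := by
      rw [h2, add_assoc, v4_add_self, add_zero]
    rw [add_comm x a, h1, h3]
    abel
  obtain ⟨Φ, hΦ⟩ := exists_affLift π haff
  -- the image of the standard involution
  have hz : Φ zC0 = glPerm 5 2 (Matrix.SpecialLinearGroup.toGL s) := by
    apply Equiv.ext
    intro v
    rw [hΦ, glPerm_tv_apply hs, liftFun_translation (π zC0) e04]
    · congr 2
      decide
    · intro x
      apply fQ_injective
      rw [hπ, smulZ_def, add_comm, ← fT_fQ]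
      rfl
  have hle : Φ.range ≤ (tvPerm s).range := by
    rintro _ ⟨c, rfl⟩
    apply mem_range_tvPerm
    · intro x y
      rw [hΦ, hΦ, hΦ, liftFun_add (haff c)]
    · rw [← hz, ← map_mul, ← map_mul]
      congr 1
      apply Subtype.ext
      exact Subgroup.mem_centralizer_singleton_iff.mp c.2
  have hinj : Function.Injective Φ := by
    rw [injective_iff_map_eq_one]
    intro c hc
    have h1 : π c = 1 := by
      apply liftFun_injective
      intro v
      rw [← hΦ, hc, Equiv.Perm.one_apply, liftFun_one]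
    apply toZ_injective
    show toZ c = 1
    apply eq_one_of_fix_out (toZ_mem c)
    intro q hq
    obtain ⟨v, rfl⟩ := exists_fQ hq
    rw [← smulZ_def, ← hπ, h1, Equiv.Perm.one_apply]
  exact iso_of_injective_range_le Φ (tvPerm s) hinj (tvPerm_injective s) hle
    (le_trans (card_tvCent_le s hs) card_Cz_ge)

/-- `M24` has an involution whose centraliser is isomorphic to the centraliser of a transvection in `SL(5, 2)` -/
theorem m24_invol_cent_tv (s : SL5) (hs : (s : Matrix (Fin 5) (Fin 5) (ZMod 2)) = Matrix.transvection 0 1 1) :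
    ∃ z : ↥M24, orderOf z = 2 ∧
      Nonempty (↥(Subgroup.centralizer ({z} : Set ↥M24)) ≃* ↥(Subgroup.centralizer ({s} : Set SL5))) :=
  ⟨zM0, zM0_order, Cz_iso s hs⟩

end Cfsg.Agent.Helper27
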