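import Cfsg.Agent.Helper27.OctadPair
import Cfsg.Agent.Helper27.M24Enum
import Cfsg.Agent.Helper27.M24InvolClass
import Cfsg.Agent.Helper27.FaithfulPerm

/-!
The joint stabiliser in `Cfsg.M24` of two octads meeting in two points is the symmetric group of degree six.
-/

set_option autoImplicit false

namespace Cfsg.Agent.Helper27

open Cfsg
open scoped Pointwise

theorem applyTbl_eq_of_smul {g : Equiv.Perm GolayPt} {T : List ℕ} (h : Represents g T) {n : ℕ} (hn : n < 2 ^ 24)
    (hs : g • maskSet n = maskSet n) : applyTbl T n = n := by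
  apply Nat.eq_of_testBit_eq
  intro i
  by_cases hi : i < 24
  · rw [testBit_applyTbl T n i (by rw [h.1]; exact hi)]
    have h1 := h.2 (pt i)
    rw [idx_pt hi] at h1
    rw [← h1]
    have h2 : g (pt i) ∈ maskSet n ↔ pt i ∈ maskSet n := by
      conv_lhs => rw [← hs]
      rw [mem_smul_perm_iff, perm_inv_apply_self]
    rw [mem_maskSet, mem_maskSet, idx_pt hi] at h2
    exact Bool.eq_iff_iff.mpr h2
  · have hi' : 24 ≤ i := by omega
    have hp : (2 : ℕ) ^ 24 ≤ 2 ^ i := Nat.pow_le_pow_right (by norm_num) hi'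
    rw [Nat.testBit_lt_two_pow (lt_of_lt_of_le (by have := applyTbl_lt T n; rwa [h.1] at this) hp),
      Nat.testBit_lt_two_pow (lt_of_lt_of_le hn hp)]

/-- an octad meeting the standard octad in two points -/
def oct1 : ℕ := 11654144

theorem oct1_isOct : isOct oct1 = true := by decide +kernel

theorem oct1_cls : maskSet oct1 ∈ octCls (maskSet oct0) 2 :=
  ⟨maskSet_mem_octads oct1_isOct, by rw [← maskSet_and, card_maskSet]; decide +kernel⟩

/-- pruning: the first five base points are fixed -/
def okFix5 (vs : List ℕ) : Bool := vs.take 5 == [0, 1, 2, 3, 4].take vs.length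

set_option maxRecDepth 100000 in
theorem fix6_check : (enumL chainL [] idT okFix5).all
    (fun T => !(T.getD 7 0 == 7 && applyTbl T oct1 == oct1) || T == idT) = true := by decide +kernel

theorem pt_mem_diff {i : ℕ} (hi : i < 24) (h : (oct0 ^^^ (oct0 &&& oct1)).testBit i = true) :
    pt i ∈ maskSet oct0 \ maskSet oct1 := by
  rw [← maskSet_xor_and, mem_maskSet, idx_pt hi]
  exact h

/-- for the standard pair, the action on the six points of the first octad outside the second is faithful -/
theorem joint_kernel_std {g : Equiv.Perm GolayPt} (hg : g ∈ M24)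
    (hfix : ∀ p ∈ maskSet oct0 \ maskSet oct1, g p = p) (h1 : g • maskSet oct1 = maskSet oct1) : g = 1 := by
  have f0 : g (pt 0) = pt 0 := hfix _ (pt_mem_diff (by norm_num) (by decide +kernel))
  have f1 : g (pt 1) = pt 1 := hfix _ (pt_mem_diff (by norm_num) (by decide +kernel))
  have f2 : g (pt 2) = pt 2 := hfix _ (pt_mem_diff (by norm_num) (by decide +kernel))
  have f3 : g (pt 3) = pt 3 := hfix _ (pt_mem_diff (by norm_num) (by decide +kernel))
  have f4 : g (pt 4) = pt 4 := hfix _ (pt_mem_diff (by norm_num) (by decide +kernel))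
  have f7 : g (pt 7) = pt 7 := hfix _ (pt_mem_diff (by norm_num) (by decide +kernel))
  have e0 : (tblOf g).getD 0 0 = 0 := by rw [tblOf_getD g (by norm_num), f0, idx_pt (by norm_num)]
  have e1 : (tblOf g).getD 1 0 = 1 := by rw [tblOf_getD g (by norm_num), f1, idx_pt (by norm_num)]
  have e2 : (tblOf g).getD 2 0 = 2 := by rw [tblOf_getD g (by norm_num), f2, idx_pt (by norm_num)]
  have e3 : (tblOf g).getD 3 0 = 3 := by rw [tblOf_getD g (by norm_num), f3, idx_pt (by norm_num)]
  have e4 : (tblOf g).getD 4 0 = 4 := by rw [tblOf_getD g (by norm_num), f4, idx_pt (by norm_num)]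
  have e7 : (tblOf g).getD 7 0 = 7 := by rw [tblOf_getD g (by norm_num), f7, idx_pt (by norm_num)]
  have hmem : tblOf g ∈ enumL chainL [] idT okFix5 := by
    apply m24_enum_sound _ hg
    intro n hn1 hn7
    simp only [okFix5, baseImgs, baseL]
    interval_cases n <;>
      simp only [List.take_succ_cons, List.take_zero, List.take_nil, List.map_cons, List.map_nil, e0, e1, e2, e3, e4,
        List.length_cons, List.length_nil] <;> rfl
  have hP := List.all_eq_true.mp fix6_check _ hmem
  have ha : applyTbl (tblOf g) oct1 = oct1 := applyTbl_eq_of_smul (represents_tblOf g) (by decide +kernel) h1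
  simp only [e7, ha, beq_self_eq_true, Bool.and_self, Bool.not_true, Bool.false_or, beq_iff_eq] at hP
  have := represents_tblOf g
  rw [hP] at this
  exact represents_unique this represents_one

/-- the action of the joint stabiliser on the six points of the first octad outside the second is faithful -/
theorem joint_kernel {o o' : Finset GolayPt} (ho : o ∈ octads) (ho' : o' ∈ octads) (h2 : (o ∩ o').card = 2)
    {g : Equiv.Perm GolayPt} (hg : g ∈ M24) (hfix : ∀ p ∈ o \ o', g p = p) (h1 : g • o' = o') : g = 1 := by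
  obtain ⟨k, hk, hko⟩ := M24_octad_transitive o _ ho oct0_mem
  have hc : k • o' ∈ octCls (maskSet oct0) 2 := by
    have := smul_mem_octCls hk (⟨ho', h2⟩ : o' ∈ octCls o 2)
    rwa [hko] at this
  obtain ⟨h, hh, hmap⟩ := octCls0_transitive octDesc2 hc oct1_cls
  have hh' := (mem_stabP _ h).mp hh
  set m := h * k with hm
  have hmM : m ∈ M24 := M24.mul_mem hh'.1 hk
  have hmo : m • o = maskSet oct0 := by rw [hm, mul_smul, hko, hh'.2]
  have hmo' : m • o' = maskSet oct1 := by rw [hm, mul_smul, hmap]
  have key : m * g * m⁻¹ = 1 := by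
    apply joint_kernel_std (M24.mul_mem (M24.mul_mem hmM hg) (M24.inv_mem hmM))
    · intro p hp
      rw [← hmo, ← hmo', ← Finset.smul_finset_sdiff, mem_smul_perm_iff] at hp
      rw [Equiv.Perm.mul_apply, Equiv.Perm.mul_apply, hfix _ hp, perm_apply_inv_self]
    · rw [← hmo', mul_smul, mul_smul, inv_smul_smul, h1]
  have : g = m⁻¹ * (m * g * m⁻¹) * m := by group
  rw [this, key]; group

theorem joint_stabilizer_S6 (o o' : Finset GolayPt) (ho : o ∈ octads) (ho' : o' ∈ octads) (h₂ : (o ∩ o').card = 2) :
    Nonempty (↥(MulAction.stabilizer M24 o ⊓ MulAction.stabilizer M24 o') ≃* Equiv.Perm (Fin 6)) := by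
  have hcard := (octad_pair_stabilizer o o' ho ho').2.2 h₂
  have hs : (o \ o').card = 6 := by
    have h1 := Finset.card_sdiff_add_card_inter o o'
    rw [ho.2, h₂] at h1
    omega
  have hmem : ∀ g : ↥(MulAction.stabilizer M24 o ⊓ MulAction.stabilizer M24 o'),
      (g : ↥M24).1 • o = o ∧ (g : ↥M24).1 • o' = o' := by
    intro g
    have h := g.2
    rw [Subgroup.mem_inf, MulAction.mem_stabilizer_iff, MulAction.mem_stabilizer_iff] at h
    exact h
  apply mulEquiv_perm_of_faithful (o \ o') 6 hs
  · intro g p hp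
    obtain ⟨h1, h2⟩ := hmem g
    show (g : ↥M24).1 p ∈ o \ o'
    have : (g : ↥M24).1 p ∈ (g : ↥M24).1 • (o \ o') := (mem_smul_finset_perm _ _ p).mpr hp
    rwa [Finset.smul_finset_sdiff, h1, h2] at this
  · intro g hfix
    obtain ⟨h1, h2⟩ := hmem g
    have := joint_kernel ho ho' h₂ (g : ↥M24).2 (fun p hp => hfix p hp) h2
    apply Subtype.ext
    apply Subtype.ext
    exact this
  · rw [hcard]
    rfl

end Cfsg.Agent.Helper27
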