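import Cfsg.Agent.Helper27.M9Data
import Cfsg.Agent.Helper27.TblRep
import Cfsg.Agent.Helper27.M12
import Cfsg.Agent.Helper27.OctadPairS6
import Cfsg.Agent.Helper27.MaskFamily

/-!
The subgroup of order 72 of `Cfsg.M24` fixing a dodecad and three of its points.
-/

set_option autoImplicit false

namespace Cfsg.Agent.Helper27

open Cfsg
open scoped Pointwise

/-- pruning at one base point: the points 0, 2, 3 are fixed and the standard dodecad is preserved -/
def okPt9 (b v : ℕ) : Bool := (!(b == 0 || b == 2 || b == 3) || v == b) && (dod0.testBit v == dod0.testBit b)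

/-- pruning for the group of order 72 -/
def okM9 (vs : List ℕ) : Bool := (vs.zip baseL).all (fun p => okPt9 p.2 p.1)

set_option maxRecDepth 100000 in
theorem m9_enum : (enumL chainL [] idT okM9).filter (fun T => applyTbl T dod0 == dod0) = m9L := by decide +kernel

/-- the checks on the 72 tables -/
def m9OK (T : List ℕ) : Bool :=
  validTbl T && tblInCode T && (applyTbl T dod0 == dod0) && (T.getD 0 0 == 0) && (T.getD 2 0 == 2) && (T.getD 3 0 == 3)

theorem m9L_ok : m9L.all m9OK = true := by decide +kernel

theorem m9L_nodup : m9L.Nodup := by decide +kernel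

theorem m9L_length : m9L.length = 72 := by decide +kernel

/-- membership in the standard group of order 72 -/
def InM9 (k : Equiv.Perm GolayPt) : Prop :=
  k ∈ M24 ∧ k • maskSet dod0 = maskSet dod0 ∧ k (pt 0) = pt 0 ∧ k (pt 2) = pt 2 ∧ k (pt 3) = pt 3

theorem smul_maskSet_iff {k : Equiv.Perm GolayPt} {T : List ℕ} (h : Represents k T) {n : ℕ} (hn : n < 2 ^ 24) :
    k • maskSet n = maskSet n ↔ applyTbl T n = n := by
  constructor
  · exact applyTbl_eq_of_smul h hn
  · intro h1
    have := maskSet_applyTbl' h n
    rw [h1] at this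
    rw [eq_comm, inv_smul_eq_iff] at this
    exact this.symm

theorem apply_pt_iff {k : Equiv.Perm GolayPt} {T : List ℕ} (h : Represents k T) {i j : ℕ} (hi : i < 24) (hj : j < 24) :
    k (pt i) = pt j ↔ T.getD i 0 = j := by
  have := h.2 (pt i)
  rw [idx_pt hi] at this
  rw [← this]
  constructor
  · intro h1; rw [h1, idx_pt hj]
  · intro h1
    apply idx_injective
    rw [h1, idx_pt hj]

theorem okPt9_of {k : Equiv.Perm GolayPt} (hk : InM9 k) {b : ℕ} (hb : b < 24) :
    okPt9 b ((tblOf k).getD b 0) = true := by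
  obtain ⟨-, hd, h0, h2, h3⟩ := hk
  have hr := represents_tblOf k
  have e0 := (apply_pt_iff hr (by norm_num) (by norm_num)).mp h0
  have e2 := (apply_pt_iff hr (by norm_num) (by norm_num)).mp h2
  have e3 := (apply_pt_iff hr (by norm_num) (by norm_num)).mp h3
  have hbit : dod0.testBit ((tblOf k).getD b 0) = dod0.testBit b := by
    have h1 : k (pt b) ∈ maskSet dod0 ↔ pt b ∈ maskSet dod0 := by
      conv_lhs => rw [← hd]
      rw [mem_smul_finset_perm]
    rw [mem_maskSet, mem_maskSet, idx_pt hb] at h1
    have h4 := hr.2 (pt b)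
    rw [idx_pt hb] at h4
    rw [← h4]
    exact Bool.eq_iff_iff.mpr h1
  simp only [okPt9, hbit, beq_self_eq_true, Bool.and_true, Bool.or_eq_true, Bool.not_eq_true', beq_iff_eq,
    Bool.or_eq_false_iff, beq_eq_false_iff_ne]
  by_cases c0 : b = 0
  · right; rw [c0, e0]
  by_cases c2 : b = 2
  · right; rw [c2, e2]
  by_cases c3 : b = 3
  · right; rw [c3, e3]
  left
  exact ⟨⟨c0, c2⟩, c3⟩

theorem inM9_iff (k : Equiv.Perm GolayPt) : InM9 k ↔ tblOf k ∈ m9L := by
  have hr := represents_tblOf k
  constructor
  · intro hk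
    rw [← m9_enum, List.mem_filter, beq_iff_eq]
    refine ⟨?_, (smul_maskSet_iff hr (by decide)).mp hk.2.1⟩
    apply m24_enum_sound _ hk.1
    intro n hn1 hn7
    have o0 := okPt9_of hk (show 0 < 24 by norm_num)
    have o1 := okPt9_of hk (show 1 < 24 by norm_num)
    have o2 := okPt9_of hk (show 2 < 24 by norm_num)
    have o3 := okPt9_of hk (show 3 < 24 by norm_num)
    have o4 := okPt9_of hk (show 4 < 24 by norm_num)
    have o5 := okPt9_of hk (show 5 < 24 by norm_num)
    have o7 := okPt9_of hk (show 7 < 24 by norm_num)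
    simp only [okM9, baseImgs, baseL]
    interval_cases n <;>
      simp only [List.take_succ_cons, List.take_zero, List.take_nil, List.map_cons, List.map_nil, List.zip_cons_cons,
        List.zip_nil_left, List.all_cons, List.all_nil, o0, o1, o2, o3, o4, o5, o7, Bool.and_self]
  · intro hk
    have hok := List.all_eq_true.mp m9L_ok _ hk
    simp only [m9OK, Bool.and_eq_true, beq_iff_eq] at hok
    obtain ⟨⟨⟨⟨⟨hv, hc⟩, hd⟩, h0⟩, h2⟩, h3⟩ := hok
    refine ⟨?_, (smul_maskSet_iff hr (by decide)).mpr hd, (apply_pt_iff hr (by norm_num) (by norm_num)).mpr h0,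
      (apply_pt_iff hr (by norm_num) (by norm_num)).mpr h2, (apply_pt_iff hr (by norm_num) (by norm_num)).mpr h3⟩
    have : k = tblPerm (tblOf k) hv := represents_unique hr (tblPerm_represents _ hv)
    rw [this]
    exact tblPerm_mem_M24 _ hv hc

theorem tblOf_mul (a b : Equiv.Perm GolayPt) : tblOf (a * b) = compT (tblOf a) (tblOf b) :=
  tblOf_eq (represents_compT (represents_tblOf a) (represents_tblOf b))

theorem tblOf_one : tblOf (1 : Equiv.Perm GolayPt) = idT := tblOf_eq represents_one

theorem tblOf_injective : Function.Injective tblOf := by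
  intro a b h
  have := represents_tblOf a
  rw [h] at this
  exact represents_unique this (represents_tblOf b)

end Cfsg.Agent.Helper27
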