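import Cfsg.Agent.Helper27.M9

/-!
The structure of the subgroup of order 72 of `Cfsg.M24` fixing a dodecad and three of its points.
-/

set_option autoImplicit false

namespace Cfsg.Agent.Helper27

open Cfsg
open scoped Pointwise

theorem chainFull12_3 : ChainFull H12 (maskSet dod0) (fun i : Fin 3 => [0, 2, 3].getD i.val 0) := by
  intro n b hb hne
  have hn5 : n.val < 5 := by have := n.2; omega
  obtain ⟨g, hg, hfix, hgb⟩ := chainFull12 ⟨n.val, hn5⟩ b hb (by
    intro j hj
    have hj3 : j.val < 3 := by have := n.2; simp only at hj; omega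
    have := hne ⟨j.val, hj3⟩ hj
    convert this using 2
    obtain ⟨j, hj5⟩ := j
    simp only at hj3 ⊢
    interval_cases j <;> rfl)
  refine ⟨g, hg, ?_, ?_⟩
  · intro j hj
    have hj5 : j.val < 5 := by have := j.2; omega
    have := hfix ⟨j.val, hj5⟩ hj
    convert this using 2 <;>
    · obtain ⟨j, hj3⟩ := j
      simp only
      interval_cases j <;> rfl
  · convert hgb using 2
    obtain ⟨n, hn3⟩ := n
    simp only
    interval_cases n <;> rfl

/-- a dodecad with three of its points can be moved to the standard dodecad with its points 0, 2, 3 -/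
theorem exists_move_dod3 {d : Finset GolayPt} (hd : d ∈ dodecads) {p q r : GolayPt} (hp : p ∈ d) (hq : q ∈ d)
    (hr : r ∈ d) (hpq : p ≠ q) (hpr : p ≠ r) (hqr : q ≠ r) :
    ∃ m ∈ M24, m • d = maskSet dod0 ∧ m p = pt 0 ∧ m q = pt 2 ∧ m r = pt 3 := by
  obtain ⟨g, hg, hgd⟩ := exists_smul_eq_dod0 hd
  have hD : ∀ h ∈ H12, ∀ q ∈ maskSet dod0, h q ∈ maskSet dod0 := fun h hh q hq => H12_maps hh hq
  have hgmem : ∀ q ∈ d, g q ∈ maskSet dod0 := by
    intro q hq
    rw [← hgd, mem_smul_finset_perm]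
    exact hq
  let x : Fin 3 → GolayPt := ![g p, g q, g r]
  have hx : Function.Injective x := by
    intro i j hij
    fin_cases i <;> fin_cases j <;> simp [x] at hij ⊢ <;> first | exact absurd hij hpq | exact absurd hij hpr | exact absurd hij hqr | exact absurd hij.symm hpq | exact absurd hij.symm hpr | exact absurd hij.symm hqr
  have hxd : ∀ i, x i ∈ maskSet dod0 := by
    intro i
    fin_cases i
    · exact hgmem p hp
    · exact hgmem q hq
    · exact hgmem r hr
  obtain ⟨h, hh, hmap⟩ := exists_move_of_chain chainFull12_3 hD x hx hxd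
  have hh' := (mem_stabP _ h).mp hh
  refine ⟨h * g, M24.mul_mem hh'.1 hg, ?_, ?_, ?_, ?_⟩
  · rw [mul_smul, hgd, hh'.2]
  · exact hmap 0
  · exact hmap 1
  · exact hmap 2

theorem mem_stab4_iff (d : Finset GolayPt) (p q r : GolayPt) (x : ↥M24) :
    x ∈ MulAction.stabilizer M24 d ⊓ MulAction.stabilizer M24 p ⊓ MulAction.stabilizer M24 q ⊓
        MulAction.stabilizer M24 r ↔ x.1 • d = d ∧ x.1 p = p ∧ x.1 q = q ∧ x.1 r = r := by
  simp only [Subgroup.mem_inf, MulAction.mem_stabilizer_iff, and_assoc]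
  rfl

/-- the tables of a conjugate of the group fixing `d, p, q, r` -/
noncomputable def tau9 (m : Equiv.Perm GolayPt) {K : Subgroup ↥M24} (x : ↥K) : List ℕ := tblOf (m * x.1.1 * m⁻¹)

theorem isTblRep9 {d : Finset GolayPt} {p q r : GolayPt} {m : Equiv.Perm GolayPt} (hm : m ∈ M24)
    (hmd : m • d = maskSet dod0) (hmp : m p = pt 0) (hmq : m q = pt 2) (hmr : m r = pt 3) :
    IsTblRep (tau9 m (K := MulAction.stabilizer M24 d ⊓ MulAction.stabilizer M24 p ⊓ MulAction.stabilizer M24 q ⊓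
        MulAction.stabilizer M24 r)) m9L := by
  have hinv : ∀ {a b : GolayPt}, m a = b → m⁻¹ b = a := by
    intro a b h
    rw [← h]; simp
  refine ⟨?_, ?_, ?_, ?_, ?_⟩
  · intro x y hxy
    have h1 : m * x.1.1 * m⁻¹ = m * y.1.1 * m⁻¹ := tblOf_injective hxy
    have h2 : x.1.1 = y.1.1 := by
      have : x.1.1 = m⁻¹ * (m * x.1.1 * m⁻¹) * m := by group
      rw [this, h1]; group
    exact Subtype.ext (Subtype.ext h2)
  · intro x
    have hx := (mem_stab4_iff d p q r x.1).mp x.2
    rw [tau9, ← inM9_iff]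
    refine ⟨M24.mul_mem (M24.mul_mem hm x.1.2) (M24.inv_mem hm), ?_, ?_, ?_, ?_⟩
    · rw [mul_smul, mul_smul, ← hmd, inv_smul_smul, hx.1]
    · rw [Equiv.Perm.mul_apply, Equiv.Perm.mul_apply, hinv hmp, hx.2.1, hmp]
    · rw [Equiv.Perm.mul_apply, Equiv.Perm.mul_apply, hinv hmq, hx.2.2.1, hmq]
    · rw [Equiv.Perm.mul_apply, Equiv.Perm.mul_apply, hinv hmr, hx.2.2.2, hmr]
  · intro T hT
    have hok := List.all_eq_true.mp m9L_ok _ hT
    simp only [m9OK, Bool.and_eq_true, beq_iff_eq] at hok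
    have hv := hok.1.1.1.1.1
    have hk : InM9 (tblPerm T hv) := by
      rw [inM9_iff, tblOf_eq (tblPerm_represents T hv)]
      exact hT
    obtain ⟨hkM, hkd, hk0, hk2, hk3⟩ := hk
    set k := tblPerm T hv with hkdef
    have hxM : m⁻¹ * k * m ∈ M24 := M24.mul_mem (M24.mul_mem (M24.inv_mem hm) hkM) hm
    have hx : (⟨m⁻¹ * k * m, hxM⟩ : ↥M24) ∈ MulAction.stabilizer M24 d ⊓ MulAction.stabilizer M24 p ⊓
        MulAction.stabilizer M24 q ⊓ MulAction.stabilizer M24 r := by
      rw [mem_stab4_iff]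
      refine ⟨?_, ?_, ?_, ?_⟩
      · show (m⁻¹ * k * m) • d = d
        rw [mul_smul, mul_smul, hmd, hkd, ← hmd, inv_smul_smul]
      · show (m⁻¹ * k * m) p = p
        rw [Equiv.Perm.mul_apply, Equiv.Perm.mul_apply, hmp, hk0, hinv hmp]
      · show (m⁻¹ * k * m) q = q
        rw [Equiv.Perm.mul_apply, Equiv.Perm.mul_apply, hmq, hk2, hinv hmq]
      · show (m⁻¹ * k * m) r = r
        rw [Equiv.Perm.mul_apply, Equiv.Perm.mul_apply, hmr, hk3, hinv hmr]
    refine ⟨⟨⟨m⁻¹ * k * m, hxM⟩, hx⟩, ?_⟩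
    show tblOf (m * (m⁻¹ * k * m) * m⁻¹) = T
    have : m * (m⁻¹ * k * m) * m⁻¹ = k := by group
    rw [this]
    exact tblOf_eq (tblPerm_represents T hv)
  · intro x y
    show tblOf (m * (x.1.1 * y.1.1) * m⁻¹) = compT (tblOf (m * x.1.1 * m⁻¹)) (tblOf (m * y.1.1 * m⁻¹))
    rw [← tblOf_mul]
    congr 1
    group
  · show tblOf (m * 1 * m⁻¹) = idT
    rw [mul_one, mul_inv_cancel, tblOf_one]

/-! ### The quaternion group in tables -/

/-- the tables of a quaternion subgroup -/
def q8T : QuaternionGroup 2 → List ℕ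
  | .a i => q8aL.getD i.val []
  | .xa i => q8xL.getD i.val []

theorem q8T_mem : ∀ k, q8T k ∈ m9L := by decide +kernel
theorem q8T_one : q8T 1 = idT := by decide +kernel
theorem q8T_mul : ∀ a b, q8T (a * b) = compT (q8T a) (q8T b) := by decide +kernel
theorem q8T_inj : Function.Injective q8T := by
  have : ∀ a b, q8T a = q8T b → a = b := by decide +kernel
  exact fun a b h => this a b h

theorem m9_roots : ((m9L.filter (fun T => powT T 3 == idT)).toFinset.card ≤ 9) := by decide +kernel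

theorem m9_exp : m9L.all (fun T => !(powT T 9 == idT) || (powT T 3 == idT)) = true := by decide +kernel

/-- the structure of the group of order 72 -/
theorem M9_structure (d : Finset GolayPt) (hd : d ∈ dodecads) (p q r : GolayPt) (hp : p ∈ d) (hq : q ∈ d) (hr : r ∈ d)
    (hpq : p ≠ q) (hpr : p ≠ r) (hqr : q ≠ r) :
    (∀ Q : Sylow 3 ↥(MulAction.stabilizer M24 d ⊓ MulAction.stabilizer M24 p ⊓ MulAction.stabilizer M24 q ⊓
        MulAction.stabilizer M24 r),
      (Q : Subgroup ↥(MulAction.stabilizer M24 d ⊓ MulAction.stabilizer M24 p ⊓ MulAction.stabilizer M24 q ⊓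
        MulAction.stabilizer M24 r)).Normal ∧ Nat.card ↥Q = 9 ∧
      ∀ x ∈ (Q : Subgroup ↥(MulAction.stabilizer M24 d ⊓ MulAction.stabilizer M24 p ⊓ MulAction.stabilizer M24 q ⊓
        MulAction.stabilizer M24 r)), x ^ 3 = 1) ∧
    ∀ P : Sylow 2 ↥(MulAction.stabilizer M24 d ⊓ MulAction.stabilizer M24 p ⊓ MulAction.stabilizer M24 q ⊓
        MulAction.stabilizer M24 r), Nonempty (↥P ≃* QuaternionGroup 2) := by
  obtain ⟨m, hm, hmd, hmp, hmq, hmr⟩ := exists_move_dod3 hd hp hq hr hpq hpr hqr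
  have hrep := isTblRep9 hm hmd hmp hmq hmr
  have hfin := hrep.finite
  have hcard := hrep.card m9L_nodup
  rw [m9L_length] at hcard
  constructor
  · intro Q
    have h3 : Fact (Nat.Prime 3) := ⟨by norm_num⟩
    have := sylow_normal_of_roots (p := 3) (n := 2) (m := 8) (by rw [hcard]; norm_num) (by norm_num) ?_ ?_ Q
    · obtain ⟨hn, hc, he⟩ := this
      exact ⟨hn, hc.trans (by norm_num), he⟩
    · refine le_trans (hrep.ncard_le (fun x => x ^ 3 = 1) (fun T => powT T 3 == idT) ?_) m9_roots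
      intro x hx
      rw [beq_iff_eq, ← hrep.pow_eq_one_iff]
      exact hx
    · intro x hx
      have h9 : (3 : ℕ) ^ 2 = 9 := by norm_num
      rw [h9, hrep.pow_eq_one_iff] at hx
      have := List.all_eq_true.mp m9_exp _ (hrep.mem x)
      rw [hx] at this
      simp only [beq_self_eq_true, Bool.not_true, Bool.false_or, beq_iff_eq] at this
      exact (hrep.pow_eq_one_iff x 3).mpr this
  · intro P
    have h2 : Fact (Nat.Prime 2) := ⟨by norm_num⟩
    obtain ⟨φ, hφ⟩ := hrep.exists_embedding q8T q8T_mem q8T_one q8T_mul q8T_inj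
    have hK : Nat.card (QuaternionGroup 2) = 2 ^ 3 := by
      rw [Nat.card_eq_fintype_card, QuaternionGroup.card]; norm_num
    exact sylow_iso_of_embedding (p := 2) (n := 3) (m := 9) (by rw [hcard]; norm_num) (by norm_num) hK φ hφ P

end Cfsg.Agent.Helper27
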