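import Cfsg.Agent.Helper28.OC2KC2R28
import Cfsg.Agent.Helper27.OC2KQ2GEO
import Cfsg.Agent.Helper17.OC2KC2Defs

set_option autoImplicit false
set_option linter.unusedSectionVars false
set_option linter.unusedVariables false

/-! # OC2K, chapter CHAR2, route 2 (reflections): the interface `C2.Q2G.main` of helper17, as a hedge

`Q2GH.main`: an overgroup `M ≥ HS D` not inside `StabO D` satisfies `G1 M D`, for ALL even `q`, all
`k ≥ 4`, blocks of Witt index `≤ 1` (`C2.Witt1`). It is helper28's `C2R28.main` fed with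
`Q2.GEO.codim2` (two perpendicularity conditions leave a nonsingular vector of the block), whose
hypothesis on totally singular subspaces is `Q2GH.hts` (from `C2.Witt1`). -/

namespace Cfsg.Agent.OC2K

open Matrix Cfsg.Agent.Helper28.Sg Cfsg.Agent.Helper28.Spin Cfsg.Agent.Helper12.OrthGen
  Cfsg.Agent.S2614 Cfsg.Agent.S5683P Cfsg.Agent.Helper28.NDM

variable {F : Type*} [Field F] {t k : ℕ} {ι : Type} [Fintype ι] [DecidableEq ι]
  {Q : QuadraticForm F (ι → F)} [QHyp Q] {D : Fin t → Submodule F (ι → F)}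
  {M : Subgroup (OGq Q)}

/-- a totally singular subspace of a block of Witt index `≤ 1` has dimension `≤ 1` -/
theorem Q2GH.hts (hk : 4 ≤ k) (hW : C2.Witt1 Q D) (c : Fin t) (W : Submodule F (ι → F))
    (hWD : W ≤ D c) (hts : ∀ x ∈ W, Q x = 0) : Module.finrank F W + 3 ≤ k := by
  classical
  have h1 : Module.finrank F W ≤ 1 := by
    by_contra hlt
    push Not at hlt
    obtain ⟨x, hx0⟩ : ∃ x : W, x ≠ 0 := by
      have : 0 < Module.finrank F W := by omega
      exact Module.finrank_pos_iff_exists_ne_zero.mp this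
    -- every `y ∈ W` is a multiple of `x`
    have hall : ∀ y : W, ∃ s : F, s • x = y := by
      intro y
      have hB : B Q (x : ι → F) (y : ι → F) = 0 := by
        have h3 := hts _ (W.add_mem x.2 y.2)
        have h4 : Q ((x : ι → F) + (y : ι → F)) = Q (x : ι → F) + Q (y : ι → F)
            + QuadraticMap.polar (⇑Q) (x : ι → F) (y : ι → F) := by
          rw [QuadraticMap.polar]; ring
        rw [h4, hts _ x.2, hts _ y.2, zero_add, zero_add] at h3
        simpa [B] using h3
      have hx0' : (x : ι → F) ≠ 0 := fun h => hx0 (Subtype.ext h)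
      obtain ⟨s, hs⟩ := hW c x (hWD x.2) y (hWD y.2) (hts _ x.2) (hts _ y.2) hB hx0'
      exact ⟨s, Subtype.ext (by simpa using hs.symm)⟩
    have := finrank_le_one x hall
    omega
  omega

/-- **helper17's interface `C2.Q2G.main`** (route 2), all even `q` -/
theorem Q2GH.main [Fintype F] (h2 : (2 : F) = 0) (hD : HD Q k D) (hk : 4 ≤ k) (hW : C2.Witt1 Q D)
    (hHM : HS D ≤ M) (hn : ¬ M ≤ StabO D) : G1 M D :=
  C2R28.main h2 hD (fun c p p' => Q2.GEO.codim2 hD (Q2GH.hts hk hW) c p p') hHM hn

end Cfsg.Agent.OC2K
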