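import Cfsg.Agent.Helper27.Trio15Data
import Cfsg.Agent.Helper27.FamCount
import Cfsg.Agent.Helper27.M24Enum
import Cfsg.Agent.Helper27.M24Octad
import Cfsg.Agent.Helper27.M9

/-!
The fifteen trios through an octad: the stabiliser of the octad is doubly transitive on them, with kernel the
pointwise stabiliser of the octad.
-/

set_option autoImplicit false

namespace Cfsg.Agent.Helper27

open Cfsg
open scoped Pointwise

/-! ### Trios through an octad given by a mask -/

/-- the trios through the octad with mask `m` -/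
def triosThrough (m : ℕ) : List (List ℕ) := trioData.filter (fun L => L.contains m)

theorem mem_triosThrough {m : ℕ} {L : List ℕ} (h : L ∈ triosThrough m) : L ∈ trioL ∧ m ∈ L := by
  rw [triosThrough, trioData_eq, List.mem_filter, List.contains_iff_mem] at h
  exact h

theorem mem_triosThrough_iff {m : ℕ} (hm : m < 2 ^ 24) (T : Finset (Finset GolayPt)) :
    (T ∈ trios ∧ maskSet m ∈ T) ↔ ∃ L ∈ triosThrough m, famOf L = T := by
  constructor
  · rintro ⟨hT, ho⟩
    obtain ⟨L, hL, rfl⟩ := trioL_complete hT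
    refine ⟨L, ?_, rfl⟩
    rw [triosThrough, trioData_eq, List.mem_filter, List.contains_iff_mem]
    refine ⟨hL, ?_⟩
    obtain ⟨m', hm', he⟩ := (mem_famOf _ _).mp ho
    have hb := (sortedB_spec (trioL_sound hL).1).2 m' hm'
    have : m' = m := maskSet_injOn hb hm he
    rw [← this]; exact hm'
  · rintro ⟨L, hL, rfl⟩
    obtain ⟨h1, h2⟩ := mem_triosThrough hL
    exact ⟨(trioL_sound h1).2, (mem_famOf _ _).mpr ⟨m, h2, rfl⟩⟩

theorem triosThrough_ncard {m : ℕ} (hm : m < 2 ^ 24) :
    {T : Finset (Finset GolayPt) | T ∈ trios ∧ maskSet m ∈ T}.ncard = (triosThrough m).dedup.length := by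
  have hset : {T : Finset (Finset GolayPt) | T ∈ trios ∧ maskSet m ∈ T} = famOf '' ↑((triosThrough m).toFinset) := by
    ext T
    simp only [Set.mem_ofPred_eq, Set.mem_image, Finset.mem_coe, List.mem_toFinset]
    exact mem_triosThrough_iff hm T
  rw [hset, Set.ncard_image_of_injOn, Set.ncard_coe_finset, List.card_toFinset]
  intro L hL L' hL' he
  simp only [Finset.mem_coe, List.mem_toFinset] at hL hL'
  exact famOf_inj (trioL_sound (mem_triosThrough hL).1).1 (trioL_sound (mem_triosThrough hL').1).1 he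

/-- two lists of masks with the same members -/
def sameFam (L L' : List ℕ) : Bool := L.all (fun m => L'.contains m) && L'.all (fun m => L.contains m)

theorem famOf_eq_of_sameFam {L L' : List ℕ} (h : sameFam L L' = true) : famOf L = famOf L' := by
  simp only [sameFam, Bool.and_eq_true, List.all_eq_true, List.contains_iff_mem] at h
  ext X
  rw [mem_famOf, mem_famOf]
  constructor
  · rintro ⟨m, hm, rfl⟩; exact ⟨m, h.1 m hm, rfl⟩
  · rintro ⟨m, hm, rfl⟩; exact ⟨m, h.2 m hm, rfl⟩

/-! ### The standard octad -/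

set_option maxRecDepth 100000 in
theorem tr15_eq : triosThrough oBm = tr15 := by decide +kernel

theorem oBm_lt : oBm < 2 ^ 24 := by decide

theorem tr15_length : tr15.length = 15 := by decide

theorem tr15_nodup : tr15.Nodup := by decide +kernel

theorem ncard_trios_oB : {T : Finset (Finset GolayPt) | T ∈ trios ∧ maskSet oBm ∈ T}.ncard = 15 := by
  rw [triosThrough_ncard oBm_lt, tr15_eq, List.Nodup.dedup tr15_nodup, tr15_length]

/-- the check on a certificate of double transitivity -/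
def chk2 (i j : ℕ) (C : List ℕ) : Bool :=
  validTbl C && tblInCode C && (applyTbl C oBm == oBm) &&
    sameFam ((tr15.getD 0 []).map (applyTbl C)) (tr15.getD i []) &&
    sameFam ((tr15.getD 1 []).map (applyTbl C)) (tr15.getD j [])

set_option maxRecDepth 100000 in
theorem cert2_ok : (List.range 15).all (fun i => (List.range 15).all (fun j =>
    i == j || chk2 i j (cert2L.getD (15 * i + j) []))) = true := by decide +kernel

theorem two_trans_std {i j : ℕ} (hi : i < 15) (hj : j < 15) (hij : i ≠ j) :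
    ∃ h ∈ M24, h • maskSet oBm = maskSet oBm ∧ h • famOf (tr15.getD 0 []) = famOf (tr15.getD i []) ∧
      h • famOf (tr15.getD 1 []) = famOf (tr15.getD j []) := by
  have h1 := List.all_eq_true.mp cert2_ok i (List.mem_range.mpr hi)
  have h2 := List.all_eq_true.mp h1 j (List.mem_range.mpr hj)
  have hne : (i == j) = false := beq_false_of_ne hij
  rw [hne, Bool.false_or] at h2
  simp only [chk2, Bool.and_eq_true, beq_iff_eq] at h2
  obtain ⟨⟨⟨⟨hv, hc⟩, ho⟩, hs1⟩, hs2⟩ := h2
  set C := cert2L.getD (15 * i + j) [] with hC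
  have hr := tblPerm_represents C hv
  refine ⟨(tblPerm C hv)⁻¹, M24.inv_mem (tblPerm_mem_M24 C hv hc), ?_, ?_, ?_⟩
  · rw [← maskSet_applyTbl' hr, ho]
  · rw [inv_smul_famOf hr, famOf_eq_of_sameFam hs1]
  · rw [inv_smul_famOf hr, famOf_eq_of_sameFam hs2]

theorem exists_idx_tr15 {T : Finset (Finset GolayPt)} (hT : T ∈ trios) (ho : maskSet oBm ∈ T) :
    ∃ i < 15, famOf (tr15.getD i []) = T := by
  obtain ⟨L, hL, rfl⟩ := (mem_triosThrough_iff oBm_lt T).mp ⟨hT, ho⟩
  rw [tr15_eq] at hL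
  obtain ⟨i, hi, rfl⟩ := List.mem_iff_getElem.mp hL
  refine ⟨i, by rwa [tr15_length] at hi, ?_⟩
  rw [List.getD_eq_getElem _ _ hi]

theorem two_trans_oB (T₁ T₂ T₁' T₂' : Finset (Finset GolayPt)) (h1 : T₁ ∈ trios) (h2 : T₂ ∈ trios)
    (h1' : T₁' ∈ trios) (h2' : T₂' ∈ trios) (ho1 : maskSet oBm ∈ T₁) (ho2 : maskSet oBm ∈ T₂)
    (ho1' : maskSet oBm ∈ T₁') (ho2' : maskSet oBm ∈ T₂') (hne : T₁ ≠ T₂) (hne' : T₁' ≠ T₂') :
    ∃ g ∈ M24, g • maskSet oBm = maskSet oBm ∧ g • T₁ = T₁' ∧ g • T₂ = T₂' := by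
  obtain ⟨i, hi, rfl⟩ := exists_idx_tr15 h1 ho1
  obtain ⟨j, hj, rfl⟩ := exists_idx_tr15 h2 ho2
  obtain ⟨i', hi', rfl⟩ := exists_idx_tr15 h1' ho1'
  obtain ⟨j', hj', rfl⟩ := exists_idx_tr15 h2' ho2'
  have hij : i ≠ j := fun h => hne (by rw [h])
  have hij' : i' ≠ j' := fun h => hne' (by rw [h])
  obtain ⟨a, ha, hao, ha1, ha2⟩ := two_trans_std hi hj hij
  obtain ⟨b, hb, hbo, hb1, hb2⟩ := two_trans_std hi' hj' hij'
  refine ⟨b * a⁻¹, M24.mul_mem hb (M24.inv_mem ha), ?_, ?_, ?_⟩
  · rw [mul_smul, inv_smul_eq_iff.mpr hao.symm, hbo]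
  · rw [mul_smul, ← ha1, inv_smul_smul, hb1]
  · rw [mul_smul, ← ha2, inv_smul_smul, hb2]

end Cfsg.Agent.Helper27
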