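import Cfsg.Agent.Helper27.OctadTriosKer

/-!
The fifteen trios through an arbitrary octad.
-/

set_option autoImplicit false

namespace Cfsg.Agent.Helper27

open Cfsg
open scoped Pointwise

theorem oBm_mem : maskSet oBm ∈ octads := maskSet_mem_octads (by decide +kernel)

theorem mem_smul_fam_iff (k : Equiv.Perm GolayPt) (o : Finset GolayPt) (T : Finset (Finset GolayPt)) :
    k • o ∈ k • T ↔ o ∈ T := Finset.smul_mem_smul_finset_iff k

theorem octad_trios (o : Finset GolayPt) (ho : o ∈ octads) :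
    {T : Finset (Finset GolayPt) | T ∈ trios ∧ o ∈ T}.ncard = 15 ∧
    (∀ T₁ T₂ T₁' T₂' : Finset (Finset GolayPt), T₁ ∈ trios → T₂ ∈ trios → T₁' ∈ trios → T₂' ∈ trios →
      o ∈ T₁ → o ∈ T₂ → o ∈ T₁' → o ∈ T₂' → T₁ ≠ T₂ → T₁' ≠ T₂' →
      ∃ g ∈ M24, g • o = o ∧ g • T₁ = T₁' ∧ g • T₂ = T₂') ∧
    ∀ g ∈ M24, g • o = o → ((∀ T ∈ trios, o ∈ T → g • T = T) ↔ ∀ p ∈ o, g p = p) := by
  obtain ⟨k, hk, hko⟩ := M24_octad_transitive _ o oBm_mem ho
  obtain ⟨k5, hk5, hko5⟩ := exists_smul_oct5 ho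
  have hkinv : k⁻¹ ∈ M24 := M24.inv_mem hk
  have hback : ∀ T ∈ trios, o ∈ T → k⁻¹ • T ∈ trios ∧ maskSet oBm ∈ k⁻¹ • T := by
    intro T hT hoT
    refine ⟨smul_mem_trios hkinv hT, ?_⟩
    have : k⁻¹ • o ∈ k⁻¹ • T := (mem_smul_fam_iff _ _ _).mpr hoT
    rwa [← hko, inv_smul_smul] at this
  refine ⟨?_, ?_, ?_⟩
  · rw [← ncard_trios_oB]
    have himg : {T : Finset (Finset GolayPt) | T ∈ trios ∧ o ∈ T} =
        (fun T => k • T) '' {T : Finset (Finset GolayPt) | T ∈ trios ∧ maskSet oBm ∈ T} := by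
      ext T
      simp only [Set.mem_ofPred_eq, Set.mem_image]
      constructor
      · rintro ⟨hT, hoT⟩
        exact ⟨k⁻¹ • T, hback T hT hoT, smul_inv_smul k T⟩
      · rintro ⟨T', ⟨hT', hoT'⟩, rfl⟩
        refine ⟨smul_mem_trios hk hT', ?_⟩
        rw [← hko]
        exact (mem_smul_fam_iff _ _ _).mpr hoT'
    rw [himg, Set.ncard_image_of_injective _ (MulAction.injective k)]
  · intro T₁ T₂ T₁' T₂' h1 h2 h1' h2' ho1 ho2 ho1' ho2' hne hne'
    obtain ⟨b1, b1o⟩ := hback T₁ h1 ho1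
    obtain ⟨b2, b2o⟩ := hback T₂ h2 ho2
    obtain ⟨b1', b1o'⟩ := hback T₁' h1' ho1'
    obtain ⟨b2', b2o'⟩ := hback T₂' h2' ho2'
    have hne1 : k⁻¹ • T₁ ≠ k⁻¹ • T₂ := fun h => hne (smul_left_cancel _ h)
    have hne1' : k⁻¹ • T₁' ≠ k⁻¹ • T₂' := fun h => hne' (smul_left_cancel _ h)
    obtain ⟨h, hh, hho, hh1, hh2⟩ := two_trans_oB _ _ _ _ b1 b2 b1' b2' b1o b2o b1o' b2o' hne1 hne1'
    refine ⟨k * h * k⁻¹, M24.mul_mem (M24.mul_mem hk hh) hkinv, ?_, ?_, ?_⟩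
    · rw [mul_smul, mul_smul, ← hko, inv_smul_smul, hho]
    · rw [mul_smul, mul_smul, hh1, smul_inv_smul]
    · rw [mul_smul, mul_smul, hh2, smul_inv_smul]
  · intro g hg hgo
    constructor
    · intro hT p hp
      have hg' : k⁻¹ * g * k ∈ M24 := M24.mul_mem (M24.mul_mem hkinv hg) hk
      have hgo' : (k⁻¹ * g * k) • maskSet oBm = maskSet oBm := by
        rw [mul_smul, mul_smul, hko, hgo, ← hko, inv_smul_smul]
      have hT' : ∀ T ∈ trios, maskSet oBm ∈ T → (k⁻¹ * g * k) • T = T := by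
        intro T hTt hoT
        have h1 : k • T ∈ trios := smul_mem_trios hk hTt
        have h2 : o ∈ k • T := by rw [← hko]; exact (mem_smul_fam_iff _ _ _).mpr hoT
        rw [mul_smul, mul_smul, hT _ h1 h2, inv_smul_smul]
      have hp' : k⁻¹ p ∈ maskSet oBm := by
        rw [← hko, mem_smul_perm_iff] at hp
        exact hp
      have := ker_oB hg' hgo' hT' _ hp'
      rw [Equiv.Perm.mul_apply, Equiv.Perm.mul_apply, perm_apply_inv_self] at this
      have h3 := congrArg k this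
      rwa [perm_apply_inv_self, perm_apply_inv_self] at h3
    · intro hfix T hTt hoT
      have hk5inv : k5⁻¹ ∈ M24 := M24.inv_mem hk5
      have hg' : k5⁻¹ * g * k5 ∈ M24 := M24.mul_mem (M24.mul_mem hk5inv hg) hk5
      have hfix' : ∀ p ∈ maskSet oct5, (k5⁻¹ * g * k5) p = p := by
        intro p hp
        have : k5 p ∈ o := by rw [← hko5]; exact (mem_smul_finset_perm _ _ _).mpr hp
        rw [Equiv.Perm.mul_apply, Equiv.Perm.mul_apply, hfix _ this, perm_inv_apply_self]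
      have h1 : k5⁻¹ • T ∈ trios := smul_mem_trios hk5inv hTt
      have h2 : maskSet oct5 ∈ k5⁻¹ • T := by
        have : k5⁻¹ • o ∈ k5⁻¹ • T := (mem_smul_fam_iff _ _ _).mpr hoT
        rwa [← hko5, inv_smul_smul] at this
      have := fix_oct5 hg' hfix' _ h1 h2
      rw [mul_smul, mul_smul, smul_inv_smul, inv_smul_eq_iff, smul_inv_smul] at this
      exact this

end Cfsg.Agent.Helper27
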