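import Mathlib
import Cfsg.Agent.Helper27.O720B

set_option autoImplicit false

/-!
Piece (B) of P720 (no simple group of order `720`): if `n_3 = 40` there is a subgroup of order `72`
(the normalizer of the intersection `D` of two Sylow `3`-subgroups).
-/

namespace Cfsg.Agent.Helper27.P720B

open Cfsg.Agent.Helper27.O720

variable {G : Type*} [Group G] [Finite G] [IsSimpleGroup G]

theorem exists_sub72_of_forty (hcard : Nat.card G = 720) (h40 : Nat.card (Sylow 3 G) = 40)
    (h15 : ∀ x y : G, orderOf x = 3 → orderOf y = 5 → x * y ≠ y * x) :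
    ∃ M : Subgroup G, Nat.card M = 72 := by
  obtain ⟨P, R, hPR, hD3⟩ := forty_exists_pair hcard h40
  exact ⟨_, forty_card_normalizer hcard h40 P R hPR _ inf_le_left inf_le_right hD3⟩

end Cfsg.Agent.Helper27.P720B
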