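import Mathlib
import Cfsg.Agent.Helper5.PDDefs
import Cfsg.Agent.Helper24.ColumnOrth
import Cfsg.Agent.Helper24.Abelian
import Cfsg.Agent.Helper24.Linear
import Cfsg.Agent.Helper24.Codegree
import Cfsg.Agent.Helper5.LinChar

set_option autoImplicit false
set_option linter.unusedVariables false

/-!
# S4466/S4813, piece FPFB: a fixed-point-free action on the abelian commutator subgroup makes the
nonlinear irreducible characters vanish off the commutator subgroup
-/

namespace Cfsg.Agent.Helper27.PD

open Cfsg Cfsg.Agent.Helper5.PD Cfsg.Agent.Helper24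

universe u

/-- the centralizer of an element acting fixed-point-freely on `X'` embeds into `X ⧸ X'` -/
theorem card_centralizer_le_index {X : Type u} [Group X] [Finite X]
    (g : X) (hg : ∀ x ∈ commutator X, g * x = x * g → x = 1) :
    Nat.card (Subgroup.centralizer ({g} : Set X)) ≤ (commutator X).index := by
  rw [Subgroup.index_eq_card]
  refine Nat.card_le_card_of_injective
    (fun c : Subgroup.centralizer ({g} : Set X) => (QuotientGroup.mk (c : X) : X ⧸ commutator X)) ?_
  intro c c' h
  simp only at h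
  rw [QuotientGroup.eq] at h
  have hc : g * ((c : X)⁻¹ * (c' : X)) = ((c : X)⁻¹ * (c' : X)) * g := by
    have h1 : (c : X)⁻¹ * (c' : X) ∈ Subgroup.centralizer ({g} : Set X) :=
      (Subgroup.centralizer ({g} : Set X)).mul_mem
        ((Subgroup.centralizer ({g} : Set X)).inv_mem c.2) c'.2
    rw [Subgroup.mem_centralizer_iff] at h1
    exact h1 g rfl
  have := hg _ h hc
  apply Subtype.ext
  rw [inv_mul_eq_one] at this
  exact this

/-- a linear irreducible character has values of absolute value `1` -/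
theorem normSq_linear {X : Type u} [Group X] [Finite X] (χ : IrrCharacter X)
    (h1 : (χ : X → ℂ) 1 = 1) (g : X) : Complex.normSq ((χ : X → ℂ) g) = 1 := by
  have h := norm_monoidHom_eq_one
    (Cfsg.Agent.Helper5.linCharHom (IsIrrCharacter.isCharacter χ.2) h1) g
  have h' : ‖(χ : X → ℂ) g‖ = 1 := h
  rw [Complex.normSq_eq_norm_sq, h']
  norm_num

theorem vanish_off_commutator {X : Type u} [Group X] [Finite X]
    (hab : ∀ a ∈ commutator X, ∀ b ∈ commutator X, a * b = b * a)
    (hfpf : ∀ g : X, g ∉ commutator X → ∀ x ∈ commutator X, g * x = x * g → x = 1)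
    (χ : IrrCharacter X) (hχ : charDegree (χ : X → ℂ) ≠ 1) (g : X) (hg : g ∉ commutator X) :
    (χ : X → ℂ) g = 0 := by
  classical
  have : Fintype X := Fintype.ofFinite X
  have : Fintype (IrrCharacter X) := Fintype.ofFinite _
  -- column orthogonality
  have hcol := sum_irr_mul_conj g g
  rw [if_pos (IsConj.refl g)] at hcol
  have hcolR : ∑ ψ : IrrCharacter X, Complex.normSq ((ψ : X → ℂ) g)
      = (Nat.card (Subgroup.centralizer ({g} : Set X)) : ℝ) := by
    have : ((∑ ψ : IrrCharacter X, Complex.normSq ((ψ : X → ℂ) g) : ℝ) : ℂ)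
        = ((Nat.card (Subgroup.centralizer ({g} : Set X)) : ℝ) : ℂ) := by
      have h2 : ((Nat.card (Subgroup.centralizer ({g} : Set X)) : ℝ) : ℂ)
          = (Nat.card (Subgroup.centralizer ({g} : Set X)) : ℂ) := by norm_cast
      rw [h2, ← hcol]
      push_cast
      refine Finset.sum_congr rfl (fun ψ _ => ?_)
      rw [Complex.mul_conj]
    exact_mod_cast this
  have hle : (Nat.card (Subgroup.centralizer ({g} : Set X)) : ℝ) ≤ ((commutator X).index : ℝ) := by
    exact_mod_cast card_centralizer_le_index g (hfpf g hg)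
  -- the linear characters
  have hlin : (Finset.univ.filter (fun ψ : IrrCharacter X => (ψ : X → ℂ) 1 = 1)).card
      = (commutator X).index := by
    rw [← card_linear_irr (G := X), Nat.card_eq_fintype_card, Fintype.card_subtype]
  have hsplit : ∑ ψ : IrrCharacter X, Complex.normSq ((ψ : X → ℂ) g)
      = ∑ ψ ∈ Finset.univ.filter (fun ψ : IrrCharacter X => (ψ : X → ℂ) 1 = 1),
          Complex.normSq ((ψ : X → ℂ) g)
        + ∑ ψ ∈ Finset.univ.filter (fun ψ : IrrCharacter X => ¬ (ψ : X → ℂ) 1 = 1),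
          Complex.normSq ((ψ : X → ℂ) g) :=
    (Finset.sum_filter_add_sum_filter_not _ _ _).symm
  have hlinsum : ∑ ψ ∈ Finset.univ.filter (fun ψ : IrrCharacter X => (ψ : X → ℂ) 1 = 1),
      Complex.normSq ((ψ : X → ℂ) g) = ((commutator X).index : ℝ) := by
    rw [← hlin, Finset.sum_congr rfl (fun ψ hψ => normSq_linear ψ (Finset.mem_filter.mp hψ).2 g)]
    simp
  have hrest : ∑ ψ ∈ Finset.univ.filter (fun ψ : IrrCharacter X => ¬ (ψ : X → ℂ) 1 = 1),
      Complex.normSq ((ψ : X → ℂ) g) ≤ 0 := by
    rw [hsplit, hlinsum] at hcolR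
    linarith
  have hχ1 : ¬ (χ : X → ℂ) 1 = 1 := by
    intro h
    apply hχ
    rw [charDegree_irr]
    exact (irrDeg_eq_one_iff χ).mpr h
  have hmem : χ ∈ Finset.univ.filter (fun ψ : IrrCharacter X => ¬ (ψ : X → ℂ) 1 = 1) :=
    Finset.mem_filter.mpr ⟨Finset.mem_univ _, hχ1⟩
  have hzero := (Finset.sum_eq_zero_iff_of_nonneg
    (s := Finset.univ.filter (fun ψ : IrrCharacter X => ¬ (ψ : X → ℂ) 1 = 1))
    (f := fun ψ : IrrCharacter X => Complex.normSq ((ψ : X → ℂ) g))
    (fun ψ _ => Complex.normSq_nonneg ((ψ : X → ℂ) g))).mp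
    (le_antisymm hrest (Finset.sum_nonneg (fun ψ _ => Complex.normSq_nonneg _))) χ hmem
  exact Complex.normSq_eq_zero.mp hzero

end Cfsg.Agent.Helper27.PD
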