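import Cfsg.Agent.Helper27.SLnTv2

/-!
Matrices of size `n + 2` over the field with two elements with first column the first basis vector, in block form.
-/

set_option autoImplicit false

namespace Cfsg.Agent.Helper27

variable {n : ℕ}

/-- the block matrix with first row `(1, ρ)` and lower right block `B` -/
def pmat (ρ : Fin (n + 1) → ZMod 2) (B : Matrix (Fin (n + 1)) (Fin (n + 1)) (ZMod 2)) :
    Matrix (Fin (n + 2)) (Fin (n + 2)) (ZMod 2) :=
  Matrix.of fun i j => Fin.cases (Fin.cases 1 ρ j) (fun i' => Fin.cases 0 (B i') j) i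

section
variable (ρ ρ' : Fin (n + 1) → ZMod 2) (B B' : Matrix (Fin (n + 1)) (Fin (n + 1)) (ZMod 2))

@[simp] theorem pmat_00 : pmat ρ B 0 0 = 1 := rfl
@[simp] theorem pmat_0s (j : Fin (n + 1)) : pmat ρ B 0 j.succ = ρ j := rfl
@[simp] theorem pmat_s0 (i : Fin (n + 1)) : pmat ρ B i.succ 0 = 0 := rfl
@[simp] theorem pmat_ss (i j : Fin (n + 1)) : pmat ρ B i.succ j.succ = B i j := rfl

theorem pmat_mul : pmat ρ B * pmat ρ' B' = pmat (ρ' + Matrix.vecMul ρ B') (B * B') := by
  ext i j
  rw [Matrix.mul_apply, Fin.sum_univ_succ]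
  refine Fin.cases ?_ (fun i' => ?_) i <;> refine Fin.cases ?_ (fun j' => ?_) j
  · simp
  · simp [Matrix.vecMul, dotProduct]
  · simp
  · simp [Matrix.mul_apply]

theorem det_pmat : (pmat ρ B).det = B.det := by
  rw [Matrix.det_succ_column_zero, Fin.sum_univ_succ]
  simp only [Fin.val_zero, pow_zero, one_mul, pmat_00, pmat_s0, mul_zero, zero_mul, Finset.sum_const_zero,
    add_zero, Fin.succAbove_zero]
  congr 1

end

theorem pmat_one : pmat (0 : Fin (n + 1) → ZMod 2) 1 = 1 := by
  ext i j
  refine Fin.cases ?_ (fun i' => ?_) i <;> refine Fin.cases ?_ (fun j' => ?_) j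
  · simp
  · simp [(Fin.succ_ne_zero _).symm]
  · simp [Fin.succ_ne_zero]
  · simp [Matrix.one_apply]

theorem pmat_injective {ρ ρ' : Fin (n + 1) → ZMod 2} {B B' : Matrix (Fin (n + 1)) (Fin (n + 1)) (ZMod 2)}
    (h : pmat ρ B = pmat ρ' B') : ρ = ρ' ∧ B = B' := by
  constructor
  · funext j
    have := congrFun (congrFun h 0) j.succ
    simpa using this
  · ext i j
    have := congrFun (congrFun h i.succ) j.succ
    simpa using this

theorem pmat_single : pmat (Pi.single 0 1 : Fin (n + 1) → ZMod 2) 1 = Matrix.transvection 0 1 1 := by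
  ext i j
  refine Fin.cases ?_ (fun i' => ?_) i <;> refine Fin.cases ?_ (fun j' => ?_) j
  · simp [Matrix.transvection]
  · rw [pmat_0s, Matrix.transvection, Matrix.add_apply, Matrix.one_apply_ne (Fin.succ_ne_zero _).symm, zero_add]
    refine Fin.cases ?_ (fun k => ?_) j'
    · rw [Fin.succ_zero_eq_one, Matrix.single_apply_same, Pi.single_eq_same]
    · rw [Pi.single_eq_of_ne (Fin.succ_ne_zero _), Matrix.single_apply_of_ne]
      intro h
      have h1 := h.2
      rw [← Fin.succ_zero_eq_one] at h1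
      exact Fin.succ_ne_zero k (Fin.succ_injective _ h1).symm
  · simp [Matrix.transvection, Fin.succ_ne_zero, (Fin.succ_ne_zero _).symm]
  · simp [Matrix.transvection, Matrix.one_apply, (Fin.succ_ne_zero _).symm]

/-- a matrix in the centraliser of the transvection is of block form -/
theorem eq_pmat_of_tvCentN {M : Matrix (Fin (n + 2)) (Fin (n + 2)) (ZMod 2)} (h : TvCentN M) (h00 : M 0 0 = 1) :
    M = pmat (fun j => M 0 j.succ) (M.submatrix Fin.succ Fin.succ) := by
  ext i j
  refine Fin.cases ?_ (fun i' => ?_) i <;> refine Fin.cases ?_ (fun j' => ?_) j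
  · exact h00
  · rfl
  · show M i'.succ 0 = 0
    refine Fin.cases ?_ (fun k => ?_) i'
    · rw [Fin.succ_zero_eq_one]
      exact h.c10
    · exact h.ck0 k
  · rfl

end Cfsg.Agent.Helper27
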