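import Cfsg.Agent.Helper27.M24Octad

/-!
Stabiliser chains in an arbitrary group `H` of permutations of the 24 points, with membership certificates for
permutations given by tables.
-/

set_option autoImplicit false

namespace Cfsg.Agent.Helper27

open Cfsg
open scoped Pointwise

/-- the pointwise stabiliser in `H` of a set of points -/
def fixH (H : Subgroup (Equiv.Perm GolayPt)) (F : Finset GolayPt) : Subgroup (Equiv.Perm GolayPt) :=
  H ⊓ fixingSubgroup (Equiv.Perm GolayPt) (F : Set GolayPt)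

theorem mem_fixH (H : Subgroup (Equiv.Perm GolayPt)) (F : Finset GolayPt) (g : Equiv.Perm GolayPt) :
    g ∈ fixH H F ↔ g ∈ H ∧ ∀ q ∈ F, g q = q := by
  rw [fixH, Subgroup.mem_inf, mem_fixingSubgroup_iff]
  rfl

theorem fixH_empty (H : Subgroup (Equiv.Perm GolayPt)) : fixH H ∅ = H := by
  ext g
  rw [mem_fixH]
  simp

theorem fixG_eq_fixH (F : Finset GolayPt) : fixG F = fixH M24 F := rfl

theorem fixH_le (H : Subgroup (Equiv.Perm GolayPt)) (F : Finset GolayPt) : fixH H F ≤ H := inf_le_left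

theorem fixH_fixH (H : Subgroup (Equiv.Perm GolayPt)) (F F' : Finset GolayPt) :
    fixH (fixH H F) F' = fixH H (F ∪ F') := by
  ext g
  simp only [mem_fixH, Finset.mem_union]
  constructor
  · rintro ⟨⟨h1, h2⟩, h3⟩
    exact ⟨h1, fun q hq => hq.elim (h2 q) (h3 q)⟩
  · rintro ⟨h1, h2⟩
    exact ⟨⟨h1, fun q hq => h2 q (Or.inl hq)⟩, fun q hq => h2 q (Or.inr hq)⟩

/-- orbit–stabiliser for pointwise stabilisers -/
theorem card_fixH_insert (H : Subgroup (Equiv.Perm GolayPt)) (F : Finset GolayPt) (a : GolayPt) :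
    Nat.card (fixH H F) = (orbitSet (fixH H F) a).ncard * Nat.card (fixH H (insert a F)) := by
  have h1 := Nat.card_congr (MulAction.orbitProdStabilizerEquivGroup (fixH H F) a)
  rw [Nat.card_prod] at h1
  rw [← h1, orbitSet_eq_orbit]
  congr 1
  apply Nat.card_congr
  refine
    { toFun := fun g => ⟨g.1.1, ?_⟩
      invFun := fun g => ⟨⟨g.1, ?_⟩, ?_⟩
      left_inv := fun g => rfl
      right_inv := fun g => rfl }
  · have hg1 := (mem_fixH H F g.1.1).mp g.1.2
    have hg2 : g.1 • a = a := g.2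
    rw [mem_fixH]
    refine ⟨hg1.1, ?_⟩
    intro q hq
    rw [Finset.mem_insert] at hq
    rcases hq with rfl | hq
    · exact hg2
    · exact hg1.2 q hq
  · have hg := (mem_fixH H _ g.1).mp g.2
    rw [mem_fixH]
    exact ⟨hg.1, fun q hq => hg.2 q (Finset.mem_insert_of_mem hq)⟩
  · have hg := (mem_fixH H _ g.1).mp g.2
    show (⟨g.1, _⟩ : fixH H F) • a = a
    exact hg.2 a (Finset.mem_insert_self a F)

theorem apply_not_mem_of_fixH {H : Subgroup (Equiv.Perm GolayPt)} {F : Finset GolayPt} {g : Equiv.Perm GolayPt}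
    (hg : g ∈ fixH H F) {a : GolayPt} (ha : a ∉ F) : g a ∉ F := by
  intro h
  have h1 := ((mem_fixH H F g).mp hg).2 _ h
  have h2 : g a = a := g.injective h1
  rw [h2] at h
  exact ha h

/-! ### Certificates -/

/-- a Boolean test on tables is a sound membership test for `H` -/
def CertSound (H : Subgroup (Equiv.Perm GolayPt)) (cert : List ℕ → Bool) : Prop :=
  ∀ (T : List ℕ) (hv : validTbl T = true), cert T = true → tblPerm T hv ∈ H

theorem certSound_M24 : CertSound M24 tblInCode := fun T hv h => tblPerm_mem_M24 T hv h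

/-- all tables are valid members of `H` fixing the points with indices in `fixed` -/
def transOKH (cert : List ℕ → Bool) (fixed : List ℕ) (L : List (List ℕ)) : Bool :=
  L.all (fun T => validTbl T && cert T && fixed.all (fun f => T.getD f 0 == f))

theorem transOKH_mem {H : Subgroup (Equiv.Perm GolayPt)} {cert : List ℕ → Bool} (hc : CertSound H cert)
    {fixed : List ℕ} {L : List (List ℕ)} (hfix : ∀ f ∈ fixed, f < 24) (h : transOKH cert fixed L = true)
    {T : List ℕ} (hT : T ∈ L) : ∃ hv : validTbl T = true, tblPerm T hv ∈ fixH H (ptsOf fixed) := by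
  simp only [transOKH, List.all_eq_true, Bool.and_eq_true, beq_iff_eq] at h
  obtain ⟨⟨hv, hcT⟩, hf⟩ := h T hT
  refine ⟨hv, ?_⟩
  rw [mem_fixH]
  refine ⟨hc T hv hcT, ?_⟩
  intro q hq
  obtain ⟨f, hf', rfl⟩ := (mem_ptsOf fixed q).mp hq
  rw [tblPerm_pt T hv (hfix f hf'), hf f hf']

theorem trans_soundH {H : Subgroup (Equiv.Perm GolayPt)} {cert : List ℕ → Bool} (hc : CertSound H cert)
    {fixed : List ℕ} {L : List (List ℕ)} (hfix : ∀ f ∈ fixed, f < 24) {a : ℕ} (ha : a < 24)
    (h : transOKH cert fixed L = true) (b : GolayPt) (hb : b ∈ maskSet (transImg a L)) :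
    b ∈ orbitSet (fixH H (ptsOf fixed)) (pt a) := by
  rw [mem_maskSet, transImg, testBit_tblMask] at hb
  simp only [decide_eq_true_eq, List.mem_map] at hb
  obtain ⟨T, hT, hTb⟩ := hb
  obtain ⟨hv, hmem⟩ := transOKH_mem hc hfix h hT
  refine ⟨tblPerm T hv, hmem, ?_⟩
  rw [tblPerm_pt T hv ha, hTb, pt_idx]

theorem orbit_eq_of_transH {H : Subgroup (Equiv.Perm GolayPt)} {cert : List ℕ → Bool} (hc : CertSound H cert)
    {fixed : List ℕ} {L : List (List ℕ)} (hfix : ∀ f ∈ fixed, f < 24) {a : ℕ} (ha : a < 24)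
    (h : transOKH cert fixed L = true) (m : ℕ) (hm : transImg a L = m)
    (hsub : ∀ g ∈ fixH H (ptsOf fixed), g (pt a) ∈ maskSet m) :
    orbitSet (fixH H (ptsOf fixed)) (pt a) = (maskSet m : Set GolayPt) := by
  apply Set.Subset.antisymm
  · rintro b ⟨g, hg, rfl⟩
    exact hsub g hg
  · intro b hb
    rw [← hm] at hb
    exact trans_soundH hc hfix ha h b hb

theorem orbit_ncard_of_eq {H : Subgroup (Equiv.Perm GolayPt)} {a : GolayPt} {m : ℕ}
    (h : orbitSet H a = (maskSet m : Set GolayPt)) : (orbitSet H a).ncard = popc 24 m := by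
  rw [h, Set.ncard_coe_finset, card_maskSet]

/-- if the next stabiliser in the chain is trivial, every element is one of the transversal tables -/
theorem eq_tblPerm_of_transH {H : Subgroup (Equiv.Perm GolayPt)} {cert : List ℕ → Bool} (hc : CertSound H cert)
    {fixed : List ℕ} {L : List (List ℕ)} (hfix : ∀ f ∈ fixed, f < 24) {a : ℕ} (ha : a < 24)
    (h : transOKH cert fixed L = true) (hbot : fixH H (ptsOf (a :: fixed)) = ⊥)
    {g : Equiv.Perm GolayPt} (hg : g ∈ fixH H (ptsOf fixed)) (hga : g (pt a) ∈ maskSet (transImg a L)) :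
    ∃ T ∈ L, ∃ hv : validTbl T = true, g = tblPerm T hv := by
  rw [mem_maskSet, transImg, testBit_tblMask] at hga
  simp only [decide_eq_true_eq, List.mem_map] at hga
  obtain ⟨T, hT, hTb⟩ := hga
  obtain ⟨hv, htm⟩ := transOKH_mem hc hfix h hT
  refine ⟨T, hT, hv, ?_⟩
  have hta : tblPerm T hv (pt a) = g (pt a) := by
    rw [tblPerm_pt T hv ha, hTb, pt_idx]
  have hmem : (tblPerm T hv)⁻¹ * g ∈ fixH H (ptsOf (a :: fixed)) := by
    have h1 : (tblPerm T hv)⁻¹ * g ∈ fixH H (ptsOf fixed) := (fixH H _).mul_mem ((fixH H _).inv_mem htm) hg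
    rw [mem_fixH] at h1 ⊢
    refine ⟨h1.1, ?_⟩
    intro q hq
    rw [ptsOf_cons, Finset.mem_insert] at hq
    rcases hq with rfl | hq
    · rw [Equiv.Perm.mul_apply, Equiv.Perm.inv_eq_iff_eq, hta]
    · exact h1.2 q hq
  rw [hbot, Subgroup.mem_bot] at hmem
  have : g = tblPerm T hv * ((tblPerm T hv)⁻¹ * g) := by group
  rw [this, hmem, mul_one]

/-! ### Moving tuples of points along a chain -/

/-- A chain of full orbits: with the base points `pt (base j)`, `j < n`, fixed, the orbit of the `n`-th base point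
covers all of `D` except the earlier base points. -/
def ChainFull (H : Subgroup (Equiv.Perm GolayPt)) (D : Finset GolayPt) {k : ℕ} (base : Fin k → ℕ) : Prop :=
  ∀ (n : Fin k) (b : GolayPt), b ∈ D → (∀ j : Fin k, j.val < n.val → b ≠ pt (base j)) →
    ∃ g ∈ H, (∀ j : Fin k, j.val < n.val → g (pt (base j)) = pt (base j)) ∧ g (pt (base n)) = b

/-- along a chain of full orbits every tuple of distinct points of `D` can be moved to the base -/
theorem exists_move_of_chain {H : Subgroup (Equiv.Perm GolayPt)} {D : Finset GolayPt} {k : ℕ} {base : Fin k → ℕ}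
    (hch : ChainFull H D base) (hD : ∀ h ∈ H, ∀ q ∈ D, h q ∈ D)
    (x : Fin k → GolayPt) (hx : Function.Injective x) (hxD : ∀ i, x i ∈ D) :
    ∃ h ∈ H, ∀ i, h (x i) = pt (base i) := by
  suffices hP : ∀ n : ℕ, n ≤ k → ∃ h ∈ H, ∀ i : Fin k, i.val < n → h (x i) = pt (base i) by
    obtain ⟨h, hh, hi⟩ := hP k le_rfl
    exact ⟨h, hh, fun i => hi i i.2⟩
  intro n
  induction n with
  | zero =>
    intro _
    exact ⟨1, H.one_mem, fun i hi => absurd hi (Nat.not_lt_zero _)⟩
  | succ n ih =>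
    intro hn
    obtain ⟨h, hh, hi⟩ := ih (Nat.le_of_succ_le hn)
    have hnk : n < k := hn
    obtain ⟨g, hg, hgfix, hgn⟩ := hch ⟨n, hnk⟩ (h (x ⟨n, hnk⟩)) (hD h hh _ (hxD _)) (by
      intro j hj heq
      rw [← hi j hj] at heq
      have := hx (h.injective heq)
      rw [← this] at hj
      exact lt_irrefl _ hj)
    refine ⟨g⁻¹ * h, H.mul_mem (H.inv_mem hg) hh, ?_⟩
    intro i hi'
    rw [Equiv.Perm.mul_apply, Equiv.Perm.inv_eq_iff_eq]
    rcases Nat.lt_succ_iff_lt_or_eq.mp hi' with h1 | h1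
    · rw [hi i h1, hgfix i h1]
    · have : i = ⟨n, hnk⟩ := Fin.ext h1
      rw [this, hgn]

/-- two tuples of distinct points of `D` are related by an element of `H` -/
theorem exists_map_of_chain {H : Subgroup (Equiv.Perm GolayPt)} {D : Finset GolayPt} {k : ℕ} {base : Fin k → ℕ}
    (hch : ChainFull H D base) (hD : ∀ h ∈ H, ∀ q ∈ D, h q ∈ D)
    (x y : Fin k → GolayPt) (hx : Function.Injective x) (hy : Function.Injective y) (hxD : ∀ i, x i ∈ D)
    (hyD : ∀ i, y i ∈ D) : ∃ g ∈ H, ∀ i, g (x i) = y i := by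
  obtain ⟨h, hh, hxh⟩ := exists_move_of_chain hch hD x hx hxD
  obtain ⟨k', hk, hyk⟩ := exists_move_of_chain hch hD y hy hyD
  refine ⟨k'⁻¹ * h, H.mul_mem (H.inv_mem hk) hh, ?_⟩
  intro i
  rw [Equiv.Perm.mul_apply, Equiv.Perm.inv_eq_iff_eq, hxh, hyk]

/-! ### Conjugation -/

/-- the conjugate subgroup `g H g⁻¹` -/
def conjH (g : Equiv.Perm GolayPt) (H : Subgroup (Equiv.Perm GolayPt)) : Subgroup (Equiv.Perm GolayPt) :=
  H.map (MulAut.conj g).toMonoidHom

theorem mem_conjH (g : Equiv.Perm GolayPt) (H : Subgroup (Equiv.Perm GolayPt)) (h : Equiv.Perm GolayPt) :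
    h ∈ conjH g H ↔ g⁻¹ * h * g ∈ H := by
  rw [conjH, Subgroup.mem_map]
  constructor
  · rintro ⟨k, hk, rfl⟩
    have : g⁻¹ * (MulAut.conj g).toMonoidHom k * g = k := by
      simp only [MulEquiv.coe_toMonoidHom, MulAut.conj_apply]
      group
    rw [this]
    exact hk
  · intro hk
    refine ⟨g⁻¹ * h * g, hk, ?_⟩
    simp only [MulEquiv.coe_toMonoidHom, MulAut.conj_apply]
    group

theorem card_conjH (g : Equiv.Perm GolayPt) (H : Subgroup (Equiv.Perm GolayPt)) :
    Nat.card (conjH g H) = Nat.card H :=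
  Subgroup.card_map_of_injective (MulAut.conj g).injective

end Cfsg.Agent.Helper27
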