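import Mathlib
import Cfsg.Agent.Helper29.PqAsm
import Cfsg.Agent.Helper29.PqWt
import Cfsg.Agent.Lead.Coprime3
import Cfsg.Agent.Lead.CoprimeFrattini

/-!
# Piece (D) of S4306: every proper `A`-invariant subgroup of `X = G/C` is nilpotent
-/

set_option autoImplicit false
set_option linter.style.haveILetI false
set_option linter.unusedVariables false

namespace Cfsg.Agent.Helper27.PqD

open Cfsg.Agent.Helper29.S3f Cfsg.Agent.Helper29.Pq Cfsg.Agent.Lead
open scoped commutatorElement

universe u v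

/-- (D) every proper `A`-invariant subgroup of `X = G/C` is nilpotent. -/
theorem dagger {Γ : Type u} [Group Γ] [Finite Γ] {A : Type v} [Group A] [Finite A] (j : A →* Γ)
    (G : Subgroup Γ) [G.Normal] (hG : HypPQ j G) {r : ℕ} [Fact r.Prime] (V : Subgroup Γ)
    [V.Normal] (hVG : V ≤ G) (hV : IsPGroup r V)
    (C : Subgroup Γ) [C.Normal] (hC : C = G ⊓ Subgroup.centralizer (V : Set Γ)) (hVC : V ≤ C)
    (NX : Subgroup (Γ ⧸ C)) (hNX : NX ≤ G.map (QuotientGroup.mk' C))
    (hr : ¬ r ∣ Nat.card NX) (k : ℕ)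
    (hk : (G.map (QuotientGroup.mk' C)).lowerCentralSeries k ≤ NX)
    (IH : ∀ (Γ' : Type u) [Group Γ'] [Finite Γ'] (j' : A →* Γ') (G' : Subgroup Γ'),
      HypPQ j' G' → Nat.card G' < Nat.card G → Concl j' G')
    (H : Subgroup (Γ ⧸ C)) (hH : H ≤ G.map (QuotientGroup.mk' C))
    (hne : H ≠ G.map (QuotientGroup.mk' C))
    (hHA : GInv ((QuotientGroup.mk' C).comp j) H) : Group.IsNilpotent ↥H := by
  classical
  set mk : Γ →* Γ ⧸ C := QuotientGroup.mk' C with hmk
  -- the preimage of `H` in `G`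
  set H0 : Subgroup Γ := G ⊓ H.comap mk with hH0
  have hH0G : H0 ≤ G := inf_le_left
  have hCG : C ≤ G := by rw [hC]; exact inf_le_left
  have hCH0 : C ≤ H0 := by
    intro c hc
    refine Subgroup.mem_inf.2 ⟨hCG hc, ?_⟩
    rw [Subgroup.mem_comap]
    have : mk c = 1 := (QuotientGroup.eq_one_iff c).mpr hc
    rw [this]; exact H.one_mem
  have hH0map : H0.map mk = H := by
    apply le_antisymm
    · rintro _ ⟨x, hx, rfl⟩
      exact Subgroup.mem_comap.1 (Subgroup.mem_inf.1 hx).2
    · intro h hh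
      obtain ⟨g, hg, rfl⟩ := hH hh
      exact ⟨g, Subgroup.mem_inf.2 ⟨hg, Subgroup.mem_comap.2 hh⟩, rfl⟩
  have hH0ne : H0 ≠ G := by
    intro h
    apply hne
    rw [← hH0map, h]
  have hH0A : GInv j H0 := by
    intro a x hx
    have hx' := Subgroup.mem_inf.1 hx
    refine Subgroup.mem_inf.2 ⟨hG.inv a x hx'.1, ?_⟩
    rw [Subgroup.mem_comap]
    have := hHA a (mk x) (Subgroup.mem_comap.1 hx'.2)
    simpa [hmk] using this
  have hH0Hyp : HypPQ j H0 := hG.sub hH0G hH0A
  have hcard : Nat.card H0 < Nat.card G := by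
    have hle : Nat.card H0 ≤ Nat.card G := Subgroup.card_le_of_le hH0G
    rcases Nat.lt_or_ge (Nat.card H0) (Nat.card G) with h | h
    · exact h
    · exact absurd (Subgroup.eq_of_le_of_card_ge hH0G h) hH0ne
  obtain ⟨N0, hN0H0, hN0A, hN0n, hN0nil, k', hk'⟩ := IH Γ j H0 hH0Hyp hcard
  have hH0N0 : H0 ≤ Subgroup.normalizer (N0 : Set Γ) := by
    intro g hg
    rw [Subgroup.mem_normalizer_iff]
    intro n
    constructor
    · exact hN0n g hg n
    · intro h
      have := hN0n g⁻¹ (H0.inv_mem hg) _ h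
      have e : g⁻¹ * (g * n * g⁻¹) * g⁻¹⁻¹ = n := by group
      rwa [e] at this
  -- the image of `N0` has no prime divisor other than `r`
  have hclaim : ∀ p : ℕ, p.Prime → p ≠ r → ¬ p ∣ Nat.card ↥(N0.map mk) := by
    intro p hp hpr hpdvd
    haveI : Fact p.Prime := ⟨hp⟩
    let P : Sylow p ↥N0 := default
    have hPn : (P : Subgroup ↥N0).Normal := by
      have h03 : Group.IsNilpotent ↥N0 ↔ ∀ (p : ℕ) (_hp : Fact p.Prime)
          (P : Sylow p ↥N0), (↑P : Subgroup ↥N0).Normal :=
        (Group.isNilpotent_of_finite_tfae (G := ↥N0)).out 0 3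
      exact h03.1 hN0nil p ⟨hp⟩ P
    have hPc : (P : Subgroup ↥N0).Characteristic := Sylow.characteristic_of_normal P hPn
    set T : Subgroup Γ := (P : Subgroup ↥N0).map N0.subtype with hT
    have hTN0 : T ≤ N0 := by
      rintro _ ⟨x, _, rfl⟩
      exact x.2
    have hH0N : H0 ≤ Subgroup.normalizer (T : Set Γ) :=
      hH0N0.trans (normalizer_le_normalizer_map_of_characteristic N0 (P : Subgroup ↥N0))
    have hVN : V ≤ Subgroup.normalizer (T : Set Γ) := (hVC.trans hCH0).trans hH0N
    have hTp : IsPGroup p T := P.2.map _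
    have hTV : ⁅T, V⁆ = ⊥ := by
      have h1 : ⁅T, V⁆ ≤ T := commutator_le_of_le_normalizer hVN
      have h2 : ⁅T, V⁆ ≤ V := Subgroup.commutator_le_right T V
      have h3 : Disjoint T V := IsPGroup.disjoint_of_ne p r hpr T V hTp hV
      exact le_bot_iff.1 ((le_inf h1 h2).trans (disjoint_iff.1 h3).le)
    have hTC : T ≤ C := by
      rw [hC]
      exact le_inf ((hTN0.trans hN0H0).trans hH0G)
        (Subgroup.commutator_eq_bot_iff_le_centralizer.1 hTV)
    set f : ↥N0 →* ↥(N0.map mk) := mk.subgroupMap N0 with hf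
    have hfs : Function.Surjective f := mk.subgroupMap_surjective N0
    have hPker : (P : Subgroup ↥N0) ≤ f.ker := by
      intro x hx
      rw [MonoidHom.mem_ker]
      apply Subtype.ext
      simp only [hf, MonoidHom.subgroupMap_apply_coe, Subgroup.coe_one]
      have hxT : (x : Γ) ∈ T := ⟨x, hx, rfl⟩
      exact (QuotientGroup.eq_one_iff _).mpr (hTC hxT)
    have h1 : f.ker.index ∣ (P : Subgroup ↥N0).index := Subgroup.index_dvd_of_le hPker
    have h2 : f.ker.index = Nat.card ↥(N0.map mk) := by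
      rw [Subgroup.index_ker, MonoidHom.range_eq_top.2 hfs, Subgroup.card_top]
    have h3 : ¬ p ∣ (P : Subgroup ↥N0).index := P.not_dvd_index
    apply h3
    rw [h2] at h1
    exact hpdvd.trans h1
  -- the two lower central series conditions
  have h1 : H.lowerCentralSeries k' ≤ N0.map mk := by
    rw [← hH0map, ← Subgroup.map_lowerCentralSeries]
    exact Subgroup.map_mono hk'
  have h2 : H.lowerCentralSeries k ≤ NX := (Subgroup.lowerCentralSeries_mono k hH).trans hk
  have h3 : N0.map mk ⊓ NX = ⊥ := by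
    by_contra hnb
    have hcard1 : Nat.card ↥(N0.map mk ⊓ NX) ≠ 1 := fun h => hnb (Subgroup.card_eq_one.1 h)
    obtain ⟨p, hp, hpdvd⟩ := Nat.exists_prime_and_dvd hcard1
    have hpNX : p ∣ Nat.card NX := hpdvd.trans (Subgroup.card_dvd_of_le inf_le_right)
    have hpr : p ≠ r := by
      rintro rfl
      exact hr hpNX
    exact hclaim p hp hpr (hpdvd.trans (Subgroup.card_dvd_of_le inf_le_left))
  apply Subgroup.isNilpotent_of_lowerCentralSeries_eq_bot (n := max k k')
  rw [eq_bot_iff, ← h3]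
  exact le_inf ((H.lowerCentralSeries_antitone (le_max_right k k')).trans h1)
    ((H.lowerCentralSeries_antitone (le_max_left k k')).trans h2)

end Cfsg.Agent.Helper27.PqD
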