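import Mathlib

/-! S4306, tool lemma (L1) for piece (N): an abelian group `B` normalised by `x` of prime order,
acting on an invariant subspace `U` without nonzero `x`-fixed vectors: `[B, x]` acts trivially
on `U`. -/

set_option autoImplicit false

namespace Cfsg.Agent.Helper27.PqL1

open Module Polynomial

section basics

variable {Γ : Type*} [Group Γ] {K : Type*} [Field K] {M : Type*}
    [AddCommGroup M] [Module K M] (ρ : Representation K Γ M)

theorem rho_mul_apply (g h : Γ) (m : M) : ρ (g * h) m = ρ g (ρ h m) := by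
  rw [map_mul]; rfl

theorem rho_one_apply (m : M) : ρ 1 m = m := by
  rw [map_one]; rfl

theorem rho_inv_apply (g : Γ) (m : M) : ρ g⁻¹ (ρ g m) = m := by
  rw [← rho_mul_apply, inv_mul_cancel, rho_one_apply]

theorem rho_apply_inv (g : Γ) (m : M) : ρ g (ρ g⁻¹ m) = m := by
  rw [← rho_mul_apply, mul_inv_cancel, rho_one_apply]

theorem rho_inj (g : Γ) : Function.Injective (ρ g) := by
  intro a b h
  rw [← rho_inv_apply ρ g a, h, rho_inv_apply]

end basics

section orbit

variable {Γ : Type*} [Group Γ] {K : Type*} [Field K] {M : Type*}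
    [AddCommGroup M] [Module K M] (ρ : Representation K Γ M) (B : Subgroup Γ)

/-- The stabiliser (inside the normaliser of `B`) of an eigenvalue function. -/
def stab (lam : Γ → K) : Subgroup Γ where
  carrier := {g | g ∈ Subgroup.normalizer (B : Set Γ) ∧ ∀ b ∈ B, lam (g⁻¹ * b * g) = lam b}
  one_mem' := by
    refine ⟨one_mem _, ?_⟩
    intro b _
    simp
  mul_mem' := by
    rintro g h ⟨hg, hg'⟩ ⟨hh, hh'⟩
    refine ⟨mul_mem hg hh, ?_⟩
    intro b hb
    have h1 : g⁻¹ * b * g ∈ B := by
      have := (Subgroup.mem_normalizer_iff.mp (inv_mem hg) b).mp hb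
      simpa using this
    have h2 : (g * h)⁻¹ * b * (g * h) = h⁻¹ * (g⁻¹ * b * g) * h := by group
    rw [h2, hh' _ h1, hg' b hb]
  inv_mem' := by
    rintro g ⟨hg, hg'⟩
    refine ⟨inv_mem hg, ?_⟩
    intro b hb
    have h1 : g * b * g⁻¹ ∈ B := (Subgroup.mem_normalizer_iff.mp hg b).mp hb
    have h2 := hg' _ h1
    have h3 : g⁻¹ * (g * b * g⁻¹) * g = b := by group
    rw [h3] at h2
    rw [inv_inv]
    exact h2.symm

theorem mem_stab {lam : Γ → K} {g : Γ} :
    g ∈ stab B lam ↔ g ∈ Subgroup.normalizer (B : Set Γ) ∧ ∀ b ∈ B, lam (g⁻¹ * b * g) = lam b := Iff.rfl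

/-- The orbit argument: a weight vector in `U` has an `x`-stable weight. -/
theorem orbit_lemma (x : Γ) (hxB : ∀ b ∈ B, x * b * x⁻¹ ∈ B) (p : ℕ) (hp : p.Prime)
    (hxp : x ^ p = 1) (U : Submodule K M) (hUx : ∀ m ∈ U, ρ x m ∈ U)
    (hfix : ∀ m ∈ U, ρ x m = m → m = 0)
    (hBab : ∀ a ∈ B, ∀ b ∈ B, a * b = b * a)
    (m : M) (hmU : m ∈ U) (hm0 : m ≠ 0) (lam : Γ → K) (hlam : ∀ b ∈ B, ρ b m = lam b • m) :
    ∀ b ∈ B, lam (x * b * x⁻¹) = lam b := by
  classical
  have hp1 : 1 < p := hp.one_lt
  -- `x⁻¹` is a power of `x`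
  have hxinv : x⁻¹ = x ^ (p - 1) := by
    apply inv_eq_of_mul_eq_one_right
    rw [← pow_succ']
    have : p - 1 + 1 = p := by omega
    rw [this, hxp]
  have hpowB : ∀ k : ℕ, ∀ b ∈ B, x ^ k * b * (x ^ k)⁻¹ ∈ B := by
    intro k
    induction k with
    | zero => intro b hb; simpa using hb
    | succ k ih =>
      intro b hb
      have h1 : x ^ (k + 1) * b * (x ^ (k + 1))⁻¹ = x * (x ^ k * b * (x ^ k)⁻¹) * x⁻¹ := by
        rw [pow_succ']; group
      rw [h1]
      exact hxB _ (ih b hb)
  have hxinvB : ∀ b ∈ B, x⁻¹ * b * x ∈ B := by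
    intro b hb
    have := hpowB (p - 1) b hb
    rw [← hxinv, inv_inv] at this
    exact this
  have hxN : x ∈ Subgroup.normalizer (B : Set Γ) := by
    rw [Subgroup.mem_normalizer_iff]
    intro b
    constructor
    · exact hxB b
    · intro h
      have := hxinvB _ h
      have h2 : x⁻¹ * (x * b * x⁻¹) * x = b := by group
      rwa [h2] at this
  have hpowN : ∀ k : ℕ, x ^ k ∈ Subgroup.normalizer (B : Set Γ) := fun k => pow_mem hxN k
  have hconjB : ∀ k : ℕ, ∀ b ∈ B, (x ^ k)⁻¹ * b * x ^ k ∈ B := by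
    intro k b hb
    have := (Subgroup.mem_normalizer_iff.mp (inv_mem (hpowN k)) b).mp hb
    simpa using this
  by_contra hcon
  have hxT : x ∉ stab B lam := by
    intro hx
    apply hcon
    intro b hb
    have h1 := ((mem_stab B).mp (inv_mem hx)).2 b hb
    rwa [inv_inv] at h1
  -- no proper power of `x` lies in the stabiliser
  have hpowT : ∀ d : ℕ, 0 < d → d < p → x ^ d ∉ stab B lam := by
    intro d hd0 hdp hd
    apply hxT
    have hcop : Nat.Coprime d p :=
      (Nat.coprime_of_lt_prime hd0.ne' hdp hp).symm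
    obtain ⟨k, -, hk⟩ := Nat.exists_mul_mod_eq_one_of_coprime hcop hp1
    have h1 : (x ^ d) ^ k = x := by
      rw [← pow_mul, pow_eq_pow_mod (d * k) hxp, hk, pow_one]
    rw [← h1]
    exact pow_mem hd k
  -- the twisted eigenvalue functions
  let ψ : ℕ → ↥B → K := fun i b => lam ((x ^ i)⁻¹ * (b : Γ) * x ^ i)
  have hψinj : ∀ i j : ℕ, i < j → j < p → ψ i ≠ ψ j := by
    intro i j hij hjp heq
    apply hpowT (j - i) (by omega) (by omega)
    refine (mem_stab B).mpr ⟨hpowN _, ?_⟩
    intro b hb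
    have hb' : x ^ i * b * (x ^ i)⁻¹ ∈ B := hpowB i b hb
    have h1 := congrFun heq ⟨_, hb'⟩
    simp only [ψ] at h1
    have h2 : (x ^ i)⁻¹ * (x ^ i * b * (x ^ i)⁻¹) * x ^ i = b := by group
    have h3 : (x ^ j)⁻¹ * (x ^ i * b * (x ^ i)⁻¹) * x ^ j
        = (x ^ (j - i))⁻¹ * b * x ^ (j - i) := by
      have hj : x ^ j = x ^ i * x ^ (j - i) := by
        rw [← pow_add]; congr 1; omega
      rw [hj]; group
    rw [h2, h3] at h1
    exact h1.symm
  -- the translates of `m`
  let v : ℕ → M := fun i => ρ (x ^ i) m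
  have hv0 : ∀ i, v i ≠ 0 := by
    intro i h
    apply hm0
    apply rho_inj ρ (x ^ i)
    rw [map_zero]
    exact h
  have hvU : ∀ i, v i ∈ U := by
    intro i
    induction i with
    | zero => simpa [v, rho_one_apply] using hmU
    | succ i ih =>
      have : v (i + 1) = ρ x (v i) := by
        simp only [v]
        rw [pow_succ', rho_mul_apply]
      rw [this]
      exact hUx _ ih
  have hveig : ∀ i (b : ↥B), ρ (b : Γ) (v i) = ψ i b • v i := by
    intro i b
    simp only [v, ψ]
    have h1 : (b : Γ) * x ^ i = x ^ i * ((x ^ i)⁻¹ * (b : Γ) * x ^ i) := by group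
    rw [← rho_mul_apply, h1, rho_mul_apply, hlam _ (hconjB i b b.2), map_smul]
  -- independence
  have hind0 : iSupIndep (fun χ : ↥B → K =>
      ⨅ b : ↥B, Module.End.maxGenEigenspace (ρ (b : Γ) : Module.End K M) (χ b)) := by
    apply Module.End.independent_iInf_maxGenEigenspace_of_forall_mapsTo
    intro i j φ
    apply Module.End.mapsTo_maxGenEigenspace_of_comm
    show ρ (j : Γ) * ρ (i : Γ) = ρ (i : Γ) * ρ (j : Γ)
    rw [← map_mul, ← map_mul, hBab j j.2 i i.2]
  have hinjF : Function.Injective (fun i : Fin p => ψ (i : ℕ)) := by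
    intro i j h
    by_contra hne
    rcases lt_or_gt_of_ne (fun h' => hne (Fin.ext h')) with h1 | h1
    · exact hψinj i j h1 j.2 h
    · exact hψinj j i h1 i.2 h.symm
  have hind := hind0.comp hinjF
  have hli : LinearIndependent K (fun i : Fin p => v (i : ℕ)) := by
    apply hind.linearIndependent
    · intro i
      simp only [Function.comp_apply, Submodule.mem_iInf]
      intro b
      apply Module.End.eigenspace_le_maxGenEigenspace
      rw [Module.End.mem_eigenspace_iff]
      exact hveig i b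
    · intro i
      exact hv0 i
  -- the sum is fixed by `x`
  have hsumU : (∑ i ∈ Finset.range p, v i) ∈ U := Submodule.sum_mem _ (fun i _ => hvU i)
  have hvp : v p = v 0 := by
    simp only [v]
    rw [hxp, pow_zero]
  have hsumfix : ρ x (∑ i ∈ Finset.range p, v i) = ∑ i ∈ Finset.range p, v i := by
    rw [map_sum]
    have h1 : ∀ i, ρ x (v i) = v (i + 1) := by
      intro i
      simp only [v]
      rw [pow_succ', rho_mul_apply]
    simp_rw [h1]
    have h2 := Finset.sum_range_succ' v p
    have h3 := Finset.sum_range_succ v p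
    rw [h3, hvp] at h2
    exact (add_right_cancel h2).symm
  have hsum0 := hfix _ hsumU hsumfix
  have hsum0' : ∑ i : Fin p, (1 : K) • v (i : ℕ) = 0 := by
    simp only [one_smul]
    rw [Fin.sum_univ_eq_sum_range (fun i => v i) p]
    exact hsum0
  have h0 := Fintype.linearIndependent_iff.mp hli (fun _ => (1 : K)) hsum0' ⟨0, hp.pos⟩
  exact one_ne_zero h0

end orbit

/-- (L1) an abelian group `B` normalised by `x` of prime order, acting on an invariant subspace
`U` without nonzero `x`-fixed vectors: `[B, x]` acts trivially on `U`. -/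
theorem L1 {Γ : Type*} [Group Γ] {K : Type*} [Field K] [IsAlgClosed K] {M : Type*}
    [AddCommGroup M] [Module K M] [FiniteDimensional K M]
    (ρ : Representation K Γ M) (B : Subgroup Γ) [Finite B]
    (hBab : ∀ a ∈ B, ∀ b ∈ B, a * b = b * a) (hBK : (Nat.card B : K) ≠ 0)
    (x : Γ) (hxB : ∀ b ∈ B, x * b * x⁻¹ ∈ B) (p : ℕ) (hp : p.Prime) (hxp : x ^ p = 1)
    (U : Submodule K M) (hUB : ∀ b ∈ B, ∀ m ∈ U, ρ b m ∈ U) (hUx : ∀ m ∈ U, ρ x m ∈ U)
    (hfix : ∀ m ∈ U, ρ x m = m → m = 0) :
    ∀ b ∈ B, ∀ m ∈ U, ρ (x * b * x⁻¹ * b⁻¹) m = m := by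
  classical
  -- semisimplicity of each `ρ b`
  have hss : ∀ b : ↥B, Module.End.IsSemisimple (ρ (b : Γ) : Module.End K M) := by
    intro b
    apply Module.End.isSemisimple_of_squarefree_aeval_eq_zero
      (p := (X : K[X]) ^ Nat.card B - C 1)
    · exact (Polynomial.separable_X_pow_sub_C (1 : K) hBK one_ne_zero).squarefree
    · have hb : (b : Γ) ^ Nat.card B = 1 := by
        have : b ^ Nat.card B = 1 := pow_card_eq_one'
        have h2 := congrArg (Subtype.val) this
        rw [Subgroup.coe_pow, Subgroup.coe_one] at h2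
        exact h2
      simp only [map_sub, map_pow, aeval_X, aeval_C, map_one]
      rw [← map_pow, hb, map_one]
      simp
  -- decomposition of `U`
  let f : ↥B → Module.End K ↥U := fun b => (ρ (b : Γ)).restrict (hUB b b.2)
  have hcomm : Pairwise fun i j => Commute (f i) (f j) := by
    intro i j _
    show f i * f j = f j * f i
    apply LinearMap.ext
    intro w
    apply Subtype.ext
    simp only [f, Module.End.mul_apply, LinearMap.coe_restrict_apply]
    rw [← rho_mul_apply, ← rho_mul_apply, hBab i i.2 j j.2]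
  have htri : ∀ i, ⨆ μ, (f i).maxGenEigenspace μ = ⊤ :=
    fun i => Module.End.iSup_maxGenEigenspace_eq_top (f i)
  have h1 := Module.End.iSup_iInf_maxGenEigenspace_eq_top_of_iSup_maxGenEigenspace_eq_top_of_commute
    f hcomm htri
  have h2 : (⨆ ψ : ↥B → K, U ⊓ ⨅ b : ↥B, Module.End.maxGenEigenspace (ρ (b : Γ) : Module.End K M) (ψ b))
      = U := by
    have h3 : ∀ ψ : ↥B → K,
        U ⊓ ⨅ b : ↥B, Module.End.maxGenEigenspace (ρ (b : Γ) : Module.End K M) (ψ b) =
        (⨅ b : ↥B, Module.End.maxGenEigenspace (f b) (ψ b)).map U.subtype := by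
      intro ψ
      exact Submodule.inf_iInf_maxGenEigenspace_of_forall_mapsTo
        (fun b : ↥B => (ρ (b : Γ) : Module.End K M)) U (fun b => hUB b b.2)
    simp_rw [h3]
    rw [← Submodule.map_iSup, h1, Submodule.map_top, Submodule.range_subtype]
  intro b hb
  have hle : U ≤ LinearMap.eqLocus (ρ (x * b * x⁻¹ * b⁻¹)) LinearMap.id := by
    conv_lhs => rw [← h2]
    apply iSup_le
    intro ψ w hw
    obtain ⟨hwU, hw2⟩ := Submodule.mem_inf.mp hw
    rw [LinearMap.mem_eqLocus]
    simp only [LinearMap.id_coe, id_eq]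
    by_cases hw0 : w = 0
    · rw [hw0, map_zero]
    have hw3 : ∀ c : ↥B, ρ (c : Γ) w = ψ c • w := by
      intro c
      have h4 := (Submodule.mem_iInf _).mp hw2 c
      rw [(hss c).isFinitelySemisimple.maxGenEigenspace_eq_eigenspace,
        Module.End.mem_eigenspace_iff] at h4
      exact h4
    let lam : Γ → K := fun g => if h : g ∈ B then ψ ⟨g, h⟩ else 0
    have hlam : ∀ c ∈ B, ρ c w = lam c • w := by
      intro c hc
      simp only [lam, dif_pos hc]
      exact hw3 ⟨c, hc⟩
    have hst := orbit_lemma ρ B x hxB p hp hxp U hUx hfix hBab w hwU hw0 lam hlam b hb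
    have hxb : x * b * x⁻¹ ∈ B := hxB b hb
    have hbinv : ρ b⁻¹ w = (lam b)⁻¹ • w := by
      have h5 : lam b ≠ 0 := by
        intro h0
        apply hw0
        have := hlam b hb
        rw [h0, zero_smul] at this
        apply rho_inj ρ b
        rw [map_zero]
        exact this
      have h6 : ρ b⁻¹ (lam b • w) = w := by
        rw [← hlam b hb, rho_inv_apply]
      rw [map_smul] at h6
      rw [← h6, smul_smul, inv_mul_cancel₀ h5, one_smul, h6]
    rw [rho_mul_apply, hbinv, map_smul, hlam _ hxb, hst, smul_smul]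
    have h5 : lam b ≠ 0 := by
      intro h0
      apply hw0
      have := hlam b hb
      rw [h0, zero_smul] at this
      apply rho_inj ρ b
      rw [map_zero]
      exact this
    rw [inv_mul_cancel₀ h5, one_smul]
  intro m hm
  have := hle hm
  rw [LinearMap.mem_eqLocus] at this
  simpa using this

end Cfsg.Agent.Helper27.PqL1
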