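import Mathlib
import Cfsg.Agent.Helper29.PqN6

/-! S4306, sub-piece (Nα) of the (N) assembly: a weight of `Z` fixed by `f` is impossible. -/

set_option autoImplicit false

namespace Cfsg.Agent.Helper27.PqNa

open scoped commutatorElement
open Module Cfsg.Agent.Helper29.S3f Cfsg.Agent.Helper29.Pq

variable {Γ : Type*} [Group Γ] {A : Type*} [Group A]
  {K : Type*} [Field K] {M : Type*} [AddCommGroup M] [Module K M]
  {f η : A} {ℓ h : ℕ} {j : A →* Γ} {X S Q Z Q0 : Subgroup Γ} {s q : ℕ}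
  {ρ : Representation K Γ M}

theorem conjChar_inv_of_fix [Z.Normal] {g : Γ} {ζ : ↥Z →* Kˣ} (hg : conjChar g ζ = ζ) :
    conjChar g⁻¹ ζ = ζ := by
  have h1 : conjChar g⁻¹ (conjChar g ζ) = ζ := by
    rw [← conjChar_mul, inv_mul_cancel, conjChar_one]
  rwa [hg] at h1

/-- (Nα) in relative form: `HH` is the instance `x := j f`, `p := ℓ` of helper8's
`hall_higman_step` (its hypotheses `hp hSK hpK hpS hxS hxp` hold in the context `H`). -/
theorem alpha_of [Finite Γ] [Finite A] [IsAlgClosed K] [FiniteDimensional K M] [Z.Normal]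
    (H : NCtx f η ℓ h j X S Q Z Q0 s q ρ)
    (HH : ∀ (U : Submodule K M), (∀ u ∈ S, ∀ m ∈ U, ρ u m ∈ U) → (∀ m ∈ U, ρ (j f) m ∈ U) →
      (∀ u ∈ S, ∀ v ∈ S, ∃ c : K, ∀ m ∈ U, ρ (u * v * u⁻¹ * v⁻¹) m = c • m) →
      (∀ m ∈ U, ρ (j f) m = m → m = 0) →
      ∀ (R C : Subgroup Γ),
      (∀ u, u ∈ R ↔ u ∈ S ∧ ∀ v ∈ S, ∀ m ∈ U, ρ (u * v * u⁻¹ * v⁻¹) m = m) →
      (∀ u, u ∈ C ↔ u ∈ S ∧ j f * u * (j f)⁻¹ * u⁻¹ ∈ R) →
      (∃ n : ℕ, n ^ 2 = R.relIndex S) ∧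
      ((∀ u ∈ S, ∀ m ∈ U, ρ (j f * u * (j f)⁻¹ * u⁻¹) m = m) ∨
        ∃ N : ℕ, 1 < N ∧ ℓ = N + 1 ∧ N ^ 2 = C.relIndex S))
    {ζ : ↥Z →* Kˣ} (hζ : wtSpace ρ Z ζ ≠ ⊥)
    (hf : conjChar (j f) ζ = ζ) : False := by
  classical
  have := H.Xn
  have := H.Sn
  have hSn : S.Normal := H.Sn
  set U : Submodule K M := wtSpace ρ Z ζ with hU
  -- (1) the stabiliser of `ζ` is `⟨f⟩`
  have hcopZA : (Nat.card Z).Coprime (Nat.card A) :=
    Nat.Coprime.coprime_dvd_left (Subgroup.card_dvd_of_le H.hZS) H.copSA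
  have hfpfZ : ∀ z ∈ Z, (∀ a : A, j a * z * (j a)⁻¹ = z) → z = 1 :=
    fun z hz hfix => H.hfpf z (H.hSX (H.hZS hz)) hfix
  have hnot := exists_not_fix Z j H.hZab hcopZA hfpfZ
    (wt_ne_one ρ Z S H.hZS H.hZne H.hfix0 hζ)
  have stab : ∀ a : A, conjChar (j a) ζ = ζ → a ∈ Subgroup.zpowers f :=
    fun a ha => stab_le_f Z H.hA j hf hnot ha
  -- (2) no fixed vectors of `j f` on `U`
  have hfixU : ∀ m ∈ U, ρ (j f) m = m → m = 0 :=
    fun m hm hfix => fix_eq_zero ρ Z H.hZab j H.hAK H.hfixA hm f stab hfix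
  -- (3) invariance of `U`
  have hUS : ∀ u ∈ S, ∀ m ∈ U, ρ u m ∈ U :=
    fun u hu m hm => rho_mem_wtSpace_of_comm ρ Z (fun z hz => H.hXZ u (H.hSX hu) z hz) hm
  have hUf : ∀ m ∈ U, ρ (j f) m ∈ U := fun m hm => rho_mem_wtSpace_of_stab ρ Z j hf hm
  have hfinv : conjChar (j f⁻¹) ζ = ζ := by
    rw [map_inv]
    exact conjChar_inv_of_fix hf
  have hUf' : ∀ m ∈ U, ρ (j f)⁻¹ m ∈ U := by
    intro m hm
    have := rho_mem_wtSpace_of_stab ρ Z j hfinv hm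
    rwa [map_inv] at this
  -- (4) radical and `C`
  obtain ⟨R, hR⟩ := exists_radSub ρ S Z U H.hder H.hcen
  have hRS : R ≤ S := rad_le hR
  have hRn : ∀ u ∈ S, ∀ v ∈ R, u * v * u⁻¹ ∈ R := fun u hu v hv => rad_normal hR hUS hu hv
  obtain ⟨C, hC⟩ := exists_cSub hRS hRn (j f) (fun u hu => H.jS f hu)
  -- (5) Hall–Higman
  have hsc : ∀ u ∈ S, ∀ v ∈ S, ∃ c : K, ∀ m ∈ U, ρ (u * v * u⁻¹ * v⁻¹) m = c • m := by
    intro u hu v hv
    refine ⟨((ζ ⟨_, H.hder u hu v hv⟩ : Kˣ) : K), ?_⟩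
    intro m hm
    exact (mem_wtSpace ρ Z).mp hm ⟨_, H.hder u hu v hv⟩
  have hHH := HH U hUS hUf hsc hfixU R C hR hC
  rcases hHH.2 with htriv | ⟨N, hN1, hℓN, hN2⟩
  · -- (7) `[j f, u]` is trivial on `U` for all `u ∈ S`
    set T : Subgroup Γ := S ⊓ trivSub ρ U with hT
    have hjfS : j f ∈ Subgroup.normalizer (S : Set Γ) := by
      rw [Subgroup.normalizer_eq_top]; trivial
    -- anything preserving `U` (with its inverse) and normalising `S` normalises `T`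
    have hnormT : ∀ g : Γ, (∀ m ∈ U, ρ g m ∈ U) → (∀ m ∈ U, ρ g⁻¹ m ∈ U) →
        g ∈ Subgroup.normalizer (T : Set Γ) := by
      intro g hg hg'
      have key : ∀ g : Γ, (∀ m ∈ U, ρ g⁻¹ m ∈ U) → ∀ t ∈ T, g * t * g⁻¹ ∈ T := by
        intro g hg' t ht
        refine ⟨hSn.conj_mem t ht.1 g, ?_⟩
        intro m hm
        rw [rho_mul', rho_mul', (mem_trivSub.mp ht.2) _ (hg' m hm), ← rho_mul', mul_inv_cancel,
          map_one]
        rfl
      rw [Subgroup.mem_normalizer_iff]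
      intro t
      constructor
      · exact key g hg' t
      · intro ht
        have := key g⁻¹ (by rw [inv_inv]; exact hg) _ ht
        have e : g⁻¹ * (g * t * g⁻¹) * g⁻¹⁻¹ = t := by group
        rwa [e] at this
    have hjfT : j f ∈ Subgroup.normalizer (T : Set Γ) := hnormT (j f) hUf hUf'
    have hST : S ≤ Subgroup.normalizer (T : Set Γ) := by
      intro u hu
      apply hnormT u (hUS u hu)
      intro m hm
      exact hUS u⁻¹ (S.inv_mem hu) m hm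
    have hcomm0 : ∀ k ∈ S, j f * k * (j f)⁻¹ * k⁻¹ ∈ T := by
      intro k hk
      refine ⟨S.mul_mem (H.jS f hk) (S.inv_mem hk), ?_⟩
      exact mem_trivSub.mpr (htriv k hk)
    have hall := comm_mem_of_mem_zpowers S T (j f) hjfS hjfT hST hcomm0
    have hF : ∀ u ∈ S, j f * u * (j f)⁻¹ = u := by
      intro u hu
      have hcu : j f * u * (j f)⁻¹ * u⁻¹ ∈ S := S.mul_mem (H.jS f hu) (S.inv_mem hu)
      have h1 : j f * u * (j f)⁻¹ * u⁻¹ = 1 := by
        apply dfix ρ Z j X S H.hcov H.hXZ H.hfix0 hζ hcu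
        intro a m hm
        have hconj : a⁻¹ * f * a ∈ Subgroup.zpowers f := by
          have := Cfsg.Agent.Helper4.PqFQ.conj_f_mem H.hA a⁻¹ (Subgroup.mem_zpowers f)
          rwa [inv_inv] at this
        have hy : j (a⁻¹ * f * a) ∈ Subgroup.zpowers (j f) := by
          obtain ⟨k, hk⟩ := Subgroup.mem_zpowers_iff.mp hconj
          rw [← hk, map_zpow]
          exact Subgroup.zpow_mem_zpowers _ _
        have hu' : (j a)⁻¹ * u * j a ∈ S := H.jS' a hu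
        have h2 := hall _ hy _ hu'
        have e : (j a)⁻¹ * (j f * u * (j f)⁻¹ * u⁻¹) * j a
            = j (a⁻¹ * f * a) * ((j a)⁻¹ * u * j a) * (j (a⁻¹ * f * a))⁻¹
              * ((j a)⁻¹ * u * j a)⁻¹ := by
          rw [map_mul, map_mul, map_inv]; group
        rw [e]
        exact (mem_trivSub.mp h2.2) m hm
      have h3 : j f * u * (j f)⁻¹ = (j f * u * (j f)⁻¹ * u⁻¹) * u := by group
      rw [h3, h1, one_mul]
    exact H.alpha_close hF
  · -- (6) `h ∣ ℓ - 1 = N ∣ N ^ 2 = |S : C| ∣ |S|`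
    have hh : h ∣ ℓ - 1 := Cfsg.Agent.Helper4.PqFQ.h_dvd H.hA
    have hN : ℓ - 1 = N := by omega
    rw [hN] at hh
    have h1 : N ∣ C.relIndex S := by
      rw [← hN2, pow_two]
      exact Dvd.intro _ rfl
    have h2 : C.relIndex S ∣ Nat.card S := Subgroup.relIndex_dvd_card C S
    exact H.not_dvd_S H.hA.hh H.h_dvd_card (hh.trans (h1.trans h2))

end Cfsg.Agent.Helper27.PqNa
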