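import Mathlib
import Cfsg.Agent.Helper27.PqNa
import Cfsg.Agent.Helper8.PqHH

/-! S4306, sub-piece (Nα) of the (N) assembly: a weight of `Z` fixed by `f` is impossible
(`alpha_of` fed with helper8's Hall–Higman step). -/

set_option autoImplicit false

namespace Cfsg.Agent.Helper27.PqNa

open scoped commutatorElement
open Module Cfsg.Agent.Helper29.S3f Cfsg.Agent.Helper29.Pq

variable {Γ : Type*} [Group Γ] {A : Type*} [Group A]
  {K : Type*} [Field K] {M : Type*} [AddCommGroup M] [Module K M]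
  {f η : A} {ℓ h : ℕ} {j : A →* Γ} {X S Q Z Q0 : Subgroup Γ} {s q : ℕ}
  {ρ : Representation K Γ M}

/-- (Nα) a weight of `Z` fixed by `f` is impossible. -/
theorem alpha [Finite Γ] [Finite A] [IsAlgClosed K] [FiniteDimensional K M] [Z.Normal]
    (H : NCtx f η ℓ h j X S Q Z Q0 s q ρ) {ζ : ↥Z →* Kˣ} (hζ : wtSpace ρ Z ζ ≠ ⊥)
    (hf : conjChar (j f) ζ = ζ) : False :=
  alpha_of H
    (fun U hUS hUx hsc hfix R C hR hC =>
      Cfsg.Agent.Helper8.PqHH.hall_higman_step ρ S (j f) ℓ H.hA.hℓ H.hSK H.hℓK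
        (H.not_dvd_S H.hA.hℓ H.ℓ_dvd) (fun u hu => H.jS f hu) H.jf_pow U hUS hUx hsc hfix R C
        hR hC)
    hζ hf

end Cfsg.Agent.Helper27.PqNa
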