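import Mathlib
import Cfsg.Agent.Helper25.QPSwap
import Cfsg.Agent.Helper19.QPFIT

set_option autoImplicit false

/-! Board `qppieces`, piece FIT.  The canonical module is `Cfsg.Agent.Helper19.QPFIT` (it was on main
first); this file only re-exports it and adds three auxiliary lemmas that it does not have. -/

noncomputable section

namespace Cfsg.Agent.QPP

open Cfsg Cfsg.Agent.Helper25.QP Cfsg.Agent.Helper25.QuadPair Polynomial

variable {k : Type*} [Field k] {M : Type*} [AddCommGroup M] [Module k M]

theorem FIT_aux_comm_pow (z w : Module.End k M) (h : Commute w z) (n : ℕ) (m : M) :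
    (z ^ n) (w m) = w ((z ^ n) m) := by
  have h1 : Commute w (z ^ n) := h.pow_right n
  have h2 := congrArg (fun f : Module.End k M => f m) h1.eq
  simpa [Module.End.mul_apply] using h2.symm

theorem FIT_aux_ker_le (z : Module.End k M) (n : ℕ) : LinearMap.ker (z ^ n) ≤ F0 z := by
  unfold F0
  exact le_iSup (fun n => LinearMap.ker (z ^ n)) n

/-- an endomorphism preserving a subspace `W` and injective on it is surjective on it -/
theorem FIT_aux_surj_of_inj [FiniteDimensional k M] (f : Module.End k M) (W : Submodule k M)
    (hW : ∀ m ∈ W, f m ∈ W) (hinj : ∀ m ∈ W, f m = 0 → m = 0) :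
    ∀ m ∈ W, ∃ m' ∈ W, f m' = m := by
  let g : W →ₗ[k] W := f.restrict hW
  have hg : Function.Injective g := by
    rw [← LinearMap.ker_eq_bot, LinearMap.ker_eq_bot']
    intro x hx
    have h1 : f (x : M) = 0 := by
      have := congrArg Subtype.val hx
      simpa [g, LinearMap.restrict_apply] using this
    exact Subtype.ext (hinj x x.2 h1)
  have hs : Function.Surjective g := LinearMap.injective_iff_surjective.mp hg
  intro m hm
  obtain ⟨x, hx⟩ := hs ⟨m, hm⟩
  refine ⟨x, x.2, ?_⟩
  have := congrArg Subtype.val hx
  simpa [g, LinearMap.restrict_apply] using this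

end Cfsg.Agent.QPP

end
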