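import Cfsg.Agent.Helper27.TrioStab
import Cfsg.Agent.Helper27.M24Cent
import Cfsg.Agent.Helper22.QuartOrb

/-!
The stabiliser in `Cfsg.M24` of the standard dodecad and its standard quartet: the elementary abelian subgroup of
order 9 labelled by the vectors of the plane over the field with three elements, its characterisation among the
elements fixing the four triples, its centraliser, and elements moving the first point to every point of the dodecad.
-/

set_option autoImplicit false

namespace Cfsg.Agent.Helper27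

open Cfsg
open Cfsg.Agent.Helper22.QuartCert Cfsg.Agent.Helper22.QuartOrb
open scoped Pointwise

/-- the plane over the field with three elements -/
abbrev V2 : Type := Fin 2 → ZMod 3

/-- vectors as numbers below 9 -/
def code2 (v : V2) : ℕ := (v 0).val + 3 * (v 1).val

/-- addition of vectors on codes -/
def add9 (k l : ℕ) : ℕ := (k % 3 + l % 3) % 3 + 3 * ((k / 3 + l / 3) % 3)

theorem code2_lt (v : V2) : code2 v < 9 := by revert v; decide

theorem code2_injective : Function.Injective code2 := by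
  intro v w; revert v w; decide

theorem code2_add (v w : V2) : code2 (v + w) = add9 (code2 v) (code2 w) := by revert v w; decide

theorem code2_surj : ∀ k < 9, ∃ v : V2, code2 v = k := by decide

/-- the nine elements of the normal subgroup of order 9, indexed by codes -/
def nL : List (List ℕ) := [
  [0, 1, 2, 3, 4, 5, 6, 7, 8, 9, 10, 11, 12, 13, 14, 15, 16, 17, 18, 19, 20, 21, 22, 23],
  [2, 17, 3, 0, 4, 5, 8, 6, 7, 10, 13, 11, 19, 9, 14, 22, 16, 23, 18, 21, 15, 12, 20, 1],
  [3, 23, 0, 2, 4, 5, 7, 8, 6, 13, 9, 11, 21, 10, 14, 20, 16, 1, 18, 12, 22, 19, 15, 17],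
  [2, 19, 3, 0, 14, 5, 6, 7, 8, 13, 9, 4, 20, 10, 11, 1, 16, 21, 18, 15, 23, 22, 17, 12],
  [3, 21, 0, 2, 14, 5, 8, 6, 7, 9, 10, 4, 15, 13, 11, 17, 16, 12, 18, 22, 1, 20, 23, 19],
  [0, 12, 2, 3, 14, 5, 7, 8, 6, 10, 13, 4, 22, 9, 11, 23, 16, 19, 18, 20, 17, 15, 1, 21],
  [3, 15, 0, 2, 11, 5, 6, 7, 8, 10, 13, 14, 23, 9, 4, 19, 16, 22, 18, 1, 12, 17, 21, 20],
  [0, 22, 2, 3, 11, 5, 8, 6, 7, 13, 9, 14, 1, 10, 4, 21, 16, 20, 18, 17, 19, 23, 12, 15],
  [2, 20, 3, 0, 11, 5, 7, 8, 6, 9, 10, 14, 17, 13, 4, 12, 16, 15, 18, 23, 21, 1, 19, 22]]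

/-- the table with a given code -/
def nT (k : ℕ) : List ℕ := nL.getD k idT

theorem nT_ge {k : ℕ} (hk : 9 ≤ k) : nT k = idT := by
  rw [nT, List.getD_eq_default]
  simpa [nL] using hk

theorem nT_valid (k : ℕ) : validTbl (nT k) = true := by
  by_cases hk : k < 9
  · interval_cases k <;> decide
  · rw [nT_ge (by omega)]; decide

theorem nT_inCode : ∀ k, k < 9 → tblInCode (nT k) = true := by decide +kernel

theorem nT_mul : ∀ k, k < 9 → ∀ l, l < 9 → compT (nT k) (nT l) = nT (add9 k l) := by decide +kernel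

theorem nT_inj : ∀ k, k < 9 → ∀ l, l < 9 → nT k = nT l → k = l := by decide +kernel

/-- the masks fixed by the elements fixing the dodecad and the four triples: the dodecad, the triples, and the
octads through the unions of two triples -/
def maskL : List ℕ := [28637, 13, 448, 9728, 18448, 262637, 75309, 346141, 337856, 84464, 290352]

/-- pruning by a list of masks each of which is fixed -/
def okMasks (ML : List ℕ) (vs : List ℕ) : Bool :=
  (vs.zip baseL).all (fun p => ML.all (fun m => m.testBit p.2 == m.testBit p.1))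

theorem okMasks_sound {g : Equiv.Perm GolayPt} {ML : List ℕ} (h : ∀ m ∈ ML, g • maskSet m = maskSet m) (n : ℕ) :
    okMasks ML (baseImgs (tblOf g) n) = true := by
  rw [okMasks]
  apply zip_baseImgs_all (tblOf g) (fun v β => ML.all (fun m => m.testBit β == m.testBit v))
  intro β hβ
  have hβ24 := mem_baseL_lt hβ
  rw [List.all_eq_true]
  intro m hm
  have := testBit_of_smul_eq (h m hm) (pt β)
  rw [idx_pt hβ24] at this
  rw [tblOf_getD g hβ24, this]
  exact beq_self_eq_true _

set_option maxRecDepth 100000 in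
theorem kEnum_check : ((enumL chainL [] idT (okMasks maskL)).filter
    (fun T => maskL.all (fun m => applyTbl T m == m) && (compT T (compT T T) == idT))).all
      (fun T => nL.contains T) = true := by decide +kernel

/-- the constraints for commuting with the first generator -/
def csA : List (List (ℕ × ℕ)) := [[], [], [(0, 2)], [(2, 3), (3, 0)], [(4, 4)], [(5, 5)], []]

/-- the constraints for commuting with the second generator -/
def csB : List (List (ℕ × ℕ)) := [[], [], [(0, 2)], [(2, 3), (3, 0)], [], [(5, 5)], [(6, 6)]]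

theorem csA_ok : consOK (nT 1) csA = true := by decide

theorem csB_ok : consOK (nT 3) csB = true := by decide

/-- pruning for the elements fixing the dodecad and commuting with the two generators -/
def okCD (vs : List ℕ) : Bool := okC (nT 1) csA vs && okC (nT 3) csB vs && okMasks [28637] vs

set_option maxRecDepth 100000 in
theorem cEnum_length : ((enumL chainL [] idT okCD).filter (fun T =>
    (compT T (nT 1) == compT (nT 1) T) && (compT T (nT 3) == compT (nT 3) T))).length = 9 := by decide +kernel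

/-- elements of the stabiliser of the dodecad and the quartet moving the first point to each point of the dodecad -/
def witL : List (List ℕ) := [
  [0, 1, 2, 3, 4, 5, 6, 7, 8, 9, 10, 11, 12, 13, 14, 15, 16, 17, 18, 19, 20, 21, 22, 23],
  [2, 17, 3, 0, 6, 16, 10, 13, 9, 11, 4, 8, 19, 14, 7, 12, 18, 21, 5, 15, 23, 1, 20, 22],
  [3, 15, 0, 2, 14, 5, 13, 10, 9, 7, 6, 11, 21, 8, 4, 17, 18, 22, 16, 12, 1, 19, 23, 20],
  [4, 22, 14, 11, 8, 18, 13, 9, 10, 2, 3, 6, 20, 0, 7, 19, 16, 17, 5, 23, 1, 12, 15, 21],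
  [6, 12, 7, 8, 2, 16, 14, 4, 11, 10, 13, 3, 23, 9, 0, 19, 18, 22, 5, 21, 17, 15, 20, 1],
  [7, 22, 6, 8, 11, 18, 9, 13, 10, 2, 3, 14, 17, 0, 4, 19, 5, 20, 16, 23, 12, 1, 21, 15],
  [8, 1, 6, 7, 2, 16, 4, 11, 14, 9, 10, 3, 15, 13, 0, 17, 18, 12, 5, 23, 20, 21, 19, 22],
  [9, 15, 13, 10, 11, 16, 7, 6, 8, 2, 0, 14, 17, 3, 4, 19, 5, 20, 18, 1, 21, 23, 12, 22],
  [10, 22, 13, 9, 11, 16, 3, 2, 0, 6, 8, 14, 23, 7, 4, 12, 18, 20, 5, 1, 21, 17, 19, 15],
  [11, 19, 4, 14, 6, 18, 13, 9, 10, 3, 0, 7, 21, 2, 8, 23, 16, 15, 5, 22, 20, 17, 12, 1],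
  [13, 21, 9, 10, 8, 5, 4, 14, 11, 2, 0, 6, 20, 3, 7, 19, 16, 17, 18, 12, 15, 23, 1, 22],
  [14, 17, 11, 4, 13, 16, 3, 0, 2, 6, 8, 10, 23, 7, 9, 20, 5, 12, 18, 19, 21, 22, 1, 15]]

theorem witL_ok : witL.all (fun T => validTbl T && certQ T) = true := by decide +kernel

theorem witL_imgs : ∀ i, i < 24 → dod0.testBit i = true → witL.any (fun T => T.getD 0 0 == i) = true := by decide

end Cfsg.Agent.Helper27
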