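import Cfsg.Agent.Helper27.QuartStab
import Cfsg.Agent.Helper27.GLIso2
import Cfsg.Agent.Helper27.M12Card
import Cfsg.Agent.Helper22.QuartetCount

/-!
The structure of the stabiliser in `Cfsg.M24` of a dodecad and one of its quartets: order 432, a normal subgroup of
order 9 with quotient `GL(2, 3)`, transitive on the dodecad.
-/

set_option autoImplicit false

namespace Cfsg.Agent.Helper27

open Cfsg
open Cfsg.Agent.Helper22.QuartCert Cfsg.Agent.Helper22.QuartOrb
open scoped Pointwise

/-! ### The subgroup of order 9 -/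

/-- the elements of the subgroup of order 9, indexed by vectors -/
noncomputable def fN (v : V2) : Equiv.Perm GolayPt := tblPerm (nT (code2 v)) (nT_valid _)

theorem fN_rep (v : V2) : Represents (fN v) (nT (code2 v)) := tblPerm_represents _ _

theorem fN_mem (v : V2) : fN v ∈ M24 := tblPerm_mem_M24 _ _ (nT_inCode _ (code2_lt v))

theorem fN_add (v w : V2) : fN (v + w) = fN v * fN w := by
  apply represents_unique (fN_rep (v + w))
  have := represents_compT (fN_rep v) (fN_rep w)
  rwa [nT_mul _ (code2_lt v) _ (code2_lt w), ← code2_add] at this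

theorem fN_injective : Function.Injective fN := by
  intro v w h
  apply code2_injective
  apply nT_inj _ (code2_lt v) _ (code2_lt w)
  have := fN_rep v
  rw [h] at this
  exact represents_tbl_unique this (fN_rep w)

theorem fN_zero : fN 0 = 1 := represents_unique (fN_rep 0) represents_one

theorem fN_cube (v : V2) : fN v * fN v * fN v = 1 := by
  rw [← fN_add, ← fN_add, ← fN_zero]
  congr 1
  revert v
  decide

theorem nT_fix : ∀ k, k < 9 → maskL.all (fun m => applyTbl (nT k) m == m) = true := by decide +kernel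

theorem maskL_lt : ∀ m ∈ maskL, m < 2 ^ 24 := by decide

theorem fN_fix (v : V2) {m : ℕ} (hm : m ∈ maskL) : fN v • maskSet m = maskSet m := by
  have h1 := List.all_eq_true.mp (nT_fix _ (code2_lt v)) m hm
  rw [beq_iff_eq] at h1
  exact (smul_maskSet_iff (fN_rep v) (maskL_lt m hm)).mpr h1

/-- an element of `M24` fixing two sets whose union has at least five points and lies in an octad fixes the
octad -/
theorem smul_octad_of_hexad {y : Equiv.Perm GolayPt} (hy : y ∈ M24) {ti tj o : ℕ} (ho : isOct o = true)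
    (hsub : (ti ||| tj) &&& o = ti ||| tj) (h5 : 5 ≤ popc 24 (ti ||| tj)) (hi : y • maskSet ti = maskSet ti)
    (hj : y • maskSet tj = maskSet tj) : y • maskSet o = maskSet o := by
  have hO := maskSet_mem_octads ho
  have hh : y • maskSet (ti ||| tj) = maskSet (ti ||| tj) := by
    rw [maskSet_or, Finset.smul_finset_union, hi, hj]
  have hsub' : maskSet (ti ||| tj) ⊆ maskSet o := by
    rw [← hsub, maskSet_and]
    exact Finset.inter_subset_right
  apply octad_eq_of_inter (smul_octad_mem hy hO) hO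
  calc 5 ≤ (maskSet (ti ||| tj)).card := by rw [card_maskSet]; exact h5
    _ ≤ (y • maskSet o ∩ maskSet o).card := Finset.card_le_card (Finset.subset_inter (by
        rw [← hh]
        exact Finset.smul_finset_subset_smul_finset hsub') hsub')

/-- an element fixing the dodecad and the four triples fixes all the listed masks -/
theorem maskL_fixed {y : Equiv.Perm GolayPt} (hy : y ∈ M24) (hd : y • maskSet dod0 = maskSet dod0)
    (ht : ∀ t ∈ Q0L, y • maskSet t = maskSet t) : ∀ m ∈ maskL, y • maskSet m = maskSet m := by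
  have h0 := ht 13 (by decide)
  have h1 := ht 448 (by decide)
  have h2 := ht 9728 (by decide)
  have h3 := ht 18448 (by decide)
  intro m hm
  simp only [maskL, List.mem_cons, List.not_mem_nil, or_false] at hm
  rcases hm with rfl | rfl | rfl | rfl | rfl | rfl | rfl | rfl | rfl | rfl | rfl
  · exact hd
  · exact h0
  · exact h1
  · exact h2
  · exact h3
  · exact smul_octad_of_hexad hy (by decide +kernel) (by decide) (by decide) h0 h1
  · exact smul_octad_of_hexad hy (by decide +kernel) (by decide) (by decide) h0 h2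
  · exact smul_octad_of_hexad hy (by decide +kernel) (by decide) (by decide) h0 h3
  · exact smul_octad_of_hexad hy (by decide +kernel) (by decide) (by decide) h1 h2
  · exact smul_octad_of_hexad hy (by decide +kernel) (by decide) (by decide) h1 h3
  · exact smul_octad_of_hexad hy (by decide +kernel) (by decide) (by decide) h2 h3

/-- the elements of order dividing 3 fixing the dodecad and the four triples are the nine listed ones -/
theorem mem_range_fN {y : Equiv.Perm GolayPt} (hy : y ∈ M24) (hd : y • maskSet dod0 = maskSet dod0)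
    (ht : ∀ t ∈ Q0L, y • maskSet t = maskSet t) (h3 : y * y * y = 1) : ∃ w, y = fN w := by
  have hfix := maskL_fixed hy hd ht
  have hr := represents_tblOf y
  have hmem : tblOf y ∈ enumL chainL [] idT (okMasks maskL) :=
    m24_enum_sound _ hy (fun n _ _ => okMasks_sound hfix n)
  have hfilt : tblOf y ∈ (enumL chainL [] idT (okMasks maskL)).filter
      (fun T => maskL.all (fun m => applyTbl T m == m) && (compT T (compT T T) == idT)) := by
    rw [List.mem_filter]
    refine ⟨hmem, ?_⟩
    rw [Bool.and_eq_true, List.all_eq_true, beq_iff_eq]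
    constructor
    · intro m hm
      rw [beq_iff_eq]
      exact (smul_maskSet_iff hr (maskL_lt m hm)).mp (hfix m hm)
    · rw [← tblOf_mul, ← tblOf_mul, ← mul_assoc, h3, tblOf_one]
  have hnL := List.all_eq_true.mp kEnum_check _ hfilt
  rw [List.contains_iff_mem] at hnL
  obtain ⟨k, hk, hk2⟩ := List.getElem_of_mem hnL
  have hk9 : k < 9 := by simpa [nL] using hk
  obtain ⟨w, hw⟩ := code2_surj k hk9
  refine ⟨w, ?_⟩
  apply represents_unique hr
  have h4 : nT (code2 w) = tblOf y := by
    rw [hw, nT, List.getD_eq_getElem _ _ hk, hk2]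
  rw [← h4]
  exact fN_rep w

/-! ### The stabiliser of the standard dodecad and quartet -/

/-- the stabiliser of a dodecad and a quartet, as a subgroup of `M24` -/
abbrev stabDQ (d : Finset GolayPt) (Q : Finset (Finset GolayPt)) : Subgroup ↥M24 :=
  MulAction.stabilizer ↥M24 d ⊓ MulAction.stabilizer ↥M24 Q

theorem mem_stabDQ {d : Finset GolayPt} {Q : Finset (Finset GolayPt)} (g : ↥M24) :
    g ∈ stabDQ d Q ↔ (g : Equiv.Perm GolayPt) • d = d ∧ (g : Equiv.Perm GolayPt) • Q = Q := by
  rw [Subgroup.mem_inf, MulAction.mem_stabilizer_iff, MulAction.mem_stabilizer_iff]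
  rfl

theorem mem_Q0_iff (X : Finset GolayPt) : X ∈ Q0 ↔ ∃ t ∈ Q0L, maskSet t = X := mem_famOf _ _

/-- an element fixing the quartet permutes the triples -/
theorem smul_triple_mem {g : Equiv.Perm GolayPt} (hQ : g • Q0 = Q0) {t : ℕ} (ht : t ∈ Q0L) :
    ∃ t' ∈ Q0L, g • maskSet t = maskSet t' := by
  have : g • maskSet t ∈ Q0 := by
    rw [← hQ]
    exact Finset.smul_mem_smul_finset ((mem_Q0_iff _).mpr ⟨t, ht, rfl⟩)
  obtain ⟨t', ht', e⟩ := (mem_Q0_iff _).mp this
  exact ⟨t', ht', e.symm⟩

theorem Q0L_sub_maskL : ∀ t ∈ Q0L, t ∈ maskL := by decide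

/-- the subgroup of order 9 is normalised by the stabiliser -/
theorem conj_fN {g : Equiv.Perm GolayPt} (hg : g ∈ M24) (hd : g • maskSet dod0 = maskSet dod0)
    (hQ : g • Q0 = Q0) (v : V2) : ∃ w, g * fN v * g⁻¹ = fN w := by
  have hQi : g⁻¹ • Q0 = Q0 := by rw [inv_smul_eq_iff, hQ]
  have hdi : g⁻¹ • maskSet dod0 = maskSet dod0 := by rw [inv_smul_eq_iff, hd]
  apply mem_range_fN
  · exact M24.mul_mem (M24.mul_mem hg (fN_mem v)) (M24.inv_mem hg)
  · rw [mul_smul, mul_smul, hdi, fN_fix v (by decide), hd]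
  · intro t ht
    obtain ⟨t', ht', e⟩ := smul_triple_mem hQi ht
    rw [mul_smul, mul_smul, e, fN_fix v (Q0L_sub_maskL t' ht'), ← e, smul_inv_smul]
  · have := fN_cube v
    calc g * fN v * g⁻¹ * (g * fN v * g⁻¹) * (g * fN v * g⁻¹) = g * (fN v * fN v * fN v) * g⁻¹ := by group
      _ = 1 := by rw [this]; group

/-- the order of the stabiliser of a dodecad and a quartet -/
theorem card_stabDQ {d : Finset GolayPt} (hd : d ∈ dodecads) {Q : Finset (Finset GolayPt)} (hQ : Q ∈ quartets d) :
    Nat.card ↥(stabDQ d Q) = 432 := by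
  let G : Subgroup ↥M24 := MulAction.stabilizer ↥M24 d
  have horb : MulAction.orbit G Q = quartets d := by
    ext X
    constructor
    · rintro ⟨h, rfl⟩
      have h1 : (h : ↥M24) ∈ MulAction.stabilizer ↥M24 d := h.2
      rw [MulAction.mem_stabilizer_iff] at h1
      have hmem : ((h : ↥M24) : Equiv.Perm GolayPt) ∈ stabP d := (mem_stabP _ _).mpr ⟨(h : ↥M24).2, h1⟩
      exact Cfsg.Agent.Helper22.Quartet.smul_quartet_mem hmem hQ
    · intro hX
      obtain ⟨k, hk, hkd, hkQ⟩ := Cfsg.Agent.Helper22.Quartet.quartet_transitive hd hQ hX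
      exact ⟨⟨⟨k, hk⟩, MulAction.mem_stabilizer_iff.mpr hkd⟩, hkQ⟩
  have hmap : (MulAction.stabilizer G Q).map G.subtype = stabDQ d Q := by
    ext x
    rw [Subgroup.mem_map, Subgroup.mem_inf]
    constructor
    · rintro ⟨y, hy, rfl⟩
      exact ⟨y.2, MulAction.mem_stabilizer_iff.mpr (MulAction.mem_stabilizer_iff.mp hy)⟩
    · rintro ⟨h1, h2⟩
      exact ⟨⟨x, h1⟩, MulAction.mem_stabilizer_iff.mpr (MulAction.mem_stabilizer_iff.mp h2), rfl⟩
  have hcard : Nat.card (MulAction.stabilizer G Q) = Nat.card ↥(stabDQ d Q) := by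
    rw [← hmap]
    exact (Subgroup.card_map_of_injective G.subtype_injective).symm
  have h1 := MulAction.index_stabilizer G Q
  rw [horb, Cfsg.Agent.Helper22.Quartet.quartets_ncard hd] at h1
  have h2 := Subgroup.card_mul_index (MulAction.stabilizer G Q)
  rw [h1, hcard, card_stabilizer_dodecad hd] at h2
  omega

/-- the stabiliser of the standard dodecad and quartet -/
abbrev H0 : Subgroup ↥M24 := stabDQ (maskSet dod0) Q0

/-- the permutation underlying an element of the stabiliser -/
def toQ (g : ↥H0) : Equiv.Perm GolayPt := ((g : ↥M24) : Equiv.Perm GolayPt)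

theorem toQ_mem (g : ↥H0) : toQ g ∈ M24 := (g : ↥M24).2

theorem toQ_dod (g : ↥H0) : toQ g • maskSet dod0 = maskSet dod0 := ((mem_stabDQ _).mp g.2).1

theorem toQ_Q0 (g : ↥H0) : toQ g • Q0 = Q0 := ((mem_stabDQ _).mp g.2).2

theorem toQ_injective : Function.Injective toQ := fun _ _ h => Subtype.ext (Subtype.ext h)

/-- the first basis vector -/
def e1 : V2 := ![1, 0]

/-- the second basis vector -/
def e2 : V2 := ![0, 1]

theorem code2_e1 : code2 e1 = 1 := by decide

theorem code2_e2 : code2 e2 = 3 := by decide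

/-- an element of `M24` fixing the dodecad and commuting with the two generators is found by the enumeration -/
theorem cent_mem_enum {g : Equiv.Perm GolayPt} (hg : g ∈ M24) (hd : g • maskSet dod0 = maskSet dod0)
    (ha : g * fN e1 = fN e1 * g) (hb : g * fN e2 = fN e2 * g) :
    tblOf g ∈ (enumL chainL [] idT okCD).filter (fun T =>
      (compT T (nT 1) == compT (nT 1) T) && (compT T (nT 3) == compT (nT 3) T)) := by
  have r1 := fN_rep e1
  have r2 := fN_rep e2
  rw [code2_e1] at r1
  rw [code2_e2] at r2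
  rw [List.mem_filter]
  constructor
  · apply m24_enum_sound _ hg
    intro n hn1 hn7
    rw [okCD, Bool.and_eq_true, Bool.and_eq_true]
    refine ⟨⟨okC_sound r1 r1 csA_ok ha n hn1 hn7, okC_sound r2 r2 csB_ok hb n hn1 hn7⟩, ?_⟩
    apply okMasks_sound
    intro m hm
    rw [List.mem_singleton] at hm
    rw [hm]
    exact hd
  · have t1 : tblOf (fN e1) = nT 1 := tblOf_eq r1
    have t2 : tblOf (fN e2) = nT 3 := tblOf_eq r2
    rw [Bool.and_eq_true, beq_iff_eq, beq_iff_eq, ← t1, ← t2, ← tblOf_mul, ← tblOf_mul, ← tblOf_mul, ← tblOf_mul,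
      ha, hb]
    exact ⟨rfl, rfl⟩

theorem finite_H0 : Finite ↥H0 := by
  have : Finite ↥M24 := Nat.finite_of_card_ne_zero (by rw [card_M24]; norm_num)
  infer_instance

/-- the structure of the stabiliser of the standard dodecad and quartet -/
theorem quartStab_std : ∃ (N : Subgroup ↥H0) (_ : N.Normal), Nat.card N = 9 ∧
    Nonempty (↥H0 ⧸ N ≃* GL (Fin 2) (ZMod 3)) := by
  have hinv : ∀ g ∈ H0.map M24.subtype, ∀ v, ∃ w, g * fN v * g⁻¹ = fN w := by
    rintro _ ⟨g, hg, rfl⟩ v
    have h := (mem_stabDQ g).mp hg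
    exact conj_fN g.2 h.1 h.2 v
  have hinv' : ∀ g : ↥H0, ∀ v, ∃ w, toQ g * fN v * (toQ g)⁻¹ = fN w :=
    fun g v => conj_fN (toQ_mem g) (toQ_dod g) (toQ_Q0 g) v
  -- the permutation representation on the vectors
  classical
  let σ : ↥H0 → V2 → V2 := fun g v => Classical.choose (hinv' g v)
  have hσ : ∀ g v, fN (σ g v) = toQ g * fN v * (toQ g)⁻¹ := fun g v => (Classical.choose_spec (hinv' g v)).symm
  have h1 : ∀ v, σ 1 v = v := fun v => fN_injective (by rw [hσ]; simp [toQ])
  have hm : ∀ g h v, σ (g * h) v = σ g (σ h v) := fun g h v => fN_injective (by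
    rw [hσ, hσ, hσ]
    have : toQ (g * h) = toQ g * toQ h := rfl
    rw [this]
    group)
  let ρ : ↥H0 →* Equiv.Perm V2 :=
    { toFun := fun g => ⟨σ g, σ g⁻¹, fun i => by rw [← hm, inv_mul_cancel, h1],
        fun i => by rw [← hm, mul_inv_cancel, h1]⟩
      map_one' := Equiv.ext h1
      map_mul' := fun g h => Equiv.ext (hm g h) }
  have hρ : ∀ g v, fN (ρ g v) = toQ g * fN v * (toQ g)⁻¹ := fun g v => hσ g v
  have hfin := finite_H0
  have hcardH : Nat.card ↥H0 = 432 := card_stabDQ maskSet_dod0_mem Q0_mem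
  have hle : ρ.range ≤ (glPerm 2 3).range := by
    rintro _ ⟨g, rfl⟩
    exact mem_range_glPerm 2 3 (ρ g) (perm_additive_of_conj fN fN_injective fN_add (hρ g))
  have hkerfix : ∀ g ∈ ρ.ker, tblOf (toQ g) ∈ (enumL chainL [] idT okCD).filter (fun T =>
      (compT T (nT 1) == compT (nT 1) T) && (compT T (nT 3) == compT (nT 3) T)) := by
    intro g hg
    rw [MonoidHom.mem_ker] at hg
    have hc : ∀ v, toQ g * fN v = fN v * toQ g := by
      intro v
      have := hρ g v
      rw [hg] at this
      have h2 : fN v = toQ g * fN v * (toQ g)⁻¹ := this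
      calc toQ g * fN v = toQ g * fN v * (toQ g)⁻¹ * toQ g := by group
        _ = fN v * toQ g := by rw [← h2]
    exact cent_mem_enum (toQ_mem g) (toQ_dod g) (hc e1) (hc e2)
  have hkerle : Nat.card ρ.ker ≤ 9 := by
    let L := (enumL chainL [] idT okCD).filter (fun T =>
      (compT T (nT 1) == compT (nT 1) T) && (compT T (nT 3) == compT (nT 3) T))
    let f : ↥ρ.ker → ↥L.toFinset := fun g => ⟨tblOf (toQ g), List.mem_toFinset.mpr (hkerfix g g.2)⟩
    have hf : Function.Injective f := by
      intro a b h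
      have h1 : tblOf (toQ a) = tblOf (toQ b) := congrArg Subtype.val h
      exact Subtype.ext (toQ_injective (tblOf_injective h1))
    calc Nat.card ↥ρ.ker ≤ Nat.card ↥L.toFinset := Nat.card_le_card_of_injective f hf
      _ = L.toFinset.card := by rw [Nat.card_eq_fintype_card, Fintype.card_coe]
      _ ≤ L.length := List.toFinset_card_le _
      _ = 9 := cEnum_length
  obtain ⟨⟨e⟩, hc⟩ := quot_iso_of_range_le ρ (glPerm 2 3) (glPerm_injective 2 3) hle
    (by rw [card_GL23, hcardH]; omega)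
  refine ⟨ρ.ker, inferInstance, ?_, ⟨e⟩⟩
  rw [hcardH, card_GL23] at hc
  omega

/-- the stabiliser of the standard dodecad and quartet is transitive on the dodecad -/
theorem quartStab_trans_std {p q : GolayPt} (hp : p ∈ maskSet dod0) (hq : q ∈ maskSet dod0) :
    ∃ g ∈ H0, ((g : ↥M24) : Equiv.Perm GolayPt) p = q := by
  have key : ∀ r ∈ maskSet dod0, ∃ g ∈ stab2 (maskSet dod0) Q0, g (pt 0) = r := by
    intro r hr
    rw [mem_maskSet] at hr
    have h1 := witL_imgs (idx r) (idx_lt r) hr
    rw [List.any_eq_true] at h1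
    obtain ⟨T, hT, hT0⟩ := h1
    rw [beq_iff_eq] at hT0
    have h2 := List.all_eq_true.mp witL_ok T hT
    rw [Bool.and_eq_true] at h2
    refine ⟨tblPerm T h2.1, certSoundQ T h2.1 h2.2, ?_⟩
    rw [tblPerm_apply, idx_pt (by norm_num), hT0, pt_idx]
  obtain ⟨gp, hgp, ep⟩ := key p hp
  obtain ⟨gq, hgq, eq⟩ := key q hq
  have hmem := (stab2 (maskSet dod0) Q0).mul_mem hgq ((stab2 (maskSet dod0) Q0).inv_mem hgp)
  obtain ⟨hM, hd, hQ⟩ := (mem_stab2 _ _ _).mp hmem
  refine ⟨⟨gq * gp⁻¹, hM⟩, (mem_stabDQ _).mpr ⟨hd, hQ⟩, ?_⟩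
  show (gq * gp⁻¹) p = q
  rw [Equiv.Perm.mul_apply, ← ep]
  simp [eq]

/-- conjugation by an element of `M24` identifies the stabiliser of a dodecad and a quartet with the stabiliser of
their images -/
theorem stabDQ_conj (γ : ↥M24) (d : Finset GolayPt) (Q : Finset (Finset GolayPt)) :
    (stabDQ d Q).map (MulAut.conj γ).toMonoidHom = stabDQ (γ • d) (γ • Q) := by
  rw [stabDQ, stabDQ, Subgroup.map_inf _ _ _ (MulAut.conj γ).injective,
    MulAction.stabilizer_smul_eq_stabilizer_map_conj, MulAction.stabilizer_smul_eq_stabilizer_map_conj]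

/-- the structure of the stabiliser of a dodecad and one of its quartets -/
theorem quartStab (d : Finset GolayPt) (hd : d ∈ dodecads) (Q : Finset (Finset GolayPt)) (hQ : Q ∈ quartets d) :
    Nat.card ↥(stabDQ d Q) = 432 ∧
    (∃ (N : Subgroup ↥(stabDQ d Q)) (_ : N.Normal), Nat.card N = 9 ∧
      Nonempty (↥(stabDQ d Q) ⧸ N ≃* GL (Fin 2) (ZMod 3))) ∧
    ∀ p ∈ d, ∀ q ∈ d, ∃ g ∈ stabDQ d Q, ((g : ↥M24) : Equiv.Perm GolayPt) p = q := by
  obtain ⟨g0, hg0, hg0d, hg0Q⟩ := exists_to_std hd hQ
  refine ⟨card_stabDQ hd hQ, ?_, ?_⟩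
  · let γ : ↥M24 := ⟨g0, hg0⟩
    have hmap : (stabDQ d Q).map (MulAut.conj γ).toMonoidHom = H0 := by
      rw [stabDQ_conj]
      have h1 : γ • d = maskSet dod0 := hg0d
      have h2 : γ • Q = Q0 := hg0Q
      rw [h1, h2]
    let ε : ↥(stabDQ d Q) ≃* ↥H0 :=
      ((MulAut.conj γ).subgroupMap (stabDQ d Q)).trans (MulEquiv.subgroupCongr hmap)
    obtain ⟨N, hN, hcard, ⟨e⟩⟩ := quartStab_std
    have hN' : (N.map ε.symm.toMonoidHom).Normal := hN.map ε.symm.toMonoidHom ε.symm.surjective
    refine ⟨N.map ε.symm.toMonoidHom, hN', ?_, ?_⟩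
    · rw [Subgroup.card_map_of_injective ε.symm.injective, hcard]
    · exact ⟨(QuotientGroup.congr N (N.map ε.symm.toMonoidHom) ε.symm rfl).symm.trans e⟩
  · intro p hp q hq
    have hp' : g0 p ∈ maskSet dod0 := by rw [← hg0d]; exact (mem_smul_finset_perm g0 d p).mpr hp
    have hq' : g0 q ∈ maskSet dod0 := by rw [← hg0d]; exact (mem_smul_finset_perm g0 d q).mpr hq
    obtain ⟨h, hh, hpq⟩ := quartStab_trans_std hp' hq'
    obtain ⟨hhd, hhQ⟩ := (mem_stabDQ h).mp hh
    refine ⟨⟨g0⁻¹ * (h : Equiv.Perm GolayPt) * g0, M24.mul_mem (M24.mul_mem (M24.inv_mem hg0) h.2) hg0⟩, ?_, ?_⟩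
    · rw [mem_stabDQ]
      constructor
      · show (g0⁻¹ * (h : Equiv.Perm GolayPt) * g0) • d = d
        rw [mul_smul, mul_smul, hg0d, hhd, ← hg0d, inv_smul_smul]
      · show (g0⁻¹ * (h : Equiv.Perm GolayPt) * g0) • Q = Q
        rw [mul_smul, mul_smul, hg0Q, hhQ, ← hg0Q, inv_smul_smul]
    · show (g0⁻¹ * (h : Equiv.Perm GolayPt) * g0) p = q
      rw [Equiv.Perm.mul_apply, Equiv.Perm.mul_apply, hpq]
      simp

end Cfsg.Agent.Helper27
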