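import Mathlib
import Cfsg.Agent.Helper27.S0429Defs
import Cfsg.Agent.Helper6.S0429PT
import Cfsg.Agent.Helper24.S0429OVOID
import Cfsg.Agent.Helper20.S0429COLDEG
import Cfsg.Agent.Helper20.S0429COLLINECore
import Cfsg.Agent.Helper10.S0429SYN1
import Cfsg.Agent.Helper27.S0429K33

/-! # S0429 piece OVX (helper27): the ovoids at `(a, x)`: six of them, two through each point. -/

set_option autoImplicit false

namespace Cfsg.Agent.S0429P

open Finset

variable {V : Type*} [Fintype V] [DecidableEq V] {G : SimpleGraph V} [DecidableRel G.Adj]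

/-- OVX (S, assembly): OVOID applied to `(Pt a x, col a)` (the line axiom comes from helper20's `COLLINE_aux_core` + SYN1). -/
theorem OVX (h : G.IsSRGWith 77 16 0 4) {a x : V} (hax : G.Adj a x) :
    (ovs G a x).card = 6 ∧ ∀ p ∈ Pt G a x, ((ovs G a x).filter (fun O => p ∈ O)).card = 2 := by
  have := OVOID (Pt G a x) (col G a) (PT15 h hax) (fun p _ hc => hc.1 rfl)
    (fun p _ q _ hc => ⟨hc.1.symm, by rw [kap_symm]; exact hc.2⟩)
    (fun p hp => COLDEG h hax hp)
    (COLLINE_aux_core h (fun hab hac hbc nab nac nbc => K33 h hab hac hbc nab nac nbc)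
      (fun h1 h2 h3 h12 h13 h23 k12 k13 k23 _ hz hz1 hz2 hz3 =>
        SYN1 h h1 h2 h3 h12 h13 h23 k12 k13 k23 hz hz1 hz2 hz3) hax)
  unfold ovs
  convert this

end Cfsg.Agent.S0429P
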