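import Mathlib
import Cfsg.Agent.Helper27.S0429Defs
import Cfsg.Agent.Helper27.S0429OVX
import Cfsg.Agent.Helper3.S0429TRACE
import Cfsg.Agent.Helper3.S0429RECON
import Cfsg.Agent.Helper22.S0429BUILD
import Cfsg.Agent.Helper11.S0429COUNTcore

/-! # S0429 pieces COUNT6, COUNT2, CARD22 (helper27, hedge wrappers over helper11's cores). -/

set_option autoImplicit false

namespace Cfsg.Agent.S0429P

open Finset

variable {V : Type*} [Fintype V] [DecidableEq V] {G : SimpleGraph V} [DecidableRel G.Adj]

/-- COUNT6 (M): six 21-cocliques through every vertex. -/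
theorem COUNT6 (h : G.IsSRGWith 77 16 0 4) (a : V) : ((Coc21 G).filter (fun C => a ∈ C)).card = 6 := by
  have hne : (G.neighborFinset a).Nonempty := by
    rw [← Finset.card_pos, card_nb h a]; norm_num
  obtain ⟨x, hx⟩ := hne
  have hax : G.Adj a x := (SimpleGraph.mem_neighborFinset _ _ _).mp hx
  rw [COUNT_aux_core6 (a := a) (x := x) (fun hC ha => TRACE h hax hC ha) (fun hC ha => RECON h hax hC ha)
    (fun hO => BUILD h hax hO)]
  exact (OVX h hax).1

/-- COUNT2 (M): two 21-cocliques through every two distinct non-adjacent vertices. -/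
theorem COUNT2 (h : G.IsSRGWith 77 16 0 4) {a b : V} (hab : Far G a b) :
    ((Coc21 G).filter (fun C => a ∈ C ∧ b ∈ C)).card = 2 := by
  have hne : (cn G a b).Nonempty := by
    rw [← Finset.card_pos, card_cn h (Ne.symm hab.1) hab.2]; norm_num
  obtain ⟨x, hx⟩ := hne
  obtain ⟨hax, hbx⟩ := mem_cn.mp hx
  have hp : b ∈ Pt G a x := mem_Pt.mpr ⟨hab.1, hbx.symm⟩
  rw [COUNT_aux_core2 (a := a) (x := x) (p := b) hp (fun hC ha => TRACE h hax hC ha)
    (fun hC ha => RECON h hax hC ha) (fun hO => BUILD h hax hO)]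
  exact (OVX h hax).2 b hp

/-- CARD22 (S/M): double counting. -/
theorem CARD22 (h : G.IsSRGWith 77 16 0 4) : (Coc21 G).card = 22 := by
  have key := Finset.sum_card_bipartiteAbove_eq_sum_card_bipartiteBelow
    (s := (Finset.univ : Finset V)) (t := Coc21 G) (fun v C => v ∈ C)
  have h1 : ∀ v ∈ (Finset.univ : Finset V),
      ((Coc21 G).bipartiteAbove (fun v C => v ∈ C) v).card = 6 := by
    intro v _
    have : (Coc21 G).bipartiteAbove (fun v C => v ∈ C) v = (Coc21 G).filter (fun C => v ∈ C) := rfl
    rw [this]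
    exact COUNT6 h v
  have h2 : ∀ C ∈ Coc21 G,
      ((Finset.univ : Finset V).bipartiteBelow (fun v C => v ∈ C) C).card = 21 := by
    intro C hC
    have : (Finset.univ : Finset V).bipartiteBelow (fun v C => v ∈ C) C = C := by
      ext v
      simp [Finset.bipartiteBelow]
    rw [this]
    exact (mem_Coc21.mp hC).2
  rw [Finset.sum_congr rfl h1, Finset.sum_congr rfl h2, Finset.sum_const, Finset.sum_const,
    card_univ_eq h] at key
  simp only [smul_eq_mul] at key
  omega

end Cfsg.Agent.S0429P
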