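import Mathlib
import Cfsg.Agent.Helper27.S0429Defs
import Cfsg.Agent.Helper27.S0429CLS4h
import Cfsg.Agent.Helper10.S0429CLS
import Cfsg.Agent.Helper1.S0429SYNQ
import Cfsg.Agent.Helper23.S0429SYNcore

/-! # S0429 piece SYN (helper27, hedge wrapper over helper23's core and helper1's SYNQ). -/

set_option autoImplicit false

namespace Cfsg.Agent.S0429P

open Finset

variable {V : Type*} [Fintype V] [DecidableEq V] {G : SimpleGraph V} [DecidableRel G.Adj]

theorem SYN_aux_disj (h : G.IsSRGWith 77 16 0 4) {a b c : V} (hb : Far G a b) (hc : Far G a c)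
    (hcb : c ∉ cls G a b) : Disjoint (cls G a b) (cls G a c) := by
  rw [Finset.disjoint_left]
  intro x hxb hxc
  apply hcb
  have e1 := CLSEQ h hb hxb
  have e2 := CLSEQ h hc hxc
  rw [← e1, e2]
  exact self_mem_cls a c

/-- SYN (M): SYNQ, then `Q2_eq_zero` at `z` and `nsum_ind`. -/
theorem SYN (h : G.IsSRGWith 77 16 0 4) {a b1 b2 b3 : V} (h1 : Far G a b1) (h2 : Far G a b2) (h3 : Far G a b3)
    (h12 : b2 ∉ cls G a b1) (h13 : b3 ∉ cls G a b1) (h23 : b3 ∉ cls G a b2)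
    (k12 : kap G a b1 b2 = 2) (k13 : kap G a b1 b3 = 2) (k23 : kap G a b2 b3 = 2)
    {z : V} (hz : Far G a z) (hz1 : z ∉ cls G a b1) (hz2 : z ∉ cls G a b2) (hz3 : z ∉ cls G a b3) :
    (G.neighborFinset z ∩ (cls G a b1 ∪ cls G a b2 ∪ cls G a b3)).card = 2 := by
  have d12 := SYN_aux_disj h h1 h2 h12
  have d13 := SYN_aux_disj h h1 h3 h13
  have d23 := SYN_aux_disj h h2 h3 h23
  have hU : (cls G a b1 ∪ cls G a b2 ∪ cls G a b3).card = 12 := by
    rw [Finset.card_union_of_disjoint (Finset.disjoint_union_left.mpr ⟨d13, d23⟩),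
      Finset.card_union_of_disjoint d12, CLS4 h h1, CLS4 h h2, CLS4 h h3]
  have hQ := SYNQ h h1 h2 h3 h12 h13 h23 k12 k13 k23
  have hzU : z ∉ cls G a b1 ∪ cls G a b2 ∪ cls G a b3 := by
    simp only [Finset.mem_union, not_or]
    exact ⟨⟨hz1, hz2⟩, hz3⟩
  exact SYN_aux_core h hU hQ hz hzU

end Cfsg.Agent.S0429P
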