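import Mathlib
import Cfsg.Agent.Helper27.S0429Defs
import Cfsg.Prelude.Def_Sporadic_a
import Cfsg.Agent.Helper27.S0429COUNTh
import Cfsg.Agent.Helper18.S0429STEINER

/-! # S0429 piece TOSTEINER (helper27): every `srg(77,16,0,4)` is the block graph of a Steiner system `S(3,6,22)`
on its 22 cocliques of size 21. -/

set_option autoImplicit false

namespace Cfsg.Agent.S0429P

open Finset

variable {V : Type*} [Fintype V] [DecidableEq V] {G : SimpleGraph V} [DecidableRel G.Adj]

/-- TOSTEINER (M, assembly). -/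
theorem TOSTEINER (h : G.IsSRGWith 77 16 0 4) :
    ∃ B : Set (Finset {C : Finset V // C ∈ Coc21 G}), Cfsg.IsSteinerSystem 3 6 B ∧
      Fintype.card {C : Finset V // C ∈ Coc21 G} = 22 ∧ Nonempty (G ≃g Cfsg.blockGraph B) := by
  have hcard : Fintype.card {C : Finset V // C ∈ Coc21 G} = 22 := by
    rw [Fintype.card_coe]; exact CARD22 h
  have key : ∀ (P : Finset V → Prop) [DecidablePred P],
      (Finset.univ.filter (fun C : {C : Finset V // C ∈ Coc21 G} => P C.1)).card
        = ((Coc21 G).filter P).card := by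
    intro P _
    rw [← Finset.card_map ⟨Subtype.val, Subtype.val_injective⟩]
    congr 1
    ext C
    simp only [Finset.mem_map, Finset.mem_filter, Finset.mem_univ, true_and,
      Function.Embedding.coeFn_mk, Subtype.exists, exists_and_right, exists_eq_right]
    constructor
    · rintro ⟨hC, hP⟩; exact ⟨hC, hP⟩
    · rintro ⟨hC, hP⟩; exact ⟨hC, hP⟩
  let β : V → Finset {C : Finset V // C ∈ Coc21 G} := fun v => Finset.univ.filter (fun C => v ∈ C.1)
  have h6 : ∀ v, (β v).card = 6 := by
    intro v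
    show (Finset.univ.filter (fun C : {C : Finset V // C ∈ Coc21 G} => v ∈ C.1)).card = 6
    rw [key (fun C => v ∈ C)]
    exact COUNT6 h v
  have hadj : ∀ v w, G.Adj v w → Disjoint (β v) (β w) := by
    intro v w hvw
    rw [Finset.disjoint_left]
    intro C hv hw
    have hv' : v ∈ C.1 := (Finset.mem_filter.mp hv).2
    have hw' : w ∈ C.1 := (Finset.mem_filter.mp hw).2
    exact (mem_Coc21.mp C.2).1 v hv' w hw' hvw
  have hnadj : ∀ v w, v ≠ w → ¬ G.Adj v w → (β v ∩ β w).card = 2 := by
    intro v w hne hvw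
    have : β v ∩ β w = Finset.univ.filter (fun C : {C : Finset V // C ∈ Coc21 G} => v ∈ C.1 ∧ w ∈ C.1) := by
      ext C; simp [β]
    rw [this, key (fun C => v ∈ C ∧ w ∈ C)]
    exact COUNT2 h (a := v) (b := w) ⟨hne.symm, hvw⟩
  obtain ⟨hS, hiso⟩ := STEINER G h.card hcard β h6 hadj hnadj
  exact ⟨Set.range β, hS, hcard, hiso⟩

end Cfsg.Agent.S0429P
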