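import Mathlib

set_option autoImplicit false
set_option linter.unusedSectionVars false
set_option linter.unusedVariables false

/-! # S0679, tool (helper27): the arithmetic of chapter (2): `|G| = 55 n`, `n ≡ 1 (11)`, `7, 25, 81 ∤ |G|`, `|G| ∣ 11!`
leaves `|G| ∈ {55, 660, 7920, 95040}`. -/

namespace Cfsg.Agent.S0679P

/-- divisors of `2 ^ 8 * 3 ^ 4` -/
theorem ARITH.aux_form {n : ℕ} (h : n ∣ 2 ^ 8 * 3 ^ 4) : ∃ a ≤ 8, ∃ b ≤ 4, n = 2 ^ a * 3 ^ b := by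
  obtain ⟨d1, d2, h1, h2, rfl⟩ := (Nat.dvd_mul).mp h
  obtain ⟨a, ha, rfl⟩ := (Nat.dvd_prime_pow Nat.prime_two).mp h1
  obtain ⟨b, hb, rfl⟩ := (Nat.dvd_prime_pow Nat.prime_three).mp h2
  exact ⟨a, ha, b, hb, rfl⟩

theorem ARITH.orders {N : ℕ} (hN : N ∣ Nat.factorial 11) (h7 : ¬ 7 ∣ N) (h25 : ¬ 25 ∣ N)
    (h81 : ¬ 81 ∣ N) (h55 : 55 ∣ N) (hmod : (N / 55) % 11 = 1) :
    N = 55 ∨ N = 660 ∨ N = 7920 ∨ N = 95040 := by
  obtain ⟨n, rfl⟩ := h55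
  rw [Nat.mul_div_cancel_left n (by norm_num : 0 < 55)] at hmod
  have hfac : Nat.factorial 11 = 55 * (2 ^ 8 * 3 ^ 4 * 5 * 7) := by decide
  rw [hfac] at hN
  have hn : n ∣ 2 ^ 8 * 3 ^ 4 * 5 * 7 := Nat.dvd_of_mul_dvd_mul_left (by norm_num) hN
  have h7n : ¬ 7 ∣ n := fun h => h7 (Dvd.dvd.mul_left h 55)
  have h5n : ¬ 5 ∣ n := fun h => h25 (by
    obtain ⟨m, rfl⟩ := h
    exact ⟨11 * m, by ring⟩)
  have h81n : ¬ 81 ∣ n := fun h => h81 (Dvd.dvd.mul_left h 55)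
  have c7 : Nat.Coprime n 7 := (Nat.Coprime.symm ((Nat.Prime.coprime_iff_not_dvd (by norm_num)).mpr h7n))
  have hn2 : n ∣ 2 ^ 8 * 3 ^ 4 * 5 := c7.dvd_of_dvd_mul_right hn
  have c5 : Nat.Coprime n 5 := (Nat.Coprime.symm ((Nat.Prime.coprime_iff_not_dvd (by norm_num)).mpr h5n))
  have hn3 : n ∣ 2 ^ 8 * 3 ^ 4 := c5.dvd_of_dvd_mul_right hn2
  obtain ⟨a, ha, b, hb, rfl⟩ := ARITH.aux_form hn3
  have hb4 : b ≠ 4 := by
    rintro rfl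
    exact h81n (Dvd.intro_left _ rfl)
  interval_cases a <;> interval_cases b <;> simp_all

end Cfsg.Agent.S0679P
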