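import Mathlib
import Cfsg.Agent.Helper13.S0679Defs

set_option autoImplicit false
set_option linter.unusedSectionVars false
set_option linter.unusedVariables false

/-! # S0679, tool (helper27): a subgroup of `Perm α` whose order is divisible by the full `p`-part of `|α|!` contains a `p`-cycle
(its Sylow `p`-subgroup is a Sylow `p`-subgroup of `Perm α`; these are all conjugate, and one of them contains a `p`-cycle). -/

namespace Cfsg.Agent.S0679P

open Equiv Equiv.Perm MulAction
open scoped Pointwise

variable {α : Type*} [Fintype α] [DecidableEq α]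

/-- a `p`-cycle exists as soon as `2 ≤ p ≤ |α|` -/
theorem SYLCYC.exists_cycle {p : ℕ} (hp2 : 2 ≤ p) (hpα : p ≤ Fintype.card α) :
    ∃ c : Perm α, c.IsCycle ∧ c.support.card = p := by
  classical
  set l : List α := (Finset.univ : Finset α).toList.take p with hl
  have hnd : l.Nodup := (Finset.nodup_toList _).sublist (List.take_sublist _ _)
  have hlen : l.length = p := by
    rw [hl, List.length_take, Finset.length_toList, Finset.card_univ]
    exact min_eq_left hpα
  refine ⟨l.formPerm, List.isCycle_formPerm hnd (by omega), ?_⟩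
  rw [List.support_formPerm_of_nodup l hnd, List.toFinset_card_of_nodup hnd, hlen]
  intro x hx
  rw [hx] at hlen
  simp at hlen
  omega

theorem SYLCYC.main (G : Subgroup (Perm α)) {p k : ℕ} (hp : p.Prime) (hpα : p ≤ Fintype.card α)
    (hdvd : p ^ k ∣ Nat.card G) (hfull : ¬ p ^ (k + 1) ∣ (Fintype.card α).factorial) :
    ∃ g ∈ G, g.IsCycle ∧ g.support.card = p := by
  classical
  have : Fact p.Prime := ⟨hp⟩
  obtain ⟨P0, hP0⟩ := Sylow.exists_subgroup_card_pow_prime p hdvd
  set P : Subgroup (Perm α) := P0.map G.subtype with hP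
  have hPcard : Nat.card P = p ^ k := by
    rw [hP, Subgroup.card_map_of_injective G.subtype_injective, hP0]
  have hPG : P ≤ G := by
    rintro x ⟨y, -, rfl⟩
    exact y.2
  have hPp : IsPGroup p P := IsPGroup.of_card hPcard
  obtain ⟨S, hPS⟩ := hPp.exists_le_sylow
  have hScard : Nat.card S = p ^ (Nat.card (Perm α)).factorization p := Sylow.card_eq_multiplicity S
  have hperm : Nat.card (Perm α) = (Fintype.card α).factorial := by
    rw [Nat.card_eq_fintype_card, Fintype.card_perm]
  rw [hperm] at hScard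
  set m := ((Fintype.card α).factorial).factorization p with hm
  have hkm : k ≤ m := by
    have h1 : p ^ k ∣ p ^ m := by
      rw [← hPcard, ← hScard]
      exact Subgroup.card_dvd_of_le hPS
    exact (Nat.pow_dvd_pow_iff_le_right hp.one_lt).mp h1
  have hmk : m ≤ k := by
    by_contra hlt
    push Not at hlt
    apply hfull
    have h1 : p ^ (k + 1) ∣ p ^ m := pow_dvd_pow p hlt
    exact h1.trans (Nat.ordProj_dvd _ p)
  have hPS' : P = S := by
    apply Subgroup.eq_of_le_of_card_ge hPS
    rw [hPcard, hScard]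
    exact Nat.pow_le_pow_right hp.pos hmk
  obtain ⟨c, hc, hcs⟩ := SYLCYC.exists_cycle hp.two_le hpα
  have hco : orderOf c = p := by rw [hc.orderOf, hcs]
  have hzp : IsPGroup p (Subgroup.zpowers c) := by
    apply IsPGroup.of_card (n := 1)
    rw [Nat.card_zpowers, hco, pow_one]
  obtain ⟨S', hcS'⟩ := hzp.exists_le_sylow
  obtain ⟨g, hg⟩ := MulAction.exists_smul_eq (Perm α) S' S
  have hmem : g * c * g⁻¹ ∈ (S : Subgroup (Perm α)) := by
    rw [← hg]
    have h1 : ((g • S' : Sylow p (Perm α)) : Subgroup (Perm α)) =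
        MulAut.conj g • (S' : Subgroup (Perm α)) := rfl
    have h2 : g * c * g⁻¹ = (MulAut.conj g) • c := rfl
    rw [h1, h2, Subgroup.smul_mem_pointwise_smul_iff]
    exact hcS' (Subgroup.mem_zpowers c)
  refine ⟨g * c * g⁻¹, hPG (hPS' ▸ hmem), hc.conj, ?_⟩
  rw [Equiv.Perm.card_support_conj, hcs]

/-- degree 11, no `p`-cycles for `p = 3, 5, 7` (Jordan): `7`, `25`, `81` do not divide the order -/
theorem SYLCYC.not_dvd (hα : Fintype.card α = 11) {G : Subgroup (Perm α)} (hN : NoCyc G) :
    ¬ 7 ∣ Nat.card G ∧ ¬ 25 ∣ Nat.card G ∧ ¬ 81 ∣ Nat.card G := by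
  refine ⟨?_, ?_, ?_⟩
  · intro h
    obtain ⟨g, hg, hc, hs⟩ := SYLCYC.main G (p := 7) (k := 1) (by norm_num) (by omega)
      (by simpa using h) (by rw [hα]; decide)
    exact (hN g hg hc).2.2.2 hs
  · intro h
    obtain ⟨g, hg, hc, hs⟩ := SYLCYC.main G (p := 5) (k := 2) (by norm_num) (by omega)
      (by simpa using h) (by rw [hα]; decide)
    exact (hN g hg hc).2.2.1 hs
  · intro h
    obtain ⟨g, hg, hc, hs⟩ := SYLCYC.main G (p := 3) (k := 4) (by norm_num) (by omega)
      (by simpa using h) (by rw [hα]; decide)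
    exact (hN g hg hc).2.1 hs

end Cfsg.Agent.S0679P
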