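import Cfsg.Agent.Helper27.S0745Defs
import Cfsg.Agent.Helper21.S0745ALTcore
import Cfsg.Agent.Helper21.S0745KILL233core
import Cfsg.Agent.Helper16.S0745RESINJ
import Cfsg.Agent.Helper3.S0745CARDL
import Cfsg.Agent.Helper27.S0745CARDM
import Cfsg.Agent.Helper9.S0745COUNTA
import Cfsg.Agent.Helper9.S0745COUNTB
import Cfsg.Agent.Helper3.S0745ARITH
import Cfsg.Agent.Helper18.S0745NTAUCONST
import Cfsg.Agent.Helper14.S0745INV

set_option autoImplicit false

namespace Cfsg.Agent.S0745P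

open Equiv

variable {α : Type*} [Fintype α] [DecidableEq α]

/-- ALT -/
theorem sign_res_eq_one {G : Subgroup (Perm α)} {t c : ℕ} (h : Hyp G t c 2) (Δ : Finset α)
    (hΔ : Δ.card = t + 1) (g : SS G Δ) : Perm.sign (resHom G Δ g) = 1 :=
  ALT_aux_core (resHom G Δ) (resHom_injective h Δ (by omega))
    (by rw [Fintype.card_coe, hΔ]; exact card_L h Δ hΔ) g

/-- KILL233 -/
theorem kill_2_3_3 {G : Subgroup (Perm α)} (h : Hyp G 2 3 3) : False := by
  apply KILL233_aux_core h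
  intro S hS
  have := card_M h S hS
  have e : (2 + 2).factorial = 24 := by decide
  rw [e] at this
  omega

/-- COUNTEVEN -/
theorem r_eq_two_of_even {G : Subgroup (Perm α)} {t c r : ℕ} (h : Hyp G t c r) (hc : Odd c)
    (ht : 4 ≤ t) (hr : Even r) : r = 2 := by
  have hdeg := h.deg
  obtain ⟨Γ₀, -, hΓ₀⟩ := Finset.exists_subset_card_eq (s := (Finset.univ : Finset α)) (n := t)
    (by rw [Finset.card_univ]; omega)
  obtain ⟨a₀, ha₀, b₀, hb₀, hab₀⟩ := Finset.one_lt_card.mp (by omega : 1 < Γ₀.card)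
  have hN : ∀ (Γ : Finset α) (a b : α), Γ.card = t → a ∈ Γ → b ∈ Γ → a ≠ b →
      (swapLifts G Γ a b).card = (swapLifts G Γ₀ a₀ b₀).card :=
    fun Γ a b hΓ ha hb hab =>
      card_swapLifts_const h Γ Γ₀ hΓ hΓ₀ a b a₀ b₀ ha hb hab ha₀ hb₀ hab₀
  have hNpos : 1 ≤ (swapLifts G Γ₀ a₀ b₀).card :=
    Finset.card_pos.mpr (exists_lift h hc Γ₀ hΓ₀ a₀ b₀ ha₀ hb₀ hab₀)
  have hA := countA h hc (by omega) _ hN
  have hB := countB h hc ht
  have hcpos : 1 ≤ c := by
    rw [← h.cardH Γ₀ hΓ₀]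
    exact Nat.card_pos
  have hC : 0 < (Fintype.card α).choose t := Nat.choose_pos (by omega)
  exact arith_even t c r (Fintype.card α) _ _ _ ht hcpos hNpos h.two_le hr hdeg hC hA hB

end Cfsg.Agent.S0745P
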