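import Cfsg.Agent.Helper27.S0745Defs
import Cfsg.Agent.Helper14.S0745INV
import Cfsg.Agent.Helper27.S0745Wrap21

set_option autoImplicit false

namespace Cfsg.Agent.S0745P

open Equiv

variable {α : Type*} [Fintype α] [DecidableEq α]

/-- L5 -/
theorem c_eq_one_of_five_le {G : Subgroup (Perm α)} {t c : ℕ} (h : Hyp G t c 2) (hc : Odd c)
    (ht : 5 ≤ t) : c = 1 := by
  classical
  by_contra hc1
  have hc3 : 3 ≤ c := by
    obtain ⟨m, rfl⟩ := hc
    omega
  have hn : Fintype.card α = 2 * c + t := h.deg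
  have hexout : ∀ S : Finset α, S.card < Fintype.card α → ∃ y, y ∉ S := by
    intro S hS
    by_contra hcon
    push Not at hcon
    have : S = Finset.univ := Finset.eq_univ_iff_forall.mpr hcon
    rw [this, Finset.card_univ] at hS
    omega
  obtain ⟨Γ, -, hΓ⟩ := Finset.exists_subset_card_eq (s := (Finset.univ : Finset α)) (n := t)
    (by rw [Finset.card_univ]; omega)
  obtain ⟨a, ha, b, hb, hab⟩ := Finset.one_lt_card.mp (by omega : 1 < Γ.card)
  obtain ⟨u, hu⟩ := exists_lift h hc Γ hΓ a b ha hb hab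
  have hnf := nfix_swapLift h hc Γ hΓ a b ha hb hab hu
  obtain ⟨huG, hu2, hua, hub, hufix⟩ := mem_swapLifts.mp hu
  have hnf' : nfix u = t - 2 := by simpa using hnf
  have hfixset : (Finset.univ.filter fun x => u x = x) = (Γ.erase a).erase b := by
    symm
    apply Finset.eq_of_subset_of_card_le
    · intro x hx
      rw [Finset.mem_erase, Finset.mem_erase] at hx
      rw [Finset.mem_filter]
      exact ⟨Finset.mem_univ _, hufix x hx.2.2 hx.2.1 hx.1⟩
    · rw [Finset.card_erase_of_mem (Finset.mem_erase.mpr ⟨hab.symm, hb⟩),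
        Finset.card_erase_of_mem ha, hΓ]
      change nfix u ≤ _
      omega
  have huu : ∀ x, u (u x) = x := by
    intro x
    have := congrArg (fun q : Perm α => q x) hu2
    simpa [sq] using this
  have hfixΓ : ∀ x, u x = x → x ∈ Γ ∧ x ≠ a ∧ x ≠ b := by
    intro x hx
    have : x ∈ (Finset.univ.filter fun x => u x = x) := Finset.mem_filter.mpr ⟨Finset.mem_univ _, hx⟩
    rw [hfixset, Finset.mem_erase, Finset.mem_erase] at this
    exact ⟨this.2.2, this.2.1, this.1⟩
  have hmove : ∀ x, x ∉ Γ → u x ≠ x ∧ u x ∉ Γ := by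
    intro x hx
    have h1 : u x ≠ x := fun hh => hx (hfixΓ x hh).1
    refine ⟨h1, fun hh => ?_⟩
    by_cases hxa : u x = a
    · have := huu x
      rw [hxa, hua] at this
      exact hx (this ▸ hb)
    by_cases hxb : u x = b
    · have := huu x
      rw [hxb, hub] at this
      exact hx (this ▸ ha)
    have := hufix (u x) hh hxa hxb
    rw [huu] at this
    exact h1 this.symm
  obtain ⟨p, hp⟩ := hexout Γ (by omega)
  obtain ⟨hp1, hp2⟩ := hmove p hp
  obtain ⟨q, hq⟩ := hexout (insert p (insert (u p) Γ)) (by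
    have h1 := Finset.card_insert_le p (insert (u p) Γ)
    have h2 := Finset.card_insert_le (u p) Γ
    omega)
  rw [Finset.mem_insert, Finset.mem_insert] at hq
  push Not at hq
  obtain ⟨hqp, hqp', hqΓ⟩ := hq
  obtain ⟨hq1, hq2⟩ := hmove q hqΓ
  have hq'p : u q ≠ p := fun hh => hqp' (by rw [← hh, huu])
  have hq'p' : u q ≠ u p := fun hh => hqp (u.injective hh)
  obtain ⟨S, hSsub, hScard⟩ := Finset.exists_subset_card_eq (s := (Γ.erase a).erase b)
    (n := t - 5) (by
      rw [Finset.card_erase_of_mem (Finset.mem_erase.mpr ⟨hab.symm, hb⟩),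
        Finset.card_erase_of_mem ha, hΓ]
      omega)
  have hSprop : ∀ x ∈ S, x ∈ Γ ∧ x ≠ a ∧ x ≠ b ∧ u x = x := by
    intro x hx
    have := hSsub hx
    rw [Finset.mem_erase, Finset.mem_erase] at this
    exact ⟨this.2.2, this.2.1, this.1, hufix x this.2.2 this.2.1 this.1⟩
  -- inequalities among the six points
  have hap : a ≠ p := fun hh => hp (hh ▸ ha)
  have hap' : a ≠ u p := fun hh => hp2 (hh ▸ ha)
  have haq : a ≠ q := fun hh => hqΓ (hh ▸ ha)
  have haq' : a ≠ u q := fun hh => hq2 (hh ▸ ha)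
  have hbp : b ≠ p := fun hh => hp (hh ▸ hb)
  have hbp' : b ≠ u p := fun hh => hp2 (hh ▸ hb)
  have hbq : b ≠ q := fun hh => hqΓ (hh ▸ hb)
  have hbq' : b ≠ u q := fun hh => hq2 (hh ▸ hb)
  set six : Finset α := {a, b, p, u p, q, u q} with hsix
  have hsixc : six.card = 6 := by
    rw [hsix, Finset.card_insert_of_notMem, Finset.card_insert_of_notMem,
      Finset.card_insert_of_notMem, Finset.card_insert_of_notMem, Finset.card_insert_of_notMem,
      Finset.card_singleton]
    · simp only [Finset.mem_singleton]; exact hq1.symm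
    · simp only [Finset.mem_insert, Finset.mem_singleton]
      rintro (hh | hh)
      · exact hqp' hh.symm
      · exact hq'p' hh.symm
    · simp only [Finset.mem_insert, Finset.mem_singleton]
      rintro (hh | hh | hh)
      · exact hp1 hh.symm
      · exact hqp hh.symm
      · exact hq'p hh.symm
    · simp only [Finset.mem_insert, Finset.mem_singleton]
      rintro (hh | hh | hh | hh)
      · exact hbp hh
      · exact hbp' hh
      · exact hbq hh
      · exact hbq' hh
    · simp only [Finset.mem_insert, Finset.mem_singleton]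
      rintro (hh | hh | hh | hh | hh)
      · exact hab hh
      · exact hap hh
      · exact hap' hh
      · exact haq hh
      · exact haq' hh
  have hdisj : Disjoint S six := by
    rw [Finset.disjoint_left]
    intro x hxS hx6
    obtain ⟨hxΓ, hxa, hxb, -⟩ := hSprop x hxS
    rw [hsix] at hx6
    simp only [Finset.mem_insert, Finset.mem_singleton] at hx6
    rcases hx6 with rfl | rfl | rfl | rfl | rfl | rfl
    · exact hxa rfl
    · exact hxb rfl
    · exact hp hxΓ
    · exact hp2 hxΓ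
    · exact hqΓ hxΓ
    · exact hq2 hxΓ
  set Δ' : Finset α := S ∪ six with hΔ'
  have hΔ'c : Δ'.card = t + 1 := by
    rw [hΔ', Finset.card_union_of_disjoint hdisj, hScard, hsixc]
    omega
  have hmemΔ' : ∀ x, x ∈ Δ' ↔ x ∈ S ∨ x = a ∨ x = b ∨ x = p ∨ x = u p ∨ x = q ∨ x = u q := by
    intro x
    rw [hΔ', Finset.mem_union, hsix]
    simp only [Finset.mem_insert, Finset.mem_singleton]
  -- u stabilises Δ'
  have humaps : ∀ x ∈ Δ', u x ∈ Δ' := by
    intro x hx
    rw [hmemΔ'] at hx ⊢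
    rcases hx with hx | rfl | rfl | rfl | rfl | rfl | rfl
    · rw [(hSprop x hx).2.2.2]; exact Or.inl hx
    · rw [hua]; exact Or.inr (Or.inr (Or.inl rfl))
    · rw [hub]; exact Or.inr (Or.inl rfl)
    · exact Or.inr (Or.inr (Or.inr (Or.inr (Or.inl rfl))))
    · rw [huu]; exact Or.inr (Or.inr (Or.inr (Or.inl rfl)))
    · exact Or.inr (Or.inr (Or.inr (Or.inr (Or.inr (Or.inr rfl)))))
    · rw [huu]; exact Or.inr (Or.inr (Or.inr (Or.inr (Or.inr (Or.inl rfl)))))
  have huSS : u ∈ SS G Δ' := mem_SS_of_maps huG humaps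
  have hsign1 := sign_res_eq_one h Δ' hΔ'c ⟨u, huSS⟩
  -- the product of three swaps
  set v : Perm α := Equiv.swap a b * Equiv.swap p (u p) * Equiv.swap q (u q) with hv
  have hvout : ∀ x, x ≠ a → x ≠ b → x ≠ p → x ≠ u p → x ≠ q → x ≠ u q → v x = x := by
    intro x h1 h2 h3 h4 h5 h6
    rw [hv, Perm.mul_apply, Perm.mul_apply, Equiv.swap_apply_of_ne_of_ne h5 h6,
      Equiv.swap_apply_of_ne_of_ne h3 h4, Equiv.swap_apply_of_ne_of_ne h1 h2]
  have hvu : ∀ x ∈ Δ', v x = u x := by
    intro x hx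
    rw [hmemΔ'] at hx
    rcases hx with hx | rfl | rfl | rfl | rfl | rfl | rfl
    · obtain ⟨hxΓ, hxa, hxb, hux⟩ := hSprop x hx
      rw [hux]
      exact hvout x hxa hxb (fun hh => hp (hh ▸ hxΓ)) (fun hh => hp2 (hh ▸ hxΓ))
        (fun hh => hqΓ (hh ▸ hxΓ)) (fun hh => hq2 (hh ▸ hxΓ))
    · rw [hv, Perm.mul_apply, Perm.mul_apply, Equiv.swap_apply_of_ne_of_ne haq haq',
        Equiv.swap_apply_of_ne_of_ne hap hap', Equiv.swap_apply_left, hua]
    · rw [hv, Perm.mul_apply, Perm.mul_apply, Equiv.swap_apply_of_ne_of_ne hbq hbq',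
        Equiv.swap_apply_of_ne_of_ne hbp hbp', Equiv.swap_apply_right, hub]
    · rw [hv, Perm.mul_apply, Perm.mul_apply, Equiv.swap_apply_of_ne_of_ne hqp.symm hq'p.symm,
        Equiv.swap_apply_left, Equiv.swap_apply_of_ne_of_ne hap'.symm hbp'.symm]
    · rw [hv, Perm.mul_apply, Perm.mul_apply, Equiv.swap_apply_of_ne_of_ne hqp'.symm hq'p'.symm,
        Equiv.swap_apply_right, Equiv.swap_apply_of_ne_of_ne hap.symm hbp.symm, huu]
    · rw [hv, Perm.mul_apply, Perm.mul_apply, Equiv.swap_apply_left,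
        Equiv.swap_apply_of_ne_of_ne hq'p hq'p', Equiv.swap_apply_of_ne_of_ne haq'.symm hbq'.symm]
    · rw [hv, Perm.mul_apply, Perm.mul_apply, Equiv.swap_apply_right,
        Equiv.swap_apply_of_ne_of_ne hqp hqp', Equiv.swap_apply_of_ne_of_ne haq.symm hbq.symm, huu]
  have hvmaps : ∀ x, v x ∈ Δ' ↔ x ∈ Δ' := maps_iff_of_maps (fun x hx => by
    rw [hvu x hx]; exact humaps x hx)
  have hsignv : Perm.sign v = -1 := by
    rw [hv, Perm.sign_mul, Perm.sign_mul, Perm.sign_swap hab, Perm.sign_swap hp1.symm,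
      Perm.sign_swap hq1.symm]
    decide
  have hsupp : ∀ x, v x ≠ x → x ∈ Δ' := by
    intro x hx
    by_contra hxΔ
    apply hx
    rw [hmemΔ'] at hxΔ
    push Not at hxΔ
    exact hvout x hxΔ.2.1 hxΔ.2.2.1 hxΔ.2.2.2.1 hxΔ.2.2.2.2.1 hxΔ.2.2.2.2.2.1 hxΔ.2.2.2.2.2.2
  have hsub : Perm.sign (v.subtypePerm hvmaps) = Perm.sign v := by
    have := Perm.sign_subtypePerm v hvmaps hsupp
    convert this
  have heq : resHom G Δ' ⟨u, huSS⟩ = v.subtypePerm hvmaps := by
    ext x
    rw [resHom_apply, Perm.subtypePerm_apply]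
    exact (hvu x.1 x.2).symm
  rw [heq, hsub, hsignv] at hsign1
  exact absurd hsign1 (by decide)

end Cfsg.Agent.S0745P
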