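import Cfsg.Agent.Helper10.S0745CARDG
import Cfsg.Agent.Helper14.S0745FIXTRIV
import Cfsg.Agent.Helper14.S0745FULLfin
import Cfsg.Agent.Helper14.S0745INV
import Cfsg.Agent.Helper14.S0745L0PAIR
import Cfsg.Agent.Helper16.S0745NUM
import Cfsg.Agent.Helper16.S0745RESINJ
import Cfsg.Agent.Helper17.S0745T4NUM
import Cfsg.Agent.Helper18.S0745NTAUCONST
import Cfsg.Agent.Helper18.S0745NTAUODD
import Cfsg.Agent.Helper19.S0745RGETWO
import Cfsg.Agent.Helper2.S0745ALTCASE
import Cfsg.Agent.Helper2.S0745KILL314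
import Cfsg.Agent.Helper2.S0745RODDKILL
import Cfsg.Agent.Helper2.S0745T4KILL3
import Cfsg.Agent.Helper20.S0745CARDHCONST
import Cfsg.Agent.Helper20.S0745SEMIORB
import Cfsg.Agent.Helper23.S0745COUNTODD
import Cfsg.Agent.Helper23.S0745KILL333
import Cfsg.Agent.Helper24.S0745FLAGS
import Cfsg.Agent.Helper24.S0745KILL373
import Cfsg.Agent.Helper24.S0745PURE
import Cfsg.Agent.Helper27.S0745CARDM
import Cfsg.Agent.Helper27.S0745Defs
import Cfsg.Agent.Helper27.S0745T4TEN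
import Cfsg.Agent.Helper3.S0745ARITH
import Cfsg.Agent.Helper3.S0745CARDL
import Cfsg.Agent.Helper4.S0745HOMF
import Cfsg.Agent.Helper6.S0745NUM3
import Cfsg.Agent.Helper6.S0745TRF
import Cfsg.Agent.Helper9.S0745CARDSS
import Cfsg.Agent.Helper9.S0745COSETLE
import Cfsg.Agent.Helper9.S0745COUNTA
import Cfsg.Agent.Helper9.S0745COUNTB
import Cfsg.Agent.Helper27.S0745L5

set_option autoImplicit false

namespace Cfsg.Agent.S0745P

open Equiv

variable {α : Type*} [Fintype α] [DecidableEq α]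

/-- MAIN -/
theorem main {G : Subgroup (Perm α)} {t c r : ℕ} (h : Hyp G t c r) :
    (t + 2 = Fintype.card α ∧ G = alternatingGroup α) ∨
    (Fintype.card α = 5 ∧ t = 2 ∧ Nat.card G = 20) ∨
    (Fintype.card α = 6 ∧ t = 3 ∧ Nat.card G = 120) ∨
    (Fintype.card α = 9 ∧ t = 3 ∧ (Nat.card G = 504 ∨ Nat.card G = 1512)) := by
  have hc : Odd c := odd_c h
  have ht1 := h.t_pos
  have hG := card_G h
  have hdeg := h.deg
  rcases Nat.lt_or_ge t 4 with ht4 | ht4
  · -- small t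
    obtain rfl | rfl | rfl : t = 1 ∨ t = 2 ∨ t = 3 := by omega
    · obtain ⟨rfl, rfl⟩ := num1 h hc
      exact Or.inl (alt_case h)
    · rcases num2 h hc with ⟨rfl, rfl⟩ | ⟨rfl, rfl⟩ | ⟨rfl, rfl⟩
      · exact Or.inl (alt_case h)
      · refine Or.inr (Or.inl ⟨by omega, rfl, ?_⟩)
        rw [hG, hdeg]; decide
      · exact (kill_2_3_3 h).elim
    · rcases num3 h hc with ⟨rfl, rfl⟩ | ⟨rfl, rfl⟩ | ⟨rfl, rfl⟩ | ⟨rfl, rfl⟩ | ⟨rfl, rfl⟩ |
        ⟨rfl, rfl⟩ | ⟨rfl, rfl⟩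
      · exact Or.inl (alt_case h)
      · refine Or.inr (Or.inr (Or.inr ⟨by omega, rfl, Or.inr ?_⟩))
        rw [hG, hdeg]; decide
      · refine Or.inr (Or.inr (Or.inl ⟨by omega, rfl, ?_⟩))
        rw [hG, hdeg]; decide
      · exact (kill_3_3_3 h).elim
      · exact (kill_3_7_3 h).elim
      · exact (kill_3_1_4 h).elim
      · refine Or.inr (Or.inr (Or.inr ⟨by omega, rfl, Or.inl ?_⟩))
        rw [hG, hdeg]; decide
  · -- t ≥ 4
    rcases Nat.even_or_odd r with hr | hr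
    · obtain rfl := r_eq_two_of_even h hc ht4 hr
      rcases Nat.lt_or_ge t 5 with ht5 | ht5
      · obtain rfl : t = 4 := by omega
        rcases t4_num h hc with rfl | rfl | rfl | rfl
        · exact Or.inl (alt_case h)
        · exact (t4_ten h).elim
        · exact (t4_kill3 h (Or.inl rfl)).elim
        · exact (t4_kill3 h (Or.inr rfl)).elim
      · obtain rfl := c_eq_one_of_five_le h hc ht5
        exact Or.inl (alt_case h)
    · exact (rodd_kill h ht4 hr (rc_le_seven_of_odd h hc ht4 hr) hc).elim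

/-- EXHYP -/
theorem exists_hyp (G : Subgroup (Perm α)) {k : ℕ} (hk : 3 ≤ k) (hkn : k ≤ Fintype.card α)
    (ht : MulAction.IsMultiplyPretransitive G α (k - 2))
    (hnt : ¬ MulAction.IsMultiplyPretransitive G α (k - 1))
    (hh1 : MulAction.IsPretransitive G (Set.powersetCard α (k - 1)))
    (hh : MulAction.IsPretransitive G (Set.powersetCard α k)) :
    ∃ c r, Hyp G (k - 2) c r := by
  obtain ⟨t, rfl⟩ : ∃ t, k = t + 2 := ⟨k - 2, by omega⟩
  have e1 : t + 2 - 2 = t := by omega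
  have e2 : t + 2 - 1 = t + 1 := by omega
  rw [e1] at ht ⊢
  rw [e2] at hnt hh1
  have htr := trans_elt G t ht
  have hom1 := hom_elt G (t + 1) hh1
  have hom2 := hom_elt G (t + 2) hh
  have hsr := fix_triv G t hkn hnt hom1 hom2
  obtain ⟨Γ₀, -, hΓ₀⟩ := Finset.exists_subset_card_eq (s := (Finset.univ : Finset α)) (n := t)
    (by rw [Finset.card_univ]; omega)
  have hcard : ∀ s : Finset α, s.card = t → Nat.card (PS G s) = Nat.card (PS G Γ₀) :=
    fun s hs => cardH_const G t htr s Γ₀ hs hΓ₀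
  have hdvd := semi_orb G t hsr Γ₀ hΓ₀
  have hcpos : 0 < Nat.card (PS G Γ₀) := Nat.card_pos
  obtain ⟨r, hr⟩ := hdvd
  refine ⟨Nat.card (PS G Γ₀), r, ⟨by omega, htr, hsr, hcard, ?_, ?_, hom1, hom2⟩⟩
  · rw [mul_comm]; omega
  · by_contra hlt
    have hr01 : r = 0 ∨ r = 1 := by omega
    rcases hr01 with rfl | rfl
    · omega
    · apply hnt
      apply trans_succ_of_regular G t hkn hsr
      intro Γ hΓ
      rw [hcard Γ hΓ]; omega

end Cfsg.Agent.S0745P
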