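import Cfsg.Agent.Helper27.S0745Defs
import Cfsg.Agent.Helper3.S0745CARDL

set_option autoImplicit false

namespace Cfsg.Agent.S0745P

open Equiv

variable {α : Type*} [Fintype α] [DecidableEq α]

/-- an element of `G` fixing a `t`-set pointwise and a further point is trivial -/
theorem T4TEN_aux_fix_insert {G : Subgroup (Perm α)} {t c r : ℕ} (h : Hyp G t c r) {g : Perm α}
    (hg : g ∈ G) (W : Finset α) (hW : W.card = t) (hgW : ∀ x ∈ W, g x = x) (y : α) (hy : y ∉ W)
    (hgy : g y = y) : g = 1 := by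
  apply h.semireg g hg (insert y W) (by rw [Finset.card_insert_of_notMem hy, hW])
  intro x hx
  rcases Finset.mem_insert.mp hx with rfl | hx
  · exact hgy
  · exact hgW x hx

/-- T4TEN -/
theorem t4_ten {G : Subgroup (Perm α)} (h : Hyp G 4 3 2) : False := by
  classical
  have hn : Fintype.card α = 10 := by rw [h.deg]
  -- a 4-set W
  obtain ⟨W, -, hW⟩ := Finset.exists_subset_card_eq (s := (Finset.univ : Finset α)) (n := 4)
    (by rw [Finset.card_univ]; omega)
  have hH3 : Nat.card (PS G W) = 3 := h.cardH W hW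
  -- the finset of elements of H
  set HF : Finset (Perm α) := Finset.univ.filter (fun k => k ∈ PS G W) with hHF
  have hHFcard : HF.card = 3 := by
    rw [← hH3, Nat.card_eq_fintype_card, Fintype.card_subtype]
  have hmemHF : ∀ k, k ∈ HF ↔ k ∈ PS G W := by intro k; simp [hHF]
  have hsemi : ∀ k ∈ PS G W, ∀ y, y ∉ W → k y = y → k = 1 := fun k hk y hy hky =>
    T4TEN_aux_fix_insert h hk.1 W hW hk.2 y hy hky
  have hout : ∀ k ∈ PS G W, ∀ y, y ∉ W → k y ∉ W := by
    intro k hk y hy hky
    have h1 := hk.2 _ hky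
    exact hy (by rw [← k.injective h1]; exact hky)
  -- a point outside W
  have hexout : ∀ S : Finset α, S.card < 10 → ∃ y, y ∉ S := by
    intro S hS
    by_contra hcon
    push Not at hcon
    have : S = Finset.univ := Finset.eq_univ_iff_forall.mpr hcon
    rw [this, Finset.card_univ] at hS
    omega
  obtain ⟨σ, hσ⟩ := hexout W (by omega)
  -- orbits of H on points outside W have 3 elements and are disjoint from W
  have horb : ∀ y, y ∉ W → (HF.image (fun k => k y)).card = 3 ∧
      Disjoint (HF.image (fun k => k y)) W := by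
    intro y hy
    constructor
    · rw [Finset.card_image_of_injOn, hHFcard]
      intro k hk k' hk' hkk
      have hk1 := (hmemHF k).1 hk
      have hk2 := (hmemHF k').1 hk'
      have hmem : k'⁻¹ * k ∈ PS G W := (PS G W).mul_mem ((PS G W).inv_mem hk2) hk1
      have hfix : (k'⁻¹ * k) y = y := by
        rw [Perm.mul_apply, Perm.inv_eq_iff_eq]
        exact hkk
      have := hsemi _ hmem y hy hfix
      exact (inv_mul_eq_one.mp this).symm
    · rw [Finset.disjoint_left]
      intro x hx hxW
      obtain ⟨k, hk, rfl⟩ := Finset.mem_image.mp hx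
      exact hout k ((hmemHF k).1 hk) y hy hxW
  set O₁ := HF.image (fun k => k σ) with hO₁
  have hO₁c : O₁.card = 3 := (horb σ hσ).1
  have hO₁W : Disjoint O₁ W := (horb σ hσ).2
  have hσO : σ ∈ O₁ := Finset.mem_image.mpr ⟨1, (hmemHF 1).2 (PS G W).one_mem, rfl⟩
  obtain ⟨ρ, hρ⟩ := hexout (W ∪ O₁) (by
    have := Finset.card_union_le W O₁
    omega)
  have hρW : ρ ∉ W := fun hh => hρ (Finset.mem_union_left _ hh)
  have hρO : ρ ∉ O₁ := fun hh => hρ (Finset.mem_union_right _ hh)
  set O₂ := HF.image (fun k => k ρ) with hO₂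
  have hO₂c : O₂.card = 3 := (horb ρ hρW).1
  have hO₂W : Disjoint O₂ W := (horb ρ hρW).2
  have hρO₂ : ρ ∈ O₂ := Finset.mem_image.mpr ⟨1, (hmemHF 1).2 (PS G W).one_mem, rfl⟩
  have hO₁₂ : Disjoint O₁ O₂ := by
    rw [Finset.disjoint_left]
    intro x hx1 hx2
    obtain ⟨k, hk, rfl⟩ := Finset.mem_image.mp hx1
    obtain ⟨k', hk', hkk⟩ := Finset.mem_image.mp hx2
    apply hρO
    refine Finset.mem_image.mpr ⟨k'⁻¹ * k, (hmemHF _).2 ((PS G W).mul_mem ((PS G W).inv_mem
      ((hmemHF k').1 hk')) ((hmemHF k).1 hk)), ?_⟩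
    change (k'⁻¹ * k) σ = ρ
    rw [Perm.mul_apply, Perm.inv_eq_iff_eq]
    exact hkk.symm
  -- a nontrivial element of H
  obtain ⟨h₀, hh₀, hh₀1⟩ := Finset.exists_mem_ne (by omega : 1 < HF.card) 1
  have hh₀H := (hmemHF h₀).1 hh₀
  -- the 5-set Δ
  obtain ⟨Δ, hΔ⟩ : ∃ Δ : Finset α, Δ = insert σ W := ⟨_, rfl⟩
  have hΔc : Δ.card = 5 := by rw [hΔ, Finset.card_insert_of_notMem hσ, hW]
  have hmemΔ : ∀ x, x ∈ Δ ↔ x = σ ∨ x ∈ W := by intro x; rw [hΔ, Finset.mem_insert]
  have hL : Nat.card (SS G Δ) = 60 := by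
    have := card_L h Δ hΔc
    have e : (4 + 1).factorial = 120 := by decide
    rw [e] at this
    omega
  -- orbit-stabiliser
  have hos := Subgroup.card_mul_index (MulAction.stabilizer (SS G Δ) σ)
  rw [MulAction.index_stabilizer, hL] at hos
  have horbit : (MulAction.orbit (SS G Δ) σ).ncard ≤ 5 := by
    rw [← hΔc, ← Set.ncard_coe_finset]
    apply Set.ncard_le_ncard _ (Finset.finite_toSet Δ)
    rintro x ⟨b, rfl⟩
    have hb := b.2
    have : (b : Perm α) σ ∈ Δ := (hb.2 σ).2 ((hmemΔ σ).2 (Or.inl rfl))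
    exact this
  -- the stabiliser injects into a set of 6 elements
  have hstab : Nat.card (MulAction.stabilizer (SS G Δ) σ) ≤ 6 := by
    set T : Finset (Perm α × α) := (HF.erase 1) ×ˢ (Finset.univ \ (W ∪ O₁)) with hT
    have hTc : T.card = 6 := by
      rw [hT, Finset.card_product, Finset.card_erase_of_mem ((hmemHF 1).2 (PS G W).one_mem),
        hHFcard, Finset.card_sdiff_of_subset (Finset.subset_univ _), Finset.card_univ, hn,
        Finset.card_union_of_disjoint hO₁W.symm, hW, hO₁c]
    -- properties of elements of the stabiliser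
    have hprop : ∀ b : MulAction.stabilizer (SS G Δ) σ,
        ((b : SS G Δ) : Perm α) ∈ G ∧ ((b : SS G Δ) : Perm α) σ = σ ∧
        ∀ x, ((b : SS G Δ) : Perm α) x ∈ W ↔ x ∈ W := by
      intro b
      have hb := (b : SS G Δ).2
      have hbσ : ((b : SS G Δ) : Perm α) σ = σ := b.2
      refine ⟨hb.1, hbσ, fun x => ?_⟩
      have h1 := hb.2 x
      rw [hmemΔ, hmemΔ] at h1
      constructor
      · intro hx
        rcases h1.1 (Or.inr hx) with rfl | h2
        · rw [hbσ] at hx; exact (hσ hx).elim
        · exact h2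
      · intro hx
        rcases h1.2 (Or.inr hx) with h2 | h2
        · have h3 := ((b : SS G Δ) : Perm α).injective (h2.trans hbσ.symm)
          rw [h3] at hx
          exact (hσ hx).elim
        · exact h2
    -- conjugation preserves H
    have hconj : ∀ b : MulAction.stabilizer (SS G Δ) σ, ∀ k ∈ PS G W,
        ((b : SS G Δ) : Perm α) * k * ((b : SS G Δ) : Perm α)⁻¹ ∈ PS G W := by
      intro b k hk
      obtain ⟨hbG, -, hbW⟩ := hprop b
      refine ⟨G.mul_mem (G.mul_mem hbG hk.1) (G.inv_mem hbG), fun x hx => ?_⟩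
      have hx' : (((b : SS G Δ) : Perm α)⁻¹) x ∈ W := by
        rw [← hbW]; simpa using hx
      rw [Perm.mul_apply, Perm.mul_apply, hk.2 _ hx']
      simp
    let f : MulAction.stabilizer (SS G Δ) σ → Perm α × α := fun b =>
      (((b : SS G Δ) : Perm α) * h₀ * ((b : SS G Δ) : Perm α)⁻¹, ((b : SS G Δ) : Perm α) ρ)
    have hfT : ∀ b, f b ∈ T := by
      intro b
      obtain ⟨hbG, hbσ, hbW⟩ := hprop b
      rw [hT, Finset.mem_product]
      constructor
      · rw [Finset.mem_erase]
        refine ⟨?_, (hmemHF _).2 (hconj b h₀ hh₀H)⟩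
        intro h1
        apply hh₀1
        have : ((b : SS G Δ) : Perm α) * h₀ = ((b : SS G Δ) : Perm α) := by
          have := mul_inv_eq_one.mp h1
          exact this
        exact mul_left_cancel (a := ((b : SS G Δ) : Perm α)) (by rw [this, mul_one])
      · rw [Finset.mem_sdiff, Finset.mem_union]
        refine ⟨Finset.mem_univ _, ?_⟩
        rintro (h1 | h1)
        · exact hρW ((hbW ρ).1 h1)
        · -- b ρ ∈ O₁ = b O₁
          obtain ⟨k, hk, hkρ⟩ := Finset.mem_image.mp h1
          apply hρO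
          have hk' := hconj ⟨(b : SS G Δ)⁻¹, (MulAction.stabilizer (SS G Δ) σ).inv_mem b.2⟩ k
            ((hmemHF k).1 hk)
          refine Finset.mem_image.mpr ⟨_, (hmemHF _).2 hk', ?_⟩
          change k σ = ((b : SS G Δ) : Perm α) ρ at hkρ
          simp only [Subgroup.coe_inv, inv_inv, Perm.mul_apply]
          rw [hbσ, hkρ]
          simp
    have hfinj : Function.Injective f := by
      intro b b' hbb
      obtain ⟨hbG, hbσ, hbW⟩ := hprop b
      obtain ⟨hbG', hbσ', hbW'⟩ := hprop b'
      set p : Perm α := ((b : SS G Δ) : Perm α) with hp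
      set p' : Perm α := ((b' : SS G Δ) : Perm α) with hp'
      have h1 : p * h₀ * p⁻¹ = p' * h₀ * p'⁻¹ := congrArg Prod.fst hbb
      have h2 : p ρ = p' ρ := congrArg Prod.snd hbb
      set d : Perm α := p'⁻¹ * p with hd
      have hdG : d ∈ G := G.mul_mem (G.inv_mem hbG') hbG
      have hdcomm : d * h₀ = h₀ * d := by
        have : p'⁻¹ * (p * h₀ * p⁻¹) * p = p'⁻¹ * (p' * h₀ * p'⁻¹) * p := by rw [h1]
        rw [hd]
        calc p'⁻¹ * p * h₀ = p'⁻¹ * (p * h₀ * p⁻¹) * p := by group
          _ = p'⁻¹ * (p' * h₀ * p'⁻¹) * p := this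
          _ = h₀ * (p'⁻¹ * p) := by group
      have hdσ : d σ = σ := by
        rw [hd, Perm.mul_apply, hbσ, Perm.inv_eq_iff_eq, hbσ']
      have hdρ : d ρ = ρ := by
        rw [hd, Perm.mul_apply, h2]
        simp
      -- d commutes with every power of h₀; it fixes σ, h₀σ, ρ, h₀ρ and ... use fixed-point count
      have hdh : ∀ x, d x = x → d (h₀ x) = h₀ x := by
        intro x hx
        have := congrArg (fun q : Perm α => q x) hdcomm
        simp only [Perm.mul_apply] at this
        rw [this, hx]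
      have hd1 : d = 1 := by
        -- five distinct fixed points: σ, h₀ σ, h₀ (h₀ σ), ρ, h₀ ρ
        have hne : ∀ y, y ∉ W → h₀ y ≠ y := fun y hy hh => hh₀1 (hsemi h₀ hh₀H y hy hh)
        have hσ1 : h₀ σ ∉ W := hout h₀ hh₀H σ hσ
        have hσ2 : h₀ (h₀ σ) ∉ W := hout h₀ hh₀H _ hσ1
        have hρ1 : h₀ ρ ∉ W := hout h₀ hh₀H ρ hρW
        have hmemO₁ : ∀ k ∈ PS G W, k σ ∈ O₁ := fun k hk =>
          Finset.mem_image.mpr ⟨k, (hmemHF k).2 hk, rfl⟩
        have hmemO₂ : ∀ k ∈ PS G W, k ρ ∈ O₂ := fun k hk =>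
          Finset.mem_image.mpr ⟨k, (hmemHF k).2 hk, rfl⟩
        have a1 : h₀ σ ∈ O₁ := hmemO₁ h₀ hh₀H
        have a2 : h₀ (h₀ σ) ∈ O₁ := by
          have := hmemO₁ (h₀ * h₀) ((PS G W).mul_mem hh₀H hh₀H)
          simpa using this
        have a3 : h₀ ρ ∈ O₂ := hmemO₂ h₀ hh₀H
        have d12 := Finset.disjoint_left.mp hO₁₂
        have hs5 : ({σ, h₀ σ, h₀ (h₀ σ), ρ, h₀ ρ} : Finset α).card = 5 := by
          have n1 : h₀ σ ≠ σ := hne σ hσ
          have n2 : h₀ (h₀ σ) ≠ h₀ σ := hne _ hσ1
          have n3 : h₀ (h₀ σ) ≠ σ := by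
            intro hh
            -- then h₀^2 fixes σ, so h₀^2 = 1, so h₀ = h₀^3 = 1
            have hsq : h₀ * h₀ = 1 := hsemi _ ((PS G W).mul_mem hh₀H hh₀H) σ hσ (by simpa using hh)
            have hcube : h₀ ^ 3 = 1 := by
              have := pow_card_eq_one' (G := PS G W) (x := ⟨h₀, hh₀H⟩)
              rw [hH3] at this
              have := congrArg (fun z : PS G W => (z : Perm α)) this
              simpa using this
            apply hh₀1
            calc h₀ = h₀ ^ 3 * (h₀ * h₀)⁻¹ := by group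
              _ = 1 := by rw [hcube, hsq]; simp
          have n4 : ρ ≠ σ := fun hh => hρO (hh ▸ hσO)
          have n5 : ρ ≠ h₀ σ := fun hh => hρO (hh ▸ a1)
          have n6 : ρ ≠ h₀ (h₀ σ) := fun hh => hρO (hh ▸ a2)
          have n7 : h₀ ρ ≠ ρ := hne ρ hρW
          have n8 : h₀ ρ ≠ σ := fun hh => d12 hσO (hh ▸ a3)
          have n9 : h₀ ρ ≠ h₀ σ := fun hh => d12 a1 (hh ▸ a3)
          have n10 : h₀ ρ ≠ h₀ (h₀ σ) := fun hh => d12 a2 (hh ▸ a3)
          rw [Finset.card_insert_of_notMem, Finset.card_insert_of_notMem,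
            Finset.card_insert_of_notMem, Finset.card_insert_of_notMem, Finset.card_singleton]
          · simp only [Finset.mem_singleton]; exact n7.symm
          · simp only [Finset.mem_insert, Finset.mem_singleton]
            rintro (hh | hh)
            · exact n6 hh.symm
            · exact n10 hh.symm
          · simp only [Finset.mem_insert, Finset.mem_singleton]
            rintro (hh | hh | hh)
            · exact n2 hh.symm
            · exact n5 hh.symm
            · exact n9 hh.symm
          · simp only [Finset.mem_insert, Finset.mem_singleton]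
            rintro (hh | hh | hh | hh)
            · exact n1 hh.symm
            · exact n3 hh.symm
            · exact n4 hh.symm
            · exact n8 hh.symm
        apply h.semireg d hdG _ hs5
        intro x hx
        simp only [Finset.mem_insert, Finset.mem_singleton] at hx
        rcases hx with rfl | rfl | rfl | rfl | rfl
        · exact hdσ
        · exact hdh _ hdσ
        · exact hdh _ (hdh _ hdσ)
        · exact hdρ
        · exact hdh _ hdρ
      have hpp : p = p' := by
        have := hd1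
        rw [hd] at this
        exact (inv_mul_eq_one.mp this).symm
      apply Subtype.ext
      apply Subtype.ext
      exact hpp
    have := Nat.card_le_card_of_injective (fun b => (⟨f b, hfT b⟩ : T))
      (fun b b' hbb => hfinj (congrArg Subtype.val hbb))
    have hT' : Nat.card T = 6 := by rw [Nat.card_eq_fintype_card, Fintype.card_coe, hTc]
    rwa [hT'] at this
  nlinarith

end Cfsg.Agent.S0745P
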