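import Cfsg.Agent.Helper27.S0747Copy
import Cfsg.Agent.Helper6.S0745TRF
import Cfsg.Agent.Helper20.S0745CARDHCONST
import Cfsg.Agent.Helper20.S0745SEMIORB
import Cfsg.Agent.S0415
import Cfsg.Agent.S0416
import Cfsg.Agent.S0417

/-!
# S0747, the semiregular case

`G ≤ Perm α` is `t`-transitive, `4 ≤ t < n`, and every `(t+1)`-point stabiliser is trivial.  Then some
`(t+1)`-set `Δ` has `G_Δ^Δ ⊇ Alt(Δ)`.

With `c = |G_(Γ)|` (`|Γ| = t`) and `n = r c + t`: for every `(t+1)`-set `Δ`, `(t+1)! ≤ r |G_Δ|`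
(orbit–stabiliser), so `r ≤ t` suffices (a subgroup of index `< t+1` of `Sym(Δ)` contains `Alt(Δ)`).
`c` even: every transposition of every `Δ` is induced (`swap_of_even`).  `c` odd, `r` even: `r = 2`.
`c` odd, `r` odd: `r c ≤ 7`, so `c = 1` and Jordan (S0415/6/7) leaves `(t,n) = (4,11), (5,12)`, `r = 7`;
if no `Δ` worked, all indices would be `≥ t+1 ≥ 5`, so there is only one orbit on `(t+1)`-sets and
`7 ∣ (t+1)!`, which is false.
-/

set_option autoImplicit false

namespace Cfsg.Agent.S0747P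

open Equiv Cfsg.Agent.S0745P

variable {α : Type*} [Fintype α] [DecidableEq α]

/-- COUNTEVEN (copy) -/
theorem r_eq_two_of_even {G : Subgroup (Perm α)} {t c r : ℕ} (h : Hyp0 G t c r) (hc : Odd c)
    (ht : 4 ≤ t) (hr : Even r) : r = 2 := by
  have hdeg := h.deg
  have hr2 : 2 ≤ r := by
    have := h.r_pos
    obtain ⟨k, hk⟩ := hr
    omega
  obtain ⟨Γ₀, -, hΓ₀⟩ := Finset.exists_subset_card_eq (s := (Finset.univ : Finset α)) (n := t)
    (by rw [Finset.card_univ]; omega)
  obtain ⟨a₀, ha₀, b₀, hb₀, hab₀⟩ := Finset.one_lt_card.mp (by omega : 1 < Γ₀.card)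
  have hN : ∀ (Γ : Finset α) (a b : α), Γ.card = t → a ∈ Γ → b ∈ Γ → a ≠ b →
      (swapLifts G Γ a b).card = (swapLifts G Γ₀ a₀ b₀).card :=
    fun Γ a b hΓ ha hb hab =>
      card_swapLifts_const h Γ Γ₀ hΓ hΓ₀ a b a₀ b₀ ha hb hab ha₀ hb₀ hab₀
  have hNpos : 1 ≤ (swapLifts G Γ₀ a₀ b₀).card :=
    Finset.card_pos.mpr (exists_lift h hc Γ₀ hΓ₀ a₀ b₀ ha₀ hb₀ hab₀)
  have hA := countA h hc (by omega) _ hN
  have hB := countB h hc ht
  have hcpos : 1 ≤ c := by
    rw [← h.cardH Γ₀ hΓ₀]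
    exact Nat.card_pos
  have hC : 0 < (Fintype.card α).choose t := Nat.choose_pos (by omega)
  exact arith_even t c r (Fintype.card α) _ _ _ ht hcpos hNpos hr2 hr hdeg hC hA hB

/-- a subgroup of `Perm β` (`|β| ≥ 5`) of index `< |β|` contains the alternating group -/
theorem alt_le_of_index_lt {β : Type*} [Fintype β] [DecidableEq β] (H : Subgroup (Perm β))
    (h5 : 5 ≤ Fintype.card β) (hidx : H.index < Fintype.card β) : alternatingGroup β ≤ H := by
  classical
  have hN : H.normalCore ≤ H := Subgroup.normalCore_le H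
  by_cases hbot : H.normalCore = ⊥
  · exfalso
    have hker : (MulAction.toPermHom (Perm β) (Perm β ⧸ H)).ker = ⊥ := by
      rw [← Subgroup.normalCore_eq_ker, hbot]
    have hinj : Function.Injective (MulAction.toPermHom (Perm β) (Perm β ⧸ H)) :=
      (MonoidHom.ker_eq_bot_iff _).mp hker
    have hcard := Nat.card_le_card_of_injective _ hinj
    have e1 : Nat.card (Perm β) = (Fintype.card β).factorial := by
      rw [Nat.card_eq_fintype_card, Fintype.card_perm]
    have e2 : Nat.card (Perm (Perm β ⧸ H)) = H.index.factorial := by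
      rw [Nat.card_perm]
      rfl
    rw [e1, e2] at hcard
    have hpos : 0 < H.index := Nat.pos_of_ne_zero Subgroup.index_ne_zero_of_finite
    have := (Nat.factorial_lt hpos).mpr hidx
    omega
  · have hnt : Nontrivial H.normalCore := (Subgroup.nontrivial_iff_ne_bot _).mpr hbot
    exact (Equiv.Perm.alternatingGroup_le_of_normal (by rwa [Nat.card_eq_fintype_card]) hnt).trans hN

open Classical in
/-- the orbit of `Δ` under `G` -/
noncomputable def orb (G : Subgroup (Perm α)) (Δ : Finset α) : Finset (Finset α) :=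
  (Finset.univ.filter fun g : Perm α => g ∈ G).image fun g => Δ.image g

theorem mem_orb {G : Subgroup (Perm α)} {Δ s : Finset α} :
    s ∈ orb G Δ ↔ ∃ g ∈ G, Δ.image g = s := by
  classical
  simp [orb]

theorem self_mem_orb (G : Subgroup (Perm α)) (Δ : Finset α) : Δ ∈ orb G Δ := by
  rw [mem_orb]
  refine ⟨1, G.one_mem, ?_⟩
  ext x
  simp

/-- orbit–stabiliser for the action on finsets -/
theorem card_orb_mul (G : Subgroup (Perm α)) (Δ : Finset α) :
    (orb G Δ).card * Nat.card (SS G Δ) = Nat.card G := by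
  classical
  obtain ⟨GF, hGF, hcardG⟩ := card_SS_aux_finset G
  obtain ⟨LF, hLF, hcardL⟩ := card_SS_aux_finset (SS G Δ)
  have hmaps : ∀ g ∈ GF, Δ.image g ∈ orb G Δ := by
    intro g hg
    rw [mem_orb]
    exact ⟨g, (hGF g).mp hg, rfl⟩
  have hfib := Finset.card_eq_sum_card_fiberwise hmaps
  rw [hcardG, hfib, hcardL]
  have hconst : ∀ s ∈ orb G Δ,
      (GF.filter fun g : Perm α => Δ.image (g : α → α) = s).card = LF.card := by
    intro s hs
    obtain ⟨g₀, hg₀, hg₀s'⟩ := mem_orb.mp hs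
    have hg₀s := (card_SS_aux_image_eq_iff Δ s g₀).mp hg₀s'
    symm
    refine Finset.card_bij (fun k _ => g₀ * k) ?_ ?_ ?_
    · intro k hk
      rw [hLF] at hk
      obtain ⟨hkG, hk'⟩ := hk
      rw [Finset.mem_filter, hGF]
      refine ⟨G.mul_mem hg₀ hkG, ?_⟩
      rw [card_SS_aux_image_eq_iff]
      intro x
      rw [Perm.mul_apply, hg₀s, hk']
    · intro k _ k' _ hkk
      exact mul_left_cancel hkk
    · intro g hg
      rw [Finset.mem_filter, hGF] at hg
      obtain ⟨hgG, hgs⟩ := hg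
      rw [card_SS_aux_image_eq_iff] at hgs
      refine ⟨g₀⁻¹ * g, ?_, by simp⟩
      rw [hLF]
      refine ⟨G.mul_mem (G.inv_mem hg₀) hgG, fun x => ?_⟩
      rw [← hgs x, Perm.mul_apply, ← hg₀s (g₀⁻¹ (g x))]
      simp
  rw [Finset.sum_congr rfl hconst, Finset.sum_const, smul_eq_mul]

theorem orb_subset (G : Subgroup (Perm α)) (Δ : Finset α) (j : ℕ) (hΔ : Δ.card = j) :
    orb G Δ ⊆ Finset.powersetCard j (Finset.univ : Finset α) := by
  intro s hs
  obtain ⟨g, -, rfl⟩ := mem_orb.mp hs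
  rw [Finset.mem_powersetCard]
  exact ⟨Finset.subset_univ _, by rw [card_SS_aux_image_card, hΔ]⟩

theorem orb_disjoint (G : Subgroup (Perm α)) (Δ₁ Δ₂ : Finset α) (h : Δ₂ ∉ orb G Δ₁) :
    Disjoint (orb G Δ₁) (orb G Δ₂) := by
  rw [Finset.disjoint_left]
  intro s hs1 hs2
  apply h
  obtain ⟨g₁, hg₁, h1⟩ := mem_orb.mp hs1
  obtain ⟨g₂, hg₂, h2⟩ := mem_orb.mp hs2
  rw [card_SS_aux_image_eq_iff] at h1 h2
  rw [mem_orb]
  refine ⟨g₂⁻¹ * g₁, G.mul_mem (G.inv_mem hg₂) hg₁, ?_⟩
  rw [card_SS_aux_image_eq_iff]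
  intro x
  rw [← h1 x, ← h2 (((g₂⁻¹ * g₁) x)), Perm.mul_apply]
  simp

/-- `C(n,t+1) (t+1)! = r |G|` -/
theorem choose_mul_factorial {G : Subgroup (Perm α)} {t c r : ℕ} (h : Hyp0 G t c r) :
    (Fintype.card α).choose (t + 1) * (t + 1).factorial = r * Nat.card G := by
  rw [card_G h, mul_comm ((Fintype.card α).choose (t + 1)),
    ← Nat.descFactorial_eq_factorial_mul_choose, Nat.descFactorial_succ]
  have : Fintype.card α - t = r * c := by have := h.deg; omega
  rw [this]
  ring

theorem card_G_pos (G : Subgroup (Perm α)) : 0 < Nat.card G := Nat.card_pos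

/-- `(t+1)! ≤ r |G_Δ|` for every `(t+1)`-set `Δ` -/
theorem factorial_le {G : Subgroup (Perm α)} {t c r : ℕ} (h : Hyp0 G t c r) (Δ : Finset α)
    (hΔ : Δ.card = t + 1) : (t + 1).factorial ≤ r * Nat.card (SS G Δ) := by
  have h1 := card_orb_mul G Δ
  have h2 := Finset.card_le_card (orb_subset G Δ (t + 1) hΔ)
  rw [Finset.card_powersetCard, Finset.card_univ] at h2
  have h3 := choose_mul_factorial h
  have hpos := card_G_pos G
  -- |G| (t+1)! = |orb| |SS| (t+1)! ≤ C |SS| (t+1)! = r |G| |SS|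
  have h4 : Nat.card G * (t + 1).factorial ≤ Nat.card G * (r * Nat.card (SS G Δ)) := by
    calc Nat.card G * (t + 1).factorial
        = (orb G Δ).card * Nat.card (SS G Δ) * (t + 1).factorial := by rw [h1]
      _ ≤ (Fintype.card α).choose (t + 1) * Nat.card (SS G Δ) * (t + 1).factorial :=
          Nat.mul_le_mul_right _ (Nat.mul_le_mul_right _ h2)
      _ = (Fintype.card α).choose (t + 1) * (t + 1).factorial * Nat.card (SS G Δ) := by ring
      _ = Nat.card G * (r * Nat.card (SS G Δ)) := by rw [h3]; ring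
  exact Nat.le_of_mul_le_mul_left h4 hpos

/-- if `t! < |G_Δ|` then `G_Δ^Δ ⊇ Alt(Δ)` -/
theorem alt_induced_of_lt {G : Subgroup (Perm α)} {t c r : ℕ} (h : Hyp0 G t c r) (ht : 4 ≤ t)
    (Δ : Finset α) (hΔ : Δ.card = t + 1) (hlt : t.factorial < Nat.card (SS G Δ)) :
    ∀ σ : Perm ↥Δ, σ ∈ alternatingGroup ↥Δ → ∃ g ∈ G, ∀ x : ↥Δ, g (x : α) = σ x := by
  have hinj := resHom_injective h Δ (by omega)
  have hcardrange : Nat.card (resHom G Δ).range = Nat.card (SS G Δ) :=
    (Nat.card_congr (MonoidHom.ofInjective hinj).toEquiv).symm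
  have hidx : (resHom G Δ).range.index * Nat.card (resHom G Δ).range = Nat.card (Perm ↥Δ) :=
    Subgroup.index_mul_card _
  have hperm : Nat.card (Perm ↥Δ) = (t + 1).factorial := by
    rw [Nat.card_eq_fintype_card, Fintype.card_perm, Fintype.card_coe, hΔ]
  have hlt' : (resHom G Δ).range.index < Fintype.card ↥Δ := by
    rw [Fintype.card_coe, hΔ]
    by_contra hge
    push Not at hge
    have h1 : (t + 1) * Nat.card (SS G Δ) ≤ (t + 1).factorial := by
      rw [← hperm, ← hidx, hcardrange]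
      exact Nat.mul_le_mul_right _ hge
    rw [Nat.factorial_succ] at h1
    have := Nat.le_of_mul_le_mul_left h1 (by omega)
    omega
  have halt := alt_le_of_index_lt (resHom G Δ).range (by rw [Fintype.card_coe, hΔ]; omega) hlt'
  intro σ hσ
  obtain ⟨g, hg⟩ := halt hσ
  refine ⟨g.1, g.2.1, fun x => ?_⟩
  rw [← hg, resHom_apply]

/-- if every transposition of `Δ` is induced then every permutation of `Δ` is induced -/
theorem all_induced_of_swaps {G : Subgroup (Perm α)} (Δ : Finset α)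
    (hsw : ∀ a ∈ Δ, ∀ b ∈ Δ, a ≠ b →
      ∃ g ∈ G, g a = b ∧ g b = a ∧ ∀ x ∈ Δ, x ≠ a → x ≠ b → g x = x) :
    ∀ σ : Perm ↥Δ, ∃ g ∈ G, ∀ x : ↥Δ, g (x : α) = σ x := by
  have hsurj : Function.Surjective (resHom G Δ) := by
    rw [← MonoidHom.range_eq_top, eq_top_iff, ← Equiv.Perm.closure_isSwap, Subgroup.closure_le]
    rintro σ ⟨⟨a, ha⟩, ⟨b, hb⟩, hab, rfl⟩
    have hab' : a ≠ b := fun h => hab (Subtype.ext h)
    obtain ⟨g, hg, hga, hgb, hgx⟩ := hsw a ha b hb hab'
    have hgΔ : ∀ x ∈ Δ, g x ∈ Δ := by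
      intro x hx
      by_cases hxa : x = a
      · rw [hxa, hga]; exact hb
      · by_cases hxb : x = b
        · rw [hxb, hgb]; exact ha
        · rw [hgx x hx hxa hxb]; exact hx
    refine ⟨⟨g, mem_SS_of_maps hg hgΔ⟩, ?_⟩
    ext ⟨x, hx⟩
    rw [resHom_apply]
    show g x = ((Equiv.swap (⟨a, ha⟩ : {x // x ∈ Δ}) ⟨b, hb⟩) ⟨x, hx⟩ : α)
    by_cases hxa : x = a
    · subst hxa
      rw [Equiv.swap_apply_left, hga]
    · by_cases hxb : x = b
      · subst hxb
        rw [Equiv.swap_apply_right, hgb]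
      · rw [Equiv.swap_apply_of_ne_of_ne (fun h => hxa (congrArg Subtype.val h))
          (fun h => hxb (congrArg Subtype.val h)), hgx x hx hxa hxb]
  intro σ
  obtain ⟨g, hg⟩ := hsurj σ
  refine ⟨g.1, g.2.1, fun x => ?_⟩
  rw [← hg, resHom_apply]

/-- the set-up: `Hyp0` holds for suitable `c`, `r` -/
theorem exists_hyp0 (G : Subgroup (Perm α)) {t : ℕ} (ht : 1 ≤ t) (htn : t < Fintype.card α)
    (htr : MulAction.IsMultiplyPretransitive G α t)
    (hsr : ∀ g ∈ G, ∀ s : Finset α, s.card = t + 1 → (∀ x ∈ s, g x = x) → g = 1) :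
    ∃ c r, Hyp0 G t c r := by
  have htr' := trans_elt G t htr
  obtain ⟨Γ₀, -, hΓ₀⟩ := Finset.exists_subset_card_eq (s := (Finset.univ : Finset α)) (n := t)
    (by rw [Finset.card_univ]; omega)
  have hcard : ∀ s : Finset α, s.card = t → Nat.card (PS G s) = Nat.card (PS G Γ₀) :=
    fun s hs => cardH_const G t htr' s Γ₀ hs hΓ₀
  have hdvd := semi_orb G t hsr Γ₀ hΓ₀
  have hcpos : 0 < Nat.card (PS G Γ₀) := Nat.card_pos
  obtain ⟨r, hr⟩ := hdvd
  refine ⟨Nat.card (PS G Γ₀), r, ⟨ht, htr', hsr, hcard, ?_, ?_⟩⟩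
  · rw [mul_comm]; omega
  · rcases Nat.eq_zero_or_pos r with rfl | hpos
    · omega
    · exact hpos

/-- the case `c = 1`, `r = 7`, `t ∈ {4, 5}` (`M₁₁`, `M₁₂`) -/
theorem seven_case {G : Subgroup (Perm α)} {t : ℕ} (h : Hyp0 G t 1 7) (ht : t = 4 ∨ t = 5) :
    ∃ Δ : Finset α, Δ.card = t + 1 ∧ t.factorial < Nat.card (SS G Δ) := by
  by_contra hcon
  push Not at hcon
  have hn : t + 1 ≤ Fintype.card α := by have := h.deg; omega
  obtain ⟨Δ₁, -, hΔ₁⟩ := Finset.exists_subset_card_eq (s := (Finset.univ : Finset α)) (n := t + 1)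
    (by rw [Finset.card_univ]; exact hn)
  have hpos := card_G_pos G
  have h3 := choose_mul_factorial h
  have e1 := card_orb_mul G Δ₁
  have hle1 := hcon Δ₁ hΔ₁
  by_cases hall : orb G Δ₁ = Finset.powersetCard (t + 1) (Finset.univ : Finset α)
  · -- one orbit: 7 ∣ (t+1)!
    rw [hall, Finset.card_powersetCard, Finset.card_univ] at e1
    have hCpos : 0 < (Fintype.card α).choose (t + 1) := Nat.choose_pos hn
    have h4 : (Fintype.card α).choose (t + 1) * (t + 1).factorial
        = (Fintype.card α).choose (t + 1) * (7 * Nat.card (SS G Δ₁)) := by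
      rw [h3, ← e1]; ring
    have h5 := Nat.eq_of_mul_eq_mul_left hCpos h4
    rcases ht with rfl | rfl
    · have : (4 + 1).factorial = 120 := by decide
      omega
    · have : (5 + 1).factorial = 720 := by decide
      omega
  · -- two orbits
    have hsub := orb_subset G Δ₁ (t + 1) hΔ₁
    obtain ⟨Δ₂, hΔ₂mem, hΔ₂not⟩ : ∃ s ∈ Finset.powersetCard (t + 1) (Finset.univ : Finset α),
        s ∉ orb G Δ₁ := by
      by_contra hne
      push Not at hne
      exact hall (Finset.Subset.antisymm hsub hne)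
    have hΔ₂ : Δ₂.card = t + 1 := (Finset.mem_powersetCard.mp hΔ₂mem).2
    have e2 := card_orb_mul G Δ₂
    have hle2 := hcon Δ₂ hΔ₂
    have hdisj := orb_disjoint G Δ₁ Δ₂ hΔ₂not
    have hunion : (orb G Δ₁ ∪ orb G Δ₂).card ≤ (Fintype.card α).choose (t + 1) := by
      have := Finset.card_le_card (Finset.union_subset hsub (orb_subset G Δ₂ (t + 1) hΔ₂))
      rwa [Finset.card_powersetCard, Finset.card_univ] at this
    rw [Finset.card_union_of_disjoint hdisj] at hunion
    -- (|O₁| + |O₂|) (t+1)! ≤ 7 |G|, and |O_i| (t+1)! ≥ (t+1) |G|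
    have h6 : ((orb G Δ₁).card + (orb G Δ₂).card) * (t + 1).factorial ≤ 7 * Nat.card G := by
      rw [← h3]
      exact Nat.mul_le_mul_right _ hunion
    have h7 : ∀ Δ : Finset α, Nat.card (SS G Δ) ≤ t.factorial →
        (orb G Δ).card * Nat.card (SS G Δ) = Nat.card G →
        (t + 1) * Nat.card G ≤ (orb G Δ).card * (t + 1).factorial := by
      intro Δ hle e
      rw [← e, Nat.factorial_succ]
      calc (t + 1) * ((orb G Δ).card * Nat.card (SS G Δ))
          = (orb G Δ).card * ((t + 1) * Nat.card (SS G Δ)) := by ring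
        _ ≤ (orb G Δ).card * ((t + 1) * t.factorial) :=
            Nat.mul_le_mul_left _ (Nat.mul_le_mul_left _ hle)
    have h8 := h7 Δ₁ hle1 e1
    have h9 := h7 Δ₂ hle2 e2
    have h10 : 2 * (t + 1) * Nat.card G ≤ 7 * Nat.card G := by
      calc 2 * (t + 1) * Nat.card G = (t + 1) * Nat.card G + (t + 1) * Nat.card G := by ring
        _ ≤ (orb G Δ₁).card * (t + 1).factorial + (orb G Δ₂).card * (t + 1).factorial :=
            Nat.add_le_add h8 h9
        _ = ((orb G Δ₁).card + (orb G Δ₂).card) * (t + 1).factorial := by ring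
        _ ≤ 7 * Nat.card G := h6
    have := Nat.le_of_mul_le_mul_right h10 hpos
    omega

/-- **S0747, semiregular case.** -/
theorem semiregular_case (G : Subgroup (Perm α)) {t : ℕ} (ht : 4 ≤ t) (htn : t < Fintype.card α)
    (htr : MulAction.IsMultiplyPretransitive G α t)
    (hsr : ∀ g ∈ G, ∀ s : Finset α, s.card = t + 1 → (∀ x ∈ s, g x = x) → g = 1) :
    ∃ Δ : Finset α, Δ.card = t + 1 ∧ ∀ σ : Perm ↥Δ, σ ∈ alternatingGroup ↥Δ →
      ∃ g ∈ G, ∀ x : ↥Δ, g (x : α) = σ x := by
  obtain ⟨c, r, h⟩ := exists_hyp0 G (by omega) htn htr hsr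
  have hdeg := h.deg
  have hrpos := h.r_pos
  obtain ⟨Δ₀, -, hΔ₀⟩ := Finset.exists_subset_card_eq (s := (Finset.univ : Finset α)) (n := t + 1)
    (by rw [Finset.card_univ]; omega)
  have hfpos : 0 < t.factorial := Nat.factorial_pos t
  -- `r ≤ t` suffices
  have small : r ≤ t → ∃ Δ : Finset α, Δ.card = t + 1 ∧ ∀ σ : Perm ↥Δ, σ ∈ alternatingGroup ↥Δ →
      ∃ g ∈ G, ∀ x : ↥Δ, g (x : α) = σ x := by
    intro hrt
    refine ⟨Δ₀, hΔ₀, alt_induced_of_lt h ht Δ₀ hΔ₀ ?_⟩
    have h1 := factorial_le h Δ₀ hΔ₀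
    rw [Nat.factorial_succ] at h1
    by_contra hge
    push Not at hge
    have h2 : r * Nat.card (SS G Δ₀) ≤ t * t.factorial := Nat.mul_le_mul hrt hge
    have h3 : (t + 1) * t.factorial = t * t.factorial + t.factorial := by ring
    omega
  rcases Nat.even_or_odd c with hc | hc
  · -- `c` even: all transpositions
    refine ⟨Δ₀, hΔ₀, fun σ _ => all_induced_of_swaps Δ₀ ?_ σ⟩
    intro a ha b hb hab
    have hF : ((Δ₀.erase a).erase b).card = t - 1 := by
      rw [Finset.card_erase_of_mem (Finset.mem_erase.2 ⟨hab.symm, hb⟩),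
        Finset.card_erase_of_mem ha, hΔ₀]
      omega
    obtain ⟨g, hg, hgF, hga, hgb⟩ := swap_of_even h hc ((Δ₀.erase a).erase b) hF a b
      (by simp) (by simp) hab
    refine ⟨g, hg, hga, hgb, ?_⟩
    intro x hx hxa hxb
    exact hgF x (Finset.mem_erase.2 ⟨hxb, Finset.mem_erase.2 ⟨hxa, hx⟩⟩)
  · rcases Nat.even_or_odd r with hr | hr
    · have := r_eq_two_of_even h hc ht hr
      exact small (by omega)
    · have hrc := rc_le_seven_of_odd h hc ht hr
      rcases Nat.lt_or_ge t r with hlt | hle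
      swap
      · exact small hle
      -- now `4 ≤ t < r`, `r c ≤ 7`: `c = 1`
      have hc1 : c = 1 := by
        obtain ⟨k, hk⟩ := hc
        rcases Nat.eq_zero_or_pos k with rfl | hk0
        · omega
        · exfalso; nlinarith
      subst hc1
      have hmt : MulAction.IsMultiplyPretransitive G α t := htr
      have hsharp : ∀ x : Fin t ↪ α, MulAction.stabilizer G x = ⊥ := by
        intro x
        rw [eq_bot_iff]
        intro g hg
        rw [MulAction.mem_stabilizer_iff] at hg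
        have hfix : ∀ i, (g : Perm α) (x i) = x i := by
          intro i
          have := congrArg (fun f : Fin t ↪ α => f i) hg
          simpa [Function.Embedding.smul_apply, Subgroup.smul_def] using this
        have hΓ : (Finset.univ.map x).card = t := by simp
        have hPS : (g : Perm α) ∈ PS G (Finset.univ.map x) := by
          refine ⟨g.2, ?_⟩
          intro z hz
          obtain ⟨i, _, rfl⟩ := Finset.mem_map.mp hz
          exact hfix i
        have hcard := h.cardH _ hΓ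
        have hsub : Subsingleton (PS G (Finset.univ.map x)) :=
          (Nat.card_eq_one_iff_unique.mp hcard).1
        have h1 := Subsingleton.elim (⟨g, hPS⟩ : PS G (Finset.univ.map x)) 1
        have h2 : (g : Perm α) = 1 := congrArg Subtype.val h1
        rw [Subgroup.mem_bot]
        exact Subtype.ext h2
      have h47 : (t = 4 ∨ t = 5) ∧ r = 7 := by
        rcases Nat.lt_or_ge t 6 with ht6 | ht6
        · obtain rfl | rfl : t = 4 ∨ t = 5 := by omega
          · have := Cfsg.Agent.S0415.result G (by omega) hsharp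
            rcases this with h4 | h4 | h4 | h4 <;> rw [h4] at hdeg <;>
              first | omega | exact ⟨Or.inl rfl, by omega⟩
          · have := Cfsg.Agent.S0416.result G (by omega) hsharp
            rcases this with h4 | h4 | h4 | h4 <;> rw [h4] at hdeg <;>
              first | omega | exact ⟨Or.inr rfl, by omega⟩
        · have := Cfsg.Agent.S0417.result G t ht6 (by omega) hsharp
          rcases this with h4 | h4 | h4 <;> omega
      obtain ⟨ht45, rfl⟩ := h47
      obtain ⟨Δ, hΔ, hlt'⟩ := seven_case h ht45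
      exact ⟨Δ, hΔ, alt_induced_of_lt h ht Δ hΔ hlt'⟩

end Cfsg.Agent.S0747P
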