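import Cfsg.Agent.Helper18.S0747Defs
import Cfsg.Agent.Helper27.S0747Semi

/-!
# S0747 board `s0747pieces`, row CASEB, proved directly from `semiregular_case`
(`Cfsg.Agent.Helper27.S0747Semi`); no `B_*` row is needed.
-/

set_option autoImplicit false

namespace Cfsg.Agent.S0747P

open MulAction

/-- CASEB: a `k`-transitive group, `4 ≤ k < n`, in which every non-identity element fixes at most `k` points is `Good`. -/
theorem CASEB {α : Type*} [Fintype α] [DecidableEq α] (G : Subgroup (Equiv.Perm α)) {k : ℕ} (hk : 4 ≤ k)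
    (hkn : k < Fintype.card α) (hG : IsMultiplyPretransitive ↥G α k)
    (hsemi : ∀ g ∈ G, g ≠ 1 → (Finset.univ.filter fun a => g a = a).card ≤ k) : Good ↥G α k := by
  have hsr : ∀ g ∈ G, ∀ s : Finset α, s.card = k + 1 → (∀ x ∈ s, g x = x) → g = 1 := by
    intro g hg s hs hfix
    by_contra hne
    have h1 := hsemi g hg hne
    have h2 : s ⊆ Finset.univ.filter fun a => g a = a := by
      intro x hx
      rw [Finset.mem_filter]
      exact ⟨Finset.mem_univ _, hfix x hx⟩
    have h3 := Finset.card_le_card h2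
    omega
  obtain ⟨Δ, hΔ, hall⟩ := semiregular_case G hk hkn hG hsr
  refine ⟨Δ, hΔ, fun σ hσ => ?_⟩
  obtain ⟨g, hg, hgx⟩ := hall σ hσ
  exact ⟨⟨g, hg⟩, fun x => hgx x⟩

end Cfsg.Agent.S0747P
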