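import Cfsg.Agent.Helper27.S0745Defs
import Cfsg.Agent.Helper9.S0745CARDSS
import Cfsg.Agent.Helper24.S0745PURE
import Cfsg.Agent.Helper24.S0745FLAGS
import Cfsg.Agent.Helper3.S0745ARITH

/-!
# S0747, semiregular case: the S0745 machinery without the homogeneity hypotheses

`Hyp0 G t c r` is `S0745P.Hyp G t c r` without `hom1`, `hom2`, `two_le` (and with `1 ≤ r`).
The lemmas below are verbatim copies (namespace `Cfsg.Agent.S0747P`, `Hyp` replaced by `Hyp0`) of the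
rows INV, L0PAIR, NTAUCONST, NTAUODD, COSETLE, COUNTA, COUNTB, COUNTODD, CARDG, RESINJ of the board
`s0745pieces` (authors: helper14, helper18, helper9, helper23, helper10, helper16), whose proofs
never use homogeneity.
-/

set_option autoImplicit false

namespace Cfsg.Agent.S0747P

open Equiv Cfsg.Agent.S0745P

variable {α : Type*} [Fintype α] [DecidableEq α]

/-- The working hypothesis of the semiregular case: `G` is `t`-transitive (`t ≥ 1`), the pointwise
stabiliser of every `(t+1)`-set is trivial, the pointwise stabilisers of `t`-sets have order `c`,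
the degree is `r * c + t` with `r ≥ 1`. -/
structure Hyp0 (G : Subgroup (Perm α)) (t c r : ℕ) : Prop where
  t_pos : 1 ≤ t
  trans : ∀ x y : Fin t ↪ α, ∃ g ∈ G, ∀ i, g (x i) = y i
  semireg : ∀ g ∈ G, ∀ s : Finset α, s.card = t + 1 → (∀ x ∈ s, g x = x) → g = 1
  cardH : ∀ s : Finset α, s.card = t → Nat.card (PS G s) = c
  deg : Fintype.card α = r * c + t
  r_pos : 1 ≤ r

/-! ## copy of `Helper14.S0745INV` -/


/-- NFIXLE -/
theorem nfix_le {G : Subgroup (Perm α)} {t c r : ℕ} (h : Hyp0 G t c r) {g : Perm α} (hg : g ∈ G)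
    (hg1 : g ≠ 1) : nfix g ≤ t := by
  by_contra hcon
  push Not at hcon
  unfold nfix at hcon
  obtain ⟨s, hs, hsc⟩ := Finset.exists_subset_card_eq (s := Finset.univ.filter fun x => g x = x) (n := t + 1) hcon
  apply hg1
  refine h.semireg g hg s hsc ?_
  intro x hx
  exact (Finset.mem_filter.1 (hs hx)).2

theorem inv_nfix_aux_nfix_eq (u : Perm α) : nfix u = (u.support)ᶜ.card := by
  unfold nfix
  congr 1
  ext x
  simp [Perm.mem_support]

theorem inv_nfix_aux_parity {u : Perm α} (hu2 : u ^ 2 = 1) : nfix u % 2 = Fintype.card α % 2 := by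
  have : Fact (Nat.Prime 2) := ⟨Nat.prime_two⟩
  have h1 : u ^ 2 ^ 1 = 1 := by simpa using hu2
  have := Equiv.Perm.card_compl_support_modEq (p := 2) (n := 1) h1
  rw [inv_nfix_aux_nfix_eq]
  exact this

/-- I1 -/
theorem inv_nfix {G : Subgroup (Perm α)} {t c r : ℕ} (h : Hyp0 G t c r) (hc : Odd c) {u : Perm α}
    (hu : u ∈ G) (hu2 : u ^ 2 = 1) (hu1 : u ≠ 1) :
    nfix u + 1 ≤ t ∧ nfix u % 2 = Fintype.card α % 2 := by
  refine ⟨?_, inv_nfix_aux_parity hu2⟩
  have hle := nfix_le h hu hu1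
  by_contra hcon
  have heq : nfix u = t := by omega
  -- `u` lies in the pointwise stabiliser of its fixed-point set, of odd order `c`
  set Γ : Finset α := Finset.univ.filter fun x => u x = x with hΓ
  have hΓc : Γ.card = t := heq
  have huΓ : u ∈ PS G Γ := ⟨hu, fun x hx => (Finset.mem_filter.1 hx).2⟩
  have hcard := h.cardH Γ hΓc
  have hord : orderOf u = 2 := orderOf_eq_prime hu2 hu1
  have hdvd : orderOf (⟨u, huΓ⟩ : ↥(PS G Γ)) ∣ Nat.card ↥(PS G Γ) := orderOf_dvd_natCard _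
  rw [Subgroup.orderOf_mk, hord, hcard] at hdvd
  obtain ⟨k, rfl⟩ := hc
  omega

/-- an element of `G` inducing the transposition `(a b)` on `Γ` -/
theorem exists_lift_aux_swap {G : Subgroup (Perm α)} {t c r : ℕ} (h : Hyp0 G t c r)
    (Γ : Finset α) (hΓ : Γ.card = t) (a b : α) :
    ∃ g ∈ G, ∀ x ∈ Γ, g x = Equiv.swap a b x := by
  let e : Fin t ≃ {x // x ∈ Γ} := (Γ.equivFinOfCardEq hΓ).symm
  let x : Fin t ↪ α := e.toEmbedding.trans (Function.Embedding.subtype _)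
  let y : Fin t ↪ α := x.trans (Equiv.swap a b).toEmbedding
  obtain ⟨g, hg, hgx⟩ := h.trans x y
  refine ⟨g, hg, ?_⟩
  intro z hz
  have : z = x (e.symm ⟨z, hz⟩) := by simp [x]
  rw [this, hgx]
  rfl

/-- LIFT -/
theorem exists_lift {G : Subgroup (Perm α)} {t c r : ℕ} (h : Hyp0 G t c r) (hc : Odd c)
    (Γ : Finset α) (hΓ : Γ.card = t) (a b : α) (ha : a ∈ Γ) (hb : b ∈ Γ) (hab : a ≠ b) :
    (swapLifts G Γ a b).Nonempty := by
  obtain ⟨g, hg, hgΓ⟩ := exists_lift_aux_swap h Γ hΓ a b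
  have hga : g a = b := by rw [hgΓ a ha, Equiv.swap_apply_left]
  have hgb : g b = a := by rw [hgΓ b hb, Equiv.swap_apply_right]
  have hgx : ∀ x ∈ Γ, x ≠ a → x ≠ b → g x = x := fun x hx hxa hxb => by
    rw [hgΓ x hx, Equiv.swap_apply_of_ne_of_ne hxa hxb]
  -- `g ^ 2` fixes `Γ` pointwise
  have hg2 : g ^ 2 ∈ PS G Γ := by
    refine ⟨G.pow_mem hg 2, fun x hx => ?_⟩
    rw [pow_two, Perm.mul_apply]
    by_cases hxa : x = a
    · rw [hxa, hga, hgb]
    · by_cases hxb : x = b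
      · rw [hxb, hgb, hga]
      · rw [hgx x hx hxa hxb, hgx x hx hxa hxb]
  obtain ⟨k, hk⟩ := hc
  have hcard := h.cardH Γ hΓ
  have hpow : (g ^ 2) ^ c = 1 := by
    have h1 : (⟨g ^ 2, hg2⟩ : ↥(PS G Γ)) ^ Nat.card ↥(PS G Γ) = 1 := pow_card_eq_one'
    rw [hcard] at h1
    have := congrArg Subtype.val h1
    simpa using this
  -- `(g ^ 2) ^ k` fixes `Γ` pointwise
  have hgk : (g ^ 2) ^ k ∈ PS G Γ := (PS G Γ).pow_mem hg2 k
  refine ⟨g ^ c, ?_⟩
  rw [mem_swapLifts]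
  have hgc : g ^ c = (g ^ 2) ^ k * g := by
    rw [hk, pow_succ, pow_mul]
  refine ⟨G.pow_mem hg c, ?_, ?_, ?_, ?_⟩
  · rw [← pow_mul, mul_comm, pow_mul]; exact hpow
  · rw [hgc, Perm.mul_apply, hga]; exact hgk.2 b hb
  · rw [hgc, Perm.mul_apply, hgb]; exact hgk.2 a ha
  · intro x hx hxa hxb
    rw [hgc, Perm.mul_apply, hgx x hx hxa hxb]; exact hgk.2 x hx

/-- NFIXSWAP -/
theorem nfix_swapLift {G : Subgroup (Perm α)} {t c r : ℕ} (h : Hyp0 G t c r) (hc : Odd c)
    (Γ : Finset α) (hΓ : Γ.card = t) (a b : α) (ha : a ∈ Γ) (hb : b ∈ Γ) (hab : a ≠ b)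
    {u : Perm α} (hu : u ∈ swapLifts G Γ a b) : nfix u = t - 2 + r % 2 := by
  rw [mem_swapLifts] at hu
  obtain ⟨huG, hu2, hua, hub, hux⟩ := hu
  have hu1 : u ≠ 1 := by
    intro h1
    rw [h1] at hua
    exact hab hua
  obtain ⟨hle, hpar⟩ := inv_nfix h hc huG hu2 hu1
  -- at least `t - 2` fixed points
  have hge : t - 2 ≤ nfix u := by
    have hsub : (Γ.erase a).erase b ⊆ Finset.univ.filter fun x => u x = x := by
      intro x hx
      rw [Finset.mem_erase, Finset.mem_erase] at hx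
      exact Finset.mem_filter.2 ⟨Finset.mem_univ _, hux x hx.2.2 hx.2.1 hx.1⟩
    have hcard : ((Γ.erase a).erase b).card = t - 2 := by
      rw [Finset.card_erase_of_mem (Finset.mem_erase.2 ⟨hab.symm, hb⟩), Finset.card_erase_of_mem ha, hΓ]
      omega
    have := Finset.card_le_card hsub
    rw [hcard] at this
    exact this
  have ht2 : 2 ≤ t := by
    have : ({a, b} : Finset α).card ≤ Γ.card := Finset.card_le_card (by
      intro x hx
      rw [Finset.mem_insert, Finset.mem_singleton] at hx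
      rcases hx with rfl | rfl
      · exact ha
      · exact hb)
    rw [Finset.card_pair hab, hΓ] at this
    exact this
  have hdeg := h.deg
  rw [hdeg] at hpar
  obtain ⟨k, hk⟩ := hc
  have hrc : (r * c + t) % 2 = (r + t) % 2 := by
    rw [hk]
    have : r * (2 * k + 1) + t = 2 * (r * k) + (r + t) := by ring
    rw [this, Nat.mul_add_mod]
  rw [hrc] at hpar
  omega

/-! ## copy of `Helper14.S0745L0PAIR` -/


/-- the involution fixing exactly `F ∪ {z}` -/
theorem swap_of_even_aux_inv {G : Subgroup (Perm α)} {t c r : ℕ} (h : Hyp0 G t c r) (hc : Even c)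
    (F : Finset α) (hF : F.card = t - 1) (z : α) (hz : z ∉ F) :
    ∃ v ∈ PS G F, v * v = 1 ∧ v ≠ 1 ∧ v z = z ∧ ∀ y, v y = y → y ∈ F ∨ y = z := by
  have ht := h.t_pos
  have hΓ : (insert z F).card = t := by rw [Finset.card_insert_of_notMem hz, hF]; omega
  have hcard := h.cardH _ hΓ
  have h2 : 2 ∣ Nat.card ↥(PS G (insert z F)) := by rw [hcard]; exact even_iff_two_dvd.1 hc
  have : Fact (Nat.Prime 2) := ⟨Nat.prime_two⟩
  obtain ⟨x, hx⟩ := exists_prime_orderOf_dvd_card' 2 h2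
  have hx2 : x ^ 2 = 1 := by rw [← hx]; exact pow_orderOf_eq_one x
  have hx1 : x ≠ 1 := by
    intro h1; rw [h1, orderOf_one] at hx; omega
  have hv2 : (x : Perm α) ^ 2 = 1 := by
    have := congrArg Subtype.val hx2
    simpa using this
  have hv1 : (x : Perm α) ≠ 1 := fun h1 => hx1 (Subtype.ext h1)
  have hvG : (x : Perm α) ∈ G := x.2.1
  have hvfix : ∀ y ∈ insert z F, (x : Perm α) y = y := x.2.2
  refine ⟨x, ⟨hvG, fun y hy => hvfix y (Finset.mem_insert_of_mem hy)⟩, by rw [← pow_two]; exact hv2, hv1,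
    hvfix z (Finset.mem_insert_self z F), ?_⟩
  intro y hy
  have hle := nfix_le h hvG hv1
  have hsub : insert z F ⊆ Finset.univ.filter fun y => (x : Perm α) y = y := by
    intro y hy
    exact Finset.mem_filter.2 ⟨Finset.mem_univ _, hvfix y hy⟩
  have heq := Finset.eq_of_subset_of_card_le hsub (by rw [hΓ]; exact hle)
  have : y ∈ insert z F := by
    rw [heq]; exact Finset.mem_filter.2 ⟨Finset.mem_univ _, hy⟩
  rw [Finset.mem_insert] at this
  rcases this with h1 | h1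
  · exact Or.inr h1
  · exact Or.inl h1

omit [Fintype α] [DecidableEq α] in
/-- an element of `PS G F` maps points outside `F` to points outside `F` -/
theorem swap_of_even_aux_image {G : Subgroup (Perm α)} {F : Finset α} {y : Perm α} (hy : y ∈ PS G F) {p : α}
    (hp : p ∉ F) : y p ∉ F := by
  intro hyp
  have h1 : y (y p) = y p := hy.2 _ hyp
  have h2 : y p = p := y.injective h1
  rw [h2] at hyp
  exact hp hyp

/-- L0PAIR -/
theorem swap_of_even {G : Subgroup (Perm α)} {t c r : ℕ} (h : Hyp0 G t c r) (hc : Even c)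
    (F : Finset α) (hF : F.card = t - 1) (p q : α) (hp : p ∉ F) (hq : q ∉ F) (hpq : p ≠ q) :
    ∃ g ∈ G, (∀ x ∈ F, g x = x) ∧ g p = q ∧ g q = p := by
  obtain ⟨v, hvF, hvv, hv1, hvp, hvfix⟩ := swap_of_even_aux_inv h hc F hF p hp
  obtain ⟨w, hwF, hww, hw1, hwq, hwfix⟩ := swap_of_even_aux_inv h hc F hF q hq
  have hvinv : v⁻¹ = v := inv_eq_of_mul_eq_one_right hvv
  have hwinv : w⁻¹ = w := inv_eq_of_mul_eq_one_right hww
  have hvd0 : v * (v * w) * v⁻¹ = (v * w)⁻¹ := by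
    rw [mul_inv_rev, hvinv, hwinv, ← mul_assoc, hvv, one_mul]
  have hwd0 : w * (v * w) * w⁻¹ = (v * w)⁻¹ := by
    rw [mul_inv_rev, hvinv, hwinv, mul_assoc, mul_assoc, hww, mul_one]
  obtain ⟨d, hd⟩ : ∃ d : Perm α, d = v * w := ⟨_, rfl⟩
  rw [← hd] at hvd0 hwd0
  have hdF : d ∈ PS G F := by rw [hd]; exact (PS G F).mul_mem hvF hwF
  have hdinv : d⁻¹ = w * v := by rw [hd, mul_inv_rev, hvinv, hwinv]
  have hvdj : ∀ j : ℕ, v * d ^ j * v⁻¹ = (d ^ j)⁻¹ := fun j => by rw [← conj_pow, hvd0, inv_pow]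
  have hwdj : ∀ j : ℕ, w * d ^ j * w⁻¹ = (d ^ j)⁻¹ := fun j => by rw [← conj_pow, hwd0, inv_pow]
  have hpos : 0 < orderOf d := orderOf_pos d
  rcases Nat.even_or_odd' (orderOf d) with ⟨j, hj | hj⟩
  · -- even order: the central involution fixes `p`, `q` and `F`
    exfalso
    have hj1 : 1 ≤ j := by omega
    obtain ⟨z', hz'⟩ : ∃ z' : Perm α, z' = d ^ j := ⟨_, rfl⟩
    have hz2 : z' * z' = 1 := by rw [hz', ← pow_add, ← two_mul, ← hj]; exact pow_orderOf_eq_one d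
    have hz1 : z' ≠ 1 := by rw [hz']; exact pow_ne_one_of_lt_orderOf (by omega) (by omega)
    have hzinv : z'⁻¹ = z' := inv_eq_of_mul_eq_one_right hz2
    have hzF : z' ∈ PS G F := by rw [hz']; exact (PS G F).pow_mem hdF j
    have hvz : v * z' = z' * v := by
      have := hvdj j
      rw [← hz', hzinv] at this
      exact mul_inv_eq_iff_eq_mul.1 this
    have hwz : w * z' = z' * w := by
      have := hwdj j
      rw [← hz', hzinv] at this
      exact mul_inv_eq_iff_eq_mul.1 this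
    have hzp : z' p = p := by
      have h1 : v (z' p) = z' p := by
        have := congrArg (fun f : Perm α => f p) hvz
        simp only [Perm.mul_apply] at this
        rw [this, hvp]
      rcases hvfix _ h1 with h2 | h2
      · exact absurd h2 (swap_of_even_aux_image hzF hp)
      · exact h2
    have hzq : z' q = q := by
      have h1 : w (z' q) = z' q := by
        have := congrArg (fun f : Perm α => f q) hwz
        simp only [Perm.mul_apply] at this
        rw [this, hwq]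
      rcases hwfix _ h1 with h2 | h2
      · exact absurd h2 (swap_of_even_aux_image hzF hq)
      · exact h2
    apply hz1
    refine h.semireg z' hzF.1 (insert p (insert q F)) ?_ ?_
    · rw [Finset.card_insert_of_notMem, Finset.card_insert_of_notMem hq, hF]
      · have := h.t_pos; omega
      · rw [Finset.mem_insert]; push Not; exact ⟨hpq, hp⟩
    · intro x hx
      rw [Finset.mem_insert, Finset.mem_insert] at hx
      rcases hx with rfl | rfl | hx
      · exact hzp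
      · exact hzq
      · exact hzF.2 x hx
  · -- odd order: the reflection `d ^ j * v` swaps `p` and `q`
    obtain ⟨y, hy⟩ : ∃ y : Perm α, y = d ^ j * v := ⟨_, rfl⟩
    have hyF : y ∈ PS G F := by rw [hy]; exact (PS G F).mul_mem ((PS G F).pow_mem hdF j) hvF
    have hvdj' : v * d ^ j = (d ^ j)⁻¹ * v := mul_inv_eq_iff_eq_mul.1 (hvdj j)
    have hy2 : y * y = 1 := by
      rw [hy]
      calc d ^ j * v * (d ^ j * v) = d ^ j * (v * d ^ j) * v := by simp only [mul_assoc]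
        _ = d ^ j * ((d ^ j)⁻¹ * v) * v := by rw [hvdj']
        _ = 1 := by rw [mul_inv_cancel_left, hvv]
    have hyinv : y⁻¹ = y := inv_eq_of_mul_eq_one_right hy2
    have hdd : d ^ j * d ^ j = d⁻¹ := by
      have h1 : d ^ (2 * j + 1) = 1 := by rw [← hj]; exact pow_orderOf_eq_one d
      rw [← pow_add, ← two_mul]
      rw [pow_succ] at h1
      exact eq_inv_of_mul_eq_one_left h1
    have hyv : y * v * y⁻¹ = w := by
      rw [hyinv, hy]
      calc d ^ j * v * v * (d ^ j * v) = d ^ j * (v * v) * (d ^ j * v) := by simp only [mul_assoc]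
        _ = (d ^ j * d ^ j) * v := by rw [hvv, mul_one, mul_assoc]
        _ = w := by rw [hdd, hdinv, mul_assoc, hvv, mul_one]
    have hwyp : w (y p) = y p := by
      rw [← hyv]
      simp only [Perm.mul_apply]
      rw [show y⁻¹ (y p) = p from by simp, hvp]
    have hyp : y p = q := by
      rcases hwfix _ hwyp with h2 | h2
      · exact absurd h2 (swap_of_even_aux_image hyF hp)
      · exact h2
    refine ⟨y, hyF.1, hyF.2, hyp, ?_⟩
    rw [← hyp]
    have := congrArg (fun f : Perm α => f p) hy2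
    simpa only [Perm.mul_apply, Perm.one_apply] using this

/-! ## copy of `Helper18.S0745NTAUCONST` -/


/-- conjugation by `g` maps the lifts for `(Γ, a, b)` to the lifts for `(Γ', g a, g b)` when `g Γ = Γ'` -/
theorem NTAUCONST_aux_conj {G : Subgroup (Perm α)} {Γ Γ' : Finset α} {a b : α} {g : Perm α} (hg : g ∈ G)
    (hΓ' : ∀ z' ∈ Γ', g⁻¹ z' ∈ Γ) {u : Perm α} (hu : u ∈ swapLifts G Γ a b) :
    g * u * g⁻¹ ∈ swapLifts G Γ' (g a) (g b) := by
  rw [mem_swapLifts] at hu ⊢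
  obtain ⟨huG, hu2, hab, hba, hfix⟩ := hu
  refine ⟨G.mul_mem (G.mul_mem hg huG) (G.inv_mem hg), ?_, ?_, ?_, ?_⟩
  · have : (g * u * g⁻¹) ^ 2 = g * u ^ 2 * g⁻¹ := by rw [pow_two, pow_two]; group
    rw [this, hu2]; group
  · simp [Perm.mul_apply, hab]
  · simp [Perm.mul_apply, hba]
  · intro x hx hxa hxb
    have h1 : g⁻¹ x ∈ Γ := hΓ' x hx
    have h2 : g⁻¹ x ≠ a := by
      intro h; apply hxa; rw [← h]; simp
    have h3 : g⁻¹ x ≠ b := by
      intro h; apply hxb; rw [← h]; simp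
    have h4 := hfix _ h1 h2 h3
    rw [Perm.mul_apply, Perm.mul_apply, h4]
    simp

/-- an equivalence between two finsets of the same size with two prescribed values -/
theorem NTAUCONST_aux_equiv {Γ Γ' : Finset α} (hcard : Γ.card = Γ'.card) {a b a' b' : α}
    (ha : a ∈ Γ) (hb : b ∈ Γ) (hab : a ≠ b) (ha' : a' ∈ Γ') (hb' : b' ∈ Γ') (hab' : a' ≠ b') :
    ∃ σ : {x // x ∈ Γ} ≃ {x // x ∈ Γ'}, σ ⟨a, ha⟩ = ⟨a', ha'⟩ ∧ σ ⟨b, hb⟩ = ⟨b', hb'⟩ := by
  classical
  let σ₀ : {x // x ∈ Γ} ≃ {x // x ∈ Γ'} := Finset.equivOfCardEq hcard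
  let σ₁ : {x // x ∈ Γ} ≃ {x // x ∈ Γ'} := σ₀.trans (Equiv.swap (σ₀ ⟨a, ha⟩) ⟨a', ha'⟩)
  have h1 : σ₁ ⟨a, ha⟩ = ⟨a', ha'⟩ := by simp [σ₁]
  let σ₂ : {x // x ∈ Γ} ≃ {x // x ∈ Γ'} := σ₁.trans (Equiv.swap (σ₁ ⟨b, hb⟩) ⟨b', hb'⟩)
  refine ⟨σ₂, ?_, ?_⟩
  · have hne1 : (⟨a', ha'⟩ : {x // x ∈ Γ'}) ≠ σ₁ ⟨b, hb⟩ := by
      rw [← h1]
      intro h
      have := σ₁.injective h
      exact hab (congrArg Subtype.val this)
    have hne2 : (⟨a', ha'⟩ : {x // x ∈ Γ'}) ≠ ⟨b', hb'⟩ := by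
      intro h; exact hab' (congrArg Subtype.val h)
    simp only [σ₂, Equiv.trans_apply, h1]
    exact Equiv.swap_apply_of_ne_of_ne hne1 hne2
  · simp [σ₂]

/-- NTAUCONST -/
theorem card_swapLifts_const {G : Subgroup (Perm α)} {t c r : ℕ} (h : Hyp0 G t c r)
    (Γ Γ' : Finset α) (hΓ : Γ.card = t) (hΓ' : Γ'.card = t) (a b a' b' : α)
    (ha : a ∈ Γ) (hb : b ∈ Γ) (hab : a ≠ b) (ha' : a' ∈ Γ') (hb' : b' ∈ Γ') (hab' : a' ≠ b') :
    (swapLifts G Γ a b).card = (swapLifts G Γ' a' b').card := by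
  classical
  obtain ⟨σ, hσa, hσb⟩ := NTAUCONST_aux_equiv (hΓ.trans hΓ'.symm) ha hb hab ha' hb' hab'
  let e : Fin t ≃ {x // x ∈ Γ} := (finCongr hΓ.symm).trans Γ.equivFin.symm
  let x : Fin t ↪ α := e.toEmbedding.trans (Function.Embedding.subtype _)
  let y : Fin t ↪ α := (e.trans σ).toEmbedding.trans (Function.Embedding.subtype _)
  obtain ⟨g, hg, hgxy⟩ := h.trans x y
  have hgσ : ∀ z : {x // x ∈ Γ}, g (z : α) = (σ z : α) := by
    intro z
    have := hgxy (e.symm z)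
    simpa [x, y] using this
  have hga : g a = a' := by
    have := hgσ ⟨a, ha⟩
    rw [hσa] at this
    exact this
  have hgb : g b = b' := by
    have := hgσ ⟨b, hb⟩
    rw [hσb] at this
    exact this
  have hmap : ∀ z ∈ Γ, g z ∈ Γ' := by
    intro z hz
    rw [hgσ ⟨z, hz⟩]
    exact (σ ⟨z, hz⟩).2
  have hmap' : ∀ z' ∈ Γ', g⁻¹ z' ∈ Γ := by
    intro z' hz'
    have h1 := hgσ (σ.symm ⟨z', hz'⟩)
    rw [Equiv.apply_symm_apply] at h1
    have h2 : g⁻¹ z' = ((σ.symm ⟨z', hz'⟩ : {x // x ∈ Γ}) : α) := by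
      rw [Perm.inv_eq_iff_eq]
      exact h1.symm
    rw [h2]
    exact (σ.symm ⟨z', hz'⟩).2
  have hga' : g⁻¹ a' = a := by rw [Perm.inv_eq_iff_eq]; exact hga.symm
  have hgb' : g⁻¹ b' = b := by rw [Perm.inv_eq_iff_eq]; exact hgb.symm
  apply Finset.card_nbij' (fun u => g * u * g⁻¹) (fun v => g⁻¹ * v * g)
  · intro u hu
    have := NTAUCONST_aux_conj hg hmap' hu
    rwa [hga, hgb] at this
  · intro v hv
    have := NTAUCONST_aux_conj (Γ := Γ') (Γ' := Γ) (G.inv_mem hg) (by simpa using hmap) hv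
    rw [hga', hgb'] at this
    simpa using this
  · intro u _
    simp only
    group
  · intro v _
    simp only
    group

/-! ## copy of `Helper18.S0745NTAUODDcore` -/


/-- NTAUODD (core) -/
theorem NTAUODD_aux_core {G : Subgroup (Perm α)} {t c r : ℕ} (h : Hyp0 G t c r)
    (Γ : Finset α) (hΓ : Γ.card = t) (a b : α) (ha : a ∈ Γ) (hb : b ∈ Γ) (hab : a ≠ b)
    {u₀ : Perm α} (hu₀ : u₀ ∈ swapLifts G Γ a b) (hn : nfix u₀ = t - 1) :
    c ≤ (swapLifts G Γ a b).card := by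
  classical
  obtain ⟨hu₀G, hu₀2, hu₀a, hu₀b, hu₀fix⟩ := mem_swapLifts.1 hu₀
  -- `t ≥ 2`
  have ht2 : 2 ≤ t := by
    rw [← hΓ]
    have : ({a, b} : Finset α) ⊆ Γ := by
      intro z hz
      simp only [Finset.mem_insert, Finset.mem_singleton] at hz
      rcases hz with rfl | rfl
      · exact ha
      · exact hb
    calc 2 = ({a, b} : Finset α).card := (Finset.card_pair hab).symm
      _ ≤ Γ.card := Finset.card_le_card this
  -- the fixed points of `u₀`
  set S : Finset α := Finset.univ.filter fun x => u₀ x = x with hS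
  have hScard : S.card = t - 1 := hn
  set Γ₀ : Finset α := (Γ.erase a).erase b with hΓ₀
  have hΓ₀card : Γ₀.card = t - 2 := by
    rw [hΓ₀, Finset.card_erase_of_mem (Finset.mem_erase.2 ⟨hab.symm, hb⟩),
      Finset.card_erase_of_mem ha, hΓ]
    omega
  have hΓ₀S : Γ₀ ⊆ S := by
    intro z hz
    rw [hΓ₀, Finset.mem_erase, Finset.mem_erase] at hz
    rw [hS, Finset.mem_filter]
    exact ⟨Finset.mem_univ _, hu₀fix z hz.2.2 hz.2.1 hz.1⟩
  have hdiff : (S \ Γ₀).card = 1 := by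
    rw [Finset.card_sdiff_of_subset hΓ₀S, hScard, hΓ₀card]
    omega
  have hnotΓ : ∀ z ∈ S, z ∉ Γ₀ → z ∉ Γ := by
    intro z hzS hz0 hzΓ
    rw [hS, Finset.mem_filter] at hzS
    apply hz0
    rw [hΓ₀, Finset.mem_erase, Finset.mem_erase]
    refine ⟨?_, ?_, hzΓ⟩
    · rintro rfl
      rw [hu₀b] at hzS
      exact hab hzS.2
    · rintro rfl
      rw [hu₀a] at hzS
      exact hab hzS.2.symm
  obtain ⟨x₀, hx₀⟩ := Finset.card_pos.1 (by rw [hdiff]; exact one_pos : 0 < (S \ Γ₀).card)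
  rw [Finset.mem_sdiff] at hx₀
  have hx₀Γ : x₀ ∉ Γ := hnotΓ x₀ hx₀.1 hx₀.2
  have hx₀fix : u₀ x₀ = x₀ := by
    have := hx₀.1
    rw [hS, Finset.mem_filter] at this
    exact this.2
  have huniq : ∀ x₁ : α, u₀ x₁ = x₁ → x₁ ∉ Γ → x₁ = x₀ := by
    intro x₁ h1 h2
    have hx₁ : x₁ ∈ S \ Γ₀ := by
      rw [Finset.mem_sdiff, hS, Finset.mem_filter]
      refine ⟨⟨Finset.mem_univ _, h1⟩, fun h3 => h2 ?_⟩
      rw [hΓ₀, Finset.mem_erase, Finset.mem_erase] at h3
      exact h3.2.2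
    exact Finset.card_le_one.1 hdiff.le x₁ hx₁ x₀ (Finset.mem_sdiff.2 hx₀)
  -- the injection
  rw [← h.cardH Γ hΓ, Nat.card_eq_fintype_card, ← Finset.card_univ]
  apply Finset.card_le_card_of_injOn (fun k : ↥(PS G Γ) => (k : Perm α) * u₀ * (k : Perm α)⁻¹)
  · intro k _
    have hk := mem_PS.1 k.2
    have hmap : ∀ z' ∈ Γ, (k : Perm α)⁻¹ z' ∈ Γ := by
      intro z' hz'
      have : (k : Perm α)⁻¹ z' = z' := by
        rw [Perm.inv_eq_iff_eq]; exact (hk.2 z' hz').symm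
      rw [this]; exact hz'
    have := NTAUCONST_aux_conj (Γ := Γ) (Γ' := Γ) hk.1 hmap hu₀
    rw [hk.2 a ha, hk.2 b hb] at this
    exact this
  · intro k _ k' _ hkk'
    simp only at hkk'
    have hk := mem_PS.1 k.2
    have hk' := mem_PS.1 k'.2
    set m : Perm α := (k' : Perm α)⁻¹ * (k : Perm α) with hm
    have hmPS : m ∈ PS G Γ := (PS G Γ).mul_mem ((PS G Γ).inv_mem k'.2) k.2
    have hcomm : m * u₀ = u₀ * m := by
      have h1 : (k' : Perm α)⁻¹ * ((k : Perm α) * u₀ * (k : Perm α)⁻¹) * (k : Perm α) =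
          (k' : Perm α)⁻¹ * ((k' : Perm α) * u₀ * (k' : Perm α)⁻¹) * (k : Perm α) := by rw [hkk']
      rw [hm]
      calc (k' : Perm α)⁻¹ * (k : Perm α) * u₀
          = (k' : Perm α)⁻¹ * ((k : Perm α) * u₀ * (k : Perm α)⁻¹) * (k : Perm α) := by group
        _ = (k' : Perm α)⁻¹ * ((k' : Perm α) * u₀ * (k' : Perm α)⁻¹) * (k : Perm α) := h1
        _ = u₀ * ((k' : Perm α)⁻¹ * (k : Perm α)) := by group
    have hmfix := (mem_PS.1 hmPS).2
    have hmx₀ : m x₀ = x₀ := by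
      apply huniq
      · have := congrArg (fun σ : Perm α => σ x₀) hcomm
        simp only [Perm.mul_apply, hx₀fix] at this
        exact this.symm
      · intro hmem
        apply hx₀Γ
        have h2 := hmfix _ hmem
        have h3 : m x₀ = x₀ := m.injective h2
        rw [← h3]; exact hmem
    have hm1 : m = 1 := by
      apply h.semireg m (mem_PS.1 hmPS).1 (insert x₀ Γ)
      · rw [Finset.card_insert_of_notMem hx₀Γ, hΓ]
      · intro z hz
        rw [Finset.mem_insert] at hz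
        rcases hz with rfl | hz
        · exact hmx₀
        · exact hmfix z hz
    apply Subtype.ext
    have : (k : Perm α) = (k' : Perm α) * m := by rw [hm]; group
    rw [this, hm1, mul_one]

/-! ## copy of `Helper18.S0745NTAUODD` -/


/-- NTAUODD -/
theorem le_card_swapLifts {G : Subgroup (Perm α)} {t c r : ℕ} (h : Hyp0 G t c r) (hc : Odd c)
    (hr : Odd r) (Γ : Finset α) (hΓ : Γ.card = t) (a b : α) (ha : a ∈ Γ) (hb : b ∈ Γ)
    (hab : a ≠ b) : c ≤ (swapLifts G Γ a b).card := by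
  obtain ⟨u₀, hu₀⟩ := exists_lift h hc Γ hΓ a b ha hb hab
  have hn := nfix_swapLift h hc Γ hΓ a b ha hb hab hu₀
  have ht2 : 2 ≤ t := by
    classical
    rw [← hΓ]
    have : ({a, b} : Finset α) ⊆ Γ := by
      intro z hz
      simp only [Finset.mem_insert, Finset.mem_singleton] at hz
      rcases hz with rfl | rfl
      · exact ha
      · exact hb
    calc 2 = ({a, b} : Finset α).card := (Finset.card_pair hab).symm
      _ ≤ Γ.card := Finset.card_le_card this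
  have hr1 : r % 2 = 1 := Nat.odd_iff.1 hr
  rw [hr1] at hn
  exact NTAUODD_aux_core h Γ hΓ a b ha hb hab hu₀ (by omega)

/-! ## copy of `Helper9.S0745COSETLE` -/


open Classical in
/-- COSETLE -/
theorem card_agree_le {G : Subgroup (Perm α)} {t c r : ℕ} (h : Hyp0 G t c r) (Γ : Finset α)
    (hΓ : Γ.card = t) (φ : α → α) :
    (Finset.univ.filter fun g : Perm α => g ∈ G ∧ ∀ x ∈ Γ, g x = φ x).card ≤ c := by
  obtain ⟨HF, hHF, hcardH⟩ := card_SS_aux_finset (PS G Γ)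
  rw [h.cardH Γ hΓ] at hcardH
  rw [hcardH]
  rcases Finset.eq_empty_or_nonempty
      (Finset.univ.filter fun g : Perm α => g ∈ G ∧ ∀ x ∈ Γ, g x = φ x) with he | ⟨g₀, hg₀⟩
  · rw [he]
    exact Nat.zero_le _
  · rw [Finset.mem_filter] at hg₀
    obtain ⟨-, hg₀G, hg₀φ⟩ := hg₀
    refine Finset.card_le_card_of_injOn (fun g => g₀⁻¹ * g) ?_ ?_
    · intro g hg
      rw [Finset.mem_coe, Finset.mem_filter] at hg
      obtain ⟨-, hgG, hgφ⟩ := hg
      rw [Finset.mem_coe, hHF]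
      refine ⟨G.mul_mem (G.inv_mem hg₀G) hgG, fun x hx => ?_⟩
      rw [Perm.mul_apply, hgφ x hx, ← hg₀φ x hx]
      simp
    · intro g _ g' _ hgg
      exact mul_left_cancel hgg

/-! ## copy of `Helper9.S0745COUNTAcore` -/


open Classical in
/-- COUNTA, core. -/
theorem countA_aux_core {G : Subgroup (Perm α)} {t r : ℕ} (N : ℕ)
    (hPA : ∀ u : Perm α, u ^ 2 = 1 →
      (Finset.univ.filter fun τ : Finset α × α × α =>
        τ.1.card = t ∧ τ.2.1 ∈ τ.1 ∧ τ.2.2 ∈ τ.1 ∧ τ.2.1 ≠ τ.2.2 ∧ u τ.2.1 = τ.2.2 ∧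
          ∀ x ∈ τ.1, x ≠ τ.2.1 → x ≠ τ.2.2 → u x = x).card
        = (Fintype.card α - nfix u) * (nfix u).choose (t - 2))
    (hF2 : (Finset.univ.filter fun τ : Finset α × α × α =>
        τ.1.card = t ∧ τ.2.1 ∈ τ.1 ∧ τ.2.2 ∈ τ.1 ∧ τ.2.1 ≠ τ.2.2).card
        = (Fintype.card α).choose t * (t * (t - 1)))
    (hNF : ∀ (Γ : Finset α), Γ.card = t → ∀ a b : α, a ∈ Γ → b ∈ Γ → a ≠ b →
      ∀ u : Perm α, u ∈ swapLifts G Γ a b → nfix u = t - 2 + r % 2)
    (hN : ∀ (Γ : Finset α) (a b : α), Γ.card = t → a ∈ Γ → b ∈ Γ → a ≠ b →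
      (swapLifts G Γ a b).card = N) :
    (invF G (t - 2 + r % 2)).card *
        ((Fintype.card α - (t - 2 + r % 2)) * (t - 2 + r % 2).choose (t - 2))
      = (Fintype.card α).choose t * (t * (t - 1)) * N := by
  set f₀ := t - 2 + r % 2 with hf₀
  -- the incidence relation
  let R : Perm α → Finset α × α × α → Prop := fun u τ =>
    τ.1.card = t ∧ τ.2.1 ∈ τ.1 ∧ τ.2.2 ∈ τ.1 ∧ τ.2.1 ≠ τ.2.2 ∧ u τ.2.1 = τ.2.2 ∧
      ∀ x ∈ τ.1, x ≠ τ.2.1 → x ≠ τ.2.2 → u x = x
  have hdc := Finset.sum_card_bipartiteAbove_eq_sum_card_bipartiteBelow (s := invF G f₀)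
    (t := (Finset.univ : Finset (Finset α × α × α))) R
  -- left side
  have hL : ∀ u ∈ invF G f₀, ((Finset.univ : Finset (Finset α × α × α)).bipartiteAbove R u).card
      = (Fintype.card α - f₀) * f₀.choose (t - 2) := by
    intro u hu
    rw [mem_invF] at hu
    obtain ⟨-, hu2, -, hnf⟩ := hu
    have := hPA u hu2
    rw [hnf] at this
    exact this
  rw [Finset.sum_congr rfl hL, Finset.sum_const, smul_eq_mul] at hdc
  rw [hdc]
  -- right side
  have hRt : ∀ τ ∈ (Finset.univ : Finset (Finset α × α × α)),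
      ((invF G f₀).bipartiteBelow R τ).card =
        if (τ.1.card = t ∧ τ.2.1 ∈ τ.1 ∧ τ.2.2 ∈ τ.1 ∧ τ.2.1 ≠ τ.2.2) then N else 0 := by
    rintro ⟨Γ, a, b⟩ -
    split_ifs with hfl
    · obtain ⟨hΓ, ha, hb, hab⟩ := hfl
      dsimp only at hΓ ha hb hab
      rw [← hN Γ a b hΓ ha hb hab]
      congr 1
      ext u
      rw [Finset.mem_bipartiteBelow, mem_invF, mem_swapLifts]
      constructor
      · rintro ⟨⟨huG, hu2, -, -⟩, -, -, -, -, hua, hfix⟩
        dsimp only at hua hfix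
        refine ⟨huG, hu2, hua, ?_, hfix⟩
        have : u (u a) = a := by
          have h2 := congrArg (fun σ : Perm α => σ a) hu2
          simpa [sq, Perm.mul_apply] using h2
        rw [hua] at this
        exact this
      · intro hu
        have hmem : u ∈ swapLifts G Γ a b := mem_swapLifts.mpr hu
        obtain ⟨huG, hu2, hua, hub, hfix⟩ := hu
        refine ⟨⟨huG, hu2, ?_, hNF Γ hΓ a b ha hb hab u hmem⟩, hΓ, ha, hb, hab, hua, hfix⟩
        rintro rfl
        exact hab (by simpa using hua)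
    · rw [Finset.card_eq_zero, Finset.eq_empty_iff_forall_notMem]
      intro u hu
      rw [Finset.mem_bipartiteBelow] at hu
      obtain ⟨-, h1, h2, h3, h4, -⟩ := hu
      exact hfl ⟨h1, h2, h3, h4⟩
  rw [Finset.sum_congr rfl hRt, ← Finset.sum_filter, Finset.sum_const, smul_eq_mul, hF2]

/-! ## copy of `Helper9.S0745COUNTA` -/


/-- COUNTA -/
theorem countA {G : Subgroup (Perm α)} {t c r : ℕ} (h : Hyp0 G t c r) (hc : Odd c) (ht : 2 ≤ t)
    (N : ℕ)
    (hN : ∀ (Γ : Finset α) (a b : α), Γ.card = t → a ∈ Γ → b ∈ Γ → a ≠ b →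
      (swapLifts G Γ a b).card = N) :
    (invF G (t - 2 + r % 2)).card *
        ((Fintype.card α - (t - 2 + r % 2)) * (t - 2 + r % 2).choose (t - 2))
      = (Fintype.card α).choose t * (t * (t - 1)) * N :=
  countA_aux_core (r := r) N (fun u hu => pure_countA u hu t ht) (card_flags2 t)
    (fun Γ hΓ a b ha hb hab _ hu => nfix_swapLift h hc Γ hΓ a b ha hb hab hu) hN

/-! ## copy of `Helper9.S0745COUNTBcore` -/


omit [Fintype α] [DecidableEq α] in
/-- an involution maps `u a` back to `a` -/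
theorem countB_aux_inv {u : Perm α} (hu2 : u ^ 2 = 1) {a b : α} (hua : u a = b) : u b = a := by
  have h2 := congrArg (fun σ : Perm α => σ a) hu2
  have : u (u a) = a := by simpa [sq, Perm.mul_apply] using h2
  rwa [hua] at this

open Classical in
/-- COUNTB, core. -/
theorem countB_aux_core {G : Subgroup (Perm α)} {t c r : ℕ} (h : Hyp0 G t c r)
    (hPB : ∀ u : Perm α, u ^ 2 = 1 →
      (Finset.univ.filter fun τ : Finset α × α × α × α × α =>
        τ.1.card = t ∧ τ.2.1 ∈ τ.1 ∧ τ.2.2.1 ∈ τ.1 ∧ τ.2.2.2.1 ∈ τ.1 ∧ τ.2.2.2.2 ∈ τ.1 ∧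
          τ.2.1 ≠ τ.2.2.1 ∧ τ.2.1 ≠ τ.2.2.2.1 ∧ τ.2.1 ≠ τ.2.2.2.2 ∧ τ.2.2.1 ≠ τ.2.2.2.1 ∧
          τ.2.2.1 ≠ τ.2.2.2.2 ∧ τ.2.2.2.1 ≠ τ.2.2.2.2 ∧
          u τ.2.1 = τ.2.2.1 ∧ u τ.2.2.2.1 = τ.2.2.2.2 ∧
          ∀ x ∈ τ.1, x ≠ τ.2.1 → x ≠ τ.2.2.1 → x ≠ τ.2.2.2.1 → x ≠ τ.2.2.2.2 → u x = x).card
        = (Fintype.card α - nfix u) * (Fintype.card α - nfix u - 2) * (nfix u).choose (t - 4))
    (hF4 : (Finset.univ.filter fun τ : Finset α × α × α × α × α =>
        τ.1.card = t ∧ τ.2.1 ∈ τ.1 ∧ τ.2.2.1 ∈ τ.1 ∧ τ.2.2.2.1 ∈ τ.1 ∧ τ.2.2.2.2 ∈ τ.1 ∧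
          τ.2.1 ≠ τ.2.2.1 ∧ τ.2.1 ≠ τ.2.2.2.1 ∧ τ.2.1 ≠ τ.2.2.2.2 ∧ τ.2.2.1 ≠ τ.2.2.2.1 ∧
          τ.2.2.1 ≠ τ.2.2.2.2 ∧ τ.2.2.2.1 ≠ τ.2.2.2.2).card
        = (Fintype.card α).choose t * (t * (t - 1) * (t - 2) * (t - 3))) :
    (invF G (t - 2 + r % 2)).card *
        ((Fintype.card α - (t - 2 + r % 2)) * (Fintype.card α - (t - 2 + r % 2) - 2) *
          (t - 2 + r % 2).choose (t - 4))
      ≤ (Fintype.card α).choose t * (t * (t - 1) * (t - 2) * (t - 3)) * c := by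
  set f₀ := t - 2 + r % 2 with hf₀
  -- the incidence relation (kept opaque, so that all decidability instances are the classical one)
  obtain ⟨R, hR⟩ : ∃ R : Perm α → Finset α × α × α × α × α → Prop, ∀ u τ, R u τ ↔
      (τ.1.card = t ∧ τ.2.1 ∈ τ.1 ∧ τ.2.2.1 ∈ τ.1 ∧ τ.2.2.2.1 ∈ τ.1 ∧ τ.2.2.2.2 ∈ τ.1 ∧
      τ.2.1 ≠ τ.2.2.1 ∧ τ.2.1 ≠ τ.2.2.2.1 ∧ τ.2.1 ≠ τ.2.2.2.2 ∧ τ.2.2.1 ≠ τ.2.2.2.1 ∧
      τ.2.2.1 ≠ τ.2.2.2.2 ∧ τ.2.2.2.1 ≠ τ.2.2.2.2 ∧
      u τ.2.1 = τ.2.2.1 ∧ u τ.2.2.2.1 = τ.2.2.2.2 ∧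
      ∀ x ∈ τ.1, x ≠ τ.2.1 → x ≠ τ.2.2.1 → x ≠ τ.2.2.2.1 → x ≠ τ.2.2.2.2 → u x = x) :=
    ⟨_, fun _ _ => Iff.rfl⟩
  have hdc := Finset.sum_card_bipartiteAbove_eq_sum_card_bipartiteBelow (s := invF G f₀)
    (t := (Finset.univ : Finset (Finset α × α × α × α × α))) R
  -- left side
  have hL : ∀ u ∈ invF G f₀,
      ((Finset.univ : Finset (Finset α × α × α × α × α)).bipartiteAbove R u).card
      = (Fintype.card α - f₀) * (Fintype.card α - f₀ - 2) * f₀.choose (t - 4) := by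
    intro u hu
    rw [mem_invF] at hu
    obtain ⟨-, hu2, -, hnf⟩ := hu
    have := hPB u hu2
    rw [hnf] at this
    rw [← this]
    congr 1
    ext τ
    rw [Finset.mem_bipartiteAbove, Finset.mem_filter, hR]
  rw [Finset.sum_congr rfl hL, Finset.sum_const, smul_eq_mul] at hdc
  rw [hdc]
  -- right side
  have hRt : ∀ τ ∈ (Finset.univ : Finset (Finset α × α × α × α × α)),
      ((invF G f₀).bipartiteBelow R τ).card ≤
        if (τ.1.card = t ∧ τ.2.1 ∈ τ.1 ∧ τ.2.2.1 ∈ τ.1 ∧ τ.2.2.2.1 ∈ τ.1 ∧ τ.2.2.2.2 ∈ τ.1 ∧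
          τ.2.1 ≠ τ.2.2.1 ∧ τ.2.1 ≠ τ.2.2.2.1 ∧ τ.2.1 ≠ τ.2.2.2.2 ∧ τ.2.2.1 ≠ τ.2.2.2.1 ∧
          τ.2.2.1 ≠ τ.2.2.2.2 ∧ τ.2.2.2.1 ≠ τ.2.2.2.2) then c else 0 := by
    rintro ⟨Γ, a, b, d, e⟩ -
    split_ifs with hfl
    · obtain ⟨hΓ, ha, hb, hd, he, hab, had, hae, hbd, hbe, hde⟩ := hfl
      dsimp only at hΓ ha hb hd he hab had hae hbd hbe hde
      -- all candidates agree on `Γ` with the map `φ`
      let φ : α → α := fun x =>
        if x = a then b else if x = b then a else if x = d then e else if x = e then d else x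
      refine le_trans (Finset.card_le_card ?_) (card_agree_le h Γ hΓ φ)
      intro u hu
      rw [Finset.mem_bipartiteBelow, mem_invF, hR] at hu
      obtain ⟨⟨huG, hu2, -, -⟩, -, -, -, -, -, -, -, -, -, -, -, hua, hud, hfix⟩ := hu
      dsimp only at hua hud hfix
      rw [Finset.mem_filter]
      refine ⟨Finset.mem_univ _, huG, fun x hx => ?_⟩
      show u x = φ x
      by_cases hxa : x = a
      · subst hxa
        simp only [φ, if_true]
        exact hua
      by_cases hxb : x = b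
      · subst hxb
        simp only [φ, if_neg hxa, if_true]
        exact countB_aux_inv hu2 hua
      by_cases hxd : x = d
      · subst hxd
        simp only [φ, if_neg hxa, if_neg hxb, if_true]
        exact hud
      by_cases hxe : x = e
      · subst hxe
        simp only [φ, if_neg hxa, if_neg hxb, if_neg hxd, if_true]
        exact countB_aux_inv hu2 hud
      · simp only [φ, if_neg hxa, if_neg hxb, if_neg hxd, if_neg hxe]
        exact hfix x hx hxa hxb hxd hxe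
    · rw [Nat.le_zero, Finset.card_eq_zero, Finset.eq_empty_iff_forall_notMem]
      intro u hu
      rw [Finset.mem_bipartiteBelow, hR] at hu
      obtain ⟨-, h1, h2, h3, h4, h5, h6, h7, h8, h9, h10, h11, -⟩ := hu
      exact hfl ⟨h1, h2, h3, h4, h5, h6, h7, h8, h9, h10, h11⟩
  refine le_trans (Finset.sum_le_sum hRt) ?_
  rw [← Finset.sum_filter, Finset.sum_const, smul_eq_mul, hF4]

/-! ## copy of `Helper9.S0745COUNTB` -/


/-- COUNTB -/
theorem countB {G : Subgroup (Perm α)} {t c r : ℕ} (h : Hyp0 G t c r) (_hc : Odd c) (ht : 4 ≤ t) :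
    (invF G (t - 2 + r % 2)).card *
        ((Fintype.card α - (t - 2 + r % 2)) * (Fintype.card α - (t - 2 + r % 2) - 2) *
          (t - 2 + r % 2).choose (t - 4))
      ≤ (Fintype.card α).choose t * (t * (t - 1) * (t - 2) * (t - 3)) * c :=
  countB_aux_core h (fun u hu => pure_countB u hu t ht) (card_flags4 t)

/-! ## copy of `Helper23.S0745COUNTODDcore` -/


theorem COUNTODD_aux_core {G : Subgroup (Perm α)} {t c r : ℕ} (h : Hyp0 G t c r) (hc : Odd c)
    (ht : 4 ≤ t) (hr : Odd r)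
    (hcountA : ∀ (N : ℕ),
      (∀ (Γ : Finset α) (a b : α), Γ.card = t → a ∈ Γ → b ∈ Γ → a ≠ b →
        (swapLifts G Γ a b).card = N) →
      (invF G (t - 2 + r % 2)).card *
          ((Fintype.card α - (t - 2 + r % 2)) * (t - 2 + r % 2).choose (t - 2))
        = (Fintype.card α).choose t * (t * (t - 1)) * N)
    (hcountB : (invF G (t - 2 + r % 2)).card *
        ((Fintype.card α - (t - 2 + r % 2)) * (Fintype.card α - (t - 2 + r % 2) - 2) *
          (t - 2 + r % 2).choose (t - 4))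
      ≤ (Fintype.card α).choose t * (t * (t - 1) * (t - 2) * (t - 3)) * c)
    (harith : ∀ (n U N C : ℕ), 1 ≤ c → c ≤ N → n = r * c + t → 0 < C →
      U * ((n - (t - 2 + r % 2)) * (t - 2 + r % 2).choose (t - 2)) = C * (t * (t - 1)) * N →
      U * ((n - (t - 2 + r % 2)) * (n - (t - 2 + r % 2) - 2) * (t - 2 + r % 2).choose (t - 4))
        ≤ C * (t * (t - 1) * (t - 2) * (t - 3)) * c → r * c ≤ 7) : r * c ≤ 7 := by
  classical
  have hn : Fintype.card α = r * c + t := h.deg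
  -- a `t`-set with two distinct points
  obtain ⟨Γ, -, hΓ⟩ := Finset.exists_subset_card_eq (s := (Finset.univ : Finset α)) (n := t)
    (by rw [Finset.card_univ, hn]; omega)
  have h2 : 1 < Γ.card := by rw [hΓ]; omega
  obtain ⟨a, ha, b, hb, hab⟩ := Finset.one_lt_card.1 h2
  have hconst : ∀ (Γ' : Finset α) (a' b' : α), Γ'.card = t → a' ∈ Γ' → b' ∈ Γ' → a' ≠ b' →
      (swapLifts G Γ' a' b').card = (swapLifts G Γ a b).card := by
    intro Γ' a' b' hΓ' ha' hb' hab'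
    exact card_swapLifts_const h Γ' Γ hΓ' hΓ a' b' a b ha' hb' hab' ha hb hab
  have hcN : c ≤ (swapLifts G Γ a b).card := le_card_swapLifts h hc hr Γ hΓ a b ha hb hab
  have hc1 : 1 ≤ c := hc.pos
  have hC : 0 < (Fintype.card α).choose t := Nat.choose_pos (by rw [hn]; omega)
  exact harith (Fintype.card α) _ _ _ hc1 hcN hn hC (hcountA _ hconst) hcountB

/-! ## copy of `Helper23.S0745COUNTODD` -/


theorem COUNTODD_aux_choose3 (m : ℕ) : 6 * (m + 3).choose m = (m + 3) * (m + 2) * (m + 1) := by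
  have h1 : (m + 3).choose m = (m + 3).choose 3 := by
    have := Nat.choose_symm (by omega : 3 ≤ m + 3)
    rw [show m + 3 - 3 = m by omega] at this
    exact this
  have h2 := Nat.descFactorial_eq_factorial_mul_choose (m + 3) 3
  rw [h1]
  have h3 : (m + 3).descFactorial 3 = (m + 3) * (m + 2) * (m + 1) := by
    simp [Nat.descFactorial_succ]
    ring
  rw [h3] at h2
  have : Nat.factorial 3 = 6 := by decide
  rw [this] at h2
  omega

theorem COUNTODD_aux_arith (t c r n U N C : ℕ) (ht : 4 ≤ t) (hc : 1 ≤ c) (hNc : c ≤ N)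
    (hro : Odd r) (hn : n = r * c + t) (hC : 0 < C)
    (hA : U * ((n - (t - 2 + r % 2)) * (t - 2 + r % 2).choose (t - 2)) = C * (t * (t - 1)) * N)
    (hB : U * ((n - (t - 2 + r % 2)) * (n - (t - 2 + r % 2) - 2) * (t - 2 + r % 2).choose (t - 4))
      ≤ C * (t * (t - 1) * (t - 2) * (t - 3)) * c) : r * c ≤ 7 := by
  obtain ⟨m, rfl⟩ : ∃ m, t = m + 4 := ⟨t - 4, by omega⟩
  have hr2 : r % 2 = 1 := Nat.odd_iff.1 hro
  have hrpos : 1 ≤ r := hro.pos
  have hrc : 1 ≤ r * c := Nat.one_le_iff_ne_zero.2 (Nat.mul_ne_zero (by omega) (by omega))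
  obtain ⟨k, hk⟩ : ∃ k, r * c = k + 1 := ⟨r * c - 1, by omega⟩
  have e1 : m + 4 - 2 + r % 2 = m + 3 := by omega
  have e2 : n - (m + 3) = k + 2 := by omega
  have e3 : m + 4 - 2 = m + 2 := by omega
  have e4 : m + 4 - 4 = m := by omega
  have e5 : k + 2 - 2 = k := by omega
  have e6 : m + 4 - 1 = m + 3 := by omega
  have e7 : m + 4 - 3 = m + 1 := by omega
  rw [e1, e2, e3, e6] at hA
  rw [e1, e2, e4, e5, e6, e3, e7] at hB
  have hch : (m + 3).choose (m + 2) = m + 3 := by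
    have := Nat.choose_symm (by omega : 1 ≤ m + 3)
    rw [show m + 3 - 1 = m + 2 by omega] at this
    rw [this]
    simp
  rw [hch] at hA
  -- `U (k+2) = C (m+4) N`
  have hA' : U * (k + 2) = C * (m + 4) * N := by
    have : (U * (k + 2)) * (m + 3) = (C * (m + 4) * N) * (m + 3) := by
      calc (U * (k + 2)) * (m + 3) = U * ((k + 2) * (m + 3)) := by ring
        _ = C * ((m + 4) * (m + 3)) * N := hA
        _ = (C * (m + 4) * N) * (m + 3) := by ring
    exact Nat.eq_of_mul_eq_mul_right (by omega) this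
  have h6 := COUNTODD_aux_choose3 m
  -- multiply `hB` by 6
  have hB6 : (C * (m + 4) * N) * k * ((m + 3) * (m + 2) * (m + 1)) ≤
      6 * (C * ((m + 4) * (m + 3) * (m + 2) * (m + 1)) * c) := by
    calc (C * (m + 4) * N) * k * ((m + 3) * (m + 2) * (m + 1))
        = 6 * (U * ((k + 2) * k * (m + 3).choose m)) := by
          rw [← hA', ← h6]; ring
      _ ≤ 6 * (C * ((m + 4) * (m + 3) * (m + 2) * (m + 1)) * c) := Nat.mul_le_mul_left 6 hB
  have hpos : 0 < C * (m + 4) * ((m + 3) * (m + 2) * (m + 1)) := by positivity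
  have hNk : N * k ≤ 6 * c := by
    have : (C * (m + 4) * ((m + 3) * (m + 2) * (m + 1))) * (N * k) ≤
        (C * (m + 4) * ((m + 3) * (m + 2) * (m + 1))) * (6 * c) := by
      calc (C * (m + 4) * ((m + 3) * (m + 2) * (m + 1))) * (N * k)
          = (C * (m + 4) * N) * k * ((m + 3) * (m + 2) * (m + 1)) := by ring
        _ ≤ 6 * (C * ((m + 4) * (m + 3) * (m + 2) * (m + 1)) * c) := hB6
        _ = (C * (m + 4) * ((m + 3) * (m + 2) * (m + 1))) * (6 * c) := by ring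
    exact Nat.le_of_mul_le_mul_left this hpos
  have hck : c * k ≤ c * 6 := by
    calc c * k ≤ N * k := Nat.mul_le_mul_right k hNc
      _ ≤ 6 * c := hNk
      _ = c * 6 := by ring
  have hk6 : k ≤ 6 := Nat.le_of_mul_le_mul_left hck (by omega)
  omega

/-- COUNTODD -/
theorem rc_le_seven_of_odd {G : Subgroup (Perm α)} {t c r : ℕ} (h : Hyp0 G t c r) (hc : Odd c)
    (ht : 4 ≤ t) (hr : Odd r) : r * c ≤ 7 :=
  COUNTODD_aux_core h hc ht hr (fun N hN => countA h hc (by omega) N hN) (countB h hc ht)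
    (fun n U N C hc1 hcN hn hC hA hB => COUNTODD_aux_arith t c r n U N C ht hc1 hcN hr hn hC hA hB)

/-! ## copy of `Helper10.S0745CARDG` -/


/-- CARDG -/
theorem card_G {G : Subgroup (Perm α)} {t c r : ℕ} (h : Hyp0 G t c r) :
    Nat.card G = (Fintype.card α).descFactorial t * c := by
  classical
  -- a base embedding
  have hle : Fintype.card (Fin t) ≤ Fintype.card α := by
    rw [Fintype.card_fin, h.deg]; omega
  obtain ⟨x₀⟩ : Nonempty (Fin t ↪ α) := Function.Embedding.nonempty_of_card_le hle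
  let s₀ : Finset α := Finset.univ.map x₀
  have hs₀ : s₀.card = t := by simp [s₀]
  have hmem : ∀ a, a ∈ s₀ ↔ ∃ i, x₀ i = a := by simp [s₀]
  choose σ hσG hσ using fun y : Fin t ↪ α => h.trans x₀ y
  let Φ : ↥G → (Fin t ↪ α) := fun g => x₀.trans (g : Perm α).toEmbedding
  have hΦ : ∀ g i, Φ g i = (g : Perm α) (x₀ i) := fun _ _ => rfl
  have hmem1 : ∀ g : ↥G, (σ (Φ g))⁻¹ * (g : Perm α) ∈ PS G s₀ := by
    intro g
    refine ⟨G.mul_mem (G.inv_mem (hσG _)) g.2, ?_⟩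
    intro a ha
    obtain ⟨i, rfl⟩ := (hmem a).1 ha
    rw [Perm.mul_apply, Perm.inv_eq_iff_eq, hσ (Φ g) i, hΦ]
  have hmem2 : ∀ (y : Fin t ↪ α) (k : ↥(PS G s₀)), σ y * (k : Perm α) ∈ G :=
    fun y k => G.mul_mem (hσG y) k.2.1
  have hΦσ : ∀ (y : Fin t ↪ α) (k : ↥(PS G s₀)), Φ ⟨σ y * (k : Perm α), hmem2 y k⟩ = y := by
    intro y k
    ext i
    rw [hΦ]
    change (σ y * (k : Perm α)) (x₀ i) = y i
    rw [Perm.mul_apply, k.2.2 (x₀ i) ((hmem _).2 ⟨i, rfl⟩), hσ y i]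
  let e : ↥G ≃ (Fin t ↪ α) × ↥(PS G s₀) :=
    { toFun := fun g => (Φ g, ⟨(σ (Φ g))⁻¹ * (g : Perm α), hmem1 g⟩)
      invFun := fun yk => ⟨σ yk.1 * (yk.2 : Perm α), hmem2 yk.1 yk.2⟩
      left_inv := by
        intro g
        apply Subtype.ext
        change σ (Φ g) * ((σ (Φ g))⁻¹ * (g : Perm α)) = g
        rw [mul_inv_cancel_left]
      right_inv := by
        rintro ⟨y, k⟩
        refine Prod.ext (hΦσ y k) (Subtype.ext ?_)
        change (σ (Φ ⟨σ y * (k : Perm α), hmem2 y k⟩))⁻¹ * (σ y * (k : Perm α)) = k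
        rw [hΦσ y k, inv_mul_cancel_left] }
  rw [Nat.card_congr e, Nat.card_prod, Nat.card_eq_fintype_card, Fintype.card_embedding_eq,
    Fintype.card_fin, h.cardH s₀ hs₀]

/-! ## copy of `Helper16.S0745RESINJ` -/


/-- RESINJ -/
theorem resHom_injective {G : Subgroup (Perm α)} {t c r : ℕ} (h : Hyp0 G t c r) (s : Finset α)
    (hs : t + 1 ≤ s.card) : Function.Injective (resHom G s) := by
  rw [injective_iff_map_eq_one]
  intro g hg
  obtain ⟨s', hs's, hs'c⟩ := Finset.exists_subset_card_eq hs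
  have hfix : ∀ x ∈ s, (g : Perm α) x = x := by
    intro x hx
    have := congrArg (fun σ : Perm {x // x ∈ s} => ((σ ⟨x, hx⟩ : {x // x ∈ s}) : α)) hg
    simpa using this
  have h1 : (g : Perm α) = 1 := h.semireg _ g.2.1 s' hs'c (fun x hx => hfix x (hs's hx))
  exact Subtype.ext h1


end Cfsg.Agent.S0747P
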