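import Mathlib
import Cfsg.Prelude.Def_Balance
import Cfsg.Agent.Helper7.Quasisimple

/-!
# Tools for S1307 (helper27)

* two commuting involutions coincide in a group of `2`-rank at most `1`;
* hence a Sylow `2`-subgroup has at most one subgroup of order `2`;
* a perfect group of even order has no cyclic Sylow `2`-subgroup;
* Grün-type lemma: in a perfect group an element which is central modulo the centre is central.
-/

set_option autoImplicit false

namespace Cfsg.Agent.Helper27.S1307A

open Subgroup

variable {X : Type*} [Group X]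

/-- Two commuting involutions coincide when the `2`-rank is at most `1`. -/
theorem eq_of_commute_invol [Finite X] (hrk : Cfsg.PRankLE 2 1 X) {a b : X}
    (ha : orderOf a = 2) (hb : orderOf b = 2) (hab : a * b = b * a) : a = b := by
  by_contra hne
  have hcomm : ∀ x ∈ ({a, b} : Set X), ∀ y ∈ ({a, b} : Set X), x * y = y * x := by
    intro x hx y hy
    rcases hx with rfl | rfl <;> rcases hy with rfl | rfl
    · rfl
    · exact hab
    · exact hab.symm
    · rfl
  have hA : IsMulCommutative (closure ({a, b} : Set X)) := Subgroup.isMulCommutative_closure hcomm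
  have ha2 : a ^ 2 = 1 := by rw [← ha]; exact pow_orderOf_eq_one a
  have hb2 : b ^ 2 = 1 := by rw [← hb]; exact pow_orderOf_eq_one b
  have hexp : ∀ x ∈ closure ({a, b} : Set X), x ^ 2 = 1 := by
    intro x hx
    induction hx using Subgroup.closure_induction with
    | mem x hx =>
      rcases hx with rfl | rfl
      · exact ha2
      · exact hb2
    | one => simp
    | mul x y hx hy ihx ihy =>
      have hxy : x * y = y * x := by
        have := hA.is_comm.comm ⟨x, hx⟩ ⟨y, hy⟩
        exact congrArg Subtype.val this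
      have hc : Commute x y := hxy
      rw [hc.mul_pow, ihx, ihy, one_mul]
    | inv x hx ih => rw [inv_pow, ih, inv_one]
  have hcard := hrk _ hA hexp
  have ha1 : a ≠ 1 := by
    intro h; rw [h, orderOf_one] at ha; omega
  have hb1 : b ≠ 1 := by
    intro h; rw [h, orderOf_one] at hb; omega
  have h3 : ({1, a, b} : Set X).ncard = 3 :=
    Set.ncard_eq_three.mpr ⟨1, a, b, fun h => ha1 h.symm, fun h => hb1 h.symm, hne, rfl⟩
  have hsub : ({1, a, b} : Set X) ⊆ (closure ({a, b} : Set X) : Set X) := by
    intro x hx
    rcases hx with rfl | rfl | rfl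
    · exact one_mem _
    · exact subset_closure (by simp)
    · exact subset_closure (by simp)
  have hle := Set.ncard_le_ncard hsub (Set.toFinite _)
  have hcc : Nat.card ↥(closure ({a, b} : Set X)) = (closure ({a, b} : Set X) : Set X).ncard :=
    Nat.card_coe_set_eq _
  rw [h3, ← hcc] at hle
  omega

/-- A Sylow `2`-subgroup of a group of `2`-rank at most `1` has at most one subgroup of order 2. -/
theorem sylow_unique [Finite X] (hrk : Cfsg.PRankLE 2 1 X) (S : Sylow 2 X) :
    ∀ H K : Subgroup ↥(S : Subgroup X), Nat.card H = 2 → Nat.card K = 2 → H = K := by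
  have hSp : IsPGroup 2 ↥(S : Subgroup X) := S.isPGroup'
  -- it suffices to produce one subgroup to which all are equal
  suffices h : ∀ H : Subgroup ↥(S : Subgroup X), Nat.card H = 2 →
      ∃ z : ↥(S : Subgroup X), orderOf z = 2 ∧ z ∈ center ↥(S : Subgroup X) ∧ H = zpowers z by
    intro H K hH hK
    obtain ⟨z, hz2, hzc, rfl⟩ := h H hH
    obtain ⟨w, hw2, hwc, rfl⟩ := h K hK
    have : z = w := by
      have h1 : orderOf (z : X) = 2 := by rw [Subgroup.orderOf_coe]; exact hz2
      have h2 : orderOf (w : X) = 2 := by rw [Subgroup.orderOf_coe]; exact hw2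
      have h3 : (z : X) * (w : X) = (w : X) * (z : X) := by
        have := (mem_center_iff.mp hzc w).symm
        exact congrArg Subtype.val this
      exact Subtype.ext (eq_of_commute_invol hrk h1 h2 h3)
    rw [this]
  intro H hH
  -- `S` is nontrivial
  have hnt : Nontrivial ↥(S : Subgroup X) := by
    by_contra hn
    rw [not_nontrivial_iff_subsingleton] at hn
    have : Nat.card H = 1 := Nat.card_eq_one_iff_unique.mpr ⟨inferInstance, ⟨1⟩⟩
    omega
  have hcn : Nontrivial ↥(center ↥(S : Subgroup X)) := hSp.center_nontrivial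
  have h2c : 2 ∣ Nat.card ↥(center ↥(S : Subgroup X)) := by
    have hpc : IsPGroup 2 ↥(center ↥(S : Subgroup X)) := hSp.to_subgroup _
    rcases hpc.card_eq_or_dvd with h1 | h1
    · exfalso
      have := Finite.one_lt_card_iff_nontrivial.mpr hcn
      omega
    · exact h1
  obtain ⟨z, hz⟩ := exists_prime_orderOf_dvd_card' 2 h2c
  have hz2 : orderOf (z : ↥(S : Subgroup X)) = 2 := by rw [Subgroup.orderOf_coe]; exact hz
  refine ⟨(z : ↥(S : Subgroup X)), hz2, z.2, ?_⟩
  have hle : H ≤ zpowers (z : ↥(S : Subgroup X)) := by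
    intro h hh
    by_cases h1 : h = 1
    · rw [h1]; exact one_mem _
    · have ho : orderOf (⟨h, hh⟩ : H) ∣ 2 := by
        have := orderOf_dvd_natCard (⟨h, hh⟩ : H)
        rwa [hH] at this
      have ho' : orderOf h ∣ 2 := by
        have : orderOf ((⟨h, hh⟩ : H) : ↥(S : Subgroup X)) = orderOf (⟨h, hh⟩ : H) :=
          Subgroup.orderOf_coe _
        rw [← this] at ho
        exact ho
      have ho2 : orderOf h = 2 := by
        rcases (Nat.dvd_prime Nat.prime_two).mp ho' with h0 | h0
        · exact absurd (orderOf_eq_one_iff.mp h0) h1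
        · exact h0
      have e1 : orderOf (h : X) = 2 := by rw [Subgroup.orderOf_coe]; exact ho2
      have e2 : orderOf ((z : ↥(S : Subgroup X)) : X) = 2 := by
        rw [Subgroup.orderOf_coe]; exact hz2
      have e3 : (h : X) * ((z : ↥(S : Subgroup X)) : X) = ((z : ↥(S : Subgroup X)) : X) * (h : X) := by
        have := (mem_center_iff.mp z.2 h)
        exact congrArg Subtype.val this
      have : h = (z : ↥(S : Subgroup X)) := Subtype.ext (eq_of_commute_invol hrk e1 e2 e3)
      rw [this]
      exact mem_zpowers _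
  refine Subgroup.eq_of_le_of_card_ge hle ?_
  rw [Nat.card_zpowers, hz2, hH]

/-- A perfect finite group of even order has no cyclic Sylow `2`-subgroup. -/
theorem not_isCyclic_sylow [Finite X] (hperf : Group.IsPerfect X) (heven : Even (Nat.card X))
    (S : Sylow 2 X) : ¬ IsCyclic ↥(S : Subgroup X) := by
  intro hc
  have hp : (Nat.card X).minFac = 2 := (Nat.minFac_eq_two_iff _).mpr heven.two_dvd
  have hnc := hc.normalizer_le_centralizer hp
  have hcompl := hc.isComplement' hp
  have hker : (MonoidHom.transferSylow S hnc).ker = ⊤ := by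
    rw [eq_top_iff, ← hperf.commutator_eq_top, commutator_def, Subgroup.commutator_le]
    intro g₁ _ g₂ _
    rw [MonoidHom.mem_ker, map_commutatorElement, commutatorElement_eq_one_iff_commute]
    have hcm : ∀ a b : ↥(S : Subgroup X), a * b = b * a := fun a b =>
      Subtype.ext (hnc (le_normalizer b.2) a a.2)
    exact hcm _ _
  rw [hker] at hcompl
  have hcm := hcompl.card_mul_card
  rw [Subgroup.card_top] at hcm
  have hpos : 0 < Nat.card X := Nat.card_pos
  have h1 : Nat.card ↥(S : Subgroup X) = 1 := by
    have : Nat.card X * Nat.card ↥(S : Subgroup X) = Nat.card X * 1 := by rw [hcm, mul_one]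
    exact Nat.eq_of_mul_eq_mul_left hpos this
  have h2 : 2 ∣ Nat.card ↥(S : Subgroup X) := S.dvd_card_of_dvd_card heven.two_dvd
  rw [h1] at h2
  omega

/-- Grün-type lemma: in a perfect group, an element central modulo the centre is central. -/
theorem mem_center_of_perfect (hperf : Group.IsPerfect X) (z : X)
    (h : ∀ g : X, (g * z)⁻¹ * (z * g) ∈ center X) : z ∈ center X := by
  set Z2 : Subgroup X := (center (X ⧸ center X)).comap (QuotientGroup.mk' (center X)) with hZ2
  have hz : z ∈ Z2 := by
    rw [hZ2, mem_comap, mem_center_iff]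
    intro q
    obtain ⟨g, rfl⟩ := QuotientGroup.mk'_surjective _ q
    rw [QuotientGroup.mk'_apply, QuotientGroup.mk'_apply, ← QuotientGroup.mk_mul,
      ← QuotientGroup.mk_mul, QuotientGroup.eq]
    exact h g
  have h1 : ⁅Z2, (⊤ : Subgroup X)⁆ ≤ center X := by
    rw [Subgroup.commutator_le]
    intro y hy g _
    rw [hZ2, mem_comap, mem_center_iff] at hy
    rw [← QuotientGroup.eq_one_iff, commutatorElement_def]
    have := hy (QuotientGroup.mk' (center X) g)
    simp only [QuotientGroup.mk'_apply] at this
    rw [QuotientGroup.mk_mul, QuotientGroup.mk_mul, QuotientGroup.mk_mul, ← this,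
      QuotientGroup.mk_inv, QuotientGroup.mk_inv]
    group
  have hcz : ∀ K : Subgroup X, K ≤ center X → ⁅K, (⊤ : Subgroup X)⁆ = ⊥ := by
    intro K hK
    rw [Subgroup.commutator_eq_bot_iff_le_centralizer]
    intro k hk
    rw [mem_centralizer_iff]
    intro g _
    exact (mem_center_iff.mp (hK hk) g)
  have e1 : ⁅⁅(⊤ : Subgroup X), Z2⁆, (⊤ : Subgroup X)⁆ = ⊥ := by
    apply hcz
    rw [Subgroup.commutator_comm]
    exact h1
  have e2 : ⁅⁅Z2, (⊤ : Subgroup X)⁆, (⊤ : Subgroup X)⁆ = ⊥ := hcz _ h1
  have e3 := Subgroup.commutator_commutator_eq_bot_of_rotate e1 e2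
  have htop : ⁅(⊤ : Subgroup X), (⊤ : Subgroup X)⁆ = ⊤ := by
    rw [← commutator_def]; exact hperf.commutator_eq_top
  rw [htop, Subgroup.commutator_comm, Subgroup.commutator_eq_bot_iff_le_centralizer] at e3
  have := e3 hz
  rw [coe_top, centralizer_univ] at this
  exact this

end Cfsg.Agent.Helper27.S1307A
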