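import Mathlib
import Cfsg.Prelude.Def_Balance
import Cfsg.Agent.Helper7.Quasisimple
import Cfsg.Agent.Helper27.S1307A

/-!
# Tools for S1307, part B (helper27)

A quasisimple group with generalized quaternion Sylow `2`-subgroups has a central involution,
*given* the Brauer–Suzuki theorem (passed as a hypothesis `hBS`, in the universe of the group).
-/

set_option autoImplicit false

namespace Cfsg.Agent.Helper27.S1307B

open Subgroup

universe u

/-- The cardinality of the preimage of a subgroup under a quotient map. -/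
theorem card_comap_mk {X : Type u} [Group X] [Finite X] (O : Subgroup X) [O.Normal]
    (N : Subgroup (X ⧸ O)) :
    Nat.card ↥(N.comap (QuotientGroup.mk' O)) = Nat.card ↥N * Nat.card ↥O := by
  have hf : Function.Surjective (QuotientGroup.mk' O) := QuotientGroup.mk'_surjective O
  have h1 : (N.comap (QuotientGroup.mk' O)).index = N.index :=
    Subgroup.index_comap_of_surjective N hf
  have h2 := Subgroup.card_mul_index (N.comap (QuotientGroup.mk' O))
  have h3 := Subgroup.card_mul_index N
  have h4 : Nat.card X = Nat.card (X ⧸ O) * Nat.card ↥O :=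
    Subgroup.card_eq_card_quotient_mul_card_subgroup O
  have hpos : 0 < N.index := Nat.pos_of_ne_zero (Subgroup.index_ne_zero_of_finite)
  rw [h1] at h2
  have : Nat.card ↥(N.comap (QuotientGroup.mk' O)) * N.index
      = (Nat.card ↥N * Nat.card ↥O) * N.index := by
    rw [h2, h4, ← h3]; ring
  exact Nat.eq_of_mul_eq_mul_right hpos this

/-- A quasisimple group whose Sylow `2`-subgroups are generalized quaternion (of order at
least `8`) has a central involution, given the Brauer–Suzuki theorem. -/
theorem exists_central_involution {X : Type u} [Group X] [Finite X]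
    (hBS : ∀ (Q : Type u) [Group Q] [Finite Q] (S : Sylow 2 Q) (n : ℕ)
      (_ : ↥(S : Subgroup Q) ≃* QuaternionGroup (2 ^ (n + 1)))
      (_ : ∀ N : Subgroup Q, N.Normal → Odd (Nat.card ↥N) → N = ⊥),
      Nat.card ↥(Subgroup.center Q) = 2)
    (hq : Cfsg.IsQuasisimple X) (S : Sylow 2 X) (n : ℕ)
    (e : ↥(S : Subgroup X) ≃* QuaternionGroup (2 ^ (n + 1))) :
    ∃ z : X, orderOf z = 2 ∧ z ∈ center X := by
  classical
  -- a maximal normal subgroup of odd order
  have hfin : {N : Subgroup X | N.Normal ∧ Odd (Nat.card ↥N)}.Finite := Set.toFinite _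
  have hne : {N : Subgroup X | N.Normal ∧ Odd (Nat.card ↥N)}.Nonempty :=
    ⟨⊥, inferInstance, by simp⟩
  obtain ⟨O, hOmax⟩ := hfin.exists_maximal hne
  obtain ⟨hOn, hOodd⟩ := hOmax.prop
  have : O.Normal := hOn
  -- the order of `X` is even
  have hcardS : Nat.card ↥(S : Subgroup X) = 4 * 2 ^ (n + 1) := by
    rw [Nat.card_congr e.toEquiv, Nat.card_eq_fintype_card, QuaternionGroup.card]
  have h2S : 2 ∣ Nat.card ↥(S : Subgroup X) := by
    rw [hcardS]; exact Dvd.dvd.mul_right (by norm_num) _
  have h2X : 2 ∣ Nat.card X := h2S.trans (Subgroup.card_subgroup_dvd_card _)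
  have hOtop : O ≠ ⊤ := by
    intro h
    rw [h, Subgroup.card_top] at hOodd
    exact (Nat.not_even_iff_odd.mpr hOodd) (even_iff_two_dvd.mpr h2X)
  have hOZ : O ≤ center X :=
    (Cfsg.Agent.Helper7.IsQuasisimple.normal_eq_top_or_le_center hq O).resolve_left hOtop
  -- the quotient
  have hf : Function.Surjective (QuotientGroup.mk' O) := QuotientGroup.mk'_surjective O
  set S' : Sylow 2 (X ⧸ O) := S.mapSurjective hf with hS'
  have hcop : Nat.Coprime (Nat.card ↥(S : Subgroup X)) (Nat.card ↥O) := by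
    rw [hcardS]
    have h2 : Nat.Coprime 2 (Nat.card ↥O) := Nat.coprime_two_left.mpr hOodd
    have h4 : Nat.Coprime 4 (Nat.card ↥O) := by
      have : (4 : ℕ) = 2 ^ 2 := by norm_num
      rw [this]; exact Nat.Coprime.pow_left 2 h2
    exact Nat.Coprime.mul_left h4 (Nat.Coprime.pow_left _ h2)
  have hdisj : (S : Subgroup X) ⊓ O = ⊥ := (Subgroup.disjoint_of_coprime_natCard hcop).eq_bot
  have hinj : Function.Injective ((QuotientGroup.mk' O).subgroupMap (S : Subgroup X)) := by
    rw [injective_iff_map_eq_one]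
    intro x hx
    have hx1 : (QuotientGroup.mk' O) (x : X) = 1 := by
      have := congrArg Subtype.val hx
      simpa using this
    have hxO : (x : X) ∈ O := by
      rwa [QuotientGroup.mk'_apply, QuotientGroup.eq_one_iff] at hx1
    have hxb : (x : X) ∈ (S : Subgroup X) ⊓ O := ⟨x.2, hxO⟩
    rw [hdisj, mem_bot] at hxb
    exact Subtype.ext hxb
  have hsurj := (QuotientGroup.mk' O).subgroupMap_surjective (S : Subgroup X)
  let φ : ↥(S : Subgroup X) ≃* ↥((S : Subgroup X).map (QuotientGroup.mk' O)) :=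
    MulEquiv.ofBijective _ ⟨hinj, hsurj⟩
  have e' : ↥(S' : Subgroup (X ⧸ O)) ≃* QuaternionGroup (2 ^ (n + 1)) := φ.symm.trans e
  -- the quotient has no nontrivial normal subgroup of odd order
  have hO' : ∀ N : Subgroup (X ⧸ O), N.Normal → Odd (Nat.card ↥N) → N = ⊥ := by
    intro N hN hodd
    have hMn : (N.comap (QuotientGroup.mk' O)).Normal := hN.comap _
    have hMo : Odd (Nat.card ↥(N.comap (QuotientGroup.mk' O))) := by
      rw [card_comap_mk]; exact hodd.mul hOodd
    have hOM : O ≤ N.comap (QuotientGroup.mk' O) := by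
      have := Subgroup.ker_le_comap (QuotientGroup.mk' O) N
      rwa [QuotientGroup.ker_mk'] at this
    have hMO : N.comap (QuotientGroup.mk' O) ≤ O := hOmax.le_of_ge ⟨hMn, hMo⟩ hOM
    have : N = (N.comap (QuotientGroup.mk' O)).map (QuotientGroup.mk' O) :=
      (Subgroup.map_comap_eq_self_of_surjective hf N).symm
    rw [this, eq_bot_iff]
    calc (N.comap (QuotientGroup.mk' O)).map (QuotientGroup.mk' O)
        ≤ O.map (QuotientGroup.mk' O) := Subgroup.map_mono hMO
      _ = ⊥ := QuotientGroup.map_mk'_self O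
  have hc2 : Nat.card ↥(center (X ⧸ O)) = 2 := hBS (X ⧸ O) S' n e' hO'
  obtain ⟨c, hc⟩ := exists_prime_orderOf_dvd_card' (G := ↥(center (X ⧸ O))) 2 (by rw [hc2])
  have hcQ : orderOf (c : X ⧸ O) = 2 := by rw [Subgroup.orderOf_coe]; exact hc
  obtain ⟨x, hx⟩ := hf (c : X ⧸ O)
  obtain ⟨k, hk⟩ := hOodd
  have hc2' : (c : X ⧸ O) ^ 2 = 1 := by rw [← hcQ]; exact pow_orderOf_eq_one _
  have hcm : (c : X ⧸ O) ^ (Nat.card ↥O) = (c : X ⧸ O) := by
    rw [hk, pow_succ, pow_mul, hc2', one_pow, one_mul]
  set z : X := x ^ (Nat.card ↥O) with hz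
  have hfz : (QuotientGroup.mk' O) z = (c : X ⧸ O) := by
    rw [hz, map_pow, hx, hcm]
  have hx2 : x ^ 2 ∈ O := by
    rw [← QuotientGroup.eq_one_iff, ← QuotientGroup.mk'_apply, map_pow, hx, hc2']
  have hz2 : z ^ 2 = 1 := by
    rw [hz, ← pow_mul, mul_comm, pow_mul]
    have := pow_card_eq_one' (G := ↥O) (x := ⟨x ^ 2, hx2⟩)
    exact congrArg Subtype.val this
  have hz1 : z ≠ 1 := by
    intro h
    rw [h, map_one] at hfz
    rw [← hfz, orderOf_one] at hcQ
    omega
  refine ⟨z, orderOf_eq_prime hz2 hz1, ?_⟩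
  apply Cfsg.Agent.Helper27.S1307A.mem_center_of_perfect hq.1
  intro g
  apply hOZ
  rw [← QuotientGroup.eq, ← QuotientGroup.mk'_apply, ← QuotientGroup.mk'_apply, map_mul, map_mul,
    hfz]
  exact (mem_center_iff.mp c.2 _)

/-- A perfect group of even order and `2`-rank at most `1` has generalized quaternion Sylow
`2`-subgroups of order at least `8`, given the conclusion of the classification of `2`-groups
with a unique involution for the Sylow subgroup. -/
theorem sylow_quaternion {X : Type u} [Group X] [Finite X] (hperf : Group.IsPerfect X)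
    (heven : Even (Nat.card X)) (S : Sylow 2 X)
    (h16 : IsCyclic ↥(S : Subgroup X) ∨
      (2 = 2 ∧ ∃ n : ℕ, Nonempty (↥(S : Subgroup X) ≃* QuaternionGroup (2 ^ n)))) :
    ∃ n : ℕ, Nonempty (↥(S : Subgroup X) ≃* QuaternionGroup (2 ^ (n + 1))) := by
  have hnc := Cfsg.Agent.Helper27.S1307A.not_isCyclic_sylow hperf heven S
  rcases h16 with hc | ⟨_, n, ⟨e⟩⟩
  · exact absurd hc hnc
  · cases n with
    | zero =>
      exfalso
      apply hnc
      have hQ : IsCyclic (QuaternionGroup (2 ^ 0)) := by
        rw [pow_zero]; exact QuaternionGroup.quaternionGroup_one_isCyclic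
      exact isCyclic_of_surjective e.symm e.symm.surjective
    | succ n => exact ⟨n, ⟨e⟩⟩

end Cfsg.Agent.Helper27.S1307B
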