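import Mathlib
import Cfsg.Agent.Helper15.S2092XLIB

set_option autoImplicit false
set_option linter.unusedSectionVars false
set_option linter.unusedVariables false

/-! S2092 wave M piece XMATB (driver helper10; helper27): `xs_mul`, `xs_comm`
(on top of helper15's `Matrix.single` calculus `XLIB15`). -/

namespace Cfsg.Agent.S2092P

open Matrix Cfsg.Agent.S3352P Cfsg.Agent.S2096P

variable {n : ℕ} {F : Type*} [Field F]

open XLIB15

/-! ### XMATB [M]: `mul`, `comm` -/

theorem xs_mul {a b c : J n} (hab : IsRoot a b) (hbc : IsRoot b c) (hac : IsRoot a c) (s t : F) :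
    xs a b s * xs b c t = xs a c (s * t) * xs b c t * xs a b s := by
  have hAB : (nm a b : Matrix (J n) (J n) F) * nm b c = Matrix.single a c (1 : F) := by
    rw [nm_mul_nm, if_pos rfl, if_neg hbc.2, if_neg (fun h => hab.2 (ng_eq_iff.mp h)),
      if_neg (fun h => hac.1 (ng_injective h))]
    simp
  have hBA : (nm b c : Matrix (J n) (J n) F) * nm a b =
      ep F a c • Matrix.single (ng c) (ng a) (1 : F) := by
    rw [nm_mul_nm, if_neg (fun h => hac.1 h.symm),
      if_neg (fun h => hbc.2 (by rw [h, ng_ng])),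
      if_neg (fun h => hab.2 h.symm), if_pos rfl]
    have : ep F b c * ep F a b = ep F a c := by
      unfold ep
      calc sgF F b * sgF F c * (sgF F a * sgF F b)
          = (sgF F b * sgF F b) * (sgF F a * sgF F c) := by ring
        _ = sgF F a * sgF F c := by rw [sgF_mul_self, one_mul]
    rw [this]
    simp
  have hCB : (nm a c : Matrix (J n) (J n) F) * nm b c = 0 := by
    rw [nm_mul_nm, if_neg (fun h => hbc.1 h.symm), if_neg (fun h => ng_ne c h.symm),
      if_neg (fun h => hab.2 (ng_eq_iff.mp h)), if_neg (fun h => hac.1 (ng_injective h))]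
    simp
  have hCA : (nm a c : Matrix (J n) (J n) F) * nm a b = 0 := by
    rw [nm_mul_nm, if_neg (fun h => hac.1 h.symm),
      if_neg (fun h => hbc.2 (by rw [h, ng_ng])), if_neg (ng_ne a),
      if_neg (fun h => hab.1 (ng_injective h))]
    simp
  have hC : (nm a c : Matrix (J n) (J n) F) =
      Matrix.single a c (1 : F) - ep F a c • Matrix.single (ng c) (ng a) (1 : F) := rfl
  have hCE : (nm a c : Matrix (J n) (J n) F) * Matrix.single (ng c) (ng a) (1 : F) = 0 := by
    rw [hC, sub_mul, Matrix.smul_mul, single_mul, single_mul, if_neg (fun h => ng_ne c h.symm),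
      if_neg (fun h => hac.1 (ng_injective h))]
    simp
  rw [xs_eq, xs_eq, xs_eq, one_add_smul_mul, mul_assoc, one_add_smul_mul, hAB, hBA]
  simp only [mul_add, add_mul, mul_one, one_mul, Matrix.smul_mul, Matrix.mul_smul, hCB, hCA, hCE,
    smul_zero, add_zero]
  rw [hC]
  module

theorem xs_comm {a b c d : J n} (hab : IsRoot a b) (hcd : IsRoot c d) (h1 : b ≠ c) (h2 : a ≠ d)
    (h3 : a ≠ ng c) (h4 : a ≠ ng d) (h5 : b ≠ ng c) (h6 : b ≠ ng d) (s t : F) :
    xs a b s * xs c d t = xs c d t * xs a b s := by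
  have hAB : (nm a b : Matrix (J n) (J n) F) * nm c d = 0 := by
    rw [nm_mul_nm, if_neg h1, if_neg h6, if_neg (fun h => h3 (ng_eq_iff.mp h)),
      if_neg (fun h => h2 (ng_injective h))]
    simp
  have hBA : (nm c d : Matrix (J n) (J n) F) * nm a b = 0 := by
    rw [nm_mul_nm, if_neg (fun h => h2 h.symm), if_neg (fun h => h6 (by rw [h, ng_ng])),
      if_neg (fun h => h3 h.symm), if_neg (fun h => h1 (ng_injective h).symm)]
    simp
  rw [xs_eq, xs_eq, one_add_smul_mul, one_add_smul_mul, hAB, hBA, smul_zero, smul_zero]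
  abel

end Cfsg.Agent.S2092P
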