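import Mathlib

/-!
# S2479, piece ARITHBIG: the pure arithmetic inequality
`∑_{d ∣ gcd(n, q-1), d ≥ 2} (d^2-1) q^(n/d) + 3 q^(n-2) ≤ 2 q^(n-1)` for `n ≥ 4`.
-/

set_option autoImplicit false

namespace Cfsg.Agent.S2479P

namespace ARITHBIG

/-- membership facts for the index set -/
theorem mem_facts {q n d : ℕ} (hq : 2 ≤ q)
    (hd : d ∈ (Nat.gcd n (q - 1)).divisors.filter (fun d => 2 ≤ d)) :
    2 ≤ d ∧ d ∣ n ∧ d ∣ q - 1 ∧ d ≤ q - 1 := by
  rw [Finset.mem_filter, Nat.mem_divisors] at hd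
  obtain ⟨⟨hdg, _⟩, h2⟩ := hd
  have h1 : d ∣ n := hdg.trans (Nat.gcd_dvd_left _ _)
  have h3 : d ∣ q - 1 := hdg.trans (Nat.gcd_dvd_right _ _)
  exact ⟨h2, h1, h3, Nat.le_of_dvd (by omega) h3⟩

/-- the sum over a finset contained in `{a}` -/
theorem sum_le_of_subset_singleton (s : Finset ℕ) (f : ℕ → ℕ) (a : ℕ) (hs : ∀ d ∈ s, d = a) :
    ∑ d ∈ s, f d ≤ f a := by
  have hsub : s ⊆ {a} := by
    intro d hd
    rw [Finset.mem_singleton]
    exact hs d hd
  calc ∑ d ∈ s, f d ≤ ∑ d ∈ ({a} : Finset ℕ), f d :=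
        Finset.sum_le_sum_of_subset hsub
    _ = f a := Finset.sum_singleton _ _

/-- the case `q = 3` -/
theorem case_three (n : ℕ) (hn : 4 ≤ n) :
    ∑ d ∈ (Nat.gcd n (3 - 1)).divisors.filter (fun d => 2 ≤ d), (d ^ 2 - 1) * 3 ^ (n / d) +
      3 * 3 ^ (n - 2) ≤ 2 * 3 ^ (n - 1) := by
  have h1 : ∑ d ∈ (Nat.gcd n (3 - 1)).divisors.filter (fun d => 2 ≤ d), (d ^ 2 - 1) * 3 ^ (n / d) ≤
      (2 ^ 2 - 1) * 3 ^ (n / 2) := by
    apply sum_le_of_subset_singleton _ (fun d => (d ^ 2 - 1) * 3 ^ (n / d))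
    intro d hd
    obtain ⟨h2, -, -, h4⟩ := mem_facts (q := 3) (by norm_num) hd
    omega
  have h2 : (3 : ℕ) * 3 ^ (n / 2) ≤ 3 ^ (n - 1) := by
    have : (3 : ℕ) * 3 ^ (n / 2) = 3 ^ (n / 2 + 1) := by ring
    rw [this]
    exact Nat.pow_le_pow_right (by norm_num) (by omega)
  have h3 : (3 : ℕ) * 3 ^ (n - 2) = 3 ^ (n - 1) := by
    have : n - 1 = (n - 2) + 1 := by omega
    rw [this]
    ring
  have h4 : ((2 : ℕ) ^ 2 - 1) = 3 := by norm_num
  rw [h4] at h1
  omega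

/-- the case `n = 4` -/
theorem case_n4 (q : ℕ) (hq : 4 ≤ q) :
    ∑ d ∈ (Nat.gcd 4 (q - 1)).divisors.filter (fun d => 2 ≤ d), (d ^ 2 - 1) * q ^ (4 / d) +
      3 * q ^ (4 - 2) ≤ 2 * q ^ (4 - 1) := by
  have hg : Nat.gcd 4 (q - 1) ∣ 4 := Nat.gcd_dvd_left _ _
  have hg' : Nat.gcd 4 (q - 1) ∈ Nat.divisors 4 := Nat.mem_divisors.2 ⟨hg, by norm_num⟩
  have hdiv : Nat.divisors 4 = {1, 2, 4} := by decide
  rw [hdiv] at hg'
  simp only [Finset.mem_insert, Finset.mem_singleton] at hg'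
  rcases hg' with h | h | h
  · rw [h]
    have : (Nat.divisors 1).filter (fun d => 2 ≤ d) = ∅ := by decide
    rw [this, Finset.sum_empty]
    norm_num
    nlinarith
  · rw [h]
    have : (Nat.divisors 2).filter (fun d => 2 ≤ d) = {2} := by decide
    rw [this, Finset.sum_singleton]
    norm_num
    nlinarith
  · have h4 : 4 ∣ q - 1 := h ▸ Nat.gcd_dvd_right 4 (q - 1)
    have hq5 : 5 ≤ q := by
      have := Nat.le_of_dvd (by omega) h4
      omega
    rw [h]
    have : (Nat.divisors 4).filter (fun d => 2 ≤ d) = {2, 4} := by decide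
    rw [this, Finset.sum_insert (by decide), Finset.sum_singleton]
    norm_num
    nlinarith [mul_le_mul hq5 hq5 (by norm_num) (by omega)]

/-- the case `n = 5` -/
theorem case_n5 (q : ℕ) (hq : 4 ≤ q) :
    ∑ d ∈ (Nat.gcd 5 (q - 1)).divisors.filter (fun d => 2 ≤ d), (d ^ 2 - 1) * q ^ (5 / d) +
      3 * q ^ (5 - 2) ≤ 2 * q ^ (5 - 1) := by
  have hg : Nat.gcd 5 (q - 1) ∣ 5 := Nat.gcd_dvd_left _ _
  have hg' : Nat.gcd 5 (q - 1) ∈ Nat.divisors 5 := Nat.mem_divisors.2 ⟨hg, by norm_num⟩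
  have hdiv : Nat.divisors 5 = {1, 5} := by decide
  rw [hdiv] at hg'
  simp only [Finset.mem_insert, Finset.mem_singleton] at hg'
  rcases hg' with h | h
  · rw [h]
    have : (Nat.divisors 1).filter (fun d => 2 ≤ d) = ∅ := by decide
    rw [this, Finset.sum_empty]
    norm_num
    nlinarith [pow_pos (show 0 < q by omega) 3]
  · rw [h]
    have : (Nat.divisors 5).filter (fun d => 2 ≤ d) = {5} := by decide
    rw [this, Finset.sum_singleton]
    norm_num
    have h16 : 16 ≤ q ^ 2 := by nlinarith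
    have h64 : 64 ≤ q ^ 3 := by nlinarith
    nlinarith [pow_pos (show 0 < q by omega) 3]

/-- the case `n ≥ 6`, `q ≥ 4` -/
theorem case_big (q k : ℕ) (hq : 4 ≤ q) :
    ∑ d ∈ (Nat.gcd (k + 6) (q - 1)).divisors.filter (fun d => 2 ≤ d),
        (d ^ 2 - 1) * q ^ ((k + 6) / d) + 3 * q ^ (k + 6 - 2) ≤ 2 * q ^ (k + 6 - 1) := by
  set s := (Nat.gcd (k + 6) (q - 1)).divisors.filter (fun d => 2 ≤ d) with hs
  set f : ℕ → ℕ := fun d => (d ^ 2 - 1) * q ^ ((k + 6) / d) with hf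
  have hq1 : 1 ≤ q := by omega
  -- split off d = 2
  have hsplit : ∑ d ∈ s, f d = ∑ d ∈ s.filter (fun d => d = 2), f d +
      ∑ d ∈ s.filter (fun d => ¬ d = 2), f d :=
    (Finset.sum_filter_add_sum_filter_not s (fun d => d = 2) f).symm
  have h2 : ∑ d ∈ s.filter (fun d => d = 2), f d ≤ 3 * q ^ (k + 3) := by
    have h := sum_le_of_subset_singleton (s.filter (fun d => d = 2)) f 2
      (fun d hd => (Finset.mem_filter.1 hd).2)
    refine h.trans ?_
    rw [hf]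
    have : ((2 : ℕ) ^ 2 - 1) = 3 := by norm_num
    simp only [this]
    exact Nat.mul_le_mul_left 3 (Nat.pow_le_pow_right hq1 (by omega))
  have h3 : ∑ d ∈ s.filter (fun d => ¬ d = 2), f d ≤ q ^ (k + 5) := by
    have hterm : ∀ d ∈ s.filter (fun d => ¬ d = 2), f d ≤ q ^ 2 * q ^ (k + 2) := by
      intro d hd
      rw [Finset.mem_filter] at hd
      obtain ⟨h2, -, -, h4⟩ := mem_facts (by omega) (hs ▸ hd.1)
      have hd3 : 3 ≤ d := by omega
      rw [hf]
      apply Nat.mul_le_mul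
      · calc d ^ 2 - 1 ≤ d ^ 2 := Nat.sub_le _ _
          _ ≤ q ^ 2 := Nat.pow_le_pow_left (by omega) 2
      · apply Nat.pow_le_pow_right hq1
        have : (k + 6) / d ≤ (k + 6) / 3 := Nat.div_le_div_left hd3 (by norm_num)
        omega
    have hcard : (s.filter (fun d => ¬ d = 2)).card ≤ q := by
      have hsub : s.filter (fun d => ¬ d = 2) ⊆ Finset.range q := by
        intro d hd
        rw [Finset.mem_filter] at hd
        obtain ⟨-, -, -, h4⟩ := mem_facts (by omega) (hs ▸ hd.1)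
        rw [Finset.mem_range]
        omega
      calc (s.filter (fun d => ¬ d = 2)).card ≤ (Finset.range q).card := Finset.card_le_card hsub
        _ = q := Finset.card_range q
    calc ∑ d ∈ s.filter (fun d => ¬ d = 2), f d
        ≤ (s.filter (fun d => ¬ d = 2)).card • (q ^ 2 * q ^ (k + 2)) :=
          Finset.sum_le_card_nsmul _ _ _ hterm
      _ ≤ q • (q ^ 2 * q ^ (k + 2)) := by
          rw [smul_eq_mul, smul_eq_mul]
          exact Nat.mul_le_mul_right _ hcard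
      _ = q ^ (k + 5) := by
          rw [smul_eq_mul]
          ring
  have e1 : k + 6 - 2 = k + 4 := by omega
  have e2 : k + 6 - 1 = k + 5 := by omega
  rw [e1, e2, hsplit]
  have e4 : q ^ (k + 4) = q * q ^ (k + 3) := by ring
  have e5 : q ^ (k + 5) = q ^ 2 * q ^ (k + 3) := by ring
  rw [e5] at h3
  rw [e4, e5]
  have hq2 : 3 * q + 3 ≤ q ^ 2 := by nlinarith
  have hX := Nat.mul_le_mul_right (q ^ (k + 3)) hq2
  generalize q ^ (k + 3) = X at *
  nlinarith

end ARITHBIG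

open ARITHBIG in
/-- piece ARITHBIG -/
theorem sum_div_bound (q n : ℕ) (hq : 2 ≤ q) (hn : 4 ≤ n) :
    ∑ d ∈ (Nat.gcd n (q - 1)).divisors.filter (fun d => 2 ≤ d), (d ^ 2 - 1) * q ^ (n / d) +
      3 * q ^ (n - 2) ≤ 2 * q ^ (n - 1) := by
  rcases Nat.lt_or_ge q 4 with hq4 | hq4
  · interval_cases q
    · -- q = 2
      have h1 : Nat.gcd n (2 - 1) = 1 := by simp
      rw [h1]
      have : (Nat.divisors 1).filter (fun d => 2 ≤ d) = ∅ := by decide
      rw [this, Finset.sum_empty, zero_add]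
      have e : n - 1 = (n - 2) + 1 := by omega
      rw [e, pow_succ]
      omega
    · exact case_three n hn
  · rcases Nat.lt_or_ge n 6 with hn6 | hn6
    · interval_cases n
      · exact case_n4 q hq4
      · exact case_n5 q hq4
    · obtain ⟨k, rfl⟩ : ∃ k, n = k + 6 := ⟨n - 6, by omega⟩
      exact case_big q k hq4

end Cfsg.Agent.S2479P
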