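import Mathlib
import Cfsg.Agent.Helper14.GLk.Defs
import Cfsg.Agent.Helper14.SLk.Defs
import Cfsg.Agent.Helper26.S2478ARITH
import Cfsg.Agent.Helper27.S2479ARITHBIG

/-!
# S2479, piece ARITH: the final inequalities for the class number of `SL_n(q)`
-/

set_option autoImplicit false

namespace Cfsg.Agent.S2479P

open Cfsg.Agent.S2478P

namespace ARITHF

theorem A_zero_zero (q : ℕ) : A q 0 0 = 1 := by simp [A]

theorem A_zero_succ (q n : ℕ) : A q 0 (n + 1) = 0 := by simp [A]

theorem N_one (q : ℕ) : N q 1 = q - 1 := by simp [N]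

theorem N_two (q : ℕ) : N q 2 = q ^ 2 - q := by simp [N]

theorem N_three (q : ℕ) : N q 3 = q ^ 3 - q ^ 2 := by simp [N]

theorem A_one_zero (q : ℕ) : A q 1 0 = 1 := by
  rw [ARITH.A_succ]
  simp [ARITH.N_zero, A_zero_zero]

theorem A_one_one (q : ℕ) : A q 1 1 = q - 1 := by
  rw [ARITH.A_succ]
  simp [Finset.sum_range_succ, ARITH.N_zero, A_zero_zero, A_zero_succ, N_one, A]

theorem A_one_two (q : ℕ) : A q 1 2 = q ^ 2 - q := by
  rw [ARITH.A_succ]
  simp [Finset.sum_range_succ, ARITH.N_zero, A_zero_zero, N_one, N_two, A]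

theorem A_one_three (q : ℕ) : A q 1 3 = q ^ 3 - q ^ 2 := by
  rw [ARITH.A_succ]
  simp [Finset.sum_range_succ, ARITH.N_zero, A_zero_zero, N_one, N_two, N_three, A]

theorem A_two_zero (q : ℕ) : A q 2 0 = 1 := by
  rw [ARITH.A_succ]
  simp [ARITH.N_zero, A_one_zero]

theorem A_two_two (q : ℕ) (hq : 1 ≤ q) : A q 2 2 = q ^ 2 - 1 := by
  rw [ARITH.A_succ]
  simp only [Nat.reduceAdd, Nat.div_self, Nat.ofNat_pos, Finset.sum_range_succ, Finset.range_zero,
    Finset.sum_empty, zero_add, ARITH.N_zero, mul_zero, Nat.sub_zero, one_mul, A_one_two, N_one,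
    mul_one, Nat.sub_self, A_one_zero]
  have : q ≤ q ^ 2 := by nlinarith
  omega

theorem A_two_three (q : ℕ) (hq : 1 ≤ q) : A q 2 3 = q ^ 3 - q ^ 2 + (q - 1) * (q - 1) := by
  rw [ARITH.A_succ]
  have h : 3 / (1 + 1) + 1 = 2 := by norm_num
  rw [h]
  simp [Finset.sum_range_succ, ARITH.N_zero, A_one_three, N_one, A_one_one]

theorem A_three_three (q : ℕ) (hq : 1 ≤ q) : A q 3 3 = q ^ 3 - q := by
  rw [ARITH.A_succ]
  have h : 3 / (2 + 1) + 1 = 2 := by norm_num
  rw [h]
  simp only [Finset.sum_range_succ, Finset.range_zero, Finset.sum_empty, zero_add, ARITH.N_zero,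
    mul_zero, Nat.sub_zero, one_mul, A_two_three q hq, N_one, mul_one, Nat.reduceAdd, Nat.sub_self,
    A_two_zero]
  obtain ⟨r, rfl⟩ : ∃ r, q = r + 1 := ⟨q - 1, by omega⟩
  simp only [Nat.add_sub_cancel]
  have e1 : (r + 1) ^ 3 - (r + 1) ^ 2 = r ^ 3 + 2 * r ^ 2 + r := by
    have : (r + 1) ^ 3 = r ^ 3 + 2 * r ^ 2 + r + (r + 1) ^ 2 := by ring
    omega
  have e2 : (r + 1) ^ 3 - (r + 1) = r ^ 3 + 3 * r ^ 2 + 2 * r := by
    have : (r + 1) ^ 3 = r ^ 3 + 3 * r ^ 2 + 2 * r + (r + 1) := by ring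
    omega
  rw [e1, e2]
  ring

/-- `n ≥ 4` -/
theorem case_big (q n k : ℕ) (hq : 2 ≤ q) (hn : 4 ≤ n)
    (hup : (q - 1) * k ≤ A q n n +
      ∑ d ∈ (Nat.gcd n (q - 1)).divisors.filter (fun d => 2 ≤ d),
        (d ^ 2 - 1) * A q (n / d) (n / d)) :
    k ≤ q ^ (n - 1) + 3 * q ^ (n - 2) := by
  have h1 : A q n n ≤ q ^ n := (A_bound q hq n n).1 le_rfl
  have h2 : ∑ d ∈ (Nat.gcd n (q - 1)).divisors.filter (fun d => 2 ≤ d),
      (d ^ 2 - 1) * A q (n / d) (n / d) ≤
      ∑ d ∈ (Nat.gcd n (q - 1)).divisors.filter (fun d => 2 ≤ d), (d ^ 2 - 1) * q ^ (n / d) := by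
    apply Finset.sum_le_sum
    intro d _
    exact Nat.mul_le_mul_left _ ((A_bound q hq (n / d) (n / d)).1 le_rfl)
  have h3 := sum_div_bound q n hq hn
  obtain ⟨m, rfl⟩ : ∃ m, n = m + 2 := ⟨n - 2, by omega⟩
  obtain ⟨r, rfl⟩ : ∃ r, q = r + 1 := ⟨q - 1, by omega⟩
  have e1 : m + 2 - 1 = m + 1 := by omega
  have e2 : m + 2 - 2 = m := by omega
  rw [e1, e2] at h3 ⊢
  simp only [Nat.add_sub_cancel] at *
  have hr : 1 ≤ r := by omega
  -- r * k ≤ (r+1)^(m+2) + 2 (r+1)^(m+1) - 3 (r+1)^m = r * ((r+1)^(m+1) + 3 (r+1)^m)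
  have key : r * k + 3 * (r + 1) ^ m ≤ (r + 1) ^ (m + 2) + 2 * (r + 1) ^ (m + 1) := by omega
  have e3 : (r + 1) ^ (m + 2) + 2 * (r + 1) ^ (m + 1) =
      r * ((r + 1) ^ (m + 1) + 3 * (r + 1) ^ m) + 3 * (r + 1) ^ m := by ring
  rw [e3] at key
  have key2 : r * k ≤ r * ((r + 1) ^ (m + 1) + 3 * (r + 1) ^ m) := by omega
  exact Nat.le_of_mul_le_mul_left key2 (by omega)

end ARITHF

open ARITHF in
/-- piece ARITH -/
theorem final_arith (q n k : ℕ) (hq : 2 ≤ q) (hn : 2 ≤ n)
    (hlow : q ^ n - q ^ (n - 1) + 1 ≤ (q - 1) * k)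
    (hup : (q - 1) * k ≤ A q n n +
      ∑ d ∈ (Nat.gcd n (q - 1)).divisors.filter (fun d => 2 ≤ d),
        (d ^ 2 - 1) * A q (n / d) (n / d)) :
    q ^ (n - 1) < k ∧ 2 * k ≤ 5 * q ^ (n - 1) ∧ (3 ≤ n → k ≤ q ^ (n - 1) + 3 * q ^ (n - 2)) := by
  refine ⟨?_, ?_⟩
  · -- lower bound
    obtain ⟨m, rfl⟩ : ∃ m, n = m + 1 := ⟨n - 1, by omega⟩
    obtain ⟨r, rfl⟩ : ∃ r, q = r + 1 := ⟨q - 1, by omega⟩
    simp only [Nat.add_sub_cancel] at hlow ⊢
    have e : (r + 1) ^ (m + 1) - (r + 1) ^ m = r * (r + 1) ^ m := by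
      have : (r + 1) ^ (m + 1) = r * (r + 1) ^ m + (r + 1) ^ m := by ring
      omega
    rw [e] at hlow
    have hr : 0 < r := by omega
    by_contra hcon
    push_neg at hcon
    have := Nat.mul_le_mul_left r hcon
    omega
  · rcases Nat.lt_or_ge n 4 with hn4 | hn4
    · interval_cases n
      · -- n = 2
        refine ⟨?_, fun h => absurd h (by norm_num)⟩
        have hg : Nat.gcd 2 (q - 1) ∣ 2 := Nat.gcd_dvd_left _ _
        rcases (Nat.dvd_prime Nat.prime_two).1 hg with h | h
        · rw [h] at hup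
          have : (Nat.divisors 1).filter (fun d => 2 ≤ d) = ∅ := by decide
          rw [this, Finset.sum_empty, add_zero, A_two_two q (by omega)] at hup
          obtain ⟨r, rfl⟩ : ∃ r, q = r + 1 := ⟨q - 1, by omega⟩
          simp only [Nat.add_sub_cancel] at hup
          have e : (r + 1) ^ 2 - 1 = r * (r + 2) := by
            have : (r + 1) ^ 2 = r * (r + 2) + 1 := by ring
            omega
          rw [e] at hup
          have hk : k ≤ r + 2 := Nat.le_of_mul_le_mul_left hup (by omega)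
          norm_num
          omega
        · rw [h] at hup
          have : (Nat.divisors 2).filter (fun d => 2 ≤ d) = {2} := by decide
          rw [this, Finset.sum_singleton, A_two_two q (by omega)] at hup
          norm_num at hup
          rw [A_one_one] at hup
          have h2 : 2 ∣ q - 1 := h ▸ Nat.gcd_dvd_right 2 (q - 1)
          have hq3 : 3 ≤ q := by
            have := Nat.le_of_dvd (by omega) h2
            omega
          obtain ⟨r, rfl⟩ : ∃ r, q = r + 1 := ⟨q - 1, by omega⟩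
          simp only [Nat.add_sub_cancel] at hup
          have e : (r + 1) ^ 2 - 1 = r * (r + 2) := by
            have : (r + 1) ^ 2 = r * (r + 2) + 1 := by ring
            omega
          rw [e] at hup
          have hup' : r * k ≤ r * (r + 5) := by
            calc r * k ≤ r * (r + 2) + 3 * r := hup
              _ = r * (r + 5) := by ring
          have hk : k ≤ r + 5 := Nat.le_of_mul_le_mul_left hup' (by omega)
          norm_num
          omega
      · -- n = 3
        have hg : Nat.gcd 3 (q - 1) ∣ 3 := Nat.gcd_dvd_left _ _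
        rcases (Nat.dvd_prime Nat.prime_three).1 hg with h | h
        · rw [h] at hup
          have : (Nat.divisors 1).filter (fun d => 2 ≤ d) = ∅ := by decide
          rw [this, Finset.sum_empty, add_zero, A_three_three q (by omega)] at hup
          obtain ⟨r, rfl⟩ : ∃ r, q = r + 1 := ⟨q - 1, by omega⟩
          simp only [Nat.add_sub_cancel] at hup
          have e : (r + 1) ^ 3 - (r + 1) = r * ((r + 1) ^ 2 + (r + 1)) := by
            have : (r + 1) ^ 3 = r * ((r + 1) ^ 2 + (r + 1)) + (r + 1) := by ring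
            omega
          rw [e] at hup
          have hk : k ≤ (r + 1) ^ 2 + (r + 1) := Nat.le_of_mul_le_mul_left hup (by omega)
          norm_num
          constructor
          · nlinarith
          · nlinarith
        · rw [h] at hup
          have : (Nat.divisors 3).filter (fun d => 2 ≤ d) = {3} := by decide
          rw [this, Finset.sum_singleton, A_three_three q (by omega)] at hup
          norm_num at hup
          rw [A_one_one] at hup
          have h3 : 3 ∣ q - 1 := h ▸ Nat.gcd_dvd_right 3 (q - 1)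
          have hq4 : 4 ≤ q := by
            have := Nat.le_of_dvd (by omega) h3
            omega
          obtain ⟨r, rfl⟩ : ∃ r, q = r + 1 := ⟨q - 1, by omega⟩
          simp only [Nat.add_sub_cancel] at hup
          have e : (r + 1) ^ 3 - (r + 1) = r * ((r + 1) ^ 2 + (r + 1)) := by
            have : (r + 1) ^ 3 = r * ((r + 1) ^ 2 + (r + 1)) + (r + 1) := by ring
            omega
          rw [e] at hup
          have hup' : r * k ≤ r * ((r + 1) ^ 2 + (r + 1) + 8) := by
            calc r * k ≤ r * ((r + 1) ^ 2 + (r + 1)) + 8 * r := hup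
              _ = r * ((r + 1) ^ 2 + (r + 1) + 8) := by ring
          have hk : k ≤ (r + 1) ^ 2 + (r + 1) + 8 := Nat.le_of_mul_le_mul_left hup' (by omega)
          have hr : 3 ≤ r := by omega
          norm_num
          constructor
          · nlinarith
          · nlinarith
    · have hk := case_big q n k hq hn4 hup
      refine ⟨?_, fun _ => hk⟩
      obtain ⟨m, rfl⟩ : ∃ m, n = m + 2 := ⟨n - 2, by omega⟩
      have e1 : m + 2 - 1 = m + 1 := by omega
      have e2 : m + 2 - 2 = m := by omega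
      rw [e1, e2] at hk
      rw [e1]
      have e3 : q ^ (m + 1) = q * q ^ m := by ring
      rw [e3] at hk ⊢
      have hp : 0 < q ^ m := pow_pos (by omega) _
      nlinarith

end Cfsg.Agent.S2479P
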