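import Mathlib
import Cfsg.Agent.Helper14.GLk.Defs
import Cfsg.Agent.Helper14.SLk.Defs
import Cfsg.Agent.Helper14.PSLk.Defs
import Cfsg.Agent.Helper26.S2478ARITH
import Cfsg.Agent.Helper27.S2479ARITHBIG
import Cfsg.Agent.Helper27.S2479ARITH

/-!
# S2480, piece ARITH2: the final inequalities for the class number of `PSL_n(q)`
-/

set_option autoImplicit false

namespace Cfsg.Agent.S2480P

open Cfsg.Agent.S2478P Cfsg.Agent.S2479P

namespace ARITH2

theorem U_def (q m : ℕ) : U q m = A q m m +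
    ∑ d ∈ (Nat.gcd m (q - 1)).divisors.filter (fun d => 2 ≤ d),
      (d ^ 2 - 1) * A q (m / d) (m / d) := rfl

theorem U_one (q : ℕ) : U q 1 = q - 1 := by
  rw [U_def]
  have h1 : Nat.gcd 1 (q - 1) = 1 := Nat.gcd_one_left _
  rw [h1]
  have : (Nat.divisors 1).filter (fun d => 2 ≤ d) = ∅ := by decide
  rw [this, Finset.sum_empty, add_zero, ARITHF.A_one_one]

theorem U_two_le (q : ℕ) (hq : 2 ≤ q) : U q 2 ≤ q ^ 2 + 3 * q := by
  rw [U_def]
  have hA : A q 2 2 ≤ q ^ 2 := (A_bound q hq 2 2).1 le_rfl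
  have hg : Nat.gcd 2 (q - 1) ∣ 2 := Nat.gcd_dvd_left _ _
  rcases (Nat.dvd_prime Nat.prime_two).1 hg with h | h
  · rw [h]
    have : (Nat.divisors 1).filter (fun d => 2 ≤ d) = ∅ := by decide
    rw [this, Finset.sum_empty]
    omega
  · rw [h]
    have : (Nat.divisors 2).filter (fun d => 2 ≤ d) = {2} := by decide
    rw [this, Finset.sum_singleton]
    norm_num
    rw [ARITHF.A_one_one]
    omega

theorem U_three_le (q : ℕ) (hq : 2 ≤ q) : U q 3 ≤ q ^ 3 + 8 * q := by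
  rw [U_def]
  have hA : A q 3 3 ≤ q ^ 3 := (A_bound q hq 3 3).1 le_rfl
  have hg : Nat.gcd 3 (q - 1) ∣ 3 := Nat.gcd_dvd_left _ _
  rcases (Nat.dvd_prime Nat.prime_three).1 hg with h | h
  · rw [h]
    have : (Nat.divisors 1).filter (fun d => 2 ≤ d) = ∅ := by decide
    rw [this, Finset.sum_empty]
    omega
  · rw [h]
    have : (Nat.divisors 3).filter (fun d => 2 ≤ d) = {3} := by decide
    rw [this, Finset.sum_singleton]
    norm_num
    rw [ARITHF.A_one_one]
    omega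

theorem U_big_le (q m : ℕ) (hq : 2 ≤ q) (hm : 4 ≤ m) : U q m ≤ q ^ m + 2 * q ^ (m - 1) := by
  rw [U_def]
  have hA : A q m m ≤ q ^ m := (A_bound q hq m m).1 le_rfl
  have h2 : ∑ d ∈ (Nat.gcd m (q - 1)).divisors.filter (fun d => 2 ≤ d),
      (d ^ 2 - 1) * A q (m / d) (m / d) ≤
      ∑ d ∈ (Nat.gcd m (q - 1)).divisors.filter (fun d => 2 ≤ d), (d ^ 2 - 1) * q ^ (m / d) := by
    apply Finset.sum_le_sum
    intro d _
    exact Nat.mul_le_mul_left _ ((A_bound q hq (m / d) (m / d)).1 le_rfl)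
  have h3 := sum_div_bound q m hq hm
  omega

/-- the bound `U q m ≤ 2 q^(n-2)` when `n = o * m`, `o ≥ 2`, `n ≥ 3`, `q ≥ 3` -/
theorem U_le_two_pow (q o m : ℕ) (hq : 3 ≤ q) (ho : 2 ≤ o) (hm : 1 ≤ m) (hn : 3 ≤ o * m) :
    U q m ≤ 2 * q ^ (o * m - 2) := by
  have hq1 : 1 ≤ q := by omega
  have hom : 2 * m ≤ o * m := Nat.mul_le_mul_right m ho
  rcases Nat.lt_or_ge m 4 with hm4 | hm4
  · interval_cases m
    · -- m = 1
      rw [U_one]
      have h1 : q ^ 1 ≤ q ^ (o * 1 - 2) := Nat.pow_le_pow_right hq1 (by omega)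
      rw [pow_one] at h1
      omega
    · -- m = 2
      have h := U_two_le q (by omega)
      have h1 : q ^ 2 ≤ q ^ (o * 2 - 2) := Nat.pow_le_pow_right hq1 (by omega)
      have h2 : 3 * q ≤ q ^ 2 := by nlinarith
      omega
    · -- m = 3
      have h := U_three_le q (by omega)
      have h1 : q ^ 4 ≤ q ^ (o * 3 - 2) := Nat.pow_le_pow_right hq1 (by omega)
      have h2 : q ^ 3 + 8 * q ≤ 2 * q ^ 4 := by
        have h9 : 9 ≤ q ^ 2 := by nlinarith
        have h27 : 27 ≤ q ^ 3 := by nlinarith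
        nlinarith
      omega
  · have h := U_big_le q m (by omega) hm4
    have h1 : q ^ (m + 1) ≤ q ^ (o * m - 2) := Nat.pow_le_pow_right hq1 (by omega)
    have h2 : q ^ m + 2 * q ^ (m - 1) ≤ 2 * q ^ (m + 1) := by
      obtain ⟨j, rfl⟩ : ∃ j, m = j + 1 := ⟨m - 1, by omega⟩
      simp only [Nat.add_sub_cancel]
      have e1 : q ^ (j + 1) = q * q ^ j := by ring
      have e2 : q ^ (j + 1 + 1) = q ^ 2 * q ^ j := by ring
      rw [e1, e2]
      have hp : 0 < q ^ j := pow_pos (by omega) _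
      have hq2 : q + 2 ≤ 2 * q ^ 2 := by nlinarith
      have := Nat.mul_le_mul_right (q ^ j) hq2
      nlinarith
    omega

/-- the case `n = 2`: bound for `k` -/
theorem k_le_two (q k : ℕ) (hq : 2 ≤ q) (hk : (q - 1) * k ≤ U q 2) :
    (Nat.gcd 2 (q - 1) = 1 ∧ k ≤ q + 1) ∨ (Nat.gcd 2 (q - 1) = 2 ∧ k ≤ q + 4) := by
  rw [U_def] at hk
  have hg : Nat.gcd 2 (q - 1) ∣ 2 := Nat.gcd_dvd_left _ _
  obtain ⟨r, rfl⟩ : ∃ r, q = r + 1 := ⟨q - 1, by omega⟩
  have e : (r + 1) ^ 2 - 1 = r * (r + 2) := by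
    have : (r + 1) ^ 2 = r * (r + 2) + 1 := by ring
    omega
  rcases (Nat.dvd_prime Nat.prime_two).1 hg with h | h
  · left
    refine ⟨h, ?_⟩
    rw [h] at hk
    have : (Nat.divisors 1).filter (fun d => 2 ≤ d) = ∅ := by decide
    rw [this, Finset.sum_empty, add_zero, ARITHF.A_two_two (r + 1) (by omega)] at hk
    simp only [Nat.add_sub_cancel] at hk
    rw [e] at hk
    have hk' : k ≤ r + 2 := Nat.le_of_mul_le_mul_left hk (by omega)
    omega
  · right
    refine ⟨h, ?_⟩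
    rw [h] at hk
    have : (Nat.divisors 2).filter (fun d => 2 ≤ d) = {2} := by decide
    rw [this, Finset.sum_singleton, ARITHF.A_two_two (r + 1) (by omega)] at hk
    norm_num at hk
    rw [ARITHF.A_one_one] at hk
    simp only [Nat.add_sub_cancel] at hk
    rw [e] at hk
    have hup' : r * k ≤ r * (r + 5) := by
      calc r * k ≤ r * (r + 2) + 3 * r := hk
        _ = r * (r + 5) := by ring
    have hk' : k ≤ r + 5 := Nat.le_of_mul_le_mul_left hup' (by omega)
    omega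

end ARITH2

open ARITH2 in
/-- piece ARITH2 -/
theorem final_arith_psl (q n k k' M : ℕ) (hq : 2 ≤ q) (hn : 2 ≤ n)
    (hk : (q - 1) * k ≤ U q n) (hklow : q ^ (n - 1) < k)
    (hlow : k ≤ Nat.gcd n (q - 1) * k')
    (hM : 2 ≤ Nat.gcd n (q - 1) →
      ∃ o, 2 ≤ o ∧ o ∣ Nat.gcd n (q - 1) ∧ (q - 1) * M ≤ U q (n / o))
    (hburn : Nat.gcd n (q - 1) * k' ≤ k + (Nat.gcd n (q - 1) - 1) * M) :
    q ^ (n - 1) ≤ Nat.gcd n (q - 1) * k' ∧
      Nat.gcd n (q - 1) * k' ≤ q ^ (n - 1) + 5 * q ^ (n - 2) := by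
  refine ⟨le_trans hklow.le hlow, ?_⟩
  have hdq : Nat.gcd n (q - 1) ∣ q - 1 := Nat.gcd_dvd_right _ _
  have hdn : Nat.gcd n (q - 1) ∣ n := Nat.gcd_dvd_left _ _
  have hdle : Nat.gcd n (q - 1) ≤ q - 1 := Nat.le_of_dvd (by omega) hdq
  have hdpos : 1 ≤ Nat.gcd n (q - 1) := Nat.gcd_pos_of_pos_left _ (by omega)
  rcases Nat.lt_or_ge n 3 with hn3 | hn3
  · -- n = 2
    obtain rfl : n = 2 := by omega
    norm_num
    rcases k_le_two q k hq hk with ⟨hd, hk2⟩ | ⟨hd, hk2⟩
    · rw [hd] at hburn ⊢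
      omega
    · have hM' := hM (by omega)
      rw [hd] at hburn hM' ⊢
      obtain ⟨o, ho2, hod, hMo⟩ := hM'
      have ho : o = 2 := by
        have := Nat.le_of_dvd (by norm_num) hod
        omega
      subst ho
      norm_num at hMo
      rw [U_one] at hMo
      have hM1 : M ≤ 1 := by
        have : (q - 1) * M ≤ (q - 1) * 1 := by omega
        exact Nat.le_of_mul_le_mul_left this (by omega)
      omega
  · -- n ≥ 3
    have hlow' : q ^ n - q ^ (n - 1) + 1 ≤ (q - 1) * k := by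
      obtain ⟨m, rfl⟩ : ∃ m, n = m + 1 := ⟨n - 1, by omega⟩
      obtain ⟨r, rfl⟩ : ∃ r, q = r + 1 := ⟨q - 1, by omega⟩
      simp only [Nat.add_sub_cancel] at hklow ⊢
      have e : (r + 1) ^ (m + 1) - (r + 1) ^ m = r * (r + 1) ^ m := by
        have : (r + 1) ^ (m + 1) = r * (r + 1) ^ m + (r + 1) ^ m := by ring
        omega
      rw [e]
      have h1 : r * ((r + 1) ^ m + 1) ≤ r * k := Nat.mul_le_mul_left r hklow
      have hr : 1 ≤ r := by omega
      nlinarith
    have hk3 : k ≤ q ^ (n - 1) + 3 * q ^ (n - 2) :=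
      (final_arith q n k hq hn hlow' hk).2.2 hn3
    have hM2 : (Nat.gcd n (q - 1) - 1) * M ≤ 2 * q ^ (n - 2) := by
      rcases Nat.lt_or_ge (Nat.gcd n (q - 1)) 2 with h | h
      · have : Nat.gcd n (q - 1) = 1 := by omega
        rw [this]
        simp
      · obtain ⟨o, ho2, hod, hMo⟩ := hM h
        have hon : o ∣ n := hod.trans hdn
        obtain ⟨m, rfl⟩ := hon
        have hopos : 0 < o := by omega
        rw [Nat.mul_div_cancel_left m hopos] at hMo
        have hm : 1 ≤ m := by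
          rcases Nat.eq_zero_or_pos m with h0 | h0
          · subst h0
            omega
          · exact h0
        have hq3 : 3 ≤ q := by omega
        have h1 : (Nat.gcd (o * m) (q - 1) - 1) * M ≤ (q - 1) * M :=
          Nat.mul_le_mul_right M (by omega)
        have h2 := U_le_two_pow q o m hq3 ho2 hm hn3
        omega
    omega

end Cfsg.Agent.S2480P
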