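import Cfsg.Agent.Helper5.S2932Defs

/-! # S2932 board `s2932pieces`, row FIELD2 (helper27): an involutory automorphism of a finite field is
`x ↦ x ^ |Fix σ|`. -/

set_option autoImplicit false

namespace Cfsg.Agent.S2932P

section field

variable {F : Type} [Field F] [Fintype F] {p : ℕ} [Fact p.Prime] [CharP F p]

/-- Row FIELD2 (M). -/
theorem field_invol (σ : F ≃+* F) (h : ∀ a : F, σ (σ a) = a) (a : F) :
    σ a = a ^ Nat.card {b : F // σ b = b} := by
  classical
  let K : Subfield F := (σ : F →+* F).eqLocusField (RingHom.id F)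
  have hK : ∀ x : F, x ∈ K ↔ σ x = x := fun x => Iff.rfl
  haveI : Fintype K := Fintype.ofFinite K
  have hk : Nat.card {b : F // σ b = b} = Fintype.card K := by
    rw [← Nat.card_eq_fintype_card]
    exact Nat.card_congr (Equiv.subtypeEquivRight (fun x => (hK x).symm))
  rw [hk]
  set k := Fintype.card K with hkdef
  let φ := FiniteField.frobeniusAlgHom K F
  have hφ : ∀ x, φ x = x ^ k := fun x => rfl
  have hfixK : ∀ x : F, σ x = x → x ^ k = x := by
    intro x hx
    have := φ.commutes ⟨x, (hK x).mpr hx⟩
    rw [hφ] at this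
    exact this
  have hs : σ (a + σ a) = a + σ a := by rw [map_add, h, add_comm]
  have hm : σ (a * σ a) = a * σ a := by rw [map_mul, h, mul_comm]
  have hroot : (a ^ k - a) * (a ^ k - σ a) = 0 := by
    have h0 : a ^ 2 - (a + σ a) * a + a * σ a = 0 := by ring
    have h1 := congrArg φ h0
    rw [map_zero, map_add, map_sub, map_pow, map_mul, hφ (a + σ a), hφ (a * σ a), hfixK _ hs,
      hfixK _ hm, hφ a] at h1
    rw [← h1]
    ring
  rcases mul_eq_zero.mp hroot with h1 | h1
  · -- `a ^ k = a`: then `a ∈ K`
    have hak : a ^ k = a := sub_eq_zero.mp h1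
    have hk1 : 1 < k := Fintype.one_lt_card
    have hP0 : (Polynomial.X ^ k - Polynomial.X : Polynomial F) ≠ 0 :=
      FiniteField.X_pow_card_sub_X_ne_zero F hk1
    have hdeg : (Polynomial.X ^ k - Polynomial.X : Polynomial F).natDegree = k :=
      FiniteField.X_pow_card_sub_X_natDegree_eq F hk1
    have hcard : (Polynomial.X ^ k - Polynomial.X : Polynomial F).roots.toFinset.card ≤ k := by
      calc (Polynomial.X ^ k - Polynomial.X : Polynomial F).roots.toFinset.card
          ≤ Multiset.card (Polynomial.X ^ k - Polynomial.X : Polynomial F).roots :=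
            Multiset.toFinset_card_le _
        _ ≤ (Polynomial.X ^ k - Polynomial.X : Polynomial F).natDegree := Polynomial.card_roots' _
        _ = k := hdeg
    have hmemroots : ∀ x : F, x ^ k = x →
        x ∈ (Polynomial.X ^ k - Polynomial.X : Polynomial F).roots.toFinset := by
      intro x hx
      rw [Multiset.mem_toFinset, Polynomial.mem_roots hP0, Polynomial.IsRoot.def]
      simp [hx]
    let KF : Finset F := Finset.univ.filter fun x => σ x = x
    have hKF : KF.card = k := by
      rw [hkdef, Fintype.card_of_subtype KF]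
      intro x
      rw [Finset.mem_filter]
      exact ⟨fun hx => (hK x).mpr hx.2, fun hx => ⟨Finset.mem_univ _, (hK x).mp hx⟩⟩
    have hsub : KF ⊆ (Polynomial.X ^ k - Polynomial.X : Polynomial F).roots.toFinset := by
      intro x hx
      rw [Finset.mem_filter] at hx
      exact hmemroots x (hfixK x hx.2)
    have heq := Finset.eq_of_subset_of_card_le hsub (by rw [hKF]; exact hcard)
    have ha : a ∈ KF := by rw [heq]; exact hmemroots a hak
    rw [Finset.mem_filter] at ha
    rw [ha.2, hak]
  · exact (sub_eq_zero.mp h1).symm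

end field

end Cfsg.Agent.S2932P
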