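import Mathlib
import Cfsg.Agent.Helper16.S3174Defs
import Cfsg.Agent.Helper23.S3174MSUB
import Cfsg.Agent.Helper28.D4Equiv

/-! # S3174, piece D8: `T / W` is dihedral of order 8. -/

set_option autoImplicit false

namespace Cfsg.Agent.S3174P

open scoped commutatorElement

variable {T : Type*} [Group T] [Finite T]

set_option linter.unusedSectionVars false

/-- in a group of order 2 two non-identity elements coincide -/
theorem d8_aux_card_two (A : Subgroup T) (h2 : Nat.card ↥A = 2) (a b : T) (ha : a ∈ A) (hb : b ∈ A)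
    (ha1 : a ≠ 1) (hb1 : b ≠ 1) : a = b := by
  obtain ⟨y, _, hy⟩ := (Nat.card_eq_two_iff' (1 : ↥A)).mp h2
  have h1 : (⟨a, ha⟩ : ↥A) = y := hy _ (fun h => ha1 (by simpa using congrArg Subtype.val h))
  have h3 : (⟨b, hb⟩ : ↥A) = y := hy _ (fun h => hb1 (by simpa using congrArg Subtype.val h))
  have := h1.trans h3.symm
  simpa using congrArg Subtype.val this

/-- a four-element subgroup containing four distinct elements consists of them -/
theorem d8_aux_card_four {Q : Type*} [Group Q] [Finite Q] (A : Subgroup Q) (h4 : Nat.card ↥A = 4)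
    (x y : Q) (hx : x ∈ A) (hy : y ∈ A) (hx1 : x ≠ 1) (hy1 : y ≠ 1) (hxy : x ≠ y) (hxy1 : x * y ≠ 1)
    (q : Q) (hq : q ∈ A) : q = 1 ∨ q = x ∨ q = y ∨ q = x * y := by
  classical
  let _ : Fintype ↥A := Fintype.ofFinite _
  by_contra hcon
  push Not at hcon
  obtain ⟨hq1, hqx, hqy, hqxy⟩ := hcon
  have hxxy : x ≠ x * y := fun h => hy1 (by
    have : x * 1 = x * y := by rw [mul_one]; exact h
    exact (mul_left_cancel this).symm)
  have hyxy : y ≠ x * y := fun h => hx1 (by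
    have : 1 * y = x * y := by rw [one_mul]; exact h
    exact (mul_right_cancel this).symm)
  let S : Finset ↥A := {⟨1, A.one_mem⟩, ⟨x, hx⟩, ⟨y, hy⟩, ⟨x * y, A.mul_mem hx hy⟩, ⟨q, hq⟩}
  have hS : S.card = 5 := by
    simp only [S]
    rw [Finset.card_insert_of_notMem, Finset.card_insert_of_notMem, Finset.card_insert_of_notMem,
      Finset.card_insert_of_notMem, Finset.card_singleton]
    · simp only [Finset.mem_singleton, Subtype.mk.injEq]; exact fun h => hqxy h.symm
    · simp only [Finset.mem_insert, Finset.mem_singleton, Subtype.mk.injEq]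
      rintro (h | h)
      · exact hyxy h
      · exact hqy h.symm
    · simp only [Finset.mem_insert, Finset.mem_singleton, Subtype.mk.injEq]
      rintro (h | h | h)
      · exact hxy h
      · exact hxxy h
      · exact hqx h.symm
    · simp only [Finset.mem_insert, Finset.mem_singleton, Subtype.mk.injEq]
      rintro (h | h | h | h)
      · exact hx1 h.symm
      · exact hy1 h.symm
      · exact hxy1 h.symm
      · exact hq1 h.symm
  have h5 : S.card ≤ Fintype.card ↥A := Finset.card_le_univ S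
  rw [← Nat.card_eq_fintype_card, h4, hS] at h5
  omega

/-- D8 -/
theorem d8 {W : Subgroup T} (c : Cfg T W) : ∃ (_ : W.Normal), Nonempty (T ⧸ W ≃* DihedralGroup 4) := by
  classical
  have hWn : W.Normal := c.nW
  refine ⟨c.nW, ?_⟩
  obtain ⟨hWM, hMidx, hsq, hcm, hfix, t, ht, t', ht', htW, ht'W, htt'W⟩ := msub c
  have hMn : (Mc T).Normal := Subgroup.normal_of_index_eq_two hMidx
  -- basic containments
  have h12 : Zi T 1 ≤ Zi T 2 := Subgroup.upperCentralSeries_mono T (by norm_num)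
  have h23 : Zi T 2 ≤ Zi T 3 := Subgroup.upperCentralSeries_mono T (by norm_num)
  -- `x3 ∈ Z_3 \ Z_2`
  obtain ⟨x3, hx3, hx32⟩ : ∃ x3 ∈ Zi T 3, x3 ∉ Zi T 2 := by
    by_contra hcon
    push Not at hcon
    have hle : Zi T 3 ≤ Zi T 2 := fun x hx => hcon x hx
    have := Subgroup.card_le_of_le hle
    rw [c.c2, c.c3] at this
    omega
  -- `⁅g, x3⁆ ∈ Z_2`
  have hψ : ∀ g : T, ⁅g, x3⁆ ∈ Zi T 2 := by
    intro g
    have hx3' : x3 ∈ Subgroup.upperCentralSeries T (2 + 1) := hx3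
    rw [Subgroup.mem_upperCentralSeries_succ_iff] at hx3'
    have h1 := hx3' g
    have h2 : ⁅g, x3⁆ = (x3 * g * x3⁻¹ * g⁻¹)⁻¹ := by
      rw [commutatorElement_def]; group
    rw [h2]
    exact Subgroup.inv_mem _ h1
  -- elements of `M` commute with elements of `Z_2`
  have hMc : ∀ g ∈ Mc T, ∀ z ∈ Zi T 2, z * g = g * z := by
    intro g hg z hz
    exact (Subgroup.mem_centralizer_iff.mp hg) z hz
  -- elements of `W` commute with elements of `Z_3`
  have hWc : ∀ w ∈ W, ∀ z ∈ Zi T 3, z * w = w * z := by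
    intro w hw z hz
    rw [c.hW] at hw
    exact (Subgroup.mem_centralizer_iff.mp hw) z hz
  -- for `g ∈ M \ W`, `⁅g, x3⁆ ≠ 1`
  have hψne : ∀ g ∈ Mc T, g ∉ W → ⁅g, x3⁆ ≠ 1 := by
    intro g hg hgW h1
    apply hx32
    apply hfix g hg hgW x3 hx3
    rw [commutatorElement_def] at h1
    have : g * x3 * g⁻¹ * x3⁻¹ * x3 = 1 * x3 := by rw [h1]
    simpa using this
  -- `⁅t, x3⁆ ≠ ⁅t', x3⁆`
  have hψtt' : ⁅t, x3⁆ ≠ ⁅t', x3⁆ := by
    intro h
    apply hx32
    apply hfix (t⁻¹ * t') ((Mc T).mul_mem ((Mc T).inv_mem ht) ht') htt'W x3 hx3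
    rw [commutatorElement_def, commutatorElement_def] at h
    have h1 : t * x3 * t⁻¹ = t' * x3 * t'⁻¹ := by
      have : t * x3 * t⁻¹ * x3⁻¹ * x3 = t' * x3 * t'⁻¹ * x3⁻¹ * x3 := by rw [h]
      simpa using this
    calc t⁻¹ * t' * x3 * (t⁻¹ * t')⁻¹ = t⁻¹ * (t' * x3 * t'⁻¹) * t := by group
      _ = t⁻¹ * (t * x3 * t⁻¹) * t := by rw [h1]
      _ = x3 := by group
  -- `b ∈ M \ W` with `⁅b, x3⁆ ∉ Z_1`
  obtain ⟨b, hb, hbW, hmb⟩ : ∃ b ∈ Mc T, b ∉ W ∧ ⁅b, x3⁆ ∉ Zi T 1 := by
    by_cases h1 : ⁅t, x3⁆ ∈ Zi T 1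
    · refine ⟨t', ht', ht'W, fun h2 => ?_⟩
      exact hψtt' (d8_aux_card_two (Zi T 1) c.c1 _ _ h1 h2 (hψne t ht htW) (hψne t' ht' ht'W))
    · exact ⟨t, ht, htW, h1⟩
  set m : T := ⁅b, x3⁆ with hm
  have hm2 : m ∈ Zi T 2 := hψ b
  have hbx : b * x3 * b⁻¹ = m * x3 := by
    rw [hm, commutatorElement_def]; group
  -- `k ∉ M`
  obtain ⟨k, hk⟩ : ∃ k : T, k ∉ Mc T := by
    by_contra hcon
    push Not at hcon
    have : Mc T = ⊤ := by
      rw [eq_top_iff]; intro x _; exact hcon x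
    rw [this, Subgroup.index_top] at hMidx
    omega
  -- `k` does not commute with `m`
  have hkm : k * m * k⁻¹ ≠ m := by
    intro h
    apply hk
    rw [Subgroup.mem_centralizer_iff]
    intro z hz
    have hcard : Nat.card ↥(Zi T 2) = 2 * Nat.card ↥(Zi T 1) := by rw [c.c1, c.c2]
    have hkm' : m * k = k * m := by
      have : k * m * k⁻¹ * k = m * k := by rw [h]
      simpa using this.symm
    have hcen : ∀ y ∈ Zi T 1, y * k = k * y := by
      intro y hy
      have hy' : y ∈ Subgroup.center T := by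
        have : Zi T 1 = Subgroup.center T := Subgroup.upperCentralSeries_one T
        rw [← this]; exact hy
      exact (Subgroup.mem_center_iff.mp hy' k).symm
    rcases msub_aux_idx2 (Zi T 1) (Zi T 2) h12 hcard m hm2 hmb z hz with h1 | h1
    · exact hcen z h1
    · have h2 := hcen _ h1
      calc z * k = m * (m⁻¹ * z) * k := by group
        _ = m * (m⁻¹ * z * k) := by group
        _ = m * (k * (m⁻¹ * z)) := by rw [h2]
        _ = (m * k) * (m⁻¹ * z) := by group
        _ = (k * m) * (m⁻¹ * z) := by rw [hkm']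
        _ = k * z := by group
  -- the quotient
  have h8 : Nat.card (T ⧸ W) = 8 := by
    rw [← Subgroup.index_eq_card, c.idx]
  let x : T ⧸ W := QuotientGroup.mk b
  let d : T ⧸ W := QuotientGroup.mk k
  have hb' : k * b * k⁻¹ ∈ Mc T := hMn.conj_mem b hb k
  have hdx : d * x * d⁻¹ = QuotientGroup.mk (k * b * k⁻¹) := by
    simp only [x, d, QuotientGroup.mk_mul, QuotientGroup.mk_inv]
  have hxx : x * x = 1 := by
    show (QuotientGroup.mk b : T ⧸ W) * QuotientGroup.mk b = 1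
    rw [← QuotientGroup.mk_mul, QuotientGroup.eq_one_iff]
    exact hsq b hb
  have hne : d * x * d⁻¹ ≠ x := by
    rw [hdx]
    intro h
    have h1 : (k * b * k⁻¹)⁻¹ * b ∈ W := QuotientGroup.eq.mp h
    -- w := b⁻¹ * (k b k⁻¹) ∈ W
    have hw : b⁻¹ * (k * b * k⁻¹) ∈ W := by
      have := W.inv_mem h1
      simpa [mul_assoc] using this
    set w : T := b⁻¹ * (k * b * k⁻¹) with hwdef
    have hkb : k * b * k⁻¹ = b * w := by rw [hwdef]; group
    have hwx : x3 * w = w * x3 := hWc w hw x3 hx3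
    -- first computation
    have e1 : (k * b * k⁻¹) * x3 * (k * b * k⁻¹)⁻¹ = m * x3 := by
      rw [hkb]
      calc b * w * x3 * (b * w)⁻¹ = b * (w * x3) * w⁻¹ * b⁻¹ := by group
        _ = b * (x3 * w) * w⁻¹ * b⁻¹ := by rw [hwx]
        _ = b * x3 * b⁻¹ := by group
        _ = m * x3 := hbx
    -- second computation
    set c' : T := ⁅k⁻¹, x3⁆ with hc'
    have hc'2 : c' ∈ Zi T 2 := hψ k⁻¹
    have hkx : k⁻¹ * x3 * k = c' * x3 := by
      rw [hc', commutatorElement_def]; group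
    have hbc' : c' * b = b * c' := hMc b hb c' hc'2
    have hmc' : c' * m = m * c' := by
      have hmW : m ∈ W := c.ZW (h23 hm2)
      exact hWc m hmW c' (h23 hc'2)
    have e2 : (k * b * k⁻¹) * x3 * (k * b * k⁻¹)⁻¹ = (k * m * k⁻¹) * x3 := by
      calc (k * b * k⁻¹) * x3 * (k * b * k⁻¹)⁻¹ = k * b * (k⁻¹ * x3 * k) * b⁻¹ * k⁻¹ := by group
        _ = k * b * (c' * x3) * b⁻¹ * k⁻¹ := by rw [hkx]
        _ = k * (b * c') * x3 * b⁻¹ * k⁻¹ := by group
        _ = k * (c' * b) * x3 * b⁻¹ * k⁻¹ := by rw [hbc']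
        _ = k * c' * (b * x3 * b⁻¹) * k⁻¹ := by group
        _ = k * c' * (m * x3) * k⁻¹ := by rw [hbx]
        _ = k * (c' * m) * x3 * k⁻¹ := by group
        _ = k * (m * c') * x3 * k⁻¹ := by rw [hmc']
        _ = k * m * k⁻¹ * (k * (c' * x3) * k⁻¹) := by group
        _ = k * m * k⁻¹ * (k * (k⁻¹ * x3 * k) * k⁻¹) := by rw [hkx]
        _ = k * m * k⁻¹ * x3 := by group
    apply hkm
    have := e2.symm.trans e1
    exact mul_right_cancel this
  have hcomm : x * (d * x * d⁻¹) = (d * x * d⁻¹) * x := by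
    rw [hdx]
    show (QuotientGroup.mk b : T ⧸ W) * QuotientGroup.mk (k * b * k⁻¹)
      = QuotientGroup.mk (k * b * k⁻¹) * QuotientGroup.mk b
    rw [← QuotientGroup.mk_mul, ← QuotientGroup.mk_mul, QuotientGroup.eq]
    have h1 := hcm (k * b * k⁻¹)⁻¹ ((Mc T).inv_mem hb') b⁻¹ ((Mc T).inv_mem hb)
    have h2 : (b * (k * b * k⁻¹))⁻¹ * (k * b * k⁻¹ * b) = ⁅(k * b * k⁻¹)⁻¹, b⁻¹⁆ := by
      rw [commutatorElement_def]; group
    rw [h2]; exact h1
  -- the image of `M` in the quotient has order 4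
  let Mq : Subgroup (T ⧸ W) := (Mc T).map (QuotientGroup.mk' W)
  have hMq_idx : Mq.index = 2 := by
    have := Subgroup.index_map_eq (Mc T) (QuotientGroup.mk'_surjective W)
      (by rw [QuotientGroup.ker_mk']; exact hWM)
    rw [this]; exact hMidx
  have hMq_card : Nat.card ↥Mq = 4 := by
    have := Mq.card_mul_index
    rw [hMq_idx, h8] at this
    omega
  have hxM : x ∈ Mq := ⟨b, hb, rfl⟩
  have hyM : d * x * d⁻¹ ∈ Mq := by rw [hdx]; exact ⟨k * b * k⁻¹, hb', rfl⟩
  have hddM : d * d ∈ Mq := by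
    refine ⟨k * k, ?_, rfl⟩
    have := Subgroup.sq_mem_of_index_two hMidx k
    rwa [pow_two] at this
  have hx1 : x ≠ 1 := by
    intro h
    apply hbW
    exact (QuotientGroup.eq_one_iff b).mp h
  have hy1 : d * x * d⁻¹ ≠ 1 := by
    intro h
    apply hx1
    have : x = d⁻¹ * (d * x * d⁻¹) * d := by group
    rw [this, h]; group
  have hxy1 : x * (d * x * d⁻¹) ≠ 1 := by
    intro h
    apply hne
    have hxinv : x⁻¹ = x := inv_eq_of_mul_eq_one_left hxx
    have := (inv_eq_of_mul_eq_one_right h).symm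
    rw [this, hxinv]
  have hd : d * d = 1 ∨ d * d = x * (d * x * d⁻¹) := by
    rcases d8_aux_card_four Mq hMq_card x (d * x * d⁻¹) hxM hyM hx1 hy1 (Ne.symm hne) hxy1
      (d * d) hddM with h | h | h | h
    · exact Or.inl h
    · exfalso
      apply hne
      rw [← h]; group
    · exfalso
      apply hne
      -- d * d = d x d⁻¹ ⇒ x = d
      have h1 : x = d⁻¹ * (d * d) * d := by rw [h]; group
      have h2 : d⁻¹ * (d * d) * d = d * d := by group
      rw [← h, ← h2]
      exact h1.symm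
    · exact Or.inr h
  obtain ⟨e⟩ := Cfsg.Agent.Helper28.D4.equiv_of_conj h8 x d hxx hne hcomm hd
  exact ⟨e.symm⟩

end Cfsg.Agent.S3174P
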