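import Mathlib
import Cfsg.Agent.Helper5.VL.Defs
import Cfsg.Agent.Helper27.S3777KER
import Cfsg.Agent.Helper18.VLIDX
import Cfsg.Agent.Helper1.VLHOMCOUNT

/-! # S3777 piece CLPTLOW (`clpt_lower`) (helper27). -/

set_option autoImplicit false
set_option linter.style.haveILetI false
set_option linter.unusedSectionVars false
set_option linter.unusedVariables false

namespace Cfsg.Agent.Helper5.VL

open Subgroup
open scoped commutatorElement

universe u
variable {p : ℕ} [Fact p.Prime] {G : Type u} [Group G] [Finite G]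

theorem clpt_aux_split {α : Type*} [Finite α] (P Q : α → Prop) :
    Nat.card {a // P a} = Nat.card {a // P a ∧ Q a} + Nat.card {a // P a ∧ ¬ Q a} := by
  classical
  haveI := Fintype.ofFinite α
  simp only [Nat.card_eq_fintype_card, Fintype.card_subtype]
  rw [← Finset.filter_filter, ← Finset.filter_filter]
  exact (Finset.card_filter_add_card_filter_not (s := Finset.univ.filter P) Q).symm

theorem clpt_aux_mono {α : Type*} [Finite α] (P Q : α → Prop) (h : ∀ a, P a → Q a) :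
    Nat.card {a // P a} ≤ Nat.card {a // Q a} :=
  Nat.card_le_card_of_injective (fun a => (⟨a.1, h a.1 a.2⟩ : {a // Q a}))
    (fun a b hab => Subtype.ext (by
      have := congrArg Subtype.val hab
      exact this))

/-- two subgroups `H ≤ K` of equal index in a finite group are equal. -/
theorem clpt_aux_eq_of_index {H K : Subgroup G} (hle : H ≤ K) (hidx : H.index = K.index) : K ≤ H := by
  rw [← Subgroup.relIndex_eq_one]
  have h1 := Subgroup.relIndex_mul_index hle
  rw [hidx] at h1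
  have hK : K.index ≠ 0 := Subgroup.index_ne_zero_of_finite
  have : H.relIndex K * K.index = 1 * K.index := by rw [h1, one_mul]
  exact Nat.eq_of_mul_eq_mul_right (Nat.pos_of_ne_zero hK) this

/-- own copy of ZCOMM: an element of `ker φ` commuting with some `c ∉ ker φ` lies in `Zs φ`. -/
theorem clpt_aux_mem_Zs {φ : Fn p G} {x c : G} (hx : x ∈ φ.ker) (hc : c ∉ φ.ker)
    (hcomm : c * x = x * c) : x ∈ Zs φ := by
  rw [mem_Zs]
  refine ⟨hx, fun g => ?_⟩
  have hcard : Nat.card (Multiplicative (ZMod p)) = p := by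
    rw [Nat.card_eq_fintype_card, Fintype.card_multiplicative, ZMod.card]
  have hc1 : φ c ≠ 1 := fun h => hc (MonoidHom.mem_ker.mpr h)
  have hmem : φ g ∈ zpowers (φ c) := mem_zpowers_of_prime_card hcard hc1
  obtain ⟨i, hi⟩ := hmem
  have hm : g * (c ^ i)⁻¹ ∈ φ.ker := by
    rw [MonoidHom.mem_ker, map_mul, map_inv, map_zpow]
    rw [← hi]
    exact mul_inv_cancel _
  have hci : c ^ i * x = x * c ^ i := by
    have : Commute c x := hcomm
    exact (this.zpow_left i).eq
  have e : ⁅x, g⁆ = ⁅x, g * (c ^ i)⁻¹⁆ := by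
    rw [commutatorElement_def, commutatorElement_def]
    have h2 : c ^ i * x⁻¹ * (c ^ i)⁻¹ = x⁻¹ := by
      have h3 : Commute (c ^ i) x := hci
      rw [h3.inv_right.eq, mul_assoc, mul_inv_cancel, mul_one]
    calc x * g * x⁻¹ * g⁻¹ = x * (g * (c ^ i)⁻¹) * (c ^ i * x⁻¹ * (c ^ i)⁻¹) * (g * (c ^ i)⁻¹)⁻¹ := by group
      _ = x * (g * (c ^ i)⁻¹) * x⁻¹ * (g * (c ^ i)⁻¹)⁻¹ := by rw [h2]
  rw [e]
  exact Subgroup.commutator_mem_commutator hx hm

/-- CLPTLOW -/
theorem clpt_lower {φ0 : Fn p G} {y : G} (hy0 : φ0 y ≠ 1)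
    (hbad : ∃ y' ∈ Phi p G ⊔ zpowers y, φ0 y' ≠ 1 ∧
      ¬ centralizer ({y'} : Set G) ≤ Phi p G ⊔ zpowers y) :
    (Phi p G).index * (p - 1)
      ≤ p ^ 2 * Nat.card {φ : Fn p G // ¬ φ0.ker ≤ φ.ker ∧ y ∈ Zs φ ⊔ Phi p G} := by
  have hp : p.Prime := Fact.out
  obtain ⟨y', hy'L, hy'0, hnot⟩ := hbad
  obtain ⟨c, hcC, hcL⟩ := SetLike.not_le_iff_exists.mp hnot
  set L := Phi p G ⊔ zpowers y with hL
  have hPhi0 : Phi p G ≤ φ0.ker := iInf_le _ φ0
  have hPhiL : Phi p G ≤ L := le_sup_left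
  have hyPhi : y ∉ Phi p G := fun h => hy0 (MonoidHom.mem_ker.mp (hPhi0 h))
  have hy'Phi : y' ∉ Phi p G := fun h => hy'0 (MonoidHom.mem_ker.mp (hPhi0 h))
  have hφ0 : φ0 ≠ 1 := by
    rintro rfl; exact hy0 rfl
  -- indices
  have i1 : L.index * p = (Phi p G).index := index_sup_zpowers le_rfl hyPhi
  have i2 : (L ⊔ zpowers c).index * p = L.index := index_sup_zpowers hPhiL hcL
  have i3 : (Phi p G ⊔ zpowers y').index * p = (Phi p G).index := index_sup_zpowers le_rfl hy'Phi
  have hL' : Phi p G ⊔ zpowers y' = L := by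
    have hle : Phi p G ⊔ zpowers y' ≤ L := sup_le hPhiL (by rw [zpowers_le]; exact hy'L)
    have hidx : (Phi p G ⊔ zpowers y').index = L.index := by
      have : (Phi p G ⊔ zpowers y').index * p = L.index * p := by rw [i3, i1]
      exact Nat.eq_of_mul_eq_mul_right hp.pos this
    exact le_antisymm hle (clpt_aux_eq_of_index hle hidx)
  -- counting
  have c1 : Nat.card {φ : Fn p G // L ≤ φ.ker} = L.index := homcount L hPhiL
  have c2 : Nat.card {φ : Fn p G // L ⊔ zpowers c ≤ φ.ker} = (L ⊔ zpowers c).index :=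
    homcount (L ⊔ zpowers c) (le_trans hPhiL le_sup_left)
  have c3 := clpt_aux_split (fun φ : Fn p G => L ≤ φ.ker) (fun φ => φ c = 1)
  have c4 : Nat.card {φ : Fn p G // L ≤ φ.ker ∧ φ c = 1} = Nat.card {φ : Fn p G // L ⊔ zpowers c ≤ φ.ker} := by
    apply le_antisymm
    · apply clpt_aux_mono
      rintro φ ⟨h1, h2⟩
      exact sup_le h1 (by rw [zpowers_le]; exact MonoidHom.mem_ker.mpr h2)
    · apply clpt_aux_mono
      intro φ h
      exact ⟨le_trans le_sup_left h, MonoidHom.mem_ker.mp (h (mem_sup_right (mem_zpowers c)))⟩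
  have c5 : Nat.card {φ : Fn p G // L ≤ φ.ker ∧ ¬ φ c = 1} ≤
      Nat.card {φ : Fn p G // ¬ φ0.ker ≤ φ.ker ∧ y ∈ Zs φ ⊔ Phi p G} := by
    apply clpt_aux_mono
    rintro φ ⟨h1, h2⟩
    have hφ : φ ≠ 1 := by rintro rfl; exact h2 rfl
    have hcker : c ∉ φ.ker := fun h => h2 (MonoidHom.mem_ker.mp h)
    have hy'ker : y' ∈ φ.ker := h1 hy'L
    have hcomm : c * y' = y' * c := by
      have := Subgroup.mem_centralizer_iff.mp hcC y' (Set.mem_singleton y')
      exact this.symm
    have hZ : y' ∈ Zs φ := clpt_aux_mem_Zs hy'ker hcker hcomm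
    refine ⟨?_, ?_⟩
    · intro hle
      have hidx : φ0.ker.index = φ.ker.index := by rw [index_ker hφ0, index_ker hφ]
      have hge := clpt_aux_eq_of_index hle hidx
      have : y ∈ φ0.ker := hge (h1 (mem_sup_right (mem_zpowers y)))
      exact hy0 (MonoidHom.mem_ker.mp this)
    · have hyL : y ∈ L := mem_sup_right (mem_zpowers y)
      rw [← hL'] at hyL
      have hle : Phi p G ⊔ zpowers y' ≤ Zs φ ⊔ Phi p G :=
        sup_le le_sup_right (le_trans (by rw [zpowers_le]; exact hZ) le_sup_left)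
      exact hle hyL
  -- arithmetic
  rw [c1, c4, c2] at c3
  have key : ∀ (D l m a t q : ℕ), 1 ≤ q → l * q = D → m * q = l → l = m + a → a ≤ t →
      D * (q - 1) ≤ q ^ 2 * t := by
    intro D l m a t q hq h1 h2 h3 h4
    obtain ⟨k, rfl⟩ : ∃ k, q = k + 1 := ⟨q - 1, by omega⟩
    simp only [Nat.add_sub_cancel]
    subst h1 h3
    have : (k + 1) ^ 2 * a ≤ (k + 1) ^ 2 * t := Nat.mul_le_mul_left _ h4
    nlinarith
  exact key _ _ _ _ _ _ hp.one_lt.le i1 i2 c3 c5
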