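import Mathlib
import Cfsg.Agent.Helper26.S3911Defs

/-!
# S3912 piece C2a (helper27): for a lift `A₀` of an abelian subgroup of `G ⧸ M`, the Sylow
`p`-subgroups of `A₀` with `p ∤ |M|` are commutative.
-/

set_option autoImplicit false

namespace Cfsg.Agent.S3912P

open Cfsg.Agent.S3911P

/-- C2a (S/M): for a lift `A₀` of an abelian `Ab`, Sylow `p`-subgroups of `A₀` with `p ∤ |M|` are commutative. -/
theorem C2a {G : Type*} [Group G] [Finite G] (M : Subgroup G) [M.Normal] (Ab : Subgroup (G ⧸ M))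
    (A₀ : Subgroup G) (h : A₀.map (QuotientGroup.mk' M) = Ab) (hAb : IsMulCommutative ↥Ab)
    (p : ℕ) [Fact p.Prime] (hp : ¬ p ∣ Nat.card ↥M) (S : Sylow p ↥A₀) :
    ∀ a ∈ S, ∀ b ∈ S, a * b = b * a := by
  intro a ha b hb
  have hpp : p.Prime := Fact.out
  have hc : a * b * a⁻¹ * b⁻¹ ∈ (S : Subgroup ↥A₀) :=
    Subgroup.mul_mem _ (Subgroup.mul_mem _ (Subgroup.mul_mem _ ha hb) (Subgroup.inv_mem _ ha))
      (Subgroup.inv_mem _ hb)
  have ha' : (QuotientGroup.mk' M) (a : G) ∈ Ab := by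
    rw [← h]; exact Subgroup.mem_map_of_mem _ a.2
  have hb' : (QuotientGroup.mk' M) (b : G) ∈ Ab := by
    rw [← h]; exact Subgroup.mem_map_of_mem _ b.2
  have hcomm : (QuotientGroup.mk' M) (a : G) * (QuotientGroup.mk' M) (b : G)
      = (QuotientGroup.mk' M) (b : G) * (QuotientGroup.mk' M) (a : G) := by
    have := hAb.is_comm.comm (⟨_, ha'⟩ : ↥Ab) ⟨_, hb'⟩
    exact congrArg Subtype.val this
  have hcM : ((a : G) * (b : G) * (a : G)⁻¹ * (b : G)⁻¹) ∈ M := by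
    rw [← QuotientGroup.eq_one_iff]
    have h1 : ((((a : G) * (b : G) * (a : G)⁻¹ * (b : G)⁻¹ : G)) : G ⧸ M)
        = (QuotientGroup.mk' M) (a : G) * (QuotientGroup.mk' M) (b : G)
          * ((QuotientGroup.mk' M) (a : G))⁻¹ * ((QuotientGroup.mk' M) (b : G))⁻¹ := by
      simp
    rw [h1, hcomm]
    group
  obtain ⟨k, hk⟩ := S.isPGroup' ⟨_, hc⟩
  have h3 : ((a : G) * (b : G) * (a : G)⁻¹ * (b : G)⁻¹) ^ (p ^ k) = 1 := by
    have := congrArg (fun x : ↥(S : Subgroup ↥A₀) => ((x : ↥A₀) : G)) hk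
    simpa using this
  have h4 : orderOf ((a : G) * (b : G) * (a : G)⁻¹ * (b : G)⁻¹) ∣ p ^ k :=
    orderOf_dvd_of_pow_eq_one h3
  have h5 : orderOf ((a : G) * (b : G) * (a : G)⁻¹ * (b : G)⁻¹) ∣ Nat.card ↥M := by
    have := orderOf_dvd_natCard (⟨_, hcM⟩ : ↥M)
    rwa [← Subgroup.orderOf_coe] at this
  have hcop : Nat.Coprime (p ^ k) (Nat.card ↥M) :=
    Nat.Coprime.pow_left k ((Nat.Prime.coprime_iff_not_dvd hpp).mpr hp)
  have h6 : orderOf ((a : G) * (b : G) * (a : G)⁻¹ * (b : G)⁻¹) = 1 :=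
    Nat.eq_one_of_dvd_coprimes hcop h4 h5
  rw [orderOf_eq_one_iff] at h6
  have h7 : (a : G) * (b : G) = (b : G) * (a : G) := by
    have : (a : G) * (b : G) = ((a : G) * (b : G) * (a : G)⁻¹ * (b : G)⁻¹) * ((b : G) * (a : G)) := by
      group
    rw [this, h6, one_mul]
  exact Subtype.ext (by simpa using h7)

end Cfsg.Agent.S3912P
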