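import Mathlib
import Cfsg.Agent.Helper26.S3911Defs
import Cfsg.Agent.Helper17.S3913Defs
import Cfsg.Agent.S0044
import Cfsg.Agent.Helper1.S3913SYLA
import Cfsg.Agent.Helper22.S3913AC2
import Cfsg.Agent.Helper22.S3913QG1

/-!
# S3913 piece Q8N (helper27): a quaternion Sylow 2-subgroup of order 8 of a solvable B-group with `NC` is normal.

Route (slightly different from the blueprint, no use of SYLB): for every odd prime `q` the subgroup `O_q(K)` is cyclic (SYLA),
`P` induces a cyclic group of automorphisms on it (AC2), so `P ⊓ C(O_q)` has index at most `2` in `P`; a subgroup of order `4`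
inside the normal subgroup `C(O_q)` forces (hB, QG1) `P ≤ C(O_q)`.  Hence `C_P(O_2) ≤ C(F) ≤ F` (S0044) is a `2`-subgroup of
`Z(F)`, hence lies in `O_2`.  Now `|O_2| ≤ 2` gives `P = C_P(O_2) ≤ O_2`, `|O_2| = 4` contradicts hB + QG1, so `O_2 = P`.
-/

set_option autoImplicit false
set_option linter.style.haveILetI false

namespace Cfsg.Agent.S3913P

open Cfsg.Agent.S3911P Cfsg.Agent.S3913P

universe u

theorem Q8N_aux_inv : ∀ x : QuaternionGroup 2, ∃ y, y * x * y⁻¹ = x⁻¹ := by decide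

theorem Q8N_aux_central : ∀ x : QuaternionGroup 2, x ^ 2 = 1 → ∀ y, x * y = y * x := by decide

/-- the subgroup of elements of `Z(F)` of exponent dividing `8`. -/
def Q8N_aux_A8 (K : Type*) [Group K] [Finite K] : Subgroup K where
  carrier := {a | a ∈ Cfsg.fittingSubgroup K ∧ a ∈ Subgroup.centralizer (Cfsg.fittingSubgroup K : Set K) ∧ a ^ 8 = 1}
  one_mem' := ⟨Subgroup.one_mem _, Subgroup.one_mem _, one_pow _⟩
  mul_mem' := by
    rintro a b ⟨ha1, ha2, ha3⟩ ⟨hb1, hb2, hb3⟩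
    refine ⟨Subgroup.mul_mem _ ha1 hb1, Subgroup.mul_mem _ ha2 hb2, ?_⟩
    have hc : Commute a b := by
      have := Subgroup.mem_centralizer_iff.mp hb2 a ha1
      exact this
    rw [hc.mul_pow, ha3, hb3, one_mul]
  inv_mem' := by
    rintro a ⟨ha1, ha2, ha3⟩
    exact ⟨Subgroup.inv_mem _ ha1, Subgroup.inv_mem _ ha2, by rw [inv_pow, ha3, inv_one]⟩

theorem Q8N_aux_A8_normal (K : Type*) [Group K] [Finite K] : (Q8N_aux_A8 K).Normal := by
  refine ⟨fun a ha g => ?_⟩
  obtain ⟨ha1, ha2, ha3⟩ := ha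
  have hn1 : (Cfsg.fittingSubgroup K).Normal := inferInstance
  have hn2 : (Subgroup.centralizer (Cfsg.fittingSubgroup K : Set K)).Normal := inferInstance
  refine ⟨hn1.conj_mem a ha1 g, hn2.conj_mem a ha2 g, ?_⟩
  rw [conj_pow, ha3, mul_one, mul_inv_cancel]

theorem Q8N_aux_A8_le (K : Type*) [Group K] [Finite K] : Q8N_aux_A8 K ≤ Cfsg.pCore 2 K := by
  apply Cfsg.Agent.Helper14.le_pCore 2 (Q8N_aux_A8_normal K)
  intro a
  refine ⟨3, ?_⟩
  have := a.2.2.2
  apply Subtype.ext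
  rw [Subgroup.coe_pow]
  norm_num
  exact this

/-- a subgroup of order `4` inside a normal subgroup `N` forces `P ≤ N`. -/
theorem Q8N_aux_conj4 {K : Type u} [Group K] [Finite K] (hB : BProp K)
    (P : Sylow 2 K) (e : ↥(P : Subgroup K) ≃* QuaternionGroup 2)
    (T N : Subgroup K) (hN : N.Normal) (hT : Nat.card ↥T = 4) (hTN : T ≤ N) : (P : Subgroup K) ≤ N := by
  obtain ⟨T₁, T₂, h1, h2, -, hsup⟩ := QG1 e
  haveI : Fact (Nat.Prime 2) := ⟨Nat.prime_two⟩
  have hcomm : ∀ (U : Subgroup K), Nat.card ↥U = 4 → IsMulCommutative ↥U := by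
    intro U hU
    exact IsPGroup.isMulCommutative_of_card_eq_prime_sq (p := 2) (by rw [hU]; norm_num)
  have key : ∀ T' : Subgroup ↥(P : Subgroup K), Nat.card ↥T' = 4 →
      T'.map (P : Subgroup K).subtype ≤ N := by
    intro T' hT'
    have hc : Nat.card ↥(T'.map (P : Subgroup K).subtype) = 4 := by
      rw [← hT']
      exact Nat.card_congr (T'.equivMapOfInjective _ (Subgroup.subtype_injective _)).symm.toEquiv
    obtain ⟨g, hg⟩ := hB T (T'.map (P : Subgroup K).subtype) (hcomm _ hT) (hcomm _ hc) (by rw [hT, hc])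
    rw [hg]
    rintro _ ⟨t, ht, rfl⟩
    exact hN.conj_mem t (hTN ht) g
  have h3 : (T₁ ⊔ T₂).map (P : Subgroup K).subtype ≤ N := by
    rw [Subgroup.map_sup]
    exact sup_le (key T₁ h1) (key T₂ h2)
  rw [hsup, ← MonoidHom.range_eq_map, Subgroup.range_subtype] at h3
  exact h3

theorem Q8N_aux_card {K : Type u} [Group K] [Finite K]
    (P : Sylow 2 K) (e : ↥(P : Subgroup K) ≃* QuaternionGroup 2) : Nat.card ↥(P : Subgroup K) = 8 := by
  rw [Nat.card_congr e.toEquiv, Nat.card_eq_fintype_card, QuaternionGroup.card]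

/-- step A: `P` centralises `O_q(K)` for every odd prime `q`. -/
theorem Q8N_aux_odd {K : Type u} [Group K] [Finite K] (hB : BProp K) (hsol : Group.IsSolvable K) (hNC : NC K)
    (P : Sylow 2 K) (e : ↥(P : Subgroup K) ≃* QuaternionGroup 2) (q : ℕ) [Fact q.Prime] (hq2 : q ≠ 2) :
    (P : Subgroup K) ≤ Subgroup.centralizer (Cfsg.pCore q K : Set K) := by
  have hq : q.Prime := Fact.out
  have h8 := Q8N_aux_card P e
  by_cases hbot : Cfsg.pCore q K = ⊥
  · rw [hbot]
    intro y _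
    rw [Subgroup.mem_centralizer_iff]
    intro a ha
    have : a = 1 := by simpa using ha
    rw [this, one_mul, mul_one]
  obtain ⟨Pq⟩ := (inferInstance : Nonempty (Sylow q K))
  have hcyc : IsCyclic ↥(Cfsg.pCore q K) := by
    rcases SYLA hB hsol hNC q hbot Pq with hc | ⟨h2, -⟩
    · exact Subgroup.isCyclic_of_le (Cfsg.Agent.Helper14.pCore_le_sylow q Pq)
    · exact absurd h2 hq2
  have hnorm : (P : Subgroup K) ≤ Subgroup.normalizer (Cfsg.pCore q K : Set K) := by
    rw [Subgroup.normalizer_eq_top]; exact le_top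
  have hcop : (Nat.card ↥(P : Subgroup K)).Coprime q := by
    rw [h8]
    have : Nat.Coprime 2 q := (Nat.coprime_primes Nat.prime_two hq).mpr (Ne.symm hq2)
    exact Nat.Coprime.pow_left 3 this
  obtain ⟨x, hxP, hx⟩ := AC2 (P : Subgroup K) (Cfsg.pCore q K) hnorm hcyc q
    (Cfsg.Agent.Helper14.pCore_isPGroup q) hcop
  set Cq := Subgroup.centralizer (Cfsg.pCore q K : Set K) with hCq
  have hCn : Cq.Normal := inferInstance
  -- `x ^ 2 ∈ Cq`
  have hx2 : x ^ 2 ∈ Cq := by
    obtain ⟨y', hy'⟩ := Q8N_aux_inv (e ⟨x, hxP⟩)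
    have hy : ((e.symm y' : ↥(P : Subgroup K)) : K) * x * ((e.symm y' : ↥(P : Subgroup K)) : K)⁻¹ = x⁻¹ := by
      have h1 : e (e.symm y' * ⟨x, hxP⟩ * (e.symm y')⁻¹) = e (⟨x, hxP⟩⁻¹) := by
        rw [map_mul, map_mul, map_inv, map_inv, e.apply_symm_apply, hy']
      have h2 := e.injective h1
      have h3 := congrArg (Subtype.val) h2
      simpa using h3
    set y : K := ((e.symm y' : ↥(P : Subgroup K)) : K) with hydef
    have hyP : y ∈ (P : Subgroup K) := (e.symm y').2
    obtain ⟨m, hm⟩ := hx y hyP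
    set c := y * x ^ m with hc
    have hyc : y = c * (x ^ m)⁻¹ := by rw [hc]; group
    have h4 : c * x * c⁻¹ = x⁻¹ := by
      rw [← hy, hyc]
      have : (x ^ m)⁻¹ * x * x ^ m = x := by
        rw [mul_assoc, ← pow_succ', pow_succ, inv_mul_cancel_left]
      calc c * x * c⁻¹ = c * ((x ^ m)⁻¹ * x * x ^ m) * c⁻¹ := by rw [this]
        _ = c * (x ^ m)⁻¹ * x * (c * (x ^ m)⁻¹)⁻¹ := by group
    have h5 : x⁻¹ * x⁻¹ ∈ Cq := by
      have : x⁻¹ * x⁻¹ = c * (x * c⁻¹ * x⁻¹) := by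
        rw [← h4]; group
      rw [this]
      exact Cq.mul_mem hm (hCn.conj_mem _ (Cq.inv_mem hm) x)
    have h6 : x ^ 2 = (x⁻¹ * x⁻¹)⁻¹ := by group
    rw [h6]
    exact Cq.inv_mem h5
  -- every `y ∈ P` lies in `Cq` or in `Cq * x⁻¹`
  have hy2 : ∀ y ∈ (P : Subgroup K), y ∈ Cq ∨ y * x ∈ Cq := by
    intro y hy
    obtain ⟨m, hm⟩ := hx y hy
    rcases Nat.even_or_odd' m with ⟨k, rfl | rfl⟩
    · left
      have h1 : x ^ (2 * k) ∈ Cq := by rw [pow_mul]; exact Cq.pow_mem hx2 k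
      have : y = y * x ^ (2 * k) * (x ^ (2 * k))⁻¹ := by group
      rw [this]
      exact Cq.mul_mem hm (Cq.inv_mem h1)
    · right
      have h1 : x ^ (2 * k) ∈ Cq := by rw [pow_mul]; exact Cq.pow_mem hx2 k
      have : y * x = y * x ^ (2 * k + 1) * (x ^ (2 * k))⁻¹ := by
        rw [pow_succ]; group
      rw [this]
      exact Cq.mul_mem hm (Cq.inv_mem h1)
  -- the index of `T = P ⊓ Cq` in `P` is at most `2`
  set T := (P : Subgroup K) ⊓ Cq with hT
  have hsub : ((P : Subgroup K) : Set K) ⊆ (T : Set K) ∪ (fun t => t * x⁻¹) '' (T : Set K) := by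
    intro y hy
    rcases hy2 y hy with h | h
    · left; exact ⟨hy, h⟩
    · right
      exact ⟨y * x, ⟨(P : Subgroup K).mul_mem hy hxP, h⟩, by group⟩
  have hcard : Nat.card ↥(P : Subgroup K) ≤ 2 * Nat.card ↥T := by
    have h1 : ((P : Subgroup K) : Set K).ncard ≤ ((T : Set K) ∪ (fun t => t * x⁻¹) '' (T : Set K)).ncard :=
      Set.ncard_le_ncard hsub (Set.toFinite _)
    have h2 := Set.ncard_union_le (T : Set K) ((fun t => t * x⁻¹) '' (T : Set K))
    have h3 : ((fun t => t * x⁻¹) '' (T : Set K)).ncard ≤ (T : Set K).ncard :=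
      Set.ncard_image_le (Set.toFinite _)
    have e1 : Nat.card ↥(P : Subgroup K) = ((P : Subgroup K) : Set K).ncard := rfl
    have e2 : Nat.card ↥T = (T : Set K).ncard := rfl
    rw [e1, e2]
    omega
  have hTP : T ≤ (P : Subgroup K) := inf_le_left
  have hdvd : Nat.card ↥T ∣ 8 := by
    rw [← h8]; exact Subgroup.card_dvd_of_le hTP
  have hcases : Nat.card ↥T = 4 ∨ Nat.card ↥T = 8 := by
    have hle : Nat.card ↥T ≤ 8 := Nat.le_of_dvd (by norm_num) hdvd
    rw [h8] at hcard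
    have hge : 4 ≤ Nat.card ↥T := by omega
    interval_cases h : Nat.card ↥T <;> simp_all
  rcases hcases with h4 | h8'
  · exact Q8N_aux_conj4 hB P e T Cq hCn h4 inf_le_right
  · have : T = (P : Subgroup K) := Subgroup.eq_of_le_of_card_ge hTP (by rw [h8, h8'])
    rw [← this]
    exact inf_le_right

/-- Q8N: a quaternion Sylow `2`-subgroup of order `8` is normal. -/
theorem Q8N {K : Type u} [Group K] [Finite K] (hB : BProp K) (hsol : Group.IsSolvable K) (hNC : NC K)
    (P : Sylow 2 K) (e : ↥(P : Subgroup K) ≃* QuaternionGroup 2) : (P : Subgroup K).Normal := by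
  haveI : Fact (Nat.Prime 2) := ⟨Nat.prime_two⟩
  have h8 := Q8N_aux_card P e
  have hO2P : Cfsg.pCore 2 K ≤ (P : Subgroup K) := Cfsg.Agent.Helper14.pCore_le_sylow 2 P
  -- step B
  have hD : (P : Subgroup K) ⊓ Subgroup.centralizer (Cfsg.pCore 2 K : Set K) ≤ Cfsg.pCore 2 K := by
    refine le_trans ?_ (Q8N_aux_A8_le K)
    have h1 : (P : Subgroup K) ⊓ Subgroup.centralizer (Cfsg.pCore 2 K : Set K) ≤
        Subgroup.centralizer (Cfsg.fittingSubgroup K : Set K) := by
      rw [Subgroup.le_centralizer_iff, Cfsg.Agent.Helper7.fittingSubgroup_eq_pCoreSup,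
        Cfsg.Agent.Helper7.pCoreSup_le_iff]
      intro p hp
      haveI : Fact p.Prime := ⟨hp⟩
      rw [← Subgroup.le_centralizer_iff]
      by_cases hp2 : p = 2
      · subst hp2; exact inf_le_right
      · exact le_trans inf_le_left (Q8N_aux_odd hB hsol hNC P e p hp2)
    have h2 : Subgroup.centralizer (Cfsg.fittingSubgroup K : Set K) ≤ Cfsg.fittingSubgroup K := by
      haveI := hsol
      exact Cfsg.Agent.S0044.result
    intro d hd
    refine ⟨h2 (h1 hd), h1 hd, ?_⟩
    have hdP : d ∈ (P : Subgroup K) := hd.1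
    have : (⟨d, hdP⟩ : ↥(P : Subgroup K)) ^ Nat.card ↥(P : Subgroup K) = 1 := pow_card_eq_one'
    rw [h8] at this
    have := congrArg Subtype.val this
    simpa using this
  -- step C
  have hdvd : Nat.card ↥(Cfsg.pCore 2 K) ∣ 8 := by
    rw [← h8]; exact Subgroup.card_dvd_of_le hO2P
  have hpos : 0 < Nat.card ↥(Cfsg.pCore 2 K) := Nat.card_pos
  have hle : Nat.card ↥(Cfsg.pCore 2 K) ≤ 8 := Nat.le_of_dvd (by norm_num) hdvd
  have hcases : Nat.card ↥(Cfsg.pCore 2 K) ≤ 2 ∨ Nat.card ↥(Cfsg.pCore 2 K) = 4 ∨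
      Nat.card ↥(Cfsg.pCore 2 K) = 8 := by
    interval_cases h : Nat.card ↥(Cfsg.pCore 2 K) <;> simp_all
  rcases hcases with h2 | h4 | h8'
  · exfalso
    -- `O_2` is central in `P`
    have hsq : ∀ a ∈ Cfsg.pCore 2 K, a ^ 2 = 1 := by
      intro a ha
      have h1 : (⟨a, ha⟩ : ↥(Cfsg.pCore 2 K)) ^ Nat.card ↥(Cfsg.pCore 2 K) = 1 := pow_card_eq_one'
      have h1' : a ^ Nat.card ↥(Cfsg.pCore 2 K) = 1 := by
        have h := congrArg Subtype.val h1
        rw [Subgroup.coe_pow, Subgroup.coe_one] at h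
        exact h
      have : Nat.card ↥(Cfsg.pCore 2 K) = 1 ∨ Nat.card ↥(Cfsg.pCore 2 K) = 2 := by omega
      rcases this with h | h
      · rw [h, pow_one] at h1'; rw [h1', one_pow]
      · rw [h] at h1'; exact h1'
    have hcen : (P : Subgroup K) ≤ Subgroup.centralizer (Cfsg.pCore 2 K : Set K) := by
      intro y hy
      rw [Subgroup.mem_centralizer_iff]
      intro a ha
      have haP : a ∈ (P : Subgroup K) := hO2P ha
      have h1 : (e ⟨a, haP⟩) ^ 2 = 1 := by
        rw [← map_pow]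
        have : (⟨a, haP⟩ : ↥(P : Subgroup K)) ^ 2 = 1 := by
          apply Subtype.ext
          simpa using hsq a ha
        rw [this, map_one]
      have h2 := Q8N_aux_central (e ⟨a, haP⟩) h1 (e ⟨y, hy⟩)
      rw [← map_mul, ← map_mul] at h2
      have h3 := congrArg Subtype.val (e.injective h2)
      simpa using h3
    have hPO : (P : Subgroup K) ≤ Cfsg.pCore 2 K := by
      refine le_trans ?_ hD
      exact le_inf le_rfl hcen
    have := Subgroup.card_le_of_le hPO
    omega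
  · exfalso
    have hPO : (P : Subgroup K) ≤ Cfsg.pCore 2 K :=
      Q8N_aux_conj4 hB P e (Cfsg.pCore 2 K) (Cfsg.pCore 2 K) inferInstance h4 le_rfl
    have := Subgroup.card_le_of_le hPO
    omega
  · have : Cfsg.pCore 2 K = (P : Subgroup K) :=
      Subgroup.eq_of_le_of_card_ge hO2P (by rw [h8, h8'])
    rw [← this]
    infer_instance

end Cfsg.Agent.S3913P
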