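import Mathlib
import Cfsg.Agent.Helper29.S3fQuot
import Cfsg.Agent.Lead.Coprime3
import Cfsg.Agent.Lead.CoprimeFrattini

/-!
# Piece (P6) of S4305: the dagger property of `X = G/C`
-/

set_option autoImplicit false

namespace Cfsg.Agent.Helper27.S3fP6

open Cfsg.Agent.Helper29.S3f Cfsg.Agent.Lead
open scoped commutatorElement

universe u

/-- (P6) the dagger property of `X = G/C`. -/
theorem dagger {Γ : Type u} [Group Γ] [Finite Γ] (j : A0 →* Γ) (G : Subgroup Γ) [G.Normal]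
    (hG : HypInt j G) {r : ℕ} [Fact r.Prime] (V : Subgroup Γ) [V.Normal] (hVG : V ≤ G)
    (hV : IsPGroup r V)
    (C : Subgroup Γ) [C.Normal] (hC : C = G ⊓ Subgroup.centralizer (V : Set Γ)) (hVC : V ≤ C)
    (hr : ¬ r ∣ Nat.card ↥⁅G.map (QuotientGroup.mk' C), G.map (QuotientGroup.mk' C)⁆)
    (IH : ∀ (Γ' : Type u) [Group Γ'] [Finite Γ'] (j' : A0 →* Γ') (G' : Subgroup Γ'),
      HypInt j' G' → Nat.card G' < Nat.card G → Group.IsNilpotent ↥⁅G', G'⁆)
    (H : Subgroup (Γ ⧸ C)) (hH : H ≤ G.map (QuotientGroup.mk' C))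
    (hne : H ≠ G.map (QuotientGroup.mk' C))
    (hHA : AInv ((QuotientGroup.mk' C).comp j) H) : ∀ a ∈ H, ∀ b ∈ H, a * b = b * a := by
  classical
  set mk : Γ →* Γ ⧸ C := QuotientGroup.mk' C with hmk
  -- the preimage of `H` in `G`
  set H0 : Subgroup Γ := G ⊓ H.comap mk with hH0
  have hH0G : H0 ≤ G := inf_le_left
  have hCG : C ≤ G := by rw [hC]; exact inf_le_left
  have hCH0 : C ≤ H0 := by
    intro c hc
    refine Subgroup.mem_inf.2 ⟨hCG hc, ?_⟩
    rw [Subgroup.mem_comap]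
    have : mk c = 1 := (QuotientGroup.eq_one_iff c).mpr hc
    rw [this]; exact H.one_mem
  have hH0map : H0.map mk = H := by
    apply le_antisymm
    · rintro _ ⟨x, hx, rfl⟩
      exact Subgroup.mem_comap.1 (Subgroup.mem_inf.1 hx).2
    · intro h hh
      obtain ⟨g, hg, rfl⟩ := hH hh
      exact ⟨g, Subgroup.mem_inf.2 ⟨hg, Subgroup.mem_comap.2 hh⟩, rfl⟩
  have hH0ne : H0 ≠ G := by
    intro h
    apply hne
    rw [← hH0map, h]
  have hH0A : AInv j H0 := by
    intro a x hx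
    have hx' := Subgroup.mem_inf.1 hx
    refine Subgroup.mem_inf.2 ⟨hG.inv a x hx'.1, ?_⟩
    rw [Subgroup.mem_comap]
    have := hHA a (mk x) (Subgroup.mem_comap.1 hx'.2)
    simpa [hmk] using this
  have hH0Hyp : HypInt j H0 := hG.sub hH0G hH0A
  have hcard : Nat.card H0 < Nat.card G := by
    have hle : Nat.card H0 ≤ Nat.card G := Subgroup.card_le_of_le hH0G
    rcases Nat.lt_or_ge (Nat.card H0) (Nat.card G) with h | h
    · exact h
    · exact absurd (Subgroup.eq_of_le_of_card_ge hH0G h) hH0ne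
  have hnil : Group.IsNilpotent ↥⁅H0, H0⁆ := IH Γ j H0 hH0Hyp hcard
  set D0 : Subgroup Γ := ⁅H0, H0⁆ with hD0
  have hD0map : D0.map mk = ⁅H, H⁆ := by
    rw [hD0, Subgroup.map_commutator, hH0map]
  -- it suffices that `⁅H, H⁆` is trivial
  suffices hbot : ⁅H, H⁆ = ⊥ by
    intro a ha b hb
    have h1 : ⁅a, b⁆ ∈ ⁅H, H⁆ := Subgroup.commutator_mem_commutator ha hb
    rw [hbot, Subgroup.mem_bot] at h1
    exact commutatorElement_eq_one_iff_mul_comm.1 h1
  by_contra hnb
  have hcard1 : Nat.card ↥⁅H, H⁆ ≠ 1 := fun h => hnb (Subgroup.card_eq_one.1 h)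
  obtain ⟨p, hp, hpdvd⟩ := Nat.exists_prime_and_dvd hcard1
  have : Fact p.Prime := ⟨hp⟩
  have hpr : p ≠ r := by
    rintro rfl
    apply hr
    have hle : ⁅H, H⁆ ≤ ⁅G.map mk, G.map mk⁆ := Subgroup.commutator_mono hH hH
    exact hpdvd.trans (Subgroup.card_dvd_of_le hle)
  -- the normal Sylow `p`-subgroup of `D0`
  let P : Sylow p ↥D0 := default
  have hPn : (P : Subgroup ↥D0).Normal := by
    have h03 : Group.IsNilpotent ↥D0 ↔ ∀ (p : ℕ) (_hp : Fact p.Prime)
        (P : Sylow p ↥D0), (↑P : Subgroup ↥D0).Normal :=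
      (Group.isNilpotent_of_finite_tfae (G := ↥D0)).out 0 3
    exact h03.1 hnil p ⟨hp⟩ P
  have hPc : (P : Subgroup ↥D0).Characteristic := Sylow.characteristic_of_normal P hPn
  set T : Subgroup Γ := (P : Subgroup ↥D0).map D0.subtype with hT
  have hTD0 : T ≤ D0 := by
    rintro _ ⟨x, _, rfl⟩
    exact x.2
  have hD0H0 : D0 ≤ H0 := Subgroup.commutator_le_self H0
  have hH0N : H0 ≤ Subgroup.normalizer (T : Set Γ) :=
    (le_normalizer_commutator_left H0 H0).trans
      (normalizer_le_normalizer_map_of_characteristic D0 (P : Subgroup ↥D0))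
  have hVN : V ≤ Subgroup.normalizer (T : Set Γ) := (hVC.trans hCH0).trans hH0N
  have hTp : IsPGroup p T := P.2.map _
  have hTV : ⁅T, V⁆ = ⊥ := by
    have h1 : ⁅T, V⁆ ≤ T := commutator_le_of_le_normalizer hVN
    have h2 : ⁅T, V⁆ ≤ V := Subgroup.commutator_le_right T V
    have h3 : Disjoint T V := IsPGroup.disjoint_of_ne p r hpr T V hTp hV
    exact le_bot_iff.1 ((le_inf h1 h2).trans (disjoint_iff.1 h3).le)
  have hTC : T ≤ C := by
    rw [hC]
    exact le_inf ((hTD0.trans hD0H0).trans hH0G)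
      (Subgroup.commutator_eq_bot_iff_le_centralizer.1 hTV)
  -- the image of `D0` has order prime to `p`
  set f : ↥D0 →* ↥(D0.map mk) := mk.subgroupMap D0 with hf
  have hfs : Function.Surjective f := mk.subgroupMap_surjective D0
  have hPker : (P : Subgroup ↥D0) ≤ f.ker := by
    intro x hx
    rw [MonoidHom.mem_ker]
    apply Subtype.ext
    simp only [hf, MonoidHom.subgroupMap_apply_coe, Subgroup.coe_one]
    have hxT : (x : Γ) ∈ T := ⟨x, hx, rfl⟩
    exact (QuotientGroup.eq_one_iff _).mpr (hTC hxT)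
  have h1 : f.ker.index ∣ (P : Subgroup ↥D0).index := Subgroup.index_dvd_of_le hPker
  have h2 : f.ker.index = Nat.card ↥(D0.map mk) := by
    rw [Subgroup.index_ker, MonoidHom.range_eq_top.2 hfs, Subgroup.card_top]
  have h3 : ¬ p ∣ (P : Subgroup ↥D0).index := P.not_dvd_index
  apply h3
  rw [h2, hD0map] at h1
  exact hpdvd.trans h1

end Cfsg.Agent.Helper27.S3fP6
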