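import Mathlib
import Cfsg.Agent.Helper29.S3fQuot

/-!
# Piece (P8) of S4305: case (1a)
-/

set_option autoImplicit false

namespace Cfsg.Agent.Helper27.S3fP8

open Cfsg.Agent.Helper29.S3f
open scoped commutatorElement

universe u

/-- (P8) case (1a): `G'` centralises the minimal normal subgroup `V`. -/
theorem case1a {Γ : Type u} [Group Γ] [Finite Γ] (j : A0 →* Γ) (G : Subgroup Γ) [G.Normal]
    (hG : HypInt j G) (V : Subgroup Γ) [V.Normal] (hVG : V ≤ G) (hVne : V ≠ ⊥)
    (hcomm : ⁅G, G⁆ ≤ Subgroup.centralizer (V : Set Γ))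
    (IH : ∀ (Γ' : Type u) [Group Γ'] [Finite Γ'] (j' : A0 →* Γ') (G' : Subgroup Γ'),
      HypInt j' G' → Nat.card G' < Nat.card G → Group.IsNilpotent ↥⁅G', G'⁆) :
    Group.IsNilpotent ↥⁅G, G⁆ := by
  have h1 : Group.IsNilpotent
      ↥⁅G.map (QuotientGroup.mk' V), G.map (QuotientGroup.mk' V)⁆ :=
    IH (Γ ⧸ V) ((QuotientGroup.mk' V).comp j) (G.map (QuotientGroup.mk' V))
      (hG.quot V hVG) (quot_card_lt V hVG hVne)
  rw [← Subgroup.map_commutator] at h1
  set f : ↥⁅G, G⁆ →* ↥((⁅G, G⁆).map (QuotientGroup.mk' V)) :=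
    (QuotientGroup.mk' V).subgroupMap ⁅G, G⁆ with hf
  have := h1
  refine Subgroup.isNilpotent_of_ker_le_center f ?_
  intro x hx
  rw [MonoidHom.mem_ker] at hx
  have hxV : (x : Γ) ∈ V := by
    have := congrArg Subtype.val hx
    simp only [hf, MonoidHom.subgroupMap_apply_coe, Subgroup.coe_one] at this
    exact (QuotientGroup.eq_one_iff _).mp this
  rw [Subgroup.mem_center_iff]
  intro y
  apply Subtype.ext
  have := hcomm y.2
  rw [Subgroup.mem_centralizer_iff] at this
  simpa using (this (x : Γ) hxV).symm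

end Cfsg.Agent.Helper27.S3fP8
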