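import Mathlib
import Cfsg.Agent.Helper29.S3fDefs
import Cfsg.Agent.Lead.CoprimeSylow2
import Cfsg.Agent.Lead.CoprimeFrattini

/-!
# Piece (S) of S4305: auxiliary lemmas for the structure theorem
-/

set_option autoImplicit false

namespace Cfsg.Agent.Helper27.S3fStruct

open Cfsg.Agent.Helper29.S3f Cfsg.Agent.Lead Subgroup

variable {Γ : Type*} [Group Γ]

/-- `S₃` is solvable. -/
theorem isSolvable_A0 : Group.IsSolvable A0 := by
  have : Group.IsSolvable ↥(alternatingGroup (Fin 3)) := by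
    have hc : Nat.card ↥(alternatingGroup (Fin 3)) = 3 := by
      rw [Nat.card_eq_fintype_card]; decide
    have : Fact (Nat.Prime 3) := ⟨by norm_num⟩
    have : IsCyclic ↥(alternatingGroup (Fin 3)) := isCyclic_of_prime_card hc
    exact Group.isSolvable_of_comm (fun a b => IsCyclic.commGroup.mul_comm a b)
  refine Group.isSolvable_of_ker_le_range (alternatingGroup (Fin 3)).subtype
    (Equiv.Perm.sign : A0 →* ℤˣ) ?_
  intro x hx
  exact ⟨⟨x, hx⟩, rfl⟩

theorem ainv_iff (j : A0 →* Γ) (H : Subgroup Γ) :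
    AInv j H ↔ j.range ≤ normalizer (H : Set Γ) := by
  constructor
  · rintro h _ ⟨a, rfl⟩
    rw [mem_normalizer_iff]
    intro x
    constructor
    · intro hx; exact h a x hx
    · intro hx
      have := h a⁻¹ _ hx
      rw [map_inv] at this
      simpa [mul_assoc] using this
  · intro h a x hx
    exact (mem_normalizer_iff.mp (h ⟨a, rfl⟩) x).mp hx

theorem le_normalizer_sup' {A H K : Subgroup Γ} (hH : A ≤ normalizer (H : Set Γ))
    (hK : A ≤ normalizer (K : Set Γ)) : A ≤ normalizer ((H ⊔ K : Subgroup Γ) : Set Γ) := by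
  intro g hg
  rw [← conj_smul_eq_self_iff_mem_normalizer, Subgroup.smul_sup,
    (conj_smul_eq_self_iff_mem_normalizer g H).2 (hH hg),
    (conj_smul_eq_self_iff_mem_normalizer g K).2 (hK hg)]

theorem ainv_sup (j : A0 →* Γ) {H K : Subgroup Γ} (hH : AInv j H) (hK : AInv j K) :
    AInv j (H ⊔ K) := by
  rw [ainv_iff] at *
  exact le_normalizer_sup' hH hK

theorem ainv_of_normal (j : A0 →* Γ) (H : Subgroup Γ) [hH : H.Normal] : AInv j H :=
  fun a h hh => hH.conj_mem h hh (j a)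

/-- Decomposition of elements of `N ⊔ Q` when `Q` normalizes `N`. -/
theorem exists_mul_of_mem_sup {N Q : Subgroup Γ} (hQ : Q ≤ normalizer (N : Set Γ)) {x : Γ}
    (hx : x ∈ N ⊔ Q) : ∃ n ∈ N, ∃ y ∈ Q, x = n * y := by
  let P : Subgroup Γ :=
    { carrier := {x | ∃ n ∈ N, ∃ y ∈ Q, x = n * y}
      one_mem' := ⟨1, N.one_mem, 1, Q.one_mem, by simp⟩
      mul_mem' := by
        rintro _ _ ⟨n, hn, y, hy, rfl⟩ ⟨n', hn', y', hy', rfl⟩
        refine ⟨n * (y * n' * y⁻¹), N.mul_mem hn ((mem_normalizer_iff.mp (hQ hy) n').mp hn'),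
          y * y', Q.mul_mem hy hy', by group⟩
      inv_mem' := by
        rintro _ ⟨n, hn, y, hy, rfl⟩
        refine ⟨y⁻¹ * n⁻¹ * y⁻¹⁻¹,
          (mem_normalizer_iff.mp (hQ (Q.inv_mem hy)) n⁻¹).mp (N.inv_mem hn), y⁻¹, Q.inv_mem hy,
          by group⟩ }
  have hle : N ⊔ Q ≤ P := by
    apply sup_le
    · intro n hn; exact ⟨n, hn, 1, Q.one_mem, by simp⟩
    · intro y hy; exact ⟨1, N.one_mem, y, hy, by simp⟩
  exact hle hx

/-- An abelian Sylow subgroup meets the centre and the derived subgroup trivially. -/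
theorem eq_one_of_central_commutator_sylow [Finite Γ] (X : Subgroup Γ) {s : ℕ} [Fact s.Prime]
    (P : Sylow s ↥X)
    (hab : ∀ a ∈ (P : Subgroup ↥X).map X.subtype, ∀ b ∈ (P : Subgroup ↥X).map X.subtype,
      a * b = b * a)
    (z : Γ) (hzP : z ∈ (P : Subgroup ↥X).map X.subtype) (hzc : z ∈ ⁅X, X⁆)
    (hzZ : ∀ x ∈ X, x * z = z * x) : z = 1 := by
  obtain ⟨z', hz'P, rfl⟩ := hzP
  have hz'c : z' ∈ commutator ↥X := by
    rw [← Subgroup.map_subtype_commutator] at hzc
    obtain ⟨w, hw, hwz⟩ := hzc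
    have : w = z' := Subtype.ext hwz
    rwa [← this]
  have : IsMulCommutative ↥(P : Subgroup ↥X) :=
    ⟨⟨fun a b => Subtype.ext (Subtype.ext
      (hab _ ⟨a.1, a.2, rfl⟩ _ ⟨b.1, b.2, rfl⟩))⟩⟩
  open scoped IsMulCommutative in
  have key : ∀ (k : ℕ) (g₀ : ↥X), g₀⁻¹ * z' ^ k * g₀ ∈ (P : Subgroup ↥X) →
      g₀⁻¹ * z' ^ k * g₀ = z' ^ k := by
    intro k g₀ _
    have hc : g₀ * z' = z' * g₀ := Subtype.ext (hzZ g₀ g₀.2)
    have hc' : Commute g₀ (z' ^ k) := (Commute.pow_right hc k)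
    rw [mul_assoc, ← hc'.eq, inv_mul_cancel_left]
  open scoped IsMulCommutative in
  have h1 := MonoidHom.transfer_eq_pow (MonoidHom.id ↥(P : Subgroup ↥X)) z' key
  open scoped IsMulCommutative in
  have h2 : MonoidHom.transfer (MonoidHom.id ↥(P : Subgroup ↥X)) z' = 1 :=
    Abelianization.commutator_subset_ker _ hz'c
  rw [h2] at h1
  have h3 : z' ^ (P : Subgroup ↥X).index = 1 := by
    have := congrArg Subtype.val h1
    simpa using this.symm
  obtain ⟨k, hk⟩ := P.2 ⟨z', hz'P⟩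
  have h4 : z' ^ s ^ k = 1 := by
    have := congrArg Subtype.val hk
    simpa using this
  have hp : s.Prime := Fact.out
  have hcop : Nat.Coprime (s ^ k) (P : Subgroup ↥X).index :=
    Nat.Coprime.pow_left k ((Nat.Prime.coprime_iff_not_dvd hp).2 P.not_dvd_index)
  have h5 : orderOf z' ∣ 1 := by
    rw [← Nat.Coprime.gcd_eq_one hcop]
    exact Nat.dvd_gcd (orderOf_dvd_of_pow_eq_one h4) (orderOf_dvd_of_pow_eq_one h3)
  have h6 : z' = 1 := orderOf_eq_one_iff.1 (Nat.dvd_one.1 h5)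
  rw [h6]; rfl

/-- A subgroup containing a Sylow `q`-subgroup of `X` for every prime `q` contains `X`. -/
theorem le_of_forall_sylow_le [Finite Γ] (X C : Subgroup Γ)
    (h : ∀ q : ℕ, ∀ _ : Fact q.Prime, ∃ Q : Sylow q ↥X, (Q : Subgroup ↥X).map X.subtype ≤ C) :
    X ≤ C := by
  have hdvd : Nat.card ↥X ∣ Nat.card ↥(C.subgroupOf X) := by
    rw [Nat.dvd_iff_prime_pow_dvd_dvd]
    intro q k hq hqk
    have : Fact q.Prime := ⟨hq⟩
    obtain ⟨Q, hQ⟩ := h q ⟨hq⟩
    have hQle : (Q : Subgroup ↥X) ≤ C.subgroupOf X := by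
      intro x hx
      rw [mem_subgroupOf]
      exact hQ ⟨x, hx, rfl⟩
    have h1 : Nat.card ↥(Q : Subgroup ↥X) ∣ Nat.card ↥(C.subgroupOf X) :=
      Subgroup.card_dvd_of_le hQle
    have h2 : Nat.card ↥(Q : Subgroup ↥X) = q ^ (Nat.card ↥X).factorization q :=
      Sylow.card_eq_multiplicity Q
    have h3 : q ^ k ∣ q ^ (Nat.card ↥X).factorization q := by
      apply pow_dvd_pow
      exact (Nat.Prime.pow_dvd_iff_le_factorization hq Nat.card_pos.ne').1 hqk
    exact h3.trans (h2 ▸ h1)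
  have hle : Nat.card ↥(C.subgroupOf X) ≤ Nat.card ↥X := Subgroup.card_le_card_group _
  have heq : Nat.card ↥(C.subgroupOf X) = Nat.card ↥X :=
    le_antisymm hle (Nat.le_of_dvd Nat.card_pos hdvd)
  have htop : C.subgroupOf X = ⊤ := (Subgroup.card_eq_iff_eq_top _).1 heq
  exact subgroupOf_eq_top.1 htop

end Cfsg.Agent.Helper27.S3fStruct
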