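import Mathlib
import Cfsg.Agent.Helper27.S3fStructA

/-!
# Piece (S) of S4305: the structure theorem (STEP 2 of the paper proof)
-/

set_option autoImplicit false

namespace Cfsg.Agent.Helper27.S3fStruct

open Cfsg.Agent.Helper29.S3f Cfsg.Agent.Lead Subgroup
open scoped commutatorElement

/-- STEP 2: structure of a minimal non-abelian configuration. -/
theorem structure_thm {Γ : Type*} [Group Γ] [Finite Γ] (j : A0 →* Γ)
    (X : Subgroup Γ) [X.Normal] (hXA : ∀ g : Γ, ∃ x ∈ X, ∃ a : A0, g = x * j a)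
    (hcop : (Nat.card X).Coprime 6)
    (hfpf : ∀ x ∈ X, (∀ a : A0, j a * x * (j a)⁻¹ = x) → x = 1)
    (hdag : ∀ H : Subgroup Γ, H ≤ X → H ≠ X → AInv j H → ∀ a ∈ H, ∀ b ∈ H, a * b = b * a)
    (hnil : Group.IsNilpotent ↥⁅X, X⁆)
    (hnab : ¬ ∀ a ∈ X, ∀ b ∈ X, a * b = b * a) :
    (∃ s : ℕ, s.Prime ∧ IsPGroup s X) ∨
    (∃ (s q : ℕ) (S Q : Subgroup Γ), s.Prime ∧ q.Prime ∧ s ≠ q ∧ S ≤ ⁅X, X⁆ ∧ S.Normal ∧ S ≠ ⊥ ∧
      (∀ a ∈ S, ∀ b ∈ S, a * b = b * a) ∧ (∀ a ∈ S, a ^ s = 1) ∧
      Q ≤ X ∧ (∀ a ∈ Q, ∀ b ∈ Q, a * b = b * a) ∧ IsPGroup q Q ∧ AInv j Q ∧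
      (∀ u ∈ S, (∀ x ∈ Q, x * u * x⁻¹ = u) → u = 1) ∧
      (∀ S1 : Subgroup Γ, S1 ≤ S → (∀ x ∈ Q, ∀ u ∈ S1, x * u * x⁻¹ ∈ S1) → AInv j S1 →
        S1 = ⊥ ∨ S1 = S) ∧
      (∀ Q1 : Subgroup Γ, Q1 ≤ Q → Q1 ≠ Q → AInv j Q1 → ∀ x ∈ Q1, ∀ u ∈ S, x * u * x⁻¹ = u)) := by
  classical
  -- the acting group
  set A : Subgroup Γ := j.range with hA
  have hAX : A ≤ normalizer (X : Set Γ) := by rw [normalizer_eq_top]; exact le_top
  have hcardA : Nat.card A ∣ 6 := by
    have h1 : Nat.card A ∣ Nat.card A0 := Subgroup.card_range_dvd j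
    have h2 : Nat.card A0 = 6 := by rw [Nat.card_eq_fintype_card]; decide
    rwa [h2] at h1
  have hcopAX : (Nat.card A).Coprime (Nat.card X) :=
    Nat.Coprime.coprime_dvd_left hcardA hcop.symm
  have hsolv : Group.IsSolvable A ∨ Group.IsSolvable X := by
    left
    have := isSolvable_A0
    exact Group.isSolvable_of_surjective (f := j.rangeRestrict) j.rangeRestrict_surjective
  -- the derived subgroup is nontrivial
  have hX' : ⁅X, X⁆ ≠ ⊥ := by
    intro h
    apply hnab
    intro a ha b hb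
    have h1 : ⁅a, b⁆ ∈ ⁅X, X⁆ := commutator_mem_commutator ha hb
    rw [h, mem_bot] at h1
    exact commutatorElement_eq_one_iff_mul_comm.1 h1
  have hX'X : ⁅X, X⁆ ≤ X := commutator_le_left X X
  have hcard' : Nat.card ↥⁅X, X⁆ ≠ 1 := by
    intro h
    exact hX' ((Subgroup.card_eq_one).1 h)
  obtain ⟨s, hs, hsdvd⟩ := Nat.exists_prime_and_dvd hcard'
  have : Fact s.Prime := ⟨hs⟩
  -- the normal Sylow `s`-subgroup of the derived subgroup
  let R : Sylow s ↥⁅X, X⁆ := default
  have hRn : (R : Subgroup ↥⁅X, X⁆).Normal := by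
    have h03 : Group.IsNilpotent ↥⁅X, X⁆ ↔ ∀ (p : ℕ) (_hp : Fact p.Prime)
        (P : Sylow p ↥⁅X, X⁆), (↑P : Subgroup ↥⁅X, X⁆).Normal :=
      (Group.isNilpotent_of_finite_tfae (G := ↥⁅X, X⁆)).out 0 3
    exact h03.1 hnil s ⟨hs⟩ R
  have hRc : (R : Subgroup ↥⁅X, X⁆).Characteristic := Sylow.characteristic_of_normal R hRn
  set T : Subgroup Γ := (R : Subgroup ↥⁅X, X⁆).map (⁅X, X⁆).subtype with hT
  have hTn : T.Normal := by
    rw [← normalizer_eq_top_iff]
    have h1 := normalizer_le_normalizer_map_of_characteristic ⁅X, X⁆ (R : Subgroup ↥⁅X, X⁆)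
    rw [normalizer_eq_top] at h1
    exact top_le_iff.1 h1
  have hTX' : T ≤ ⁅X, X⁆ := by
    rintro _ ⟨r, _, rfl⟩
    exact r.2
  have hTX : T ≤ X := hTX'.trans hX'X
  have hTp : IsPGroup s T := R.2.map _
  have hTne : T ≠ ⊥ := by
    intro h
    have h1 : (R : Subgroup ↥⁅X, X⁆) ≠ ⊥ := Sylow.ne_bot_of_dvd_card R hsdvd
    apply h1
    rw [eq_bot_iff]
    intro r hr
    have h2 : ((r : ↥⁅X, X⁆) : Γ) ∈ T := ⟨r, hr, rfl⟩
    rw [h, mem_bot] at h2
    rw [mem_bot]
    exact Subtype.ext h2
  have hTA : A ≤ normalizer (T : Set Γ) := by rw [normalizer_eq_top]; exact le_top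
  obtain ⟨P, hTP, hPA⟩ := coprime_invariant_pgroup_le_sylow A X hAX hcopAX hsolv s T hTX hTp hTA
  set S₀ : Subgroup Γ := (P : Subgroup ↥X).map X.subtype with hS₀
  have hS₀X : S₀ ≤ X := by
    rintro _ ⟨x, _, rfl⟩
    exact x.2
  have hS₀A : AInv j S₀ := (ainv_iff j S₀).2 hPA
  by_cases hS₀ab : ∀ a ∈ S₀, ∀ b ∈ S₀, a * b = b * a
  swap
  · -- case (a): `X` is an `s`-group
    left
    refine ⟨s, hs, ?_⟩
    have hS₀eq : S₀ = X := by
      by_contra hne
      exact hS₀ab (hdag S₀ hS₀X hne hS₀A)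
    intro g
    have hg : (g : Γ) ∈ S₀ := by rw [hS₀eq]; exact g.2
    obtain ⟨g', hg', hgg'⟩ := hg
    have : g' = g := Subtype.ext hgg'
    subst this
    obtain ⟨k, hk⟩ := P.2 ⟨g', hg'⟩
    refine ⟨k, ?_⟩
    have := congrArg Subtype.val hk
    simpa using this
  · -- case (b)
    right
    have hTab : ∀ a ∈ T, ∀ b ∈ T, a * b = b * a := fun a ha b hb =>
      hS₀ab a (hTP ha) b (hTP hb)
    -- transfer: central elements of `X` inside `T` are trivial
    have hTR : ∀ z ∈ T, (∀ x ∈ X, x * z = z * x) → z = 1 := fun z hz hzZ =>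
      eq_one_of_central_commutator_sylow X P hS₀ab z (hTP hz) (hTX' hz) hzZ
    -- some invariant Sylow subgroup does not centralize `T`
    have key : ∃ q : ℕ, q.Prime ∧ q ≠ s ∧ ∃ (hq : Fact q.Prime) (Q : Sylow q ↥X),
        A ≤ normalizer (((Q : Subgroup ↥X).map X.subtype : Subgroup Γ) : Set Γ) ∧
        ¬ (∀ x ∈ (Q : Subgroup ↥X).map X.subtype, ∀ t ∈ T, x * t = t * x) := by
      by_contra hno
      push Not at hno
      have hXle : X ≤ centralizer (T : Set Γ) := by
        apply le_of_forall_sylow_le X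
        intro q hq
        by_cases hqs : q = s
        · subst hqs
          refine ⟨P, ?_⟩
          intro x hx
          rw [mem_centralizer_iff]
          intro t ht
          exact hS₀ab t (hTP ht) x hx
        · obtain ⟨Q, hQA⟩ := coprime_exists_invariant_sylow A X hAX hcopAX hsolv q
          refine ⟨Q, ?_⟩
          intro x hx
          rw [mem_centralizer_iff]
          intro t ht
          exact (hno q hq.out hqs hq Q hQA x hx t ht).symm
      apply hTne
      rw [eq_bot_iff]
      intro z hz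
      rw [mem_bot]
      apply hTR z hz
      intro x hx
      have := hXle hx
      rw [mem_centralizer_iff] at this
      exact (this z hz).symm
    obtain ⟨q, hq, hqs, hqF, Q₀, hQA, hQT⟩ := key
    set Q : Subgroup Γ := (Q₀ : Subgroup ↥X).map X.subtype with hQ
    have hQX : Q ≤ X := by
      rintro _ ⟨x, _, rfl⟩
      exact x.2
    have hQp : IsPGroup q Q := Q₀.2.map _
    have hQAinv : AInv j Q := (ainv_iff j Q).2 hQA
    have hTAinv : AInv j T := ainv_of_normal j T
    have hdisj : Disjoint T Q := IsPGroup.disjoint_of_ne s q hqs.symm T Q hTp hQp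
    have hTQ1 : ∀ y, y ∈ T → y ∈ Q → y = 1 := by
      intro y hyT hyQ
      have : y ∈ T ⊓ Q := ⟨hyT, hyQ⟩
      rw [disjoint_iff.1 hdisj, mem_bot] at this
      exact this
    -- `X = TQ`
    have hTQ : T ⊔ Q = X := by
      by_contra hne
      have hab := hdag (T ⊔ Q) (sup_le hTX hQX) hne (ainv_sup j hTAinv hQAinv)
      apply hQT
      intro x hx t ht
      exact hab x (le_sup_right (a := T) hx) t (le_sup_left (b := Q) ht)
    have hQne : Q ≠ X := by
      intro h
      apply hTne
      rw [eq_bot_iff]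
      intro t ht
      rw [mem_bot]
      exact hTQ1 t ht (h ▸ hTX ht)
    have hQab : ∀ a ∈ Q, ∀ b ∈ Q, a * b = b * a := hdag Q hQX hQne hQAinv
    -- `C_T(Q) = 1`
    have hCT : ∀ u ∈ T, (∀ x ∈ Q, x * u * x⁻¹ = u) → u = 1 := by
      intro u hu hcent
      apply hTR u hu
      have hle : X ≤ centralizer ({u} : Set Γ) := by
        rw [← hTQ]
        apply sup_le
        · intro t ht
          rw [mem_centralizer_iff]
          intro y hy
          rw [Set.mem_singleton_iff] at hy
          subst hy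
          exact hTab y hu t ht
        · intro x hx
          rw [mem_centralizer_iff]
          intro y hy
          rw [Set.mem_singleton_iff] at hy
          subst hy
          have := hcent x hx
          exact (mul_inv_eq_iff_eq_mul.1 this).symm
      intro x hx
      have := hle hx
      rw [mem_centralizer_iff] at this
      exact (this u rfl).symm
    -- `S = Ω₁(T)`
    let S : Subgroup Γ :=
      { carrier := {t | t ∈ T ∧ t ^ s = 1}
        one_mem' := ⟨T.one_mem, one_pow _⟩
        mul_mem' := by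
          rintro a b ⟨ha, ha'⟩ ⟨hb, hb'⟩
          refine ⟨T.mul_mem ha hb, ?_⟩
          have hc : Commute a b := hTab a ha b hb
          rw [hc.mul_pow, ha', hb', one_mul]
        inv_mem' := by
          rintro a ⟨ha, ha'⟩
          exact ⟨T.inv_mem ha, by rw [inv_pow, ha', inv_one]⟩ }
    have hST : S ≤ T := fun t ht => ht.1
    have hSn : S.Normal := by
      refine ⟨fun t ht g => ⟨hTn.conj_mem t ht.1 g, ?_⟩⟩
      rw [conj_pow, ht.2, mul_one, mul_inv_cancel]
    have hSne : S ≠ ⊥ := by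
      have h1 : s ∣ Nat.card ↥T := by
        rcases hTp.card_eq_or_dvd with h | h
        · exact absurd ((Subgroup.card_eq_one).1 h) hTne
        · exact h
      obtain ⟨t, ht⟩ := exists_prime_orderOf_dvd_card' s h1
      intro hbot
      have h2 : (t : Γ) ∈ S := ⟨t.2, by
        have := pow_orderOf_eq_one t
        rw [ht] at this
        have := congrArg Subtype.val this
        simpa using this⟩
      rw [hbot, mem_bot] at h2
      have h3 : t = 1 := Subtype.ext h2
      rw [h3, orderOf_one] at ht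
      exact hs.one_lt.ne ht
    have hSAinv : AInv j S := ainv_of_normal j S
    refine ⟨s, q, S, Q, hs, hq, hqs.symm, hST.trans hTX', hSn, hSne,
      fun a ha b hb => hTab a (hST ha) b (hST hb), fun a ha => ha.2, hQX, hQab, hQp, hQAinv,
      fun u hu hc => hCT u (hST hu) hc, ?_, ?_⟩
    · -- irreducibility
      intro S1 hS1 hS1Q hS1A
      have hQN : Q ≤ normalizer (S1 : Set Γ) := by
        intro x hx
        rw [mem_normalizer_iff]
        intro u
        constructor
        · intro hu; exact hS1Q x hx u hu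
        · intro hu
          have := hS1Q x⁻¹ (Q.inv_mem hx) _ hu
          simpa [mul_assoc] using this
      by_cases hsup : S1 ⊔ Q = X
      · right
        apply le_antisymm hS1
        intro u hu
        have huX : u ∈ S1 ⊔ Q := by rw [hsup]; exact hTX (hST hu)
        obtain ⟨n, hn, y, hy, rfl⟩ := exists_mul_of_mem_sup hQN huX
        have hyT : y ∈ T := by
          have : y = n⁻¹ * (n * y) := by group
          rw [this]
          exact T.mul_mem (T.inv_mem (hST (hS1 hn))) (hST hu)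
        rw [hTQ1 y hyT hy, mul_one]
        exact hn
      · left
        have hab := hdag (S1 ⊔ Q) (sup_le (hS1.trans (hST.trans hTX)) hQX) hsup
          (ainv_sup j hS1A hQAinv)
        rw [eq_bot_iff]
        intro u hu
        rw [mem_bot]
        apply hCT u (hST (hS1 hu))
        intro x hx
        rw [hab x (le_sup_right (a := S1) hx) u (le_sup_left (b := Q) hu), mul_inv_cancel_right]
    · -- proper invariant subgroups of `Q` centralize `S`
      intro Q1 hQ1 hQ1ne hQ1A x hx u hu
      have hne : S ⊔ Q1 ≠ X := by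
        intro h
        apply hQ1ne
        apply le_antisymm hQ1
        intro y hy
        have hyX : y ∈ S ⊔ Q1 := by rw [h]; exact hQX hy
        have hQ1N : Q1 ≤ normalizer (S : Set Γ) := by
          rw [normalizer_eq_top]; exact le_top
        obtain ⟨n, hn, z, hz, rfl⟩ := exists_mul_of_mem_sup hQ1N hyX
        have hnQ : n ∈ Q := by
          have : n = (n * z) * z⁻¹ := by group
          rw [this]
          exact Q.mul_mem hy (Q.inv_mem (hQ1 hz))
        rw [hTQ1 n (hST hn) hnQ, one_mul]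
        exact hz
      have hab := hdag (S ⊔ Q1) (sup_le (hST.trans hTX) (hQ1.trans hQX)) hne
        (ainv_sup j hSAinv hQ1A)
      rw [hab x (le_sup_right (a := S) hx) u (le_sup_left (b := Q1) hu), mul_inv_cancel_right]

end Cfsg.Agent.Helper27.S3fStruct
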