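import Mathlib
import Cfsg.Agent.Helper27.S4009Defs

/-! # S4009 piece AR1 (helper27): arithmetic of the exponents, cyclic case. -/

set_option autoImplicit false

namespace Cfsg.Agent.S4009P

theorem AR_aux_two_pow (m : ℕ) : ∃ u : ℕ, 2 ^ m = u + 1 ∧ 2 ^ (m + 1) = 2 * u + 2 ∧ m ≤ u ∧ (2 ≤ m → m + 1 ≤ u) := by
  refine ⟨2 ^ m - 1, ?_, ?_, ?_, ?_⟩
  · have : 1 ≤ 2 ^ m := Nat.one_le_two_pow
    omega
  · have : 1 ≤ 2 ^ m := Nat.one_le_two_pow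
    rw [pow_succ]; omega
  · have : m < 2 ^ m := Nat.lt_two_pow_self
    omega
  · intro hm
    obtain ⟨k, rfl⟩ : ∃ k, m = k + 2 := ⟨m - 2, by omega⟩
    have h1 : k + 2 < 2 ^ (k + 2) := Nat.lt_two_pow_self
    have h2 : 2 ^ (k + 2) = 4 * 2 ^ k := by rw [pow_add]; ring
    have h3 : k < 2 ^ k := Nat.lt_two_pow_self
    omega

theorem AR_aux_gB (m : ℕ) : (m = 0 → gB m = 0) ∧ (m = 1 → gB m = 1) ∧ (2 ≤ m → gB m = 2 * m - 2) := by
  unfold gB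
  refine ⟨fun h => by simp [h], fun h => by subst h; simp, fun h => ?_⟩
  rw [if_neg (by omega)]
  omega

/-- AR1 (M): the cyclic case. -/
theorem AR1 (m b b' σ : ℕ) (hb' : 2 * b + 2 ≤ b') (hσ : 1 ≤ σ) :
    (2 ^ (m + 1) - 1) * (b + 1) + 1 + (2 * (m + 1) - 1) ≤
      σ + (b' - b - 1) + ((2 ^ m - 1) * (b' + 1) + 1 + gB m) := by
  obtain ⟨u, h1, h2, h3, h4⟩ := AR_aux_two_pow m
  obtain ⟨g0, g1, g2⟩ := AR_aux_gB m
  obtain ⟨e, rfl⟩ : ∃ e, b' = 2 * b + 2 + e := ⟨b' - (2 * b + 2), by omega⟩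
  rw [h1, h2]
  have e1 : 2 * u + 2 - 1 = 2 * u + 1 := by omega
  have e2 : u + 1 - 1 = u := by omega
  have e3 : 2 * b + 2 + e - b - 1 = b + 1 + e := by omega
  rw [e1, e2, e3]
  rcases Nat.lt_or_ge m 2 with hm | hm
  · interval_cases m
    · have hu : u = 0 := by simpa using h1.symm
      subst hu
      rw [g0 rfl]; omega
    · have hu : u = 1 := by
        have : (2 : ℕ) ^ 1 = 2 := by norm_num
        omega
      subst hu
      rw [g1 rfl]; omega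
  · rw [g2 hm]
    have h5 := h4 hm
    obtain ⟨k, rfl⟩ : ∃ k, m = k + 2 := ⟨m - 2, by omega⟩
    have e4 : 2 * (k + 2) - 2 = 2 * k + 2 := by omega
    have e5 : 2 * (k + 2 + 1) - 1 = 2 * k + 5 := by omega
    rw [e4, e5]
    nlinarith [Nat.zero_le (u * e), Nat.zero_le (u * b)]

end Cfsg.Agent.S4009P
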