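import Mathlib
import Cfsg.Agent.Helper27.S4009Defs
import Cfsg.Agent.Helper2.S4009DERLE
import Cfsg.Agent.Helper6.S4009CYC1
import Cfsg.Agent.Helper6.S4009CYC2
import Cfsg.Agent.Helper25.S4009GEN1
import Cfsg.Agent.Helper10.S4009GEN2
import Cfsg.Agent.Helper20.S4009CHAIN
import Cfsg.Agent.Helper15.S4009SIG
import Cfsg.Agent.Helper15.S4009MAXB

/-! # S4009 piece REL (helper27): one step of the induction (assembly of DERLE, CYC1, CYC2, GEN1, GEN2, CHAIN, SIG, MAXB). -/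

set_option autoImplicit false

namespace Cfsg.Agent.S4009P

open Cfsg.Agent.S4009P Subgroup
open scoped commutatorElement

variable {P : Type*} [Group P]

theorem REL_aux_anti {a b : ℕ} (h : a ≤ b) : Gam P b ≤ Gam P a :=
  (⊤ : Subgroup P).lowerCentralSeries_antitone h

/-- REL (L, assembly of DERLE, CYC1, CYC2, GEN1, GEN2, CHAIN, SIG, MAXB): one step of the induction. -/
theorem REL [Finite P] {p : ℕ} [Fact p.Prime] (hP : IsPGroup p P) {i b : ℕ}
    (hle : derivedSeries P i ≤ Gam P b) (hnle : ¬ derivedSeries P i ≤ Gam P (b + 1))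
    (hne : derivedSeries P (i + 1) ≠ ⊥) :
    ∃ b' σ : ℕ, derivedSeries P (i + 1) ≤ Gam P b' ∧ ¬ derivedSeries P (i + 1) ≤ Gam P (b' + 1) ∧
      2 * b + 1 ≤ b' ∧ 1 ≤ σ ∧ p ^ σ * p ^ (b' - b - 1) * Nat.card ↥(Gam P b') ≤ Nat.card ↥(Gam P b) ∧
      (Cyc P (derivedSeries P i) b → 2 * b + 2 ≤ b') ∧
      (¬ Cyc P (derivedSeries P i) b → 2 ≤ σ) ∧
      (¬ Cyc P (derivedSeries P i) b → σ = 2 → b' = 2 * b + 1 → Cyc P (derivedSeries P (i + 1)) b') := by
  have hp : p.Prime := Fact.out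
  have hD : derivedSeries P (i + 1) = ⁅derivedSeries P i, derivedSeries P i⁆ := rfl
  obtain ⟨b', hb'1, hb'2⟩ := MAXB hP hne
  obtain ⟨σ, hσ1, hσ2, hσ3⟩ := SIG hP hle hnle
  have h2b : 2 * b + 1 ≤ b' := by
    by_contra hlt
    apply hb'2
    have h1 : derivedSeries P (i + 1) ≤ Gam P (2 * b + 1) := by rw [hD]; exact DERLE hle
    exact le_trans h1 (REL_aux_anti (by omega))
  have hGb' : Gam P b' ≠ ⊥ := by
    intro h0
    apply hne
    rw [h0] at hb'1
    exact le_bot_iff.mp hb'1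
  have hchain := CHAIN hP (b := b) (b' := b') (by omega) hGb'
  refine ⟨b', σ, hb'1, hb'2, h2b, hσ1, ?_, ?_, ?_, ?_⟩
  · calc p ^ σ * p ^ (b' - b - 1) * Nat.card ↥(Gam P b')
        = p ^ σ * (p ^ (b' - b - 1) * Nat.card ↥(Gam P b')) := by ring
      _ ≤ p ^ σ * Nat.card ↥(Gam P (b + 1)) := Nat.mul_le_mul_left _ hchain
      _ ≤ Nat.card ↥(Gam P b) := hσ3
  · intro hc
    by_contra hlt
    apply hb'2
    have h1 : derivedSeries P (i + 1) ≤ Gam P (2 * b + 2) := by rw [hD]; exact CYC1 hle hc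
    exact le_trans h1 (REL_aux_anti (by omega))
  · intro hc
    by_contra hlt
    have hσeq : σ = 1 := by omega
    rw [hσeq, pow_one] at hσ2
    exact hc (GEN1 hp hσ2)
  · intro hc hσeq hbeq
    rw [hσeq] at hσ2
    rcases GEN2 hp hσ2 with h | ⟨c, hcX, d, hdX, hgen⟩
    · exact absurd h hc
    · have h1 := CYC2 hle hcX hdX hgen
      refine ⟨⁅c, d⁆, ?_, ?_⟩
      · rw [hD]; exact Subgroup.commutator_mem_commutator hcX hdX
      · rw [hbeq, hD]
        exact h1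

end Cfsg.Agent.S4009P
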