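import Mathlib
import Cfsg.Agent.Helper27.S4009Defs
import Cfsg.Agent.Helper27.S4009REL
import Cfsg.Agent.Helper27.S4009AR1
import Cfsg.Agent.Helper2.S4009AR
import Cfsg.Agent.Helper2.S4009BASE

/-! # S4009 piece MAIN (helper27): the induction (assembly of REL, AR1–AR4, BASE). -/

set_option autoImplicit false

namespace Cfsg.Agent.S4009P

open Cfsg.Agent.S4009P Subgroup
open scoped commutatorElement

variable {P : Type*} [Group P]

theorem MAIN_aux_gB_le (m : ℕ) : gB (m + 1) ≤ 2 * (m + 1) - 1 := by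
  unfold gB
  rw [if_neg (Nat.succ_ne_zero m)]
  omega

theorem MAIN_aux_der_anti (i m : ℕ) : derivedSeries P (i + m) ≤ derivedSeries P i := by
  induction m with
  | zero => exact le_rfl
  | succ m ih =>
    have : derivedSeries P (i + (m + 1)) = ⁅derivedSeries P (i + m), derivedSeries P (i + m)⁆ := rfl
    rw [this]
    exact le_trans (Subgroup.commutator_le_left _ _) ih

/-- MAIN (L, assembly of REL, AR1–AR4, BASE): induction on `m`. -/
theorem MAIN [Finite P] {p : ℕ} [Fact p.Prime] (hP : IsPGroup p P) :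
    ∀ m i b : ℕ, derivedSeries P (i + m) ≠ ⊥ → derivedSeries P i ≤ Gam P b → ¬ derivedSeries P i ≤ Gam P (b + 1) →
      p ^ ((2 ^ m - 1) * (b + 1) + 1 + gB m) ≤ Nat.card ↥(Gam P b) ∧
      (Cyc P (derivedSeries P i) b → 1 ≤ m →
        p ^ ((2 ^ m - 1) * (b + 1) + 1 + (2 * m - 1)) ≤ Nat.card ↥(Gam P b)) := by
  have hp : p.Prime := Fact.out
  intro m
  induction m with
  | zero =>
    intro i b hne hle hnle
    refine ⟨?_, fun _ h => absurd h (by norm_num)⟩
    have hG : Gam P b ≠ ⊥ := by
      intro h0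
      apply hne
      rw [Nat.add_zero]
      rw [h0] at hle
      exact le_bot_iff.mp hle
    have := BASE hP hG
    simpa [gB] using this
  | succ m ih =>
    intro i b hne hle hnle
    have hne1 : derivedSeries P (i + 1) ≠ ⊥ := by
      intro h0
      apply hne
      have h1 : derivedSeries P (i + 1 + m) ≤ derivedSeries P (i + 1) := MAIN_aux_der_anti (i + 1) m
      rw [h0] at h1
      have e : i + (m + 1) = i + 1 + m := by omega
      rw [e]
      exact le_bot_iff.mp h1
    obtain ⟨b', σ, hle', hnle', hb', hσ, hcard, hcyc1, hcyc2, hcyc3⟩ := REL hP hle hnle hne1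
    have hne' : derivedSeries P (i + 1 + m) ≠ ⊥ := by
      have e : i + (m + 1) = i + 1 + m := by omega
      rw [← e]; exact hne
    obtain ⟨ih1, ih2⟩ := ih (i + 1) b' hne' hle' hnle'
    -- combine
    have comb : ∀ E E' : ℕ, p ^ E' ≤ Nat.card ↥(Gam P b') → E ≤ σ + (b' - b - 1) + E' →
        p ^ E ≤ Nat.card ↥(Gam P b) := by
      intro E E' h1 h2
      calc p ^ E ≤ p ^ (σ + (b' - b - 1) + E') := Nat.pow_le_pow_right hp.pos h2
        _ = p ^ σ * p ^ (b' - b - 1) * p ^ E' := by rw [pow_add, pow_add]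
        _ ≤ p ^ σ * p ^ (b' - b - 1) * Nat.card ↥(Gam P b') := Nat.mul_le_mul_left _ h1
        _ ≤ Nat.card ↥(Gam P b) := hcard
    have hcycpart : Cyc P (derivedSeries P i) b →
        p ^ ((2 ^ (m + 1) - 1) * (b + 1) + 1 + (2 * (m + 1) - 1)) ≤ Nat.card ↥(Gam P b) := by
      intro hc
      exact comb _ _ ih1 (AR1 m b b' σ (hcyc1 hc) hσ)
    refine ⟨?_, fun hc _ => hcycpart hc⟩
    by_cases hc : Cyc P (derivedSeries P i) b
    · refine le_trans (Nat.pow_le_pow_right hp.pos ?_) (hcycpart hc)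
      have := MAIN_aux_gB_le m
      omega
    · have hσ2 := hcyc2 hc
      by_cases h3 : 3 ≤ σ
      · exact comb _ _ ih1 (AR2 m b b' σ hb' (Or.inl h3))
      · have hσeq : σ = 2 := by omega
        by_cases hb2 : 2 * b + 2 ≤ b'
        · exact comb _ _ ih1 (AR2 m b b' σ hb' (Or.inr ⟨hσeq, hb2⟩))
        · have hbeq : b' = 2 * b + 1 := by omega
          have hc' := hcyc3 hc hσeq hbeq
          subst hbeq
          subst hσeq
          rcases Nat.eq_zero_or_pos m with hm | hm
          · subst hm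
            exact comb _ _ ih1 (AR4 b)
          · exact comb _ _ (ih2 hc' hm) (AR3 m b hm)

end Cfsg.Agent.S4009P
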