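import Mathlib
import Cfsg.Statements.S4079
import Cfsg.Agent.Helper1.MaxClass
import Cfsg.Agent.Helper10.BlkSmallA

/-!
# S4079 piece DER (helper27): if `L ⋊ ⟨a⟩` has maximal class then every commutator of the metacyclic
`p`-group `L` is central with `p`-th power `1`.
-/

set_option autoImplicit false
open Cfsg

namespace Cfsg.Agent.S4079P

variable {L : Type*} [Group L] [Finite L] {p : ℕ} [Fact p.Prime]

/-- auxiliary (own copy of the row BRG, so that DER does not wait for it): an `a`-invariant normal subgroup of `L`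
gives a normal subgroup of `L ⋊ ⟨a⟩` of the same order. -/
theorem DER_aux_inl (a : MulAut L) (H : Subgroup L) [H.Normal] (hH : ∀ h ∈ H, a h ∈ H) :
    (H.map (SemidirectProduct.inl : L →* L ⋊[(Subgroup.zpowers a).subtype] ↥(Subgroup.zpowers a))).Normal ∧
      Nat.card (H.map (SemidirectProduct.inl :
        L →* L ⋊[(Subgroup.zpowers a).subtype] ↥(Subgroup.zpowers a))) = Nat.card H := by
  refine ⟨⟨?_⟩, Subgroup.card_map_of_injective SemidirectProduct.inl_injective⟩
  -- invariance under all powers of `a`
  have hpow : ∀ n : ℕ, ∀ h ∈ H, (a ^ n) h ∈ H := by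
    intro n
    induction n with
    | zero => intro h hh; simpa using hh
    | succ n ih =>
      intro h hh
      rw [pow_succ, MulAut.mul_apply]
      exact ih _ (hH h hh)
  have hz : ∀ k : ↥(Subgroup.zpowers a), ∀ h ∈ H, (k : MulAut L) h ∈ H := by
    intro k h hh
    obtain ⟨n, hn⟩ := (mem_powers_iff_mem_zpowers (x := a)).mpr k.2
    rw [← hn]
    exact hpow n h hh
  rintro x ⟨h, hh, rfl⟩ g
  rw [← SemidirectProduct.inl_left_mul_inr_right g]
  have e1 : SemidirectProduct.inl g.left * SemidirectProduct.inr g.right * SemidirectProduct.inl h *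
      (SemidirectProduct.inl g.left * SemidirectProduct.inr g.right)⁻¹
      = (SemidirectProduct.inl (g.left * ((Subgroup.zpowers a).subtype g.right) h * g.left⁻¹) :
          L ⋊[(Subgroup.zpowers a).subtype] ↥(Subgroup.zpowers a)) := by
    rw [map_mul, map_mul, SemidirectProduct.inl_aut, map_inv]
    simp only [mul_inv_rev, map_inv]
    group
  rw [e1]
  refine Subgroup.mem_map_of_mem _ ?_
  exact ‹H.Normal›.conj_mem _ (hz g.right h hh) g.left

/-- DER: if `G = L ⋊ ⟨a⟩` has maximal class then `|L'| ≤ p`: every commutator of `L` is central of order dividing `p`. -/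
theorem DER (hp : p ≠ 2) (hL : IsPGroup p L) (hmc : Cfsg.IsMetacyclic L)
    (E : Subgroup L) (hE : ∀ x, x ∈ E ↔ x ^ p = 1) (hEc : Nat.card E = p ^ 2)
    (a : MulAut L) (ha : orderOf a = p) (m : ℕ) (hm : Nat.card L = p ^ m) (hm4 : 4 ≤ m)
    (hcl : Group.nilpotencyClass (L ⋊[(Subgroup.zpowers a).subtype] ↥(Subgroup.zpowers a)) = m) :
    ∀ x y : L, (x * y * x⁻¹ * y⁻¹) ^ p = 1 ∧
      ∀ g : L, g * (x * y * x⁻¹ * y⁻¹) = (x * y * x⁻¹ * y⁻¹) * g := by
  have hpp : p.Prime := Fact.out
  -- the semidirect product
  have hcardΓ : Nat.card (L ⋊[(Subgroup.zpowers a).subtype] ↥(Subgroup.zpowers a)) = p ^ (m + 1) := by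
    rw [SemidirectProduct.card, hm, Nat.card_zpowers, ha, pow_succ]
  have hfin : Finite (L ⋊[(Subgroup.zpowers a).subtype] ↥(Subgroup.zpowers a)) :=
    Nat.finite_of_card_ne_zero (by rw [hcardΓ]; exact pow_ne_zero _ hpp.ne_zero)
  have hΓp : IsPGroup p (L ⋊[(Subgroup.zpowers a).subtype] ↥(Subgroup.zpowers a)) := IsPGroup.of_card hcardΓ
  have : Group.IsNilpotent (L ⋊[(Subgroup.zpowers a).subtype] ↥(Subgroup.zpowers a)) := hΓp.isNilpotent
  have hlcs : Subgroup.lowerCentralSeries
      (⊤ : Subgroup (L ⋊[(Subgroup.zpowers a).subtype] ↥(Subgroup.zpowers a))) (m + 1 - 2) ≠ ⊥ := by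
    intro h0
    rw [Subgroup.lowerCentralSeries_eq_bot_iff_nilpotencyClass_le, hcl] at h0
    omega
  -- `E` is normal and `a`-invariant
  have hEn : E.Normal := by
    refine ⟨fun x hx g => ?_⟩
    rw [hE] at hx ⊢
    rw [conj_pow, hx, mul_one, mul_inv_cancel]
  have hEa : ∀ h ∈ E, a h ∈ E := by
    intro x hx
    rw [hE] at hx ⊢
    rw [← map_pow, hx, map_one]
  obtain ⟨hEΓn, hEΓc⟩ := DER_aux_inl a E hEa
  -- the commutator subgroup
  have hKa : ∀ h ∈ commutator L, a h ∈ commutator L := by
    intro x hx
    have hchar : (commutator L).Characteristic := by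
      unfold commutator; infer_instance
    have := (Subgroup.characteristic_iff_map_le.mp hchar) a
    exact this (Subgroup.mem_map_of_mem _ hx)
  obtain ⟨hKΓn, hKΓc⟩ := DER_aux_inl a (commutator L) hKa
  have hKcyc : IsCyclic ↥(commutator L) := by
    obtain ⟨N, hN, hNc, hQc⟩ := hmc
    let _ : CommGroup (L ⧸ N) := IsCyclic.commGroup
    have hle : commutator L ≤ N := by
      have := Abelianization.commutator_subset_ker (QuotientGroup.mk' N)
      rwa [QuotientGroup.ker_mk'] at this
    exact Subgroup.isCyclic_of_le hle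
  -- `|L'| = p ^ k`
  obtain ⟨k, hk⟩ := (IsPGroup.iff_card).mp (hL.to_subgroup (commutator L))
  have hk1 : k ≤ 1 := by
    by_contra hk2
    push Not at hk2
    -- `k ≤ m - 1`
    have hKne : commutator L ≠ ⊤ := by
      intro htop
      have hnil : Group.IsNilpotent L := hL.isNilpotent
      have hsolv : Group.IsSolvable L := inferInstance
      have hall : ∀ n, derivedSeries L n = ⊤ := by
        intro n
        induction n with
        | zero => rfl
        | succ n ih =>
          rw [derivedSeries_succ, ih, ← commutator_def, htop]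
      obtain ⟨n, hn⟩ := hsolv.solvable
      rw [hall n] at hn
      have hcard1 : Nat.card L = 1 := by
        rw [← Subgroup.card_top, hn, Subgroup.card_bot]
      rw [hm] at hcard1
      have : m = 0 := by
        by_contra hm0
        have := Nat.one_lt_pow hm0 hpp.one_lt
        omega
      omega
    have hkm : k < m := by
      by_contra hkm
      push Not at hkm
      apply hKne
      apply Subgroup.eq_top_of_card_eq
      apply le_antisymm (Subgroup.card_le_card_group _)
      rw [hk, hm]
      exact Nat.pow_le_pow_right hpp.pos hkm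
    -- indices
    have hidxK : (Subgroup.map (SemidirectProduct.inl :
        L →* L ⋊[(Subgroup.zpowers a).subtype] ↥(Subgroup.zpowers a)) (commutator L)).index
          = p ^ (m + 1 - k) := by
      have h1 := Subgroup.card_mul_index (Subgroup.map (SemidirectProduct.inl :
        L →* L ⋊[(Subgroup.zpowers a).subtype] ↥(Subgroup.zpowers a)) (commutator L))
      rw [hKΓc, hk, hcardΓ] at h1
      have h2 : p ^ (m + 1) = p ^ k * p ^ (m + 1 - k) := by rw [← pow_add]; congr 1; omega
      rw [h2] at h1
      exact Nat.eq_of_mul_eq_mul_left (pow_pos hpp.pos k) h1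
    have hidxE : (Subgroup.map (SemidirectProduct.inl :
        L →* L ⋊[(Subgroup.zpowers a).subtype] ↥(Subgroup.zpowers a)) E).index = p ^ (m + 1 - 2) := by
      have h1 := Subgroup.card_mul_index (Subgroup.map (SemidirectProduct.inl :
        L →* L ⋊[(Subgroup.zpowers a).subtype] ↥(Subgroup.zpowers a)) E)
      rw [hEΓc, hEc, hcardΓ] at h1
      have h2 : p ^ (m + 1) = p ^ 2 * p ^ (m + 1 - 2) := by rw [← pow_add]; congr 1; omega
      rw [h2] at h1
      exact Nat.eq_of_mul_eq_mul_left (pow_pos hpp.pos 2) h1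
    have e1 := Cfsg.Agent.Helper1.LCS.eq_lcs_of_maxClass hcardΓ hlcs (by omega)
      (Subgroup.map (SemidirectProduct.inl :
        L →* L ⋊[(Subgroup.zpowers a).subtype] ↥(Subgroup.zpowers a)) (commutator L))
      (r := m + 1 - k) (by omega) hidxK
    have e2 := Cfsg.Agent.Helper1.LCS.eq_lcs_of_maxClass hcardΓ hlcs (by omega)
      (Subgroup.map (SemidirectProduct.inl :
        L →* L ⋊[(Subgroup.zpowers a).subtype] ↥(Subgroup.zpowers a)) E)
      (r := m + 1 - 2) (by omega) hidxE
    have hle : Subgroup.map (SemidirectProduct.inl :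
        L →* L ⋊[(Subgroup.zpowers a).subtype] ↥(Subgroup.zpowers a)) E ≤
        Subgroup.map (SemidirectProduct.inl :
        L →* L ⋊[(Subgroup.zpowers a).subtype] ↥(Subgroup.zpowers a)) (commutator L) := by
      rw [e1, e2]
      exact Subgroup.lowerCentralSeries_antitone _ (by omega)
    have hEK : E ≤ commutator L :=
      (Subgroup.map_le_map_iff_of_injective SemidirectProduct.inl_injective).mp hle
    have := hKcyc
    have : IsCyclic ↥E := Subgroup.isCyclic_of_le hEK
    obtain ⟨e, he⟩ := IsCyclic.exists_ofOrder_eq_natCard (α := ↥E)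
    have he1 : e ^ p = 1 := by
      have := (hE (e : L)).mp e.2
      exact Subtype.ext (by simpa using this)
    have := orderOf_le_of_pow_eq_one hpp.pos he1
    rw [he, hEc] at this
    have h2 : p < p ^ 2 := by
      calc p = p ^ 1 := (pow_one p).symm
        _ < p ^ 2 := Nat.pow_lt_pow_right hpp.one_lt (by norm_num)
    omega
  intro x y
  have hc : x * y * x⁻¹ * y⁻¹ ∈ commutator L := by
    rw [commutator_def]
    have := Subgroup.commutator_mem_commutator (Subgroup.mem_top x) (Subgroup.mem_top y)
    rwa [commutatorElement_def] at this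
  have hKdvd : Nat.card ↥(commutator L) ∣ p := by
    rw [hk]
    interval_cases k
    · simp
    · simp
  constructor
  · have h1 : (⟨x * y * x⁻¹ * y⁻¹, hc⟩ : ↥(commutator L)) ^ p = 1 := by
      obtain ⟨d, hd⟩ := hKdvd
      rw [hd, pow_mul, pow_card_eq_one', one_pow]
    have := congrArg (fun z : ↥(commutator L) => (z : L)) h1
    simpa using this
  · intro g
    rcases (Nat.dvd_prime hpp).mp hKdvd with h1 | h1
    · have hbot : commutator L = ⊥ := Subgroup.card_eq_one.mp h1
      rw [hbot, Subgroup.mem_bot] at hc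
      rw [hc, mul_one, one_mul]
    · have hcen := Cfsg.Agent.Helper10.Blk.normal_card_prime_le_center hL (commutator L) h1
      have := Subgroup.mem_center_iff.mp (hcen hc) g
      exact this

end Cfsg.Agent.S4079P
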