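import Mathlib
import Cfsg.Agent.Helper9.S4091Defs
import Cfsg.Agent.Lead.PSolvHall

/-! # S4091, piece FIN1: `u = |G| ∑_{y ∈ P} 1/|T(y)|`. -/

set_option autoImplicit false

namespace Cfsg.Agent.S4091P

open Cfsg.Agent.Helper7 (subFinset)

universe u v

variable {p : ℕ} [Fact p.Prime]

/-- `|T(g⁻¹ y g)| = |T(y)|` -/
theorem FIN1_aux_tc_conj {G : Type u} [Group G] (P : Subgroup G) (g y : G) :
    tc P (g⁻¹ * y * g) = tc P y := by
  unfold tc
  apply Nat.card_congr
  exact
    { toFun := fun h => ⟨h.1 * g⁻¹, by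
        have h2 := h.2
        have e : h.1 * g⁻¹ * y * (h.1 * g⁻¹)⁻¹ = h.1 * (g⁻¹ * y * g) * h.1⁻¹ := by group
        rw [e]; exact h2⟩
      invFun := fun h => ⟨h.1 * g, by
        have h2 := h.2
        have e : h.1 * g * (g⁻¹ * y * g) * (h.1 * g)⁻¹ = h.1 * y * h.1⁻¹ := by group
        rw [e]; exact h2⟩
      left_inv := fun h => by
        apply Subtype.ext
        simp
      right_inv := fun h => by
        apply Subtype.ext
        simp }

/-- `x` is a `p`-element iff some conjugate of `x` lies in the Sylow `p`-subgroup `P` -/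
theorem FIN1_aux_pel {G : Type u} [Group G] [Finite G] (P : Sylow p G) (x : G) :
    (∃ k : ℕ, orderOf x = p ^ k) ↔ ∃ g : G, g * x * g⁻¹ ∈ (P : Subgroup G) := by
  constructor
  · rintro ⟨k, hk⟩
    have hpg : IsPGroup p ↥(Subgroup.zpowers x) := by
      rw [IsPGroup.iff_card]
      exact ⟨k, by rw [Nat.card_zpowers, hk]⟩
    obtain ⟨Q, hQ⟩ := hpg.exists_le_sylow
    obtain ⟨g, hg⟩ := MulAction.exists_smul_eq G Q P
    refine ⟨g, ?_⟩
    have hxQ : x ∈ (Q : Subgroup G) := hQ (Subgroup.mem_zpowers x)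
    have : g * x * g⁻¹ ∈ ((g • Q : Sylow p G) : Subgroup G) := by
      rw [Sylow.coe_subgroup_smul, Subgroup.mem_pointwise_smul_iff_inv_smul_mem]
      simp only [MulAut.smul_def, MulAut.inv_apply, MulAut.conj_symm_apply]
      have e : g⁻¹ * (g * x * g⁻¹) * g = x := by group
      rw [e]; exact hxQ
    rw [hg] at this
    exact this
  · rintro ⟨g, hg⟩
    have h1 : ∀ y : ↥(P : Subgroup G), ∃ k : ℕ, orderOf y = p ^ k := IsPGroup.iff_orderOf.mp P.isPGroup'
    obtain ⟨k, hk⟩ := h1 ⟨g * x * g⁻¹, hg⟩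
    refine ⟨k, ?_⟩
    rw [← hk, Subgroup.orderOf_mk]
    have := MulEquiv.orderOf_eq (MulAut.conj g) x
    rw [MulAut.conj_apply] at this
    exact this.symm

/-- FIN1: `u = |G| ∑_{y ∈ P} 1/|T(y)|` -/
theorem FIN1 {G : Type u} [Group G] [Finite G] (P : Sylow p G) :
    (Nat.card {g : G // ∃ k : ℕ, orderOf g = p ^ k} : ℝ)
      = Nat.card G * ∑ y ∈ subFinset (P : Subgroup G), (1 : ℝ) / tc (P : Subgroup G) y := by
  classical
  let _ : Fintype G := Fintype.ofFinite G
  set Q : Subgroup G := (P : Subgroup G) with hQ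
  let F : G → G → ℝ := fun g x => if g * x * g⁻¹ ∈ Q then (1 : ℝ) / tc Q x else 0
  have key : ∑ x : G, ∑ g : G, F g x = ∑ g : G, ∑ x : G, F g x := Finset.sum_comm
  -- the left side
  have htc : ∀ x : G, tc Q x = (Finset.univ.filter (fun g : G => g * x * g⁻¹ ∈ Q)).card := by
    intro x
    unfold tc
    rw [Nat.card_eq_fintype_card, Fintype.card_subtype]
  have hL : ∀ x : G, ∑ g : G, F g x = if (∃ k : ℕ, orderOf x = p ^ k) then (1 : ℝ) else 0 := by
    intro x
    simp only [F]
    rw [Finset.sum_ite, Finset.sum_const_zero, add_zero, Finset.sum_const, ← htc, nsmul_eq_mul]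
    by_cases hx : ∃ k : ℕ, orderOf x = p ^ k
    · rw [if_pos hx]
      obtain ⟨g, hg⟩ := (FIN1_aux_pel P x).mp hx
      have hpos : tc Q x ≠ 0 := by
        rw [htc]
        apply Finset.card_ne_zero_of_mem (a := g)
        rw [Finset.mem_filter]
        exact ⟨Finset.mem_univ _, hg⟩
      have : (tc Q x : ℝ) ≠ 0 := by exact_mod_cast hpos
      field_simp
    · rw [if_neg hx]
      have h0 : tc Q x = 0 := by
        rw [htc, Finset.card_eq_zero, Finset.filter_eq_empty_iff]
        intro g _ hg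
        exact hx ((FIN1_aux_pel P x).mpr ⟨g, hg⟩)
      rw [h0]; simp
  have hLsum : ∑ x : G, ∑ g : G, F g x = (Nat.card {g : G // ∃ k : ℕ, orderOf g = p ^ k} : ℝ) := by
    rw [Finset.sum_congr rfl (fun x _ => hL x), Finset.sum_boole, Nat.card_eq_fintype_card,
      Fintype.card_subtype]
  -- the right side
  have hR : ∀ g : G, ∑ x : G, F g x = ∑ y ∈ subFinset Q, (1 : ℝ) / tc Q y := by
    intro g
    have h1 : ∑ x : G, F g x
        = ∑ y : G, (if y ∈ Q then (1 : ℝ) / tc Q (g⁻¹ * y * g) else 0) := by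
      let ee : G ≃ G :=
        { toFun := fun x => g * x * g⁻¹
          invFun := fun y => g⁻¹ * y * g
          left_inv := fun x => by group
          right_inv := fun y => by group }
      apply Fintype.sum_equiv ee
      intro x
      show (if g * x * g⁻¹ ∈ Q then (1 : ℝ) / tc Q x else 0)
        = (if g * x * g⁻¹ ∈ Q then (1 : ℝ) / tc Q (g⁻¹ * (g * x * g⁻¹) * g) else 0)
      have e : g⁻¹ * (g * x * g⁻¹) * g = x := by group
      rw [e]
    rw [h1, ← Finset.sum_filter]
    have h2 : Finset.univ.filter (fun y : G => y ∈ Q) = subFinset Q := by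
      ext y
      rw [Finset.mem_filter, Cfsg.Agent.Helper7.mem_subFinset]
      simp
    rw [h2]
    apply Finset.sum_congr rfl
    intro y _
    rw [FIN1_aux_tc_conj]
  rw [← hLsum, key, Finset.sum_congr rfl (fun g _ => hR g), Finset.sum_const, Finset.card_univ,
    nsmul_eq_mul, Nat.card_eq_fintype_card]

end Cfsg.Agent.S4091P
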