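import Mathlib
import Cfsg.Agent.Helper9.S4091Defs

/-! # S4091, piece PIB, half (b): the Brauer–Wielandt formula for two commuting automorphisms of
order dividing `p`, obtained from `Helper7.wform` inside `N ⋊ (Z_p × Z_p)`. -/

set_option autoImplicit false

namespace Cfsg.Agent.S4091P

open Cfsg.Agent.Helper7 (subFinset)

universe u v

variable {p : ℕ} [Fact p.Prime]

/-- `b ^ (i+j).val = b ^ i.val * b ^ j.val` when `b ^ p = 1` -/
theorem PIBb_aux_pow_add {M : Type*} [Group M] (b : M) (hb : b ^ p = 1) (i j : ZMod p) :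
    b ^ (i + j).val = b ^ i.val * b ^ j.val := by
  rw [ZMod.val_add, ← pow_eq_pow_mod _ hb, pow_add]

/-- the action of `Z_p × Z_p` through `(i,j) ↦ a^i z^j` -/
noncomputable def PIBb_phi {N : Type u} [Group N] (a z : MulAut N) (hc : Commute a z)
    (ha : a ^ p = 1) (hz : z ^ p = 1) : Multiplicative (ZMod p × ZMod p) →* MulAut N where
  toFun e := a ^ (Multiplicative.toAdd e).1.val * z ^ (Multiplicative.toAdd e).2.val
  map_one' := by simp
  map_mul' e f := by
    show a ^ ((Multiplicative.toAdd e).1 + (Multiplicative.toAdd f).1).val *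
        z ^ ((Multiplicative.toAdd e).2 + (Multiplicative.toAdd f).2).val = _
    rw [PIBb_aux_pow_add a ha, PIBb_aux_pow_add z hz]
    have h1 : Commute (z ^ (Multiplicative.toAdd e).2.val) (a ^ (Multiplicative.toAdd f).1.val) :=
      (hc.symm.pow_left _).pow_right _
    calc a ^ (Multiplicative.toAdd e).1.val * a ^ (Multiplicative.toAdd f).1.val *
          (z ^ (Multiplicative.toAdd e).2.val * z ^ (Multiplicative.toAdd f).2.val)
        = a ^ (Multiplicative.toAdd e).1.val *
          (a ^ (Multiplicative.toAdd f).1.val * z ^ (Multiplicative.toAdd e).2.val) *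
            z ^ (Multiplicative.toAdd f).2.val := by simp only [mul_assoc]
      _ = a ^ (Multiplicative.toAdd e).1.val *
          (z ^ (Multiplicative.toAdd e).2.val * a ^ (Multiplicative.toAdd f).1.val) *
            z ^ (Multiplicative.toAdd f).2.val := by rw [h1.eq]
      _ = _ := by simp only [mul_assoc]

theorem PIBb_phi_apply {N : Type u} [Group N] (a z : MulAut N) (hc : Commute a z)
    (ha : a ^ p = 1) (hz : z ^ p = 1) (e : Multiplicative (ZMod p × ZMod p)) :
    PIBb_phi a z hc ha hz e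
      = a ^ (Multiplicative.toAdd e).1.val * z ^ (Multiplicative.toAdd e).2.val := rfl

/-- a point fixed by `b` is fixed by all powers of `b` -/
theorem PIBb_aux_fix_pow {N : Type*} [Group N] (b : MulAut N) (n : N) (h : b n = n) (i : ℕ) :
    (b ^ i) n = n := by
  induction i with
  | zero => simp
  | succ i ih => rw [pow_succ, MulAut.mul_apply, h, ih]

open SemidirectProduct in
/-- `inr e` commutes with `inl n` iff `φ e` fixes `n` -/
theorem PIBb_aux_comm {N : Type u} [Group N] {E : Type*} [Group E] (φ : E →* MulAut N) (e : E) (n : N) :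
    (inr e : N ⋊[φ] E) * inl n = inl n * inr e ↔ φ e n = n := by
  constructor
  · intro h
    have h1 : (inl (φ e n) : N ⋊[φ] E) = inl n := by
      rw [inl_aut, h]
      rw [mul_assoc, ← map_mul, mul_inv_cancel, map_one, mul_one]
    exact inl_injective h1
  · intro h
    have h1 := inl_aut (φ := φ) e n
    rw [h] at h1
    calc (inr e : N ⋊[φ] E) * inl n = (inr e * inl n * inr e⁻¹) * inr e := by
          rw [mul_assoc, ← map_mul, inv_mul_cancel, map_one, mul_one]
      _ = inl n * inr e := by rw [← h1]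

open SemidirectProduct in
/-- PIBb: the Brauer–Wielandt formula for `⟨a, z⟩` -/
theorem PIBb_wform {N : Type u} [Group N] [Finite N] (a z : MulAut N) (hc : Commute a z)
    (ha : a ^ p = 1) (hz : z ^ p = 1) (hN : ¬ p ∣ Nat.card N) :
    Nat.card N ^ p * fx2 a z ^ (p * (p - 1))
      = ∏ ij : ZMod p × ZMod p, fx (a ^ ij.1.val * z ^ ij.2.val) := by
  classical
  have hp : p.Prime := Fact.out
  have : Fact (1 < p) := ⟨hp.one_lt⟩
  let E := Multiplicative (ZMod p × ZMod p)
  let φ : E →* MulAut N := PIBb_phi a z hc ha hz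
  have : Finite (N ⋊[φ] E) := Finite.of_equiv _ (SemidirectProduct.equivProd (φ := φ)).symm
  let K : Subgroup (N ⋊[φ] E) := (inl : N →* N ⋊[φ] E).range
  let A : Subgroup (N ⋊[φ] E) := (inr : E →* N ⋊[φ] E).range
  have hKcard : Nat.card ↥K = Nat.card N :=
    Nat.card_congr (MonoidHom.ofInjective (inl_injective (φ := φ))).toEquiv.symm
  have hEcard : Nat.card E = p ^ 2 := by
    have : Nat.card E = Nat.card (ZMod p × ZMod p) := Nat.card_congr Multiplicative.toAdd
    rw [this, Nat.card_prod, Nat.card_zmod, pow_two]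
  have hAcard : Nat.card ↥A = p ^ 2 := by
    rw [← hEcard]
    exact Nat.card_congr (MonoidHom.ofInjective (inr_injective (φ := φ))).toEquiv.symm
  have hAel : Cfsg.IsElementaryAbelian p A := by
    refine ⟨⟨⟨?_⟩⟩, ?_⟩
    · rintro ⟨x, e, rfl⟩ ⟨y, f, rfl⟩
      apply Subtype.ext
      show (inr e : N ⋊[φ] E) * inr f = inr f * inr e
      rw [← map_mul, ← map_mul, mul_comm]
    · rintro x ⟨e, rfl⟩
      rw [← map_pow]
      have : e ^ p = 1 := by
        show Multiplicative.ofAdd (p • Multiplicative.toAdd e) = 1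
        have h0 : p • Multiplicative.toAdd e = 0 := by
          apply Prod.ext
          · show p • (Multiplicative.toAdd e).1 = 0
            rw [nsmul_eq_mul, ZMod.natCast_self, zero_mul]
          · show p • (Multiplicative.toAdd e).2 = 0
            rw [nsmul_eq_mul, ZMod.natCast_self, zero_mul]
        rw [h0]; rfl
      rw [this, map_one]
  have hKn : K.Normal := by
    show ((inl : N →* N ⋊[φ] E).range).Normal
    rw [range_inl_eq_ker_rightHom]
    infer_instance
  have hAK : A ≤ Subgroup.normalizer (K : Set (N ⋊[φ] E)) := by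
    rw [Subgroup.normalizer_eq_top_iff.mpr hKn]
    exact le_top
  have hK : ¬ p ∣ Nat.card ↥K := by rw [hKcard]; exact hN
  have hw := Cfsg.Agent.Helper7.wform hAel hAcard hAK hK
  unfold Cfsg.Agent.Helper7.WForm at hw
  -- dictionary
  have hdict : ∀ e : E, Nat.card ↥(K ⊓ Subgroup.centralizer ({(inr e : N ⋊[φ] E)} : Set (N ⋊[φ] E)))
      = fx (φ e) := by
    intro e
    have hEq : K ⊓ Subgroup.centralizer ({(inr e : N ⋊[φ] E)} : Set (N ⋊[φ] E))
        = (fixSub (φ e)).map (inl : N →* N ⋊[φ] E) := by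
      ext x
      rw [Subgroup.mem_inf, Subgroup.mem_map, Subgroup.mem_centralizer_iff]
      constructor
      · rintro ⟨⟨n, rfl⟩, hcen⟩
        refine ⟨n, ?_, rfl⟩
        rw [mem_fixSub]
        exact (PIBb_aux_comm φ e n).mp (hcen _ rfl)
      · rintro ⟨n, hn, rfl⟩
        refine ⟨⟨n, rfl⟩, ?_⟩
        intro h hh
        rw [Set.mem_singleton_iff] at hh
        rw [hh]
        exact (PIBb_aux_comm φ e n).mpr (mem_fixSub.mp hn)
    rw [hEq, Subgroup.card_map_of_injective (inl_injective (φ := φ))]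
    rfl
  have hφ1 : φ (Multiplicative.ofAdd ((1 : ZMod p), (0 : ZMod p))) = a := by
    show a ^ ((1 : ZMod p)).val * z ^ ((0 : ZMod p)).val = a
    rw [ZMod.val_one, ZMod.val_zero, pow_one, pow_zero, mul_one]
  have hφ2 : φ (Multiplicative.ofAdd ((0 : ZMod p), (1 : ZMod p))) = z := by
    show a ^ ((0 : ZMod p)).val * z ^ ((1 : ZMod p)).val = z
    rw [ZMod.val_one, ZMod.val_zero, pow_one, pow_zero, one_mul]
  have hdictA : Nat.card ↥(K ⊓ Subgroup.centralizer (A : Set (N ⋊[φ] E))) = fx2 a z := by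
    have hEq : K ⊓ Subgroup.centralizer (A : Set (N ⋊[φ] E))
        = (fixSub a ⊓ fixSub z).map (inl : N →* N ⋊[φ] E) := by
      ext x
      rw [Subgroup.mem_inf, Subgroup.mem_map, Subgroup.mem_centralizer_iff]
      constructor
      · rintro ⟨⟨n, rfl⟩, hcen⟩
        refine ⟨n, Subgroup.mem_inf.mpr ⟨?_, ?_⟩, rfl⟩
        · rw [mem_fixSub, ← hφ1]
          exact (PIBb_aux_comm φ _ n).mp (hcen _ ⟨_, rfl⟩)
        · rw [mem_fixSub, ← hφ2]
          exact (PIBb_aux_comm φ _ n).mp (hcen _ ⟨_, rfl⟩)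
      · rintro ⟨n, hn, rfl⟩
        obtain ⟨h1, h2⟩ := Subgroup.mem_inf.mp hn
        refine ⟨⟨n, rfl⟩, ?_⟩
        rintro h ⟨e, rfl⟩
        apply (PIBb_aux_comm φ e n).mpr
        show (a ^ (Multiplicative.toAdd e).1.val * z ^ (Multiplicative.toAdd e).2.val) n = n
        rw [MulAut.mul_apply, PIBb_aux_fix_pow z n (mem_fixSub.mp h2),
          PIBb_aux_fix_pow a n (mem_fixSub.mp h1)]
    rw [hEq, Subgroup.card_map_of_injective (inl_injective (φ := φ))]
    rfl
  -- the product
  have hsub : subFinset A = Finset.univ.map ⟨(inr : E → N ⋊[φ] E), inr_injective⟩ := by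
    ext x
    rw [Cfsg.Agent.Helper7.mem_subFinset, Finset.mem_map]
    constructor
    · rintro ⟨e, rfl⟩
      exact ⟨e, Finset.mem_univ _, rfl⟩
    · rintro ⟨e, _, rfl⟩
      exact ⟨e, rfl⟩
  rw [hKcard, hdictA, hsub, Finset.prod_map] at hw
  rw [hw]
  have h3 : ∀ e : E, Nat.card ↥(K ⊓ Subgroup.centralizer
      ({((⟨(inr : E → N ⋊[φ] E), inr_injective⟩ : E ↪ N ⋊[φ] E) e)} : Set (N ⋊[φ] E))) = fx (φ e) :=
    fun e => hdict e
  rw [Finset.prod_congr rfl (fun e _ => h3 e)]
  exact Fintype.prod_equiv Multiplicative.toAdd _ _ (fun e => rfl)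

end Cfsg.Agent.S4091P
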