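import Mathlib
import Cfsg.Agent.Helper27.S4150Defs
import Cfsg.Agent.Helper19.S4150PRIMQ
import Cfsg.Agent.Helper22.S4150TRANS3
import Cfsg.Agent.Helper17.S4150CARD
import Cfsg.Agent.Helper4.S4150SYLQ
import Cfsg.Agent.Helper20.S4150PARQ
import Cfsg.Agent.Helper17.S4150ARITH13
import Cfsg.Agent.Helper18.Bochert

set_option autoImplicit false

namespace Cfsg.Agent.S4150P

open Equiv Equiv.Perm MulAction

variable {α : Type*} [Fintype α] [DecidableEq α]

theorem T13ORD.main (hα : Fintype.card α = 13) (H : Subgroup (Perm α))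
    (hHA : H ≤ alternatingGroup α) (hA : ¬ alternatingGroup α ≤ H) {x y : Perm α} (hx : x ∈ H)
    (hy : y ∈ H) (hxc : x.IsCycle) (hxs : x.support.card = 11) (hyo : orderOf y = 13)
    (S : Finset α) (hS : S.card = 3) (hSx : x.supportᶜ ⊆ S) :
    IsMultiplyPretransitive H α 3 ∧
      (Nat.card (ptStab H S) = 1 ∨ Nat.card (ptStab H S) = 60) := by
  classical
  have hprim := PRIMQ.main H (q := 13) (by norm_num) hα hy hyo
  have h3 := TRANS3.main H hprim (p := 11) (by norm_num) (by omega) hxc hxs hx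
  refine ⟨h3, ?_⟩
  have hcardα : Nat.card α = 13 := by rw [Nat.card_eq_fintype_card, hα]
  have h2 : IsMultiplyPretransitive H α 2 :=
    isMultiplyPretransitive_of_le (n := 3) (by norm_num) (by rw [hcardα]; norm_num)
  have hc3 := CARD.main H h3 S hS
  have hc2 := CARD.main H h2 x.supportᶜ (by rw [Finset.card_compl, hα, hxs])
  rw [hα] at hc3 hc2
  have e3 : (13 : ℕ).descFactorial 3 = 1716 := by norm_num [Nat.descFactorial]
  have e2 : (13 : ℕ).descFactorial 2 = 156 := by norm_num [Nat.descFactorial]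
  rw [e3] at hc3
  rw [e2] at hc2
  -- Bochert
  have hb := Cfsg.Agent.Helper18.bochert_subgroup H hprim hA
  rw [hα, hc3] at hb
  have hf7 : Nat.factorial ((13 + 1) / 2) = 5040 := by norm_num [Nat.factorial]
  have hf13 : Nat.factorial 13 = 6227020800 := by norm_num [Nat.factorial]
  rw [hf7, hf13] at hb
  have hu : Nat.card (ptStab H S) ≤ 720 := by omega
  -- Lagrange
  have hdvd : 1716 * Nat.card (ptStab H S) ∣ Nat.factorial 13 := by
    have h := Subgroup.card_subgroup_dvd_card H
    rw [Nat.card_perm, hcardα, hc3] at h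
    exact h
  -- Sylow 13
  obtain ⟨s, n, -, hsn, hn, hs, hs1, -⟩ := SYLQ.main (q := 13) (by norm_num) (by norm_num) hα H hy hyo
  have h13 : 132 * Nat.card (ptStab H S) = s * n := by
    have : 13 * (132 * Nat.card (ptStab H S)) = 13 * (s * n) := by
      rw [← mul_assoc 13 s n, ← hsn, hc3]; ring
    exact Nat.eq_of_mul_eq_mul_left (by norm_num) this
  have hs1' : s ≠ 1 := by
    intro h
    have hn1 := hs1 h
    rw [h, hn1] at hsn
    omega
  -- Sylow 11
  obtain ⟨r, k, hrk, hk, hr, hr2, hr1⟩ := PARQ.main (q := 11) (by norm_num) (by norm_num) H hHA hx hxc hxs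
  have h11 : Nat.card (ptStab H S) = r * k := by
    have : 1716 * Nat.card (ptStab H S) = 1716 * (r * k) := by
      rw [← hc3, hc2, hrk]; ring
    exact Nat.eq_of_mul_eq_mul_left (by norm_num) this
  exact ARITH13.main _ s n r k hdvd hu h13 hn (by simpa using hs) hs1' h11 hk (by simpa using hr) hr2 hr1

end Cfsg.Agent.S4150P
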