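import Mathlib
import Cfsg.Agent.Helper27.S4150Defs
import Cfsg.Agent.Helper15.S4150CYCP
import Cfsg.Agent.Helper27.S4150T13ORD
import Cfsg.Agent.Helper17.S4150CARD
import Cfsg.Agent.Helper16.S4150SHARP3
import Cfsg.Agent.Helper18.S4150K60A
import Cfsg.Agent.Helper18.S4150K60B
import Cfsg.Agent.Helper22.S4150TRANSK
import Cfsg.Agent.Helper22.S4150K60D
import Cfsg.Agent.Helper22.S4150K60E

set_option autoImplicit false

namespace Cfsg.Agent.S4150P

open Equiv Equiv.Perm MulAction

variable {α : Type*} [Fintype α] [DecidableEq α]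

theorem T13.not_isPrimePow_twelve : ¬ IsPrimePow (11 + 1) := by
  intro h
  obtain ⟨p, k, hp, hk, h12⟩ := (isPrimePow_nat_iff _).mp h
  have h2 : 2 ∣ p ^ k := by rw [h12]; norm_num
  have h3 : 3 ∣ p ^ k := by rw [h12]; norm_num
  have e2 := (Nat.prime_dvd_prime_iff_eq Nat.prime_two hp).mp (Nat.prime_two.dvd_of_dvd_pow h2)
  have e3 := (Nat.prime_dvd_prime_iff_eq Nat.prime_three hp).mp (Nat.prime_three.dvd_of_dvd_pow h3)
  omega

theorem T13.main (hα : Fintype.card α = 13) (H : Subgroup (Perm α))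
    (hHA : H ≤ alternatingGroup α) {x y : Perm α} (hx : x ∈ H) (hy : y ∈ H)
    (hxo : orderOf x = 11) (hyo : orderOf y = 13) : alternatingGroup α ≤ H := by
  classical
  by_contra hA
  obtain ⟨hxc, hxs⟩ := CYCP.main (p := 11) (by norm_num) (by omega) hxo
  have hc2 : (x.supportᶜ).card = 2 := by rw [Finset.card_compl, hα, hxs]
  obtain ⟨c, hc⟩ : x.support.Nonempty := Finset.card_pos.mp (by omega)
  have hS : (insert c x.supportᶜ).card = 3 := by
    rw [Finset.card_insert_of_notMem (by simpa using hc), hc2]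
  obtain ⟨h3, hu | hu⟩ := T13ORD.main hα H hHA hA hx hy hxc hxs hyo _ hS (Finset.subset_insert _ _)
  · have hcard := CARD.main H h3 _ hS
    rw [hα, hu] at hcard
    exact SHARP3.main H (p := 11) (by norm_num) (by omega) h3
      (by rw [hcard]; norm_num [Nat.descFactorial]) T13.not_isPrimePow_twelve
  · have hcard : Nat.card H = 102960 := by
      rw [CARD.main H h3 _ hS, hα, hu]; norm_num [Nat.descFactorial]
    have hfix := fun t ht hto => K60A.main hα H hA h3 _ hS hu t ht hto
    have htrans := K60B.main hα H hA h3 _ hS hu hfix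
    have h4 : IsMultiplyPretransitive H α 4 := TRANSK.main H h3 (by omega) _ hS htrans
    obtain ⟨S4, z, hS4, h6, hz, hzo, hzs⟩ := K60D.main hα H hHA hA h4 hcard
    exact K60E.main hα H hA h4 S4 hS4 h6 z hz hzo hzs

end Cfsg.Agent.S4150P
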