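import Mathlib
import Cfsg.Agent.Helper27.S4150Defs
import Cfsg.Agent.Helper15.S4150CYCP
import Cfsg.Agent.Helper15.S4150PRIM
import Cfsg.Agent.Helper21.S4150SIX
import Cfsg.Agent.Helper19.S4150T7
import Cfsg.Agent.Helper27.S4150T13
import Cfsg.Agent.S0713

set_option autoImplicit false

namespace Cfsg.Agent.S4150P

open Equiv Equiv.Perm MulAction

variable {α : Type*} [Fintype α] [DecidableEq α]

theorem GENP.main {p q : ℕ} (hp : p.Prime) (hq : q.Prime) (hpq : p < q) (h3 : 3 ≤ p)
    (K : Subgroup (Perm α)) (hKA : K ≤ alternatingGroup α) (htr : IsPretransitive K α)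
    {x y : Perm α} (hx : x ∈ K) (hy : y ∈ K) (hxo : orderOf x = p) (hyo : orderOf y = q)
    (h2p : Fintype.card α ≤ 2 * p)
    (htwin : q = p + 2 → p = 3 ∨ p = 5 ∨ p = 11)
    (hdbl : Fintype.card α = 2 * p → q + 3 ≤ 2 * p ∨ (p = 3 ∧ q = 5)) :
    alternatingGroup α ≤ K ∨ Nonempty (K ≃* alternatingGroup (Fin 5)) := by
  classical
  obtain ⟨hyc, hys⟩ := CYCP.main hq (by omega) hyo
  have hprim := PRIM.main K htr hq hy hyc hys (by omega)
  have hqn : q ≤ Fintype.card α := by rw [← hys]; exact Finset.card_le_univ _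
  have hpodd : p % 2 = 1 := by
    rcases hp.eq_two_or_odd with h | h
    · omega
    · exact h
  have hqodd : q % 2 = 1 := by
    rcases hq.eq_two_or_odd with h | h
    · omega
    · exact h
  have hq5 : 5 ≤ q := by omega
  have h5 : 5 ≤ Fintype.card α := by omega
  by_cases hcard : Fintype.card α = 2 * p
  · rcases hdbl hcard with h | ⟨rfl, rfl⟩
    · left
      exact Cfsg.Agent.S0713.result K hprim hq h5 (by omega) hyc hys hy
    · exact SIX.main (by omega) K hKA htr hy hyo
  · obtain ⟨hxc, hxs⟩ := CYCP.main hp (by omega) hxo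
    by_cases hJ : p + 3 ≤ Fintype.card α
    · left
      exact Cfsg.Agent.S0713.result K hprim hp h5 hJ hxc hxs hx
    · have hq2 : q = p + 2 := by omega
      have hcq : Fintype.card α = q := by omega
      left
      rcases htwin hq2 with rfl | rfl | rfl
      · exact alternatingGroup_le_of_isPreprimitive_of_isThreeCycle_mem hprim
          (card_support_eq_three_iff.mp hxs) hx
      · exact T7.main (by omega) K hx hy hxo (by omega)
      · exact T13.main (by omega) K hKA hx hy hxo (by omega)

end Cfsg.Agent.S4150P
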