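import Mathlib
import Cfsg.Agent.Helper27.S4150Defs
import Cfsg.Agent.Helper23.S4150CLFIX
import Cfsg.Agent.Helper26.S4150RESTRISO
import Cfsg.Agent.Helper6.S4150RESTRALT
import Cfsg.Agent.Helper6.S4150RESTRMEM
import Cfsg.Agent.Helper25.S4150TRANS
import Cfsg.Agent.Helper15.S4150CYCP
import Cfsg.Agent.Helper27.S4150GENP

set_option autoImplicit false

namespace Cfsg.Agent.S4150P

open Equiv Equiv.Perm MulAction

variable {α : Type*} [Fintype α] [DecidableEq α]

theorem GEN.main {p q : ℕ} (hp : p.Prime) (hq : q.Prime) (hpq : p < q) (h3 : 3 ≤ p)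
    (X Y : Perm α) (hXs : Equiv.Perm.sign X = 1) (hYs : Equiv.Perm.sign Y = 1)
    (hX : orderOf X = p) (hY : orderOf Y = q) (h2p : Fintype.card α ≤ 2 * p)
    (htwin : q = p + 2 → p = 3 ∨ p = 5 ∨ p = 11)
    (hdbl : Fintype.card α = 2 * p → q + 3 ≤ 2 * p ∨ (p = 3 ∧ q = 5)) :
    ∃ d : ℕ, 5 ≤ d ∧
      Nonempty (Subgroup.closure ({X, Y} : Set (Perm α)) ≃* alternatingGroup (Fin d)) := by
  classical
  have hfix := CLFIX.main X Y
  obtain ⟨eR⟩ := RESTRISO.main (Subgroup.closure ({X, Y} : Set (Perm α))) (X.support ∪ Y.support) hfix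
  have hG0A : Subgroup.closure ({X, Y} : Set (Perm α)) ≤ alternatingGroup α := by
    rw [Subgroup.closure_le]
    rintro g (rfl | rfl)
    · exact Equiv.Perm.mem_alternatingGroup.mpr hXs
    · exact Equiv.Perm.mem_alternatingGroup.mpr hYs
  have hKA := RESTRALT.main _ (X.support ∪ Y.support) hG0A
  have hXm : X ∈ Subgroup.closure ({X, Y} : Set (Perm α)) := Subgroup.subset_closure (by simp)
  have hYm : Y ∈ Subgroup.closure ({X, Y} : Set (Perm α)) := Subgroup.subset_closure (by simp)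
  obtain ⟨x', hx'K, hx'X, hx'c⟩ := RESTRMEM.main _ (X.support ∪ Y.support) hXm (fun a ha => by
    by_contra h
    exact ha (Finset.mem_union_left _ (Equiv.Perm.mem_support.mpr h)))
  obtain ⟨y', hy'K, hy'Y, hy'c⟩ := RESTRMEM.main _ (X.support ∪ Y.support) hYm (fun a ha => by
    by_contra h
    exact ha (Finset.mem_union_right _ (Equiv.Perm.mem_support.mpr h)))
  have hx'o : orderOf x' = p := by rw [← Equiv.Perm.lcm_cycleType, hx'c, Equiv.Perm.lcm_cycleType, hX]
  have hy'o : orderOf y' = q := by rw [← Equiv.Perm.lcm_cycleType, hy'c, Equiv.Perm.lcm_cycleType, hY]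
  have htr := TRANS.main hp hq hpq X Y hX hY (by omega)
  have hcardD : Fintype.card ↥(X.support ∪ Y.support) ≤ Fintype.card α := Fintype.card_subtype_le _
  have hq5 : 5 ≤ q := by
    have h4 : q ≠ 4 := by rintro rfl; norm_num at hq
    omega
  have hqD : q ≤ Fintype.card ↥(X.support ∪ Y.support) := by
    have hYc := (CYCP.main hq (by omega) hY).2
    rw [Fintype.card_coe, ← hYc]
    exact Finset.card_le_card Finset.subset_union_right
  rcases GENP.main hp hq hpq h3 _ hKA htr hx'K hy'K hx'o hy'o (by omega) htwin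
      (fun h => hdbl (by omega)) with hAlt | ⟨⟨e5⟩⟩
  · have heq : restr (Subgroup.closure ({X, Y} : Set (Perm α))) (X.support ∪ Y.support) =
        alternatingGroup ↥(X.support ∪ Y.support) := le_antisymm hKA hAlt
    refine ⟨Fintype.card ↥(X.support ∪ Y.support), by omega, ⟨?_⟩⟩
    exact (eR.symm.trans (MulEquiv.subgroupCongr heq)).trans
      (Equiv.altCongrHom (Fintype.equivFin _))
  · exact ⟨5, le_rfl, ⟨eR.symm.trans e5⟩⟩

end Cfsg.Agent.S4150P
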