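import Mathlib
import Cfsg.Agent.Helper18.S4274SYLDATA
import Cfsg.Agent.Helper22.S4274COMMSYMM
import Cfsg.Agent.Helper22.S4274COUNTSUM
import Cfsg.Agent.Helper22.S4274COUNT2
import Cfsg.Agent.Helper27.S4274BRFILTER

set_option autoImplicit false

/-! S4274 board (driver helper27), pieces K87780A / K87780B (hedge copy by the driver, under
fresh names in `Cfsg.Agent.S4274P.K87780H27`). -/

namespace Cfsg.Agent.S4274P

namespace K87780H27

theorem filter5 :
    (Nat.divisors 17556).filter (fun d => d % 5 = 1 ∧ 209 ∣ d) = {836, 2926, 17556} := by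
  decide +kernel

theorem filter7 :
    (Nat.divisors 12540).filter (fun d => d % 7 = 1 ∧ 209 ∣ d) = {1254, 4180} := by
  decide +kernel

theorem filter11 :
    (Nat.divisors 7980).filter (fun d => d % 11 = 1) = {1, 12, 133, 210, 1596} := by
  decide +kernel

/-- `19 ∣ n!` forces `19 ≤ n` -/
theorem le_of_dvd_factorial {n N : ℕ} (h : 2 * N ∣ n.factorial) (h19 : 19 ∣ N) : 19 ≤ n := by
  have h1 : 19 ∣ n.factorial := dvd_trans (dvd_trans h19 (Dvd.intro_left 2 rfl)) h
  exact (Nat.Prime.dvd_factorial (by norm_num)).mp h1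

/-- a prime `p > 4` dividing `n * (k * m)` with `m ∣ d`, `d < p`, divides `n` or `k` -/
theorem prime_dvd_n_or_k {p n k m d N : ℕ} (hp : p.Prime) (h : n * (k * m) = N) (hN : p ∣ N)
    (hm : m ∣ d) (hd0 : 0 < d) (hd : d < p) : p ∣ n ∨ p ∣ k := by
  rw [← h] at hN
  rcases (Nat.Prime.dvd_mul hp).mp hN with h1 | h1
  · exact Or.inl h1
  · rcases (Nat.Prime.dvd_mul hp).mp h1 with h2 | h2
    · exact Or.inr h2
    · exfalso
      have h3 : p ∣ d := dvd_trans h2 hm
      have := Nat.le_of_dvd hd0 h3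
      omega

theorem km21 {k m : ℕ} (h : k * m = 21) (hm : m ∣ 4) : m = 1 := by
  have : m ≤ 4 := Nat.le_of_dvd (by norm_num) hm
  interval_cases m <;> omega

theorem km6 {k m : ℕ} (h : k * m = 6) (hm : m ∣ 4) (hm1 : m ≠ 1) : m = 2 ∧ k = 3 := by
  have : m ≤ 4 := Nat.le_of_dvd (by norm_num) hm
  interval_cases m
  · omega
  · omega
  · omega
  · norm_num at hm
  · omega

theorem km10 {k m : ℕ} (h : k * m = 10) (hm : m ∣ 6) (hm1 : m ≠ 1) : m = 2 ∧ k = 5 := by
  have : m ≤ 6 := Nat.le_of_dvd (by norm_num) hm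
  interval_cases m
  · omega
  · omega
  · omega
  · omega
  · norm_num at hm
  · norm_num at hm
  · omega

/-- The common tail of the two cases: once the centralizers of the Sylow `19`- and
`11`-subgroups have order prime to `5` and `7`, the numbers of elements of orders `5`, `7`
and `15` are determined or bounded below. -/
theorem tail {H : Type*} [Group H] [Finite H] [IsSimpleGroup H]
    (hnc : ¬ IsMulCommutative H) (hH : Nat.card H = 87780)
    [Fact (Nat.Prime 19)] [Fact (Nat.Prime 11)]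
    (R19 : Sylow 19 H) (R11 : Sylow 11 H)
    (hR19 : Nat.card (R19 : Subgroup H) = 19) (hR11 : Nat.card (R11 : Subgroup H) = 11)
    (h5_19 : ¬ 5 ∣ Nat.card (Subgroup.centralizer ((R19 : Subgroup H) : Set H)))
    (h7_19 : ¬ 7 ∣ Nat.card (Subgroup.centralizer ((R19 : Subgroup H) : Set H)))
    (h5_11 : ¬ 5 ∣ Nat.card (Subgroup.centralizer ((R11 : Subgroup H) : Set H)))
    (h7_11 : ¬ 7 ∣ Nat.card (Subgroup.centralizer ((R11 : Subgroup H) : Set H))) :
    Nat.card {g : H // orderOf g = 5} = 11704 ∧ Nat.card {g : H // orderOf g = 7} = 25080 ∧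
      23408 ≤ Nat.card {g : H // orderOf g = 15} := by
  have : Fact (Nat.Prime 5) := ⟨by norm_num⟩
  have : Fact (Nat.Prime 7) := ⟨by norm_num⟩
  have : Fact (Nat.Prime 3) := ⟨by norm_num⟩
  -- the prime 5
  obtain ⟨n5, k5, m5, hn5, hnk5, hmod5, -, -, hm5, hm5', hall5⟩ :=
    sylow_data hnc 5 17556 (by rw [hH]) (by norm_num)
  obtain ⟨R5⟩ : Nonempty (Sylow 5 H) := inferInstance
  obtain ⟨hR5, hC5, -⟩ := hall5 R5
  rw [hH] at hnk5
  have hnk5' : n5 * (k5 * m5) = 17556 := by nlinarith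
  have hn5d : n5 ∣ 17556 := ⟨k5 * m5, hnk5'.symm⟩
  have h19k5 : ¬ 19 ∣ k5 := by
    intro h
    have h1 : 19 ∣ Nat.card (Subgroup.centralizer ((R5 : Subgroup H) : Set H)) := by
      rw [hC5]; exact Dvd.dvd.mul_left h 5
    exact h5_19 (dvd_centralizer_symm 5 19 R5 R19 hR5 hR19 h1)
  have h11k5 : ¬ 11 ∣ k5 := by
    intro h
    have h1 : 11 ∣ Nat.card (Subgroup.centralizer ((R5 : Subgroup H) : Set H)) := by
      rw [hC5]; exact Dvd.dvd.mul_left h 5
    exact h5_11 (dvd_centralizer_symm 5 11 R5 R11 hR5 hR11 h1)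
  have h19n5 : 19 ∣ n5 :=
    (prime_dvd_n_or_k (by norm_num) hnk5' (by norm_num) hm5 (by norm_num)
      (by norm_num)).resolve_right h19k5
  have h11n5 : 11 ∣ n5 :=
    (prime_dvd_n_or_k (by norm_num) hnk5' (by norm_num) hm5 (by norm_num)
      (by norm_num)).resolve_right h11k5
  have h209n5 : 209 ∣ n5 :=
    Nat.Coprime.mul_dvd_of_dvd_of_dvd (by norm_num : Nat.Coprime 11 19) h11n5 h19n5
  have hmem5 : n5 ∈ (Nat.divisors 17556).filter (fun d => d % 5 = 1 ∧ 209 ∣ d) := by
    rw [Finset.mem_filter, Nat.mem_divisors]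
    exact ⟨⟨hn5d, by norm_num⟩, hmod5, h209n5⟩
  rw [filter5] at hmem5
  have hc5 : n5 = 836 ∨ n5 = 2926 ∨ n5 = 17556 := by simpa using hmem5
  have hn5eq : n5 = 2926 := by
    rcases hc5 with h | h | h
    · exfalso
      subst h
      have hkm : k5 * m5 = 21 := by omega
      exact hm5' (km21 hkm hm5)
    · exact h
    · exfalso
      subst h
      have : k5 * m5 = 1 := by omega
      exact hm5' (Nat.eq_one_of_mul_eq_one_left this)
  subst hn5eq
  have hkm5 : k5 * m5 = 6 := by omega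
  obtain ⟨rfl, rfl⟩ := km6 hkm5 hm5 hm5'
  -- the prime 7
  obtain ⟨n7, k7, m7, hn7, hnk7, hmod7, -, -, hm7, hm7', hall7⟩ :=
    sylow_data hnc 7 12540 (by rw [hH]) (by norm_num)
  obtain ⟨R7⟩ : Nonempty (Sylow 7 H) := inferInstance
  obtain ⟨hR7, hC7, -⟩ := hall7 R7
  rw [hH] at hnk7
  have hnk7' : n7 * (k7 * m7) = 12540 := by nlinarith
  have hn7d : n7 ∣ 12540 := ⟨k7 * m7, hnk7'.symm⟩
  have h19k7 : ¬ 19 ∣ k7 := by
    intro h
    have h1 : 19 ∣ Nat.card (Subgroup.centralizer ((R7 : Subgroup H) : Set H)) := by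
      rw [hC7]; exact Dvd.dvd.mul_left h 7
    exact h7_19 (dvd_centralizer_symm 7 19 R7 R19 hR7 hR19 h1)
  have h11k7 : ¬ 11 ∣ k7 := by
    intro h
    have h1 : 11 ∣ Nat.card (Subgroup.centralizer ((R7 : Subgroup H) : Set H)) := by
      rw [hC7]; exact Dvd.dvd.mul_left h 7
    exact h7_11 (dvd_centralizer_symm 7 11 R7 R11 hR7 hR11 h1)
  have h19n7 : 19 ∣ n7 :=
    (prime_dvd_n_or_k (by norm_num) hnk7' (by norm_num) hm7 (by norm_num)
      (by norm_num)).resolve_right h19k7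
  have h11n7 : 11 ∣ n7 :=
    (prime_dvd_n_or_k (by norm_num) hnk7' (by norm_num) hm7 (by norm_num)
      (by norm_num)).resolve_right h11k7
  have h209n7 : 209 ∣ n7 :=
    Nat.Coprime.mul_dvd_of_dvd_of_dvd (by norm_num : Nat.Coprime 11 19) h11n7 h19n7
  have hmem7 : n7 ∈ (Nat.divisors 12540).filter (fun d => d % 7 = 1 ∧ 209 ∣ d) := by
    rw [Finset.mem_filter, Nat.mem_divisors]
    exact ⟨⟨hn7d, by norm_num⟩, hmod7, h209n7⟩
  rw [filter7] at hmem7
  have hc7 : n7 = 1254 ∨ n7 = 4180 := by simpa using hmem7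
  have hn7eq : n7 = 4180 := by
    rcases hc7 with h | h
    · exfalso
      subst h
      have hkm : k7 * m7 = 10 := by omega
      obtain ⟨rfl, rfl⟩ := km10 hkm hm7 hm7'
      have h1 : 5 ∣ Nat.card (Subgroup.centralizer ((R7 : Subgroup H) : Set H)) := by
        rw [hC7]; norm_num
      have h2 := dvd_centralizer_symm 7 5 R7 R5 hR7 hR5 h1
      rw [hC5] at h2
      norm_num at h2
    · exact h
  subst hn7eq
  -- counting
  have c5 := Cfsg.Agent.Helper11.card_orderOf_eq_prime R5 hR5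
  have c7 := Cfsg.Agent.Helper11.card_orderOf_eq_prime R7 hR7
  have c15 := card_orderOf_mul_ge 5 3 (by norm_num) R5 hR5 (by rw [hC5]; norm_num)
  rw [hn5] at c5 c15
  rw [hn7] at c7
  norm_num at c5 c7 c15
  exact ⟨c5, c7, c15⟩

theorem km22 {k m : ℕ} (h : k * m = 22) (hm : m ∣ 18) (hm1 : m ≠ 1) : m = 2 ∧ k = 11 := by
  have hm2 : m ∣ 22 := Dvd.intro_left k h
  have hm3 : m ∣ 2 := by
    have := Nat.dvd_gcd hm2 hm
    simpa using this
  have : m ≤ 2 := Nat.le_of_dvd (by norm_num) hm3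
  interval_cases m
  · omega
  · omega
  · omega

theorem km3 {k m : ℕ} (h : k * m = 3) (hm1 : m ≠ 1) : m = 3 ∧ k = 1 := by
  have hm2 : m ∣ 3 := Dvd.intro_left k h
  have : m ≤ 3 := Nat.le_of_dvd (by norm_num) hm2
  interval_cases m
  · omega
  · omega
  · omega
  · omega

theorem km38 {k m : ℕ} (h : k * m = 38) (hm : m ∣ 10) (hm1 : m ≠ 1) : m = 2 ∧ k = 19 := by
  have hm2 : m ∣ 38 := Dvd.intro_left k h
  have hm3 : m ∣ 2 := by
    have := Nat.dvd_gcd hm2 hm
    simpa using this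
  have : m ≤ 2 := Nat.le_of_dvd (by norm_num) hm3
  interval_cases m
  · omega
  · omega
  · omega

theorem km5 {k m : ℕ} (h : k * m = 5) (hm1 : m ≠ 1) : m = 5 ∧ k = 1 := by
  have hm2 : m ∣ 5 := Dvd.intro_left k h
  have : m ≤ 5 := Nat.le_of_dvd (by norm_num) hm2
  interval_cases m
  · omega
  · omega
  · omega
  · omega
  · omega
  · omega

/-- no power of two is `10` -/
theorem two_pow_ne_10 (m : ℕ) : 2 ^ m ≠ 10 := by
  intro h
  have hm : m < 4 := by
    by_contra hge
    have : 2 ^ 4 ≤ 2 ^ m := Nat.pow_le_pow_right (by norm_num) (by omega)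
    omega
  interval_cases m <;> omega

/-- the arithmetic of the third Brauer–Reynolds alternative at `r = 11`, `n = 12` -/
theorem no_hu {h u : ℕ} (hh : 0 < h) (hu : 0 < u)
    (he : 12 * (u + 1) = h * u * 11 + u ^ 2 + u + h) : False := by
  have h1 : u ≤ h * u := Nat.le_mul_of_pos_left u hh
  have hu' : u ≤ 12 := by nlinarith
  interval_cases u <;> omega

/-- K87780A (driver's copy) -/
theorem no_simple_87780a' {H : Type*} [Group H] [Finite H] [IsSimpleGroup H]
    (hnc : ¬ IsMulCommutative H) (hH : Nat.card H = 87780)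
    (hn : Nat.card (Sylow 19 H) = 210) : False := by
  have : Fact (Nat.Prime 19) := ⟨by norm_num⟩
  have : Fact (Nat.Prime 11) := ⟨by norm_num⟩
  have h19H : 19 ∣ Nat.card H := by rw [hH]; norm_num
  -- the prime 19
  obtain ⟨n19, k19, m19, hn19, hnk19, -, -, -, hm19, hm19', hall19⟩ :=
    sylow_data hnc 19 4620 (by rw [hH]) (by norm_num)
  rw [hn] at hn19
  subst hn19
  rw [hH] at hnk19
  have hkm19 : k19 * m19 = 22 := by nlinarith
  obtain ⟨rfl, rfl⟩ := km22 hkm19 hm19 hm19'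
  obtain ⟨R19⟩ : Nonempty (Sylow 19 H) := inferInstance
  obtain ⟨hR19, hC19, -⟩ := hall19 R19
  -- the prime 11
  obtain ⟨n11, k11, m11, hn11, hnk11, hmod11, hn11', hfac11, hm11, hm11', hall11⟩ :=
    sylow_data hnc 11 7980 (by rw [hH]) (by norm_num)
  obtain ⟨R11⟩ : Nonempty (Sylow 11 H) := inferInstance
  obtain ⟨hR11, hC11, -⟩ := hall11 R11
  have hn11ge : 19 ≤ n11 := le_of_dvd_factorial hfac11 h19H
  rw [hH] at hnk11
  have hnk11' : n11 * (k11 * m11) = 7980 := by nlinarith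
  have hn11d : n11 ∣ 7980 := ⟨k11 * m11, hnk11'.symm⟩
  have h19k11 : 19 ∣ k11 := by
    have h1 : 11 ∣ Nat.card (Subgroup.centralizer ((R19 : Subgroup H) : Set H)) := by
      rw [hC19]; norm_num
    have h2 := dvd_centralizer_symm 19 11 R19 R11 hR19 hR11 h1
    rw [hC11] at h2
    exact (Nat.Coprime.dvd_mul_left (by norm_num : Nat.Coprime 19 11)).mp h2
  have hmem11 : n11 ∈ (Nat.divisors 7980).filter (fun d => d % 11 = 1) := by
    rw [Finset.mem_filter, Nat.mem_divisors]
    exact ⟨⟨hn11d, by norm_num⟩, hmod11⟩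
  rw [filter11] at hmem11
  have hc11 : n11 = 1 ∨ n11 = 12 ∨ n11 = 133 ∨ n11 = 210 ∨ n11 = 1596 := by simpa using hmem11
  obtain ⟨k', rfl⟩ := h19k11
  have hn11eq : n11 = 210 := by
    rcases hc11 with h | h | h | h | h
    · omega
    · omega
    · exfalso
      subst h
      have : 19 * k' * m11 = 60 := by omega
      have h19 : (19 : ℕ) ∣ 60 := ⟨k' * m11, by rw [← this]; ring⟩
      norm_num at h19
    · exact h
    · exfalso
      subst h
      have : 19 * k' * m11 = 5 := by omega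
      have h19 : (19 : ℕ) ∣ 5 := ⟨k' * m11, by rw [← this]; ring⟩
      norm_num at h19
  subst hn11eq
  have hkm11 : 19 * k' * m11 = 38 := by omega
  obtain ⟨hm11e, hk11e⟩ := km38 hkm11 hm11 hm11'
  subst hm11e
  -- the tail
  obtain ⟨c5, c7, c15⟩ := tail hnc hH R19 R11 hR19 hR11
    (by rw [hC19]; norm_num) (by rw [hC19]; norm_num)
    (by rw [hC11, hk11e]; norm_num) (by rw [hC11, hk11e]; norm_num)
  -- counting
  have c19 := Cfsg.Agent.Helper11.card_orderOf_eq_prime R19 hR19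
  have c11 := Cfsg.Agent.Helper11.card_orderOf_eq_prime R11 hR11
  have c209 := card_orderOf_mul_ge 19 11 (by norm_num) R19 hR19 (by rw [hC19]; norm_num)
  rw [hn] at c19 c209
  rw [hn11] at c11
  have hsum := sum_card_orderOf_le (H := H) {19, 11, 209, 7, 5, 15}
  rw [Finset.sum_insert (by decide), Finset.sum_insert (by decide), Finset.sum_insert (by decide),
    Finset.sum_insert (by decide), Finset.sum_insert (by decide),
    Finset.sum_singleton, hH] at hsum
  norm_num at c19 c11 c209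
  omega

/-- K87780B (driver's copy) -/
theorem no_simple_87780b' {H : Type*} [Group H] [Finite H] [IsSimpleGroup H]
    (hnc : ¬ IsMulCommutative H) (hH : Nat.card H = 87780)
    (hn : Nat.card (Sylow 19 H) = 1540) : False := by
  have : Fact (Nat.Prime 19) := ⟨by norm_num⟩
  have : Fact (Nat.Prime 11) := ⟨by norm_num⟩
  have h19H : 19 ∣ Nat.card H := by rw [hH]; norm_num
  -- the prime 19
  obtain ⟨n19, k19, m19, hn19, hnk19, -, -, -, hm19, hm19', hall19⟩ :=
    sylow_data hnc 19 4620 (by rw [hH]) (by norm_num)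
  rw [hn] at hn19
  subst hn19
  rw [hH] at hnk19
  have hkm19 : k19 * m19 = 3 := by nlinarith
  obtain ⟨rfl, rfl⟩ := km3 hkm19 hm19'
  obtain ⟨R19⟩ : Nonempty (Sylow 19 H) := inferInstance
  obtain ⟨hR19, hC19, -⟩ := hall19 R19
  rw [mul_one] at hC19
  -- the prime 11
  obtain ⟨n11, k11, m11, hn11, hnk11, hmod11, hn11', hfac11, hm11, hm11', hall11⟩ :=
    sylow_data hnc 11 7980 (by rw [hH]) (by norm_num)
  obtain ⟨R11⟩ : Nonempty (Sylow 11 H) := inferInstance
  obtain ⟨hR11, hC11, -⟩ := hall11 R11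
  have hn11ge : 19 ≤ n11 := le_of_dvd_factorial hfac11 h19H
  rw [hH] at hnk11
  have hnk11' : n11 * (k11 * m11) = 7980 := by nlinarith
  have hn11d : n11 ∣ 7980 := ⟨k11 * m11, hnk11'.symm⟩
  have hmem11 : n11 ∈ (Nat.divisors 7980).filter (fun d => d % 11 = 1) := by
    rw [Finset.mem_filter, Nat.mem_divisors]
    exact ⟨⟨hn11d, by norm_num⟩, hmod11⟩
  rw [filter11] at hmem11
  have hc11 : n11 = 1 ∨ n11 = 12 ∨ n11 = 133 ∨ n11 = 210 ∨ n11 = 1596 := by simpa using hmem11
  have hn11eq : n11 = 1596 := by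
    rcases hc11 with h | h | h | h | h
    · omega
    · omega
    · exfalso
      have hcard : Nat.card (Sylow 11 H) = 1 + 12 * 11 := by rw [hn11, h]
      rcases br_filter hnc 11 R11 hR11 12 hcard with ⟨-, h'⟩ | ⟨m', h', -, -⟩ | ⟨h', u, hh, hu, he⟩
      · omega
      · exact two_pow_ne_10 m' (by omega)
      · exact no_hu hh hu he
    · exfalso
      subst h
      have hkm : k11 * m11 = 38 := by omega
      obtain ⟨rfl, rfl⟩ := km38 hkm hm11 hm11'
      have h1 : 19 ∣ Nat.card (Subgroup.centralizer ((R11 : Subgroup H) : Set H)) := by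
        rw [hC11]; norm_num
      have h2 := dvd_centralizer_symm 11 19 R11 R19 hR11 hR19 h1
      rw [hC19] at h2
      norm_num at h2
    · exact h
  subst hn11eq
  have hkm11 : k11 * m11 = 5 := by omega
  obtain ⟨rfl, rfl⟩ := km5 hkm11 hm11'
  rw [mul_one] at hC11
  -- the tail
  obtain ⟨c5, c7, c15⟩ := tail hnc hH R19 R11 hR19 hR11
    (by rw [hC19]; norm_num) (by rw [hC19]; norm_num)
    (by rw [hC11]; norm_num) (by rw [hC11]; norm_num)
  -- counting
  have c19 := Cfsg.Agent.Helper11.card_orderOf_eq_prime R19 hR19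
  have c11 := Cfsg.Agent.Helper11.card_orderOf_eq_prime R11 hR11
  rw [hn] at c19
  rw [hn11] at c11
  have hsum := sum_card_orderOf_le (H := H) {19, 11, 7, 5, 15}
  rw [Finset.sum_insert (by decide), Finset.sum_insert (by decide), Finset.sum_insert (by decide),
    Finset.sum_insert (by decide), Finset.sum_singleton, hH] at hsum
  norm_num at c19 c11
  omega

end K87780H27

end Cfsg.Agent.S4274P
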