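import Mathlib

set_option autoImplicit false

/-! S4274 piece RED: the induction skeleton (non-simple groups of order dividing 175560). -/

namespace Cfsg.Agent.S4274P.RED

/-- Prime powers dividing `175560`, other than powers of `19`, are less than `19`. -/
theorem prime_pow_lt {q k : ℕ} (hq : q.Prime) (hq19 : q ≠ 19) (h : q ^ k ∣ 175560) :
    q ^ k < 19 := by
  rcases Nat.eq_zero_or_pos k with rfl | hk
  · norm_num
  have hqd : q ∣ 175560 := (dvd_pow_self q hk.ne').trans h
  have hmem : q = 2 ∨ q = 3 ∨ q = 5 ∨ q = 7 ∨ q = 11 ∨ q = 19 := by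
    have h1 : (175560 : ℕ) = 2 * (2 * (2 * (3 * (5 * (7 * (11 * 19)))))) := by norm_num
    rw [h1] at hqd
    have pe : ∀ p : ℕ, p.Prime → q ∣ p → q = p := fun p hp h =>
      (Nat.prime_dvd_prime_iff_eq hq hp).1 h
    rcases (hq.dvd_mul).1 hqd with h | hqd
    · exact Or.inl (pe 2 (by norm_num) h)
    rcases (hq.dvd_mul).1 hqd with h | hqd
    · exact Or.inl (pe 2 (by norm_num) h)
    rcases (hq.dvd_mul).1 hqd with h | hqd
    · exact Or.inl (pe 2 (by norm_num) h)
    rcases (hq.dvd_mul).1 hqd with h | hqd
    · exact Or.inr (Or.inl (pe 3 (by norm_num) h))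
    rcases (hq.dvd_mul).1 hqd with h | hqd
    · exact Or.inr (Or.inr (Or.inl (pe 5 (by norm_num) h)))
    rcases (hq.dvd_mul).1 hqd with h | hqd
    · exact Or.inr (Or.inr (Or.inr (Or.inl (pe 7 (by norm_num) h))))
    rcases (hq.dvd_mul).1 hqd with h | hqd
    · exact Or.inr (Or.inr (Or.inr (Or.inr (Or.inl (pe 11 (by norm_num) h)))))
    · exact Or.inr (Or.inr (Or.inr (Or.inr (Or.inr (pe 19 (by norm_num) hqd)))))
  have aux : ∀ (b c : ℕ), q ^ c > 0 → ¬ q ^ b ∣ 175560 → q ^ k ∣ 175560 → k < b := by
    intro b c _ hb hk'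
    by_contra hcon
    push Not at hcon
    exact hb ((pow_dvd_pow q hcon).trans hk')
  rcases hmem with rfl | rfl | rfl | rfl | rfl | rfl
  · have : k < 4 := aux 4 0 (by norm_num) (by norm_num) h
    interval_cases k <;> norm_num
  · have : k < 2 := aux 2 0 (by norm_num) (by norm_num) h
    interval_cases k <;> norm_num
  · have : k < 2 := aux 2 0 (by norm_num) (by norm_num) h
    interval_cases k <;> norm_num
  · have : k < 2 := aux 2 0 (by norm_num) (by norm_num) h
    interval_cases k <;> norm_num
  · have : k < 2 := aux 2 0 (by norm_num) (by norm_num) h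
    interval_cases k <;> norm_num
  · exact absurd rfl hq19

instance : Fact (Nat.Prime 19) := ⟨by norm_num⟩

/-- The order of a Sylow `19`-subgroup when `19 ∥ |H|`. -/
theorem card_sylow {H : Type*} [Group H] [Finite H] (h19 : 19 ∣ Nat.card H)
    (h361 : ¬ 361 ∣ Nat.card H) (P : Sylow 19 H) : Nat.card (P : Subgroup H) = 19 := by
  obtain ⟨k, hk⟩ := IsPGroup.iff_card.1 P.2
  have hk0 : k ≠ 0 := by
    rintro rfl
    have := P.dvd_card_of_dvd_card h19
    rw [hk, pow_zero] at this
    norm_num at this
  have hk2 : k < 2 := by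
    by_contra hcon
    push Not at hcon
    apply h361
    calc 361 = 19 ^ 2 := by norm_num
      _ ∣ 19 ^ k := pow_dvd_pow 19 hcon
      _ ∣ Nat.card H := hk ▸ Subgroup.card_subgroup_dvd_card (P : Subgroup H)
  have : k = 1 := by omega
  rw [hk, this, pow_one]

/-- A normal subgroup of order `19` forces all Sylow `19`-subgroups to be normal (`19 ∥ |H|`). -/
theorem sylow_normal_of_normal_card {H : Type*} [Group H] [Finite H]
    (h361 : ¬ 361 ∣ Nat.card H) (K : Subgroup H) [hKn : K.Normal] (hK : Nat.card K = 19) :
    ∀ P : Sylow 19 H, (P : Subgroup H).Normal := by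
  have h19 : 19 ∣ Nat.card H := hK ▸ Subgroup.card_subgroup_dvd_card K
  have hKp : IsPGroup 19 K := IsPGroup.of_card (n := 1) (by rw [hK, pow_one])
  obtain ⟨P₀, hP₀⟩ := hKp.exists_le_sylow
  have hP₀K : (P₀ : Subgroup H) = K := by
    symm
    apply Subgroup.eq_of_le_of_card_ge hP₀
    rw [card_sylow h19 h361 P₀, hK]
  have hP₀n : (P₀ : Subgroup H).Normal := hP₀K ▸ hKn
  have := Sylow.unique_of_normal P₀ hP₀n
  intro P
  rw [Subsingleton.elim P P₀]
  exact hP₀n

/-- If a normal subgroup `M` of order divisible by `19` has normal Sylow `19`-subgroups, so has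
`H` (`19 ∥ |H|`). -/
theorem of_normal_subgroup {H : Type*} [Group H] [Finite H] (h361 : ¬ 361 ∣ Nat.card H)
    (M : Subgroup H) [M.Normal] (h19 : 19 ∣ Nat.card M)
    (hM : ∀ Q : Sylow 19 M, (Q : Subgroup M).Normal) :
    ∀ P : Sylow 19 H, (P : Subgroup H).Normal := by
  obtain ⟨Q⟩ : Nonempty (Sylow 19 M) := inferInstance
  have hQn := hM Q
  have hQc : (Q : Subgroup M).Characteristic := Q.characteristic_of_normal hQn
  have hKn : ((Q : Subgroup M).map M.subtype).Normal := inferInstance
  have h361M : ¬ 361 ∣ Nat.card M := fun h => h361 (h.trans (Subgroup.card_subgroup_dvd_card M))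
  have hK : Nat.card ((Q : Subgroup M).map M.subtype) = 19 := by
    have h1 := card_sylow h19 h361M Q
    have h2 : Nat.card ((Q : Subgroup M).map M.subtype) = Nat.card (Q : Subgroup M) :=
      Nat.card_congr ((Q : Subgroup M).equivMapOfInjective M.subtype
        M.subtype_injective).symm.toEquiv
    rw [h2, h1]
  exact sylow_normal_of_normal_card h361 _ hK


/-- A `19`-element normalizing a subgroup `R` of order less than `19` centralizes it. -/
theorem commute_of_mem_normalizer {H : Type*} [Group H] [Finite H] (R : Subgroup H)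
    (hR : Nat.card R < 19) (g : H) (hg : g ∈ Subgroup.normalizer (R : Set H)) (hg19 : g ^ 19 = 1)
    (r : H) (hr : r ∈ R) : g * r * g⁻¹ = r := by
  classical
  let α : MulAut R := R.normalizerMonoidHom ⟨g, hg⟩
  have hα19 : α ^ 19 = 1 := by
    change (R.normalizerMonoidHom ⟨g, hg⟩) ^ 19 = 1
    rw [← map_pow]
    have : (⟨g, hg⟩ : Subgroup.normalizer (R : Set H)) ^ 19 = 1 := Subtype.ext (by simpa using hg19)
    rw [this, map_one]
  have h1 : orderOf α ∣ 19 := orderOf_dvd_of_pow_eq_one hα19
  have h2 : orderOf α ∣ (Nat.card R).factorial := by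
    have hinj : Function.Injective (MulAut.toPerm R) := fun a b hab => by
      ext x
      have := congrArg (fun σ : Equiv.Perm R => σ x) hab
      exact congrArg Subtype.val this
    have h3 : Nat.card (MulAut R) ∣ Nat.card (Equiv.Perm R) :=
      Subgroup.card_dvd_of_injective (MulAut.toPerm R) hinj
    have : Fintype R := Fintype.ofFinite R
    rw [Nat.card_eq_fintype_card (α := Equiv.Perm R), Fintype.card_perm,
      ← Nat.card_eq_fintype_card] at h3
    exact (orderOf_dvd_natCard α).trans h3
  have h4 : orderOf α = 1 := by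
    rcases (Nat.dvd_prime (by norm_num : Nat.Prime 19)).1 h1 with h | h
    · exact h
    · exfalso
      rw [h] at h2
      have := ((by norm_num : Nat.Prime 19).dvd_factorial).1 h2
      omega
  have hα1 : α = 1 := orderOf_eq_one_iff.1 h4
  have := congrArg (fun β : MulAut R => ((β ⟨r, hr⟩ : R) : H)) hα1
  simpa [α] using this

/-- The special case: a normal `19'`-subgroup of index `19`. -/
theorem special_case {H : Type*} [Group H] [Finite H] (hd : Nat.card H ∣ 175560)
    (N : Subgroup H) [N.Normal] (hidx : N.index = 19) (hN : ¬ 19 ∣ Nat.card N) :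
    ∀ P : Sylow 19 H, (P : Subgroup H).Normal := by
  classical
  intro P
  have hcard : Nat.card H = 19 * Nat.card N := by rw [← hidx, Subgroup.index_mul_card]
  have h19 : 19 ∣ Nat.card H := ⟨_, hcard⟩
  have h361 : ¬ 361 ∣ Nat.card H := by
    intro h
    rw [hcard, show (361 : ℕ) = 19 * 19 by norm_num] at h
    exact hN ((Nat.mul_dvd_mul_iff_left (by norm_num)).1 h)
  have hP : Nat.card (P : Subgroup H) = 19 := card_sylow h19 h361 P
  -- elements of order prime to 19 lie in `N`
  have hmemN : ∀ x : H, ¬ 19 ∣ orderOf x → x ∈ N := by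
    intro x hx
    rw [← QuotientGroup.eq_one_iff (N := N)]
    have h1 : orderOf (x : H ⧸ N) ∣ orderOf x := orderOf_map_dvd (QuotientGroup.mk' N) x
    have h2 : orderOf (x : H ⧸ N) ∣ 19 := by
      have := orderOf_dvd_natCard (x : H ⧸ N)
      rwa [← Subgroup.index_eq_card, hidx] at this
    rcases (Nat.dvd_prime (by norm_num : Nat.Prime 19)).1 h2 with h | h
    · exact orderOf_eq_one_iff.1 h
    · exact absurd (h ▸ h1) hx
  suffices hdvd : Nat.card H ∣ Nat.card (Subgroup.normalizer ((P : Subgroup H) : Set H)) by
    have htop : Subgroup.normalizer ((P : Subgroup H) : Set H) = ⊤ :=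
      Subgroup.eq_top_of_card_eq _
        (Nat.dvd_antisymm (Subgroup.card_subgroup_dvd_card _) hdvd)
    exact Subgroup.normalizer_eq_top_iff.1 htop
  rw [← Nat.factorization_prime_le_iff_dvd Nat.card_pos.ne' Nat.card_pos.ne']
  intro q hq
  have hqf : Fact q.Prime := ⟨hq⟩
  by_cases hq19 : q = 19
  · subst hq19
    have h1 : (Nat.card H).factorization 19 < 2 := by
      by_contra hcon
      push Not at hcon
      apply h361
      have := (Nat.Prime.pow_dvd_iff_le_factorization (by norm_num : Nat.Prime 19)
        Nat.card_pos.ne').2 hcon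
      simpa using this
    have h2 : 1 ≤ (Nat.card (Subgroup.normalizer ((P : Subgroup H) : Set H))).factorization 19 := by
      rw [← Nat.Prime.pow_dvd_iff_le_factorization (by norm_num : Nat.Prime 19) Nat.card_pos.ne',
        pow_one]
      have := Subgroup.card_dvd_of_le
        (Subgroup.le_normalizer (H := (P : Subgroup H)))
      rwa [hP] at this
    omega
  · -- a Sylow `q`-subgroup normalized by `P`
    obtain ⟨R₀⟩ : Nonempty (Sylow q H) := inferInstance
    have hR₀N : (R₀ : Subgroup H) ≤ N := by
      intro x hx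
      apply hmemN
      intro h19x
      obtain ⟨k, hk⟩ := (R₀.2 : IsPGroup q (R₀ : Subgroup H)).exists_orderOf_eq_pow ⟨x, hx⟩ |>.imp
        (fun k hk => hk)
      have hox : orderOf x = q ^ k := by
        rw [← hk]; exact (Subgroup.orderOf_mk x hx).symm
      rw [hox] at h19x
      have := (Nat.prime_dvd_prime_iff_eq (by norm_num : Nat.Prime 19) hq).1
        ((by norm_num : Nat.Prime 19).dvd_of_dvd_pow h19x)
      exact hq19 this.symm
    have hX19 : 19 ∣ Nat.card (Subgroup.normalizer ((R₀ : Subgroup H) : Set H)) := by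
      by_contra hcon
      have hXN : Subgroup.normalizer ((R₀ : Subgroup H) : Set H) ≤ N := by
        intro x hx
        apply hmemN
        intro h19x
        apply hcon
        have := Subgroup.orderOf_dvd_natCard _ hx
        exact h19x.trans this
      have hF : Subgroup.normalizer ((R₀ : Subgroup H) : Set H) ⊔ N = ⊤ :=
        Sylow.normalizer_sup_eq_top' R₀ hR₀N
      rw [sup_eq_right.2 hXN] at hF
      rw [hF, Subgroup.index_top] at hidx
      norm_num at hidx
    have hnq : ¬ 19 ∣ Nat.card (Sylow q H) := by
      rw [R₀.card_eq_index_normalizer]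
      intro h
      apply h361
      rw [← Subgroup.index_mul_card (Subgroup.normalizer ((R₀ : Subgroup H) : Set H)),
        show (361 : ℕ) = 19 * 19 by norm_num]
      exact Nat.mul_dvd_mul h hX19
    obtain ⟨R, hRfix⟩ := (P.2 : IsPGroup 19 (P : Subgroup H)).nonempty_fixed_point_of_prime_not_dvd_card
      (Sylow q H) hnq
    have hPR : ∀ g ∈ (P : Subgroup H), g ∈ Subgroup.normalizer ((R : Subgroup H) : Set H) := by
      intro g hg
      have := hRfix ⟨g, hg⟩
      exact Sylow.smul_eq_iff_mem_normalizer.1 this
    have hRcard : Nat.card (R : Subgroup H) = q ^ (Nat.card H).factorization q :=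
      R.card_eq_multiplicity
    have hRlt : Nat.card (R : Subgroup H) < 19 := by
      rw [hRcard]
      apply prime_pow_lt hq hq19
      exact (Nat.ordProj_dvd _ _).trans hd
    have hRle : (R : Subgroup H) ≤ Subgroup.normalizer ((P : Subgroup H) : Set H) := by
      intro r hr
      have hcomm : ∀ g ∈ (P : Subgroup H), g * r * g⁻¹ = r := by
        intro g hg
        apply commute_of_mem_normalizer (R : Subgroup H) hRlt g (hPR g hg) _ r hr
        have := pow_card_eq_one' (G := (P : Subgroup H)) (x := ⟨g, hg⟩)
        rw [hP] at this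
        exact congrArg Subtype.val this
      rw [Subgroup.mem_normalizer_iff]
      intro h
      have key : ∀ g ∈ (P : Subgroup H), r * g * r⁻¹ = g := by
        intro g hg
        have := hcomm g hg
        calc r * g * r⁻¹ = (g * r * g⁻¹) * g * r⁻¹ := by rw [this]
          _ = g := by group
      constructor
      · intro hh; rw [key h hh]; exact hh
      · intro hh
        have h2 := hcomm _ hh
        -- `r * h * r⁻¹ ∈ P` commutes with `r`
        have : h = r⁻¹ * (r * h * r⁻¹) * r := by group
        rw [this]
        have h3 : r⁻¹ * (r * h * r⁻¹) * r = r * h * r⁻¹ := by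
          calc r⁻¹ * (r * h * r⁻¹) * r = r⁻¹ * ((r * h * r⁻¹) * r * (r * h * r⁻¹)⁻¹) * (r * h * r⁻¹) := by group
            _ = r⁻¹ * r * (r * h * r⁻¹) := by rw [h2]
            _ = r * h * r⁻¹ := by group
        rw [h3]; exact hh
    rw [← Nat.Prime.pow_dvd_iff_le_factorization hq Nat.card_pos.ne', ← hRcard]
    exact Subgroup.card_dvd_of_le hRle


universe u

/-- Proper subgroups have smaller order. -/
theorem card_lt_of_ne_top {H : Type*} [Group H] [Finite H] (L : Subgroup H) (hL : L ≠ ⊤) :
    Nat.card L < Nat.card H := by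
  apply lt_of_le_of_ne (Nat.le_of_dvd Nat.card_pos (Subgroup.card_subgroup_dvd_card L))
  intro h
  exact hL (Subgroup.eq_top_of_card_eq L h)

/-- The induction, with the simple case as a hypothesis. -/
theorem main_induction
    (hNS : ∀ (H : Type u) [Group H] [Finite H] [IsSimpleGroup H], ¬ IsMulCommutative H →
      Nat.card H ∣ 175560 → 19 ∣ Nat.card H → Nat.card H ≠ 175560 →
      (∀ L : Subgroup H, L ≠ ⊤ → ∀ Q : Sylow 19 L, (Q : Subgroup L).Normal) → False) :
    ∀ (d : ℕ) (H : Type u) [Group H] [Finite H], Nat.card H = d → d ∣ 175560 →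
      (d = 175560 ∧ IsSimpleGroup H) ∨ ∀ P : Sylow 19 H, (P : Subgroup H).Normal := by
  intro d
  induction d using Nat.strong_induction_on with
  | _ d ih =>
    intro H _ _ hcard hd
    have hdle : d ≤ 175560 := Nat.le_of_dvd (by norm_num) hd
    have ih' : ∀ (L : Type u) [Group L] [Finite L], Nat.card L < d → Nat.card L ∣ 175560 →
        ∀ Q : Sylow 19 L, (Q : Subgroup L).Normal := by
      intro L _ _ hlt hdvd
      rcases ih (Nat.card L) hlt L rfl hdvd with ⟨h1, _⟩ | h
      · exfalso; omega
      · exact h
    by_cases h19 : 19 ∣ d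
    swap
    · right
      intro P
      have hPb : (P : Subgroup H) = ⊥ := by
        have := P.card_eq_multiplicity
        rw [hcard, Nat.factorization_eq_zero_of_not_dvd h19, pow_zero] at this
        exact Subgroup.eq_bot_of_card_eq _ this
      rw [hPb]; infer_instance
    have h361 : ¬ 361 ∣ Nat.card H := by
      rw [hcard]; intro h
      have := h.trans hd
      norm_num at this
    have hdH : Nat.card H ∣ 175560 := hcard ▸ hd
    by_cases hs : IsSimpleGroup H
    · by_cases hfull : d = 175560
      · exact Or.inl ⟨hfull, hs⟩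
      · right
        by_cases hc : IsMulCommutative H
        · intro P
          refine ⟨fun n hn g => ?_⟩
          have : g * n * g⁻¹ = n := by
            rw [hc.is_comm.comm g n, mul_assoc, mul_inv_cancel, mul_one]
          rw [this]; exact hn
        · exfalso
          refine hNS H hc hdH (hcard ▸ h19) (hcard ▸ hfull) ?_
          intro L hL Q
          have hlt : Nat.card L < d := hcard ▸ card_lt_of_ne_top L hL
          exact ih' L hlt ((Subgroup.card_subgroup_dvd_card L).trans hdH) Q
    · right
      have hnt : Nontrivial H := by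
        rw [← Finite.one_lt_card_iff_nontrivial, hcard]
        have := Nat.le_of_dvd (Nat.pos_of_ne_zero (by rintro rfl; simp at hd)) h19
        omega
      obtain ⟨N, hNn, hNb, hNt⟩ : ∃ N : Subgroup H, N.Normal ∧ N ≠ ⊥ ∧ N ≠ ⊤ := by
        by_contra hcon
        push Not at hcon
        apply hs
        exact { toNontrivial := hnt
                eq_bot_or_eq_top_of_normal := fun N hN => by
                  by_contra h
                  push Not at h
                  exact h.2 (hcon N hN h.1) }
      have hNlt : Nat.card N < d := hcard ▸ card_lt_of_ne_top N hNt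
      have hNd : Nat.card N ∣ 175560 := (Subgroup.card_subgroup_dvd_card N).trans hdH
      by_cases hN19 : 19 ∣ Nat.card N
      · exact of_normal_subgroup h361 N hN19 (ih' N hNlt hNd)
      · have hQcard : Nat.card H = Nat.card (H ⧸ N) * Nat.card N :=
          Subgroup.card_eq_card_quotient_mul_card_subgroup N
        have hN1 : 1 < Nat.card N := (Subgroup.one_lt_card_iff_ne_bot N).2 hNb
        have hQpos : 0 < Nat.card (H ⧸ N) := Nat.card_pos
        have hQlt : Nat.card (H ⧸ N) < d := by
          rw [← hcard, hQcard]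
          nlinarith
        have hQd : Nat.card (H ⧸ N) ∣ 175560 := (Dvd.intro _ hQcard.symm).trans hdH
        have hQ19 : 19 ∣ Nat.card (H ⧸ N) := by
          have h1 : 19 ∣ Nat.card (H ⧸ N) * Nat.card N := hQcard ▸ hcard ▸ h19
          rcases ((by norm_num : Nat.Prime 19).dvd_mul).1 h1 with h | h
          · exact h
          · exact absurd h hN19
        have hQ361 : ¬ 361 ∣ Nat.card (H ⧸ N) := fun h =>
          h361 (h.trans (Dvd.intro _ hQcard.symm))
        have hQ := ih' (H ⧸ N) hQlt hQd
        obtain ⟨Kb⟩ : Nonempty (Sylow 19 (H ⧸ N)) := inferInstance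
        have hKbn := hQ Kb
        have hKbcard := card_sylow hQ19 hQ361 Kb
        let M : Subgroup H := (Kb : Subgroup (H ⧸ N)).comap (QuotientGroup.mk' N)
        have hMn : M.Normal := hKbn.comap _
        have hMmap : M.map (QuotientGroup.mk' N) = (Kb : Subgroup (H ⧸ N)) :=
          Subgroup.map_comap_eq_self_of_surjective (QuotientGroup.mk'_surjective N) _
        have hM19 : 19 ∣ Nat.card M := by
          have := Subgroup.card_map_dvd (H := M) (QuotientGroup.mk' N)
          rw [hMmap, hKbcard] at this
          exact this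
        by_cases hMt : M = ⊤
        · have hKbt : (Kb : Subgroup (H ⧸ N)) = ⊤ := by
            rw [← hMmap, hMt, ← MonoidHom.range_eq_map,
              MonoidHom.range_eq_top.2 (QuotientGroup.mk'_surjective N)]
          have hidx : N.index = 19 := by
            rw [Subgroup.index_eq_card, ← hKbcard, hKbt, Subgroup.card_top]
          exact special_case hdH N hidx hN19
        · have hMlt : Nat.card M < d := hcard ▸ card_lt_of_ne_top M hMt
          exact of_normal_subgroup h361 M hM19
            (ih' M hMlt ((Subgroup.card_subgroup_dvd_card M).trans hdH))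

end Cfsg.Agent.S4274P.RED
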