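import Mathlib
import Cfsg.Agent.Helper26.S4395Defs
import Cfsg.Agent.Helper20.S4394GSc

set_option autoImplicit false
set_option linter.unusedSectionVars false
set_option linter.unusedVariables false

/-! Piece BG1 of the board `s4395pieces` (BND sub-board): the commutator map `g f = [u₀, v_f]`. -/

namespace Cfsg.Agent.S4395P

open Cfsg Cfsg.Agent.S4395P Cfsg.Agent.S4394P

/-- BG1 (M/L): the commutator map `g f = [u₀, v_f]` (`lam u₀ = 1`, `lam v_f = f`): additive,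
onto `C = C_P(y)`, and trivial on the elements `ζ^k + ζ^(-k)`. -/
theorem BG1 (p q r : ℕ) [Fact p.Prime] [Fact q.Prime] (hpq : p ≠ q)
    {F : Type*} [Field F] (ζ : F) (hζ : orderOf ζ = q)
    {X : Type*} [Group X] [Finite X] (P : Subgroup X) (y : X) (lam : X → F)
    (h : NFData p q r ζ P y lam)
    (hk : ∀ k : ℤ, ∀ u ∈ P, y ^ k * u * y ^ (-k) ∈ P ∧ lam (y ^ k * u * y ^ (-k)) = ζ ^ k * lam u) :
    ∃ g : F → X, (∀ f f' : F, g (f + f') = g f * g f') ∧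
      (∀ c ∈ P ⊓ Subgroup.centralizer {y}, ∃ f : F, g f = c) ∧
      (∀ k : ℤ, g (ζ ^ k + ζ ^ (-k)) = 1) := by
  classical
  obtain ⟨b1, b2, b3, b4⟩ := GSb h.sch
  -- basic consequences of additivity
  have hlam1 : lam 1 = 0 := by
    have := h.add 1 P.one_mem 1 P.one_mem
    rw [mul_one] at this
    have h2 : lam 1 + 0 = lam 1 + lam 1 := by rw [add_zero]; exact this
    exact (add_left_cancel h2).symm
  have hlaminv : ∀ u ∈ P, lam u⁻¹ = -lam u := by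
    intro u hu
    have := h.add u hu u⁻¹ (P.inv_mem hu)
    rw [mul_inv_cancel, hlam1] at this
    exact (neg_eq_of_add_eq_zero_right this.symm).symm
  -- `u₀`
  obtain ⟨u₀, hu₀P, hu₀⟩ := h.surj 1
  have hu₀C : u₀ ∉ Subgroup.centralizer {y} := by
    intro hmem
    have := (h.ker u₀ hu₀P).mpr hmem
    rw [hu₀] at this
    exact one_ne_zero this
  -- commutators with a fixed element are multiplicative
  have hmul : ∀ w ∈ P, ∀ t ∈ P, ∀ s ∈ P,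
      w * (t * s) * w⁻¹ * (t * s)⁻¹ = (w * t * w⁻¹ * t⁻¹) * (w * s * w⁻¹ * s⁻¹) := by
    intro w hw t ht s hs
    have hc := b3 _ (b1 w hw s hs) t ht
    calc w * (t * s) * w⁻¹ * (t * s)⁻¹
        = (w * t * w⁻¹ * t⁻¹) * (t * (w * s * w⁻¹ * s⁻¹)) * t⁻¹ := by group
      _ = (w * t * w⁻¹ * t⁻¹) * ((w * s * w⁻¹ * s⁻¹) * t) * t⁻¹ := by rw [hc]
      _ = (w * t * w⁻¹ * t⁻¹) * (w * s * w⁻¹ * s⁻¹) := by group
  -- KEY
  have hkey : ∀ v ∈ P, ∀ v' ∈ P, lam v = lam v' →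
      u₀ * v * u₀⁻¹ * v⁻¹ = u₀ * v' * u₀⁻¹ * v'⁻¹ := by
    intro v hv v' hv' hvv'
    have hcP : v⁻¹ * v' ∈ P := P.mul_mem (P.inv_mem hv) hv'
    have hc0 : lam (v⁻¹ * v') = 0 := by
      rw [h.add _ (P.inv_mem hv) _ hv', hlaminv v hv, hvv', neg_add_cancel]
    have hcC : v⁻¹ * v' ∈ P ⊓ Subgroup.centralizer {y} :=
      ⟨hcP, (h.ker _ hcP).mp hc0⟩
    have hcomm := b3 _ hcC u₀⁻¹ (P.inv_mem hu₀P)
    -- `v' = v * c`
    have hv'eq : v' = v * (v⁻¹ * v') := by group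
    calc u₀ * v * u₀⁻¹ * v⁻¹
        = u₀ * v * (u₀⁻¹ * (v⁻¹ * v')) * (v⁻¹ * v')⁻¹ * v⁻¹ := by group
      _ = u₀ * v * ((v⁻¹ * v') * u₀⁻¹) * (v⁻¹ * v')⁻¹ * v⁻¹ := by rw [hcomm]
      _ = u₀ * v' * u₀⁻¹ * v'⁻¹ := by group
  -- the map
  have hch : ∀ f : F, ∃ v, v ∈ P ∧ lam v = f := fun f => by
    obtain ⟨v, hv, hvf⟩ := h.surj f
    exact ⟨v, hv, hvf⟩
  let vv : F → X := fun f => Classical.choose (hch f)
  have hvvP : ∀ f, vv f ∈ P := fun f => (Classical.choose_spec (hch f)).1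
  have hvvlam : ∀ f, lam (vv f) = f := fun f => (Classical.choose_spec (hch f)).2
  let g : F → X := fun f => u₀ * vv f * u₀⁻¹ * (vv f)⁻¹
  have hg : ∀ f : F, ∀ v ∈ P, lam v = f → g f = u₀ * v * u₀⁻¹ * v⁻¹ := by
    intro f v hv hvf
    exact hkey _ (hvvP f) v hv ((hvvlam f).trans hvf.symm)
  have hgadd : ∀ f f' : F, g (f + f') = g f * g f' := by
    intro f f'
    rw [hg (f + f') (vv f * vv f') (P.mul_mem (hvvP f) (hvvP f'))
      (by rw [h.add _ (hvvP f) _ (hvvP f'), hvvlam, hvvlam])]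
    exact hmul u₀ hu₀P _ (hvvP f) _ (hvvP f')
  refine ⟨g, hgadd, ?_, ?_⟩
  · intro c hc
    obtain ⟨t, ht, hte⟩ := GSc h.sch u₀ hu₀P hu₀C c hc
    exact ⟨lam t, by rw [hg (lam t) t ht rfl, hte]⟩
  · intro k
    obtain ⟨hwP, hwlam⟩ := hk k u₀ hu₀P
    obtain ⟨hw'P, hw'lam⟩ := hk (-k) u₀ hu₀P
    rw [hu₀, mul_one] at hwlam hw'lam
    rw [neg_neg] at hw'P hw'lam
    set w := y ^ k * u₀ * y ^ (-k) with hw
    set w' := y ^ (-k) * u₀ * y ^ k with hw'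
    rw [hgadd, hg _ w hwP hwlam, hg _ w' hw'P hw'lam]
    -- `[w, u₀] ∈ C` commutes with `y ^ k`
    have hcC := b1 w hwP u₀ hu₀P
    have hcy : y * (w * u₀ * w⁻¹ * u₀⁻¹) = (w * u₀ * w⁻¹ * u₀⁻¹) * y := by
      have hmem : w * u₀ * w⁻¹ * u₀⁻¹ ∈ Subgroup.centralizer {y} := hcC.2
      rw [Subgroup.mem_centralizer_iff] at hmem
      exact hmem y (Set.mem_singleton y)
    have hcyk : y ^ k * (w * u₀ * w⁻¹ * u₀⁻¹) = (w * u₀ * w⁻¹ * u₀⁻¹) * y ^ k :=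
      ((Commute.zpow_left (show Commute y (w * u₀ * w⁻¹ * u₀⁻¹) from hcy)) k).eq
    have hinvk : y ^ (-k) = (y ^ k)⁻¹ := zpow_neg y k
    have e1 : u₀ * w' * u₀⁻¹ * w'⁻¹ = (y ^ k)⁻¹ * (w * u₀ * w⁻¹ * u₀⁻¹) * y ^ k := by
      rw [hw', hw, hinvk]
      group
    rw [e1, mul_assoc ((y ^ k)⁻¹), ← hcyk, inv_mul_cancel_left]
    group

end Cfsg.Agent.S4395P
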