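import Mathlib
import Cfsg.Agent.Helper26.S4395Defs
import Cfsg.Agent.Helper15.S4395FGEN
import Cfsg.Agent.Helper19.S4395BF1
import Cfsg.Agent.Helper21.S4395BF2
import Cfsg.Agent.Helper25.S4395BG0
import Cfsg.Agent.Helper27.S4395BG1
import Cfsg.Agent.Helper15.S4395BG2
import Cfsg.Agent.Helper15.S4395BG3

set_option autoImplicit false

namespace Cfsg.Agent.S4395P

open Cfsg Cfsg.Agent.S4395P Cfsg.Agent.S4394P

/-- BND (assembly): `|P| ≤ p^a₀`. -/
theorem BND (p q r : ℕ) [Fact p.Prime] [Fact q.Prime] (hpq : p ≠ q) (a a₀ : ℕ)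
    (ha : a = orderOf (p : ZMod q)) (ha₀ : a₀ = if a % 2 = 1 then a else 3 * a / 2)
    {F : Type*} [Field F] [Finite F] [CharP F p] (hF : Nat.card F = p ^ a)
    (ζ : F) (hζ : orderOf ζ = q)
    {X : Type*} [Group X] [Finite X] (P : Subgroup X) (y : X) (lam : X → F)
    (h : NFData p q r ζ P y lam) : Nat.card P ≤ p ^ a₀ := by
  classical
  have hp : p.Prime := Fact.out
  have hq : q.Prime := Fact.out
  have hζ0 : ζ ≠ 0 := by
    rintro rfl
    rw [orderOf_eq_zero_iff'.mpr] at hζ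
    · exact hq.ne_zero hζ.symm
    · intro n hn
      rw [zero_pow hn.ne']
      exact zero_ne_one
  set S : AddSubgroup F := AddSubgroup.closure (Set.range fun k : ℤ => ζ ^ k + ζ ^ (-k)) with hS
  obtain ⟨hmul, hinv, hne, hs1⟩ := BF1 p q hpq ζ hζ S hS
  have hgen : ∀ W : AddSubgroup F, (∀ w ∈ W, ζ * w ∈ W) → W = ⊥ ∨ W = ⊤ :=
    fun W hW => FGEN p q hpq (ha ▸ hF) ζ hζ W hW
  obtain ⟨hcard2, hodd⟩ := BF2 p a hF ζ hζ0 hgen S hmul hinv hne hs1
  have hk := BG0 p q r hpq ζ hζ P y lam h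
  obtain ⟨g, hgadd, hgsurj, hgk⟩ := BG1 p q r hpq ζ hζ P y lam h hk
  have hPC := BG2 p q r ζ P y lam h
  have hCS : Nat.card ↥(P ⊓ Subgroup.centralizer {y}) * Nat.card ↥S ≤ Nat.card F := by
    refine BG3 (P ⊓ Subgroup.centralizer {y}) g hgadd hgsurj _ ?_
    rintro _ ⟨k, rfl⟩
    exact hgk k
  set c := Nat.card ↥(P ⊓ Subgroup.centralizer {y}) with hc
  set s := Nat.card ↥S with hs
  have hFpos : 0 < Nat.card F := Nat.card_pos
  have hspos : 0 < s := Nat.card_pos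
  rw [hPC, ha₀]
  split_ifs with hodd'
  · -- `a` odd: `S = ⊤`
    have hST := hodd hodd'
    have hsF : s = Nat.card F := by
      rw [hs, hST]
      exact Nat.card_congr (AddSubgroup.topEquiv (G := F)).toEquiv
    rw [hsF] at hCS
    have hc1 : c ≤ 1 := by
      by_contra hlt
      rw [not_le] at hlt
      have : 2 * Nat.card F ≤ c * Nat.card F := Nat.mul_le_mul_right _ hlt
      omega
    calc c * Nat.card F ≤ 1 * Nat.card F := Nat.mul_le_mul_right _ hc1
      _ = p ^ a := by rw [one_mul, hF]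
  · -- `a` even
    have ha2 : a % 2 = 0 := by omega
    obtain ⟨b, rfl⟩ : ∃ b, a = 2 * b := ⟨a / 2, by omega⟩
    have h3 : 3 * (2 * b) / 2 = 3 * b := by omega
    rw [h3]
    -- (c |F|)^2 |F| ≤ (c |F|)^2 s^2 = (c s)^2 |F|^2 ≤ |F|^4
    have h1 : (c * Nat.card F) ^ 2 * Nat.card F ≤ Nat.card F ^ 4 := by
      calc (c * Nat.card F) ^ 2 * Nat.card F ≤ (c * Nat.card F) ^ 2 * s ^ 2 :=
            Nat.mul_le_mul_left _ hcard2
        _ = (c * s) ^ 2 * Nat.card F ^ 2 := by ring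
        _ ≤ Nat.card F ^ 2 * Nat.card F ^ 2 := Nat.mul_le_mul_right _ (Nat.pow_le_pow_left hCS 2)
        _ = Nat.card F ^ 4 := by ring
    have h2 : (c * Nat.card F) ^ 2 ≤ Nat.card F ^ 3 := by
      have : (c * Nat.card F) ^ 2 * Nat.card F ≤ Nat.card F ^ 3 * Nat.card F := by
        calc _ ≤ Nat.card F ^ 4 := h1
          _ = Nat.card F ^ 3 * Nat.card F := by ring
      exact Nat.le_of_mul_le_mul_right this hFpos
    have h4 : Nat.card F ^ 3 = (p ^ (3 * b)) ^ 2 := by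
      rw [hF, ← pow_mul, ← pow_mul]
      congr 1
      ring
    rw [h4] at h2
    exact (Nat.pow_le_pow_iff_left (by norm_num)).mp h2

end Cfsg.Agent.S4395P
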