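import Mathlib
import Cfsg.Agent.Helper9.S4415Defs
import Cfsg.Agent.Lead.CoprimeSylow
import Cfsg.Agent.Helper19.PPowerClass

/-!
# Board `s4415pieces`, row D2 (`two_group_of_cent`)

If `B` (of order `3`) centralises every `B`-invariant subgroup of odd prime power order of `R = [R,B]` (of order prime to `3`)
then `R` is a `2`-group.
-/

set_option autoImplicit false

namespace Cfsg.Agent.S4415P

open Subgroup
open scoped commutatorElement
open Cfsg.Agent.S4409P (Zc Fr Der IsV4 IsQ8 SpecialInt IsAb)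

variable {S : Type*} [Group S] [Finite S] {E : Type*} [AddCommGroup E] [Module (ZMod 3) E] [Finite E]

/-- D2 : if `B` centralises every `B`-invariant subgroup of odd prime power order of `R = [R,B]` then `R` is a `2`-group. -/
theorem two_group_of_cent (B R : Subgroup S) (hB : Nat.card ↥B = 3) (hR : YC B R) (hsol : Group.IsSolvable ↥R)
    (h : ∀ (r : ℕ) [Fact r.Prime], r ≠ 2 → ∀ T : Subgroup S, T ≤ R → IsPGroup r ↥T → B ≤ normalizer (T : Set S) →
      B ≤ centralizer (T : Set S)) : IsPGroup 2 ↥R := by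
  have hcop : (Nat.card ↥B).Coprime (Nat.card ↥R) := by
    rw [hB]
    exact hR.cop.symm
  have : Fact (Nat.Prime 2) := ⟨Nat.prime_two⟩
  -- a `B`-invariant Sylow `2`-subgroup
  obtain ⟨R₂, hR₂⟩ := Cfsg.Agent.Lead.coprime_exists_invariant_sylow B R hR.norm hcop (Or.inr hsol) 2
  -- the centraliser of `B` in `R`
  set C : Subgroup ↥R := (centralizer (B : Set S)).subgroupOf R with hC
  -- `C` contains a Sylow `r`-subgroup for every odd `r`
  have hodd : ∀ r : ℕ, r.Prime → r ≠ 2 → ¬ r ∣ C.index := by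
    intro r hr hr2
    have : Fact r.Prime := ⟨hr⟩
    obtain ⟨P, hP⟩ := Cfsg.Agent.Lead.coprime_exists_invariant_sylow B R hR.norm hcop (Or.inr hsol) r
    have hcent : B ≤ centralizer (((P : Subgroup ↥R).map R.subtype : Subgroup S) : Set S) :=
      h r hr2 _ (map_subtype_le _) (P.isPGroup'.map _) hP
    have hle : (P : Subgroup ↥R) ≤ C := by
      intro y hy
      rw [hC, mem_subgroupOf]
      have hyT : (y : S) ∈ (P : Subgroup ↥R).map R.subtype := ⟨y, hy, rfl⟩
      rw [mem_centralizer_iff]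
      intro b' hb'
      have := (mem_centralizer_iff.mp (hcent hb')) (y : S) hyT
      exact this.symm
    intro hdvd
    exact P.not_dvd_index (dvd_trans hdvd (index_dvd_of_le hle))
  have hcopi : ((R₂ : Subgroup ↥R)).index.Coprime C.index := by
    apply Nat.coprime_of_dvd
    intro k hk hk1 hk2
    by_cases hk2' : k = 2
    · subst hk2'
      exact R₂.not_dvd_index hk1
    · exact hodd k hk hk2' hk2
  -- `R = [R,B] ≤ R₂`
  have hle : R ≤ (R₂ : Subgroup ↥R).map R.subtype := by
    conv_lhs => rw [← hR.comm]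
    rw [commutator_le]
    intro x hx b' hb'
    obtain ⟨u, hu, c, hc, huc⟩ :=
      Cfsg.Agent.Helper19.exists_mul_of_coprime_index (R₂ : Subgroup ↥R) C hcopi ⟨x, hx⟩
    have hxe : x = (u : S) * (c : S) := by
      have := congrArg (Subtype.val) huc
      simpa using this
    have hc' : (c : S) ∈ centralizer (B : Set S) := by
      rw [hC, mem_subgroupOf] at hc
      exact hc
    have hcb : b' * (c : S) = (c : S) * b' := (mem_centralizer_iff.mp hc') b' hb'
    have huT : (u : S) ∈ (R₂ : Subgroup ↥R).map R.subtype := ⟨u, hu, rfl⟩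
    have hconj : b' * (u : S)⁻¹ * b'⁻¹ ∈ (R₂ : Subgroup ↥R).map R.subtype :=
      (mem_normalizer_iff.mp (hR₂ hb') _).mp (inv_mem huT)
    have hcalc : ⁅x, b'⁆ = (u : S) * (b' * (u : S)⁻¹ * b'⁻¹) := by
      rw [commutatorElement_def, hxe]
      calc (u : S) * (c : S) * b' * ((u : S) * (c : S))⁻¹ * b'⁻¹
          = (u : S) * ((c : S) * b') * (c : S)⁻¹ * (u : S)⁻¹ * b'⁻¹ := by group
        _ = (u : S) * (b' * (c : S)) * (c : S)⁻¹ * (u : S)⁻¹ * b'⁻¹ := by rw [hcb]
        _ = (u : S) * (b' * (u : S)⁻¹ * b'⁻¹) := by group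
    rw [hcalc]
    exact mul_mem huT hconj
  exact (R₂.isPGroup'.map R.subtype).to_le hle

end Cfsg.Agent.S4415P
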