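-- Mechanical port of Cfsg/Agent/Helper8/S0996PI.lean (by helper8) to the hypotheses `HypF`/`BasicF` of S4700
-- (`2 n < p + 3` replaced by `NotF p n`); see departures/helper27_s4700_pieces.md.
import Mathlib
import Cfsg.Agent.Helper27.S4700Defs

set_option autoImplicit false

/-! S0996, piece PI: the decomposition of the permutation character `π = Λ_1 = (1_N)^G`. -/

namespace Cfsg.Agent.S4700P

open Cfsg.Agent.S0996P Cfsg.Agent.S4700P
open Cfsg Cfsg.Agent.Helper24 Cfsg.Agent.Helper1.W2p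

universe u

variable {G : Type u} [Group G]

section L4
variable [Fintype G] [Fintype (IrrCharacter G)] {p : ℕ} [Fact p.Prime] {P : Subgroup G} {n : ℕ}
  [Fintype (Lin P)]

/-- PI -/
theorem pi_facts (B : BasicF p P n) (D : BrauerData p P) (T : Dict p P n D)
    (hXp : ∀ χ ∈ D.X, D.δ χ = 1 → χ ≠ trivIrr G → irrDeg χ = 1 + n * p)
    (hYn : D.ε = -1 → ∀ ψ ∈ D.Y, Nat.card D.Y * irrDeg ψ = 1 + n * p)
    (hform : ∀ φ : Lin P, φ ≠ 1 →
      (∃ χ ∈ D.X, D.δ χ = 1 ∧ χ ≠ trivIrr G ∧ mult P φ χ = 1 ∧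
          ∀ χ' : IrrCharacter G, χ' ≠ χ → mult P φ χ' = 0) ∨
      (D.ε = -1 ∧ (∀ ψ ∈ D.Y, mult P φ ψ = 1) ∧
          ∀ χ' : IrrCharacter G, χ' ∉ D.Y → mult P φ χ' = 0)) :
    (∀ χ : IrrCharacter G, (χ ∈ D.X ∧ χ ≠ trivIrr G) ∨ χ ∈ D.Y → mult P (1 : Lin P) χ = 0) ∧
    (∑ χ : IrrCharacter G, mult P (1 : Lin P) χ ^ 2 = n + 1) ∧
    (∀ χ : IrrCharacter G, χ ∉ D.X → χ ∉ D.Y → irrDeg χ = p * mult P (1 : Lin P) χ) := by
  classical
  have hdeg := T.deg (1 : Lin P)
  have htriv := T.triv_one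
  have hdtriv : irrDeg (trivIrr G) = 1 := by
    have h1 := irrDeg_spec (trivIrr G)
    have h2 : ((trivIrr G : IrrCharacter G) : G → ℂ) 1 = 1 := rfl
    rw [h2] at h1
    exact_mod_cast h1.symm
  have hp5 := B.five_le
  have hn1 := B.one_le_n
  -- `Y` and the trivial character
  have htY : trivIrr G ∉ D.Y := fun h => (Set.disjoint_left.mp D.disj) D.triv_mem h
  -- (ii) the characters of `X₊`
  have hXplus : ∀ χ ∈ D.X, D.δ χ = 1 → χ ≠ trivIrr G → mult P (1 : Lin P) χ = 0 := by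
    intro χ hχ hδ hne
    have hd := hXp χ hχ hδ hne
    have hle : ∑ i ∈ ({trivIrr G, χ} : Finset (IrrCharacter G)),
        mult P (1 : Lin P) i * irrDeg i ≤ ∑ i, mult P (1 : Lin P) i * irrDeg i :=
      Finset.sum_le_sum_of_subset (Finset.subset_univ _)
    rw [Finset.sum_pair (Ne.symm hne), htriv, hdtriv, hd, hdeg] at hle
    by_contra h0
    have h1 : 1 ≤ mult P (1 : Lin P) χ := Nat.one_le_iff_ne_zero.mpr h0
    have h2 : 1 * (1 + n * p) ≤ mult P (1 : Lin P) χ * (1 + n * p) :=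
      Nat.mul_le_mul_right _ h1
    omega
  -- (iii) the relation for `φ = 1`
  have hXsplit : ∑ χ ∈ XF D, D.δ χ * (mult P (1 : Lin P) χ : ℤ) =
      1 - ∑ χ ∈ XF D, (if D.δ χ = -1 then (mult P (1 : Lin P) χ : ℤ) else 0) := by
    have h1 : ∀ χ ∈ XF D, D.δ χ * (mult P (1 : Lin P) χ : ℤ) =
        (if χ = trivIrr G then (1 : ℤ) else 0) -
          (if D.δ χ = -1 then (mult P (1 : Lin P) χ : ℤ) else 0) := by
      intro χ hχ
      rw [mem_XF] at hχ
      by_cases ht : χ = trivIrr G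
      · rw [if_pos ht, ht, D.δ_triv, htriv, if_neg (by norm_num)]
        norm_num
      · rw [if_neg ht]
        rcases D.δ_pm χ hχ with h | h
        · rw [hXplus χ hχ h ht, h, if_neg (by norm_num)]
          norm_num
        · rw [h, if_pos rfl]
          ring
    rw [Finset.sum_congr rfl h1, Finset.sum_sub_distrib, Finset.sum_ite_eq' (XF D) (trivIrr G),
      if_pos ((mem_XF D _).mpr D.triv_mem)]
  have hs0 : 0 ≤ ∑ χ ∈ XF D, (if D.δ χ = -1 then (mult P (1 : Lin P) χ : ℤ) else 0) := by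
    apply Finset.sum_nonneg
    intro χ _
    split_ifs
    · exact Int.natCast_nonneg _
    · exact le_refl _
  have hrelY : ∀ ψ ∈ D.Y, D.ε * (mult P (1 : Lin P) ψ : ℤ) =
      - ∑ χ ∈ XF D, (if D.δ χ = -1 then (mult P (1 : Lin P) χ : ℤ) else 0) := by
    intro ψ hψ
    have h1 := T.rel (1 : Lin P) ψ hψ
    rw [hXsplit] at h1
    linarith
  -- `Y` is non-empty
  have hYpos : 0 < Nat.card D.Y := by
    have h1 := D.card_Y
    rcases Nat.eq_zero_or_pos (Nat.card D.Y) with h | h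
    · rw [h, zero_mul] at h1
      omega
    · exact h
  obtain ⟨⟨ψ₀, hψ₀⟩⟩ : Nonempty D.Y := (Nat.card_pos_iff.mp hYpos).1
  -- the multiplicities on `Y` vanish, and so does the sum over `X₋`
  have hYzero : (∀ ψ ∈ D.Y, mult P (1 : Lin P) ψ = 0) ∧
      ∑ χ ∈ XF D, (if D.δ χ = -1 then (mult P (1 : Lin P) χ : ℤ) else 0) = 0 := by
    rcases D.ε_pm with hε | hε
    · have hs : ∑ χ ∈ XF D, (if D.δ χ = -1 then (mult P (1 : Lin P) χ : ℤ) else 0) = 0 := by
        have h1 := hrelY ψ₀ hψ₀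
        rw [hε, one_mul] at h1
        have : (0 : ℤ) ≤ (mult P (1 : Lin P) ψ₀ : ℤ) := Int.natCast_nonneg _
        linarith
      refine ⟨?_, hs⟩
      intro ψ hψ
      have h1 := hrelY ψ hψ
      rw [hε, one_mul, hs, neg_zero] at h1
      exact_mod_cast h1
    · -- all `a ψ` are equal to `b`
      have hb : ∀ ψ ∈ D.Y, mult P (1 : Lin P) ψ = mult P (1 : Lin P) ψ₀ := by
        intro ψ hψ
        have h1 := hrelY ψ hψ
        have h2 := hrelY ψ₀ hψ₀
        rw [hε] at h1 h2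
        have : (mult P (1 : Lin P) ψ : ℤ) = (mult P (1 : Lin P) ψ₀ : ℤ) := by linarith
        exact_mod_cast this
      have hYsum : ∑ ψ ∈ YF D, irrDeg ψ = 1 + n * p := by
        have hconst : ∀ ψ ∈ YF D, irrDeg ψ = irrDeg ψ₀ := by
          intro ψ hψ
          rw [mem_YF] at hψ
          have h1 := hYn hε ψ hψ
          have h2 := hYn hε ψ₀ hψ₀
          exact Nat.eq_of_mul_eq_mul_left hYpos (h1.trans h2.symm)
        rw [Finset.sum_congr rfl hconst, Finset.sum_const, card_YF, smul_eq_mul]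
        exact hYn hε ψ₀ hψ₀
      have htYF : trivIrr G ∉ YF D := by
        rw [mem_YF]
        exact htY
      have hle : ∑ i ∈ insert (trivIrr G) (YF D), mult P (1 : Lin P) i * irrDeg i ≤
          ∑ i, mult P (1 : Lin P) i * irrDeg i :=
        Finset.sum_le_sum_of_subset (Finset.subset_univ _)
      rw [Finset.sum_insert htYF, htriv, hdtriv, hdeg] at hle
      have hY2 : ∑ i ∈ YF D, mult P (1 : Lin P) i * irrDeg i =
          mult P (1 : Lin P) ψ₀ * (1 + n * p) := by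
        rw [← hYsum, Finset.mul_sum]
        refine Finset.sum_congr rfl fun ψ hψ => ?_
        rw [hb ψ ((mem_YF D ψ).mp hψ)]
      rw [hY2] at hle
      have hb0 : mult P (1 : Lin P) ψ₀ = 0 := by
        by_contra h0
        have h1 : 1 ≤ mult P (1 : Lin P) ψ₀ := Nat.one_le_iff_ne_zero.mpr h0
        have h2 : 1 * (1 + n * p) ≤ mult P (1 : Lin P) ψ₀ * (1 + n * p) :=
          Nat.mul_le_mul_right _ h1
        omega
      refine ⟨fun ψ hψ => (hb ψ hψ).trans hb0, ?_⟩
      have h1 := hrelY ψ₀ hψ₀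
      rw [hb0] at h1
      simp only [Nat.cast_zero, mul_zero] at h1
      linarith
  obtain ⟨hY0, hs⟩ := hYzero
  have hXminus : ∀ χ ∈ D.X, D.δ χ = -1 → mult P (1 : Lin P) χ = 0 := by
    intro χ hχ hδ
    have h1 := (Finset.sum_eq_zero_iff_of_nonneg (fun χ _ => by
      split_ifs
      · exact Int.natCast_nonneg _
      · exact le_refl _)).mp hs χ ((mem_XF D χ).mpr hχ)
    rw [if_pos hδ] at h1
    exact_mod_cast h1
  -- part 1
  have part1 : ∀ χ : IrrCharacter G, (χ ∈ D.X ∧ χ ≠ trivIrr G) ∨ χ ∈ D.Y →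
      mult P (1 : Lin P) χ = 0 := by
    intro χ hχ
    rcases hχ with ⟨hX, hne⟩ | hY
    · rcases D.δ_pm χ hX with h | h
      · exact hXplus χ hX h hne
      · exact hXminus χ hX h
    · exact hY0 χ hY
  -- part 3
  have hother0 : ∀ φ : Lin P, φ ≠ 1 → ∀ χ : IrrCharacter G, χ ∉ D.X → χ ∉ D.Y →
      mult P φ χ = 0 := by
    intro φ hφ χ hX hY
    rcases hform φ hφ with ⟨χ₀, hχ₀, -, -, -, h0⟩ | ⟨-, -, h0⟩
    · apply h0
      intro h
      rw [h] at hX
      exact hX hχ₀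
    · exact h0 χ hY
  have part3 : ∀ χ : IrrCharacter G, χ ∉ D.X → χ ∉ D.Y →
      irrDeg χ = p * mult P (1 : Lin P) χ := by
    intro χ hX hY
    have h1 := T.sumO χ hX hY
    rw [Finset.sum_eq_single (1 : Lin P) (fun φ _ hφ => hother0 φ hφ χ hX hY)
      (fun h => absurd (Finset.mem_univ _) h)] at h1
    exact h1.symm
  refine ⟨part1, ?_, part3⟩
  -- part 2
  have hterm : ∀ χ : IrrCharacter G, mult P (1 : Lin P) χ * irrDeg χ +
      (if χ = trivIrr G then p - 1 else 0) = p * mult P (1 : Lin P) χ ^ 2 := by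
    intro χ
    by_cases ht : χ = trivIrr G
    · rw [if_pos ht, ht, htriv, hdtriv]
      omega
    · rw [if_neg ht, add_zero]
      by_cases hX : χ ∈ D.X
      · rw [part1 χ (Or.inl ⟨hX, ht⟩)]
        ring
      · by_cases hY : χ ∈ D.Y
        · rw [part1 χ (Or.inr hY)]
          ring
        · rw [part3 χ hX hY]
          ring
  have hsum : ∑ χ : IrrCharacter G, (mult P (1 : Lin P) χ * irrDeg χ +
      (if χ = trivIrr G then p - 1 else 0)) = p * ∑ χ : IrrCharacter G, mult P (1 : Lin P) χ ^ 2 := by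
    rw [Finset.mul_sum]
    exact Finset.sum_congr rfl fun χ _ => hterm χ
  rw [Finset.sum_add_distrib, hdeg, Finset.sum_ite_eq' Finset.univ (trivIrr G),
    if_pos (Finset.mem_univ _)] at hsum
  have h3 : p * (n + 1) = p * ∑ χ : IrrCharacter G, mult P (1 : Lin P) χ ^ 2 := by
    rw [← hsum]
    have : 1 ≤ p := by omega
    zify [this]
    ring
  exact (Nat.eq_of_mul_eq_mul_left (by omega) h3).symm

end L4

end Cfsg.Agent.S4700P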