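import Mathlib
import Cfsg.Prelude.Def_RootSubgroups
import Cfsg.Agent.Helper25.RootInvA

set_option autoImplicit false

/-!
# S5046 piece EASY

If `d, e ∈ D` commute with the same members of `D`, then every odd partner of `d` is an odd partner of `e`.
-/

namespace Cfsg.Agent.S5046P

open Cfsg.Agent.Helper25.RootInv

variable {G : Type*} [Group G] {D : Set G}

/-- An odd partner of `d` does not commute with `d`. -/
theorem EASY_aux_not_comm (hD : Cfsg.IsRootInvolutionSet D) {d y : G} (hd : d ∈ D) (hy : y ∈ D)
    (hne : y ≠ d) (hodd : Odd (orderOf (d * y))) : y * d ≠ d * y := by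
  intro hc
  apply hne
  have h2 : (d * y) ^ (2 ^ 1) = 1 := by
    rw [pow_one, pow_two]
    calc d * y * (d * y) = d * (y * d) * y := by simp only [mul_assoc]
      _ = d * (d * y) * y := by rw [hc]
      _ = (d * d) * (y * y) := by simp only [mul_assoc]
      _ = 1 := by rw [sq_one hD hd, sq_one hD hy, one_mul]
  have h1 : d * y = 1 := eq_one_of_odd_of_pow hodd h2
  have : y = d⁻¹ := eq_inv_of_mul_eq_one_right h1
  rw [this, inv_eq hD hd]

/-- EASY: same commuting members ⇒ odd partners of d are odd partners of e. -/
theorem EASY (hD : Cfsg.IsRootInvolutionSet D) {d e : G} (hd : d ∈ D) (he : e ∈ D)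
    (h : Cfsg.commutingMembers D d = Cfsg.commutingMembers D e) :
    Cfsg.oddPartners D d ⊆ Cfsg.oddPartners D e := by
  rintro y ⟨hyD, hyd, hodd⟩
  have hdd := sq_one hD hd
  have hee := sq_one hD he
  have hyy := sq_one hD hyD
  have hyi : y⁻¹ = y := inv_eq hD hyD
  have hmem : ∀ w : G, w ∈ D → (w * d = d * w ↔ w * e = e * w) := by
    intro w hw
    have h1 : w ∈ Cfsg.commutingMembers D d ↔ w ∈ Cfsg.commutingMembers D e := by rw [h]
    constructor
    · intro hc
      exact (h1.1 ⟨hw, hc⟩).2
    · intro hc
      exact (h1.2 ⟨hw, hc⟩).2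
  -- y does not commute with d, hence not with e
  have hnd : y * d ≠ d * y := EASY_aux_not_comm hD hd hyD hyd hodd
  have hne : y * e ≠ e * y := fun hc => hnd ((hmem y hyD).2 hc)
  have hye : y ≠ e := by
    intro heq
    apply hne
    rw [heq]
  rcases hD.pair e he y hyD with hc | ho | ⟨h4, hu⟩
  · exact absurd hc.symm hne
  · exact ⟨hyD, hye, ho⟩
  · exfalso
    -- u = (e y)^2 is an involution
    have hu2 : (e * y) ^ 2 * (e * y) ^ 2 = 1 := by
      rw [← pow_add]
      have := pow_orderOf_eq_one (e * y)
      rwa [h4] at this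
    -- w = y e y commutes with e
    set w := y * e * y with hw
    have hwD : w ∈ D := by
      have := hD.conj_mem e he y
      rwa [hyi] at this
    have hew : e * w = (e * y) ^ 2 := by
      rw [hw, pow_two]; simp only [mul_assoc]
    have hwe : w * e = ((e * y) ^ 2)⁻¹ := by
      rw [hw, pow_two, mul_inv_rev, mul_inv_rev, hyi, inv_eq hD he]
      simp only [mul_assoc]
    have hwcomm : w * e = e * w := by
      rw [hwe, hew]
      exact inv_eq_of_mul_eq_one_left hu2
    have hwd : w * d = d * w := (hmem w hwD).2 hwcomm
    -- v = y d y commutes with e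
    set v := y * d * y with hv
    have hvD : v ∈ D := by
      have := hD.conj_mem d hd y
      rwa [hyi] at this
    have hywy : y * w * y = e := by
      rw [hw]
      calc y * (y * e * y) * y = (y * y) * e * (y * y) := by simp only [mul_assoc]
        _ = e := by rw [hyy, one_mul, mul_one]
    have hve : v * e = e * v := by
      have h1 : v * e = y * (d * w) * y := by
        rw [hv, ← hywy]
        calc y * d * y * (y * w * y) = y * d * (y * y) * w * y := by simp only [mul_assoc]
          _ = y * (d * w) * y := by rw [hyy, mul_one]; simp only [mul_assoc]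
      have h2 : e * v = y * (w * d) * y := by
        rw [hv, ← hywy]
        calc y * w * y * (y * d * y) = y * w * (y * y) * d * y := by simp only [mul_assoc]
          _ = y * (w * d) * y := by rw [hyy, mul_one]; simp only [mul_assoc]
      rw [h1, h2, hwd]
    have hvd : v * d = d * v := (hmem v hvD).2 hve
    -- (d y)^4 = 1
    have h4' : (d * y) ^ (2 ^ 2) = 1 := by
      have e1 : (d * y) ^ (2 ^ 2) = (d * v) * (d * v) := by
        rw [hv]
        have : (2 : ℕ) ^ 2 = 2 + 2 := by norm_num
        rw [this, pow_add, pow_two]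
        simp only [mul_assoc]
      rw [e1]
      calc d * v * (d * v) = d * (v * d) * v := by simp only [mul_assoc]
        _ = d * (d * v) * v := by rw [hvd]
        _ = (d * d) * (v * v) := by simp only [mul_assoc]
        _ = 1 := by rw [hdd, sq_one hD hvD, one_mul]
    have h1 : d * y = 1 := eq_one_of_odd_of_pow hodd h4'
    apply hyd
    have : y = d⁻¹ := eq_inv_of_mul_eq_one_right h1
    rw [this, inv_eq hD hd]

end Cfsg.Agent.S5046P
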