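import Mathlib
import Cfsg.Prelude.Def_GeometricClasses
import Cfsg.Prelude.Def_ClassicalGeometry
import Cfsg.Agent.Helper27.S5975Defs
import Cfsg.Agent.Helper21.S5975FRAME
import Cfsg.Agent.Helper24.S5975CONJKER
import Cfsg.Agent.Helper24.S5975KDIM
import Cfsg.Agent.Helper24.S5975TAU
import Cfsg.Agent.Helper24.S5975NTVAL
import Cfsg.Agent.Helper25.S5975FFORM
import Cfsg.Agent.Helper25.S5975FEQUIV
import Cfsg.Agent.Helper28.S5975ELTODDX
import Cfsg.Agent.Helper8.S5975SEMIDIM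
import Cfsg.Agent.Helper8.S5975LINKER
import Cfsg.Agent.Helper8.S5975LINDIM
import Cfsg.Agent.Helper21.S5975SEMIORD
import Cfsg.Agent.Helper22.S5975MODELM
import Cfsg.Agent.Helper22.S5975MODELP
import Cfsg.Agent.Helper22.S5975EMBED
import Cfsg.Agent.Helper28.S5976SPCONJ1
import Cfsg.Agent.Helper13.S5976SPCONJM1
import Cfsg.Agent.Helper29.S5976CARDSP
import Cfsg.Agent.Helper24.S5976ELT4
import Cfsg.Agent.Helper24.S5976NTCASES
import Cfsg.Agent.Helper15.S5976INV1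
import Cfsg.Agent.Helper20.S5976TRANSV
import Cfsg.Agent.Helper24.S5976ZPM
import Cfsg.Agent.Helper8.S5976EVEN

set_option autoImplicit false
open scoped MatrixGroups

/-! S5975: assembly of the pieces (helper27). -/

namespace Cfsg.Agent.S5975P.ASM

open Cfsg.Agent.S5975P

local notation "MM" d:max F:max => Matrix (Fin d ⊕ Fin d) (Fin d ⊕ Fin d) F

/-- `2k ∣ 2d` -/
theorem two_mul_dvd {F : Type*} [Field F] (d k : ℕ) (hk : 0 < k)
    (K : Subalgebra F (Matrix (Fin d ⊕ Fin d) (Fin d ⊕ Fin d) F)) (hK : HypK d k F K) :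
    ∃ m : ℕ, d = k * m := by
  obtain ⟨τ, hτ⟩ := exists_functional d k hk K hK.field
  obtain ⟨m, u, v, -, hfin⟩ := exists_frame d k hk K hK τ hτ ⊤
    (fun _ _ _ _ => Submodule.mem_top) (nDeg_top d F)
  refine ⟨m, ?_⟩
  rw [finrank_top, Module.finrank_fintype_fun_eq_card, Fintype.card_sum, Fintype.card_fin] at hfin
  have : 2 * d = 2 * (k * m) := by rw [← mul_assoc]; omega
  omega

/-- a matrix whose fixed space is proper and non-zero is not scalar -/
theorem nonscalar_of_finrank {F : Type*} [Field F] (d : ℕ)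
    (x : Matrix (Fin d ⊕ Fin d) (Fin d ⊕ Fin d) F) (n : ℕ)
    (hn : Module.finrank F (LinearMap.ker (Matrix.toLin' (x - 1))) = n) (h0 : 0 < n)
    (h1 : n < 2 * d) (z : F) :
    x ≠ z • (1 : Matrix (Fin d ⊕ Fin d) (Fin d ⊕ Fin d) F) := by
  intro h
  by_cases hz : z = 1
  · rw [h, hz, one_smul, sub_self, map_zero, LinearMap.ker_zero, finrank_top,
      Module.finrank_fintype_fun_eq_card, Fintype.card_sum, Fintype.card_fin] at hn
    omega
  · have hker : LinearMap.ker (Matrix.toLin' (x - 1)) = ⊥ := by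
      rw [LinearMap.ker_eq_bot']
      intro w hw
      rw [h, Matrix.toLin'_apply, Matrix.sub_mulVec, Matrix.smul_mulVec, Matrix.one_mulVec] at hw
      have hw' : (z - 1) • w = 0 := by rw [sub_smul, one_smul]; exact hw
      rcases smul_eq_zero.mp hw' with h' | h'
      · exact absurd (sub_eq_zero.mp h') hz
      · exact h'
    rw [hker, finrank_bot] at hn
    omega

/-- powers of conjugates -/
theorem conj_pow_eq_one {F : Type*} [Field F] (d : ℕ) (x g : GL (Fin d ⊕ Fin d) F) (r : ℕ)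
    (hx : ((x ^ r : GL (Fin d ⊕ Fin d) F) : Matrix (Fin d ⊕ Fin d) (Fin d ⊕ Fin d) F) = 1) :
    (((g⁻¹ * x * g) ^ r : GL (Fin d ⊕ Fin d) F) :
      Matrix (Fin d ⊕ Fin d) (Fin d ⊕ Fin d) F) = 1 := by
  have h1 : x ^ r = 1 := Units.ext hx
  have h2 : (g⁻¹ * x * g) ^ r = g⁻¹ * x ^ r * g := by
    have := conj_pow (a := g⁻¹) (b := x) (i := r)
    rwa [inv_inv] at this
  rw [h2, h1, mul_one, inv_mul_cancel, Units.val_one]

/-- `(r : F) ≠ 0` when `r ≠ p` -/
theorem natCast_ne_zero_of_ne {F : Type*} [Field F] {p : ℕ} [Fact p.Prime] [CharP F p] (r : ℕ)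
    (hr : r.Prime) (hrp : r ≠ p) : (r : F) ≠ 0 := by
  intro h
  rw [CharP.cast_eq_zero_iff F p r] at h
  exact hrp ((Nat.prime_dvd_prime_iff_eq Fact.out hr).mp h).symm

/-- the order relation: `card (Sp ⊓ N) * relIndex = card Sp` -/
theorem card_inf_mul_relIndex {G : Type*} [Group G] (N S : Subgroup G) :
    Nat.card ↥(S ⊓ N) * N.relIndex S = Nat.card ↥S := by
  have h := Subgroup.relIndex_mul_relIndex (⊥ : Subgroup G) (S ⊓ N) S bot_le inf_le_left
  rw [Subgroup.relIndex_bot_left, Subgroup.relIndex_bot_left, inf_comm,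
    Subgroup.inf_relIndex_right] at h
  rw [inf_comm]; exact h

/-- INDEX -/
theorem not_dvd_relIndex {F : Type*} [Field F] [Fintype F] (d k : ℕ) (hd : 1 ≤ d) (hk : 0 < k)
    (K : Subalgebra F (Matrix (Fin d ⊕ Fin d) (Fin d ⊕ Fin d) F)) (hK : HypK d k F K)
    (r : ℕ) [Fact r.Prime] (hr2 : r ≠ 2) (hrq : ¬ r ∣ Fintype.card F) (j : ℕ) (hj : 1 ≤ j)
    (hkj : k ∣ j)
    (hi : orderOf ((Fintype.card F : ℕ) : ZMod r) = 2 * j ∨
      (Odd (orderOf ((Fintype.card F : ℕ) : ZMod r)) ∧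
        orderOf ((Fintype.card F : ℕ) : ZMod r) = j)) :
    ¬ r ∣ (Cfsg.Geo.subalgebraNormalizer K).relIndex (Cfsg.spGL d F) := by
  intro hdvd
  have hr : r.Prime := Fact.out
  obtain ⟨τ, hτ⟩ := exists_functional d k hk K hK.field
  obtain ⟨m, u, v, hfr, hfin⟩ := exists_frame d k hk K hK τ hτ ⊤
    (fun _ _ _ _ => Submodule.mem_top) (nDeg_top d F)
  rw [finrank_top, Module.finrank_fintype_fun_eq_card, Fintype.card_sum, Fintype.card_fin] at hfin
  have hdkm : d = k * m := by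
    have : 2 * d = 2 * (k * m) := by rw [← mul_assoc]; omega
    omega
  have hA := card_dvd_of_frame d k hd hk K hK τ hτ m u v hfr
  have hB := Cfsg.Agent.S5976P.card_spGL (F := F) d
  have hrel := card_inf_mul_relIndex (Cfsg.Geo.subalgebraNormalizer K) (Cfsg.spGL d F)
  have hq2 : 2 ≤ Fintype.card F := Fintype.one_lt_card
  have hval := val_eq_of_dvd (Fintype.card F) r hr2 hq2 hrq j k m hj hk hkj hi
  rw [← hdkm, ← hB] at hval
  obtain ⟨c, hc⟩ := hA
  obtain ⟨e, he⟩ := hdvd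
  have hne : Nat.card ↥(Cfsg.spGL d F) ≠ 0 := Nat.card_pos.ne'
  rw [← hrel, hc, he] at hval hne
  set A := (Fintype.card F ^ k) ^ (m ^ 2) *
    ∏ t ∈ Finset.range m, ((Fintype.card F ^ k) ^ (2 * (t + 1)) - 1) with hAdef
  have hA0 : A ≠ 0 := by
    intro h; rw [h] at hne; simp at hne
  have hc0 : c ≠ 0 := by
    intro h; rw [h] at hne; simp at hne
  have he0 : e ≠ 0 := by
    intro h; rw [h] at hne; simp at hne
  have h1 : A * c * (r * e) = A * (r * (c * e)) := by ring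
  rw [h1, padicValNat.mul hA0 (mul_ne_zero hr.ne_zero (mul_ne_zero hc0 he0)),
    padicValNat.mul hr.ne_zero (mul_ne_zero hc0 he0), padicValNat_self] at hval
  omega


/-- the conjugate `y = g⁻¹ x g` in the normalizer, with its properties -/
theorem conj_data {F : Type*} [Field F] (d : ℕ)
    (K : Subalgebra F (Matrix (Fin d ⊕ Fin d) (Fin d ⊕ Fin d) F)) (r : ℕ)
    (H : ∀ x ∈ Cfsg.spGL d F, (∃ z : F, ((x ^ r : GL (Fin d ⊕ Fin d) F) :
        Matrix (Fin d ⊕ Fin d) (Fin d ⊕ Fin d) F) =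
        z • (1 : Matrix (Fin d ⊕ Fin d) (Fin d ⊕ Fin d) F)) →
      (∀ z : F, (x : Matrix (Fin d ⊕ Fin d) (Fin d ⊕ Fin d) F) ≠
        z • (1 : Matrix (Fin d ⊕ Fin d) (Fin d ⊕ Fin d) F)) →
      ∃ g ∈ Cfsg.spGL d F, g⁻¹ * x * g ∈ Cfsg.Geo.subalgebraNormalizer K)
    (x : GL (Fin d ⊕ Fin d) F) (hx : x ∈ Cfsg.spGL d F)
    (hxr : ((x ^ r : GL (Fin d ⊕ Fin d) F) : Matrix (Fin d ⊕ Fin d) (Fin d ⊕ Fin d) F) = 1)
    (n : ℕ) (hn : Module.finrank F (LinearMap.ker (Matrix.toLin'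
      ((x : Matrix (Fin d ⊕ Fin d) (Fin d ⊕ Fin d) F) - 1))) = n) (h0 : 0 < n) (h1 : n < 2 * d) :
    ∃ y : GL (Fin d ⊕ Fin d) F, y ∈ Cfsg.spGL d F ∧ y ∈ Cfsg.Geo.subalgebraNormalizer K ∧
      ((y ^ r : GL (Fin d ⊕ Fin d) F) : Matrix (Fin d ⊕ Fin d) (Fin d ⊕ Fin d) F) = 1 ∧
      Module.finrank F (LinearMap.ker (Matrix.toLin'
        ((y : Matrix (Fin d ⊕ Fin d) (Fin d ⊕ Fin d) F) - 1))) = n := by
  obtain ⟨g, hg, hy⟩ := H x hx ⟨1, by rw [hxr, one_smul]⟩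
    (nonscalar_of_finrank d _ n hn h0 h1)
  refine ⟨g⁻¹ * x * g, ?_, hy, conj_pow_eq_one d x g r hxr, ?_⟩
  · exact mul_mem (mul_mem (inv_mem hg) hx) hg
  · rw [finrank_ker_conj d x g, hn]

/-- the two cases for an element of the normalizer -/
theorem commute_or_not {F : Type*} [Field F] (d : ℕ)
    (K : Subalgebra F (Matrix (Fin d ⊕ Fin d) (Fin d ⊕ Fin d) F))
    (y : GL (Fin d ⊕ Fin d) F) :
    (∀ a ∈ K, (y : Matrix (Fin d ⊕ Fin d) (Fin d ⊕ Fin d) F) * a =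
      a * (y : Matrix (Fin d ⊕ Fin d) (Fin d ⊕ Fin d) F)) ∨
    ∃ a ∈ K, (y : Matrix (Fin d ⊕ Fin d) (Fin d ⊕ Fin d) F) * a ≠
      a * (y : Matrix (Fin d ⊕ Fin d) (Fin d ⊕ Fin d) F) := by
  by_cases h : ∀ a ∈ K, (y : Matrix (Fin d ⊕ Fin d) (Fin d ⊕ Fin d) F) * a =
      a * (y : Matrix (Fin d ⊕ Fin d) (Fin d ⊕ Fin d) F)
  · exact Or.inl h
  · right
    push Not at h
    exact h

/-- number theory for the semilinear case: `2 j ≤ r - 1` -/
theorem two_mul_le_of_ord (q r : ℕ) [Fact r.Prime] (hr2 : r ≠ 2) (hrq : ¬ r ∣ q) (j : ℕ)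
    (hi : orderOf ((q : ℕ) : ZMod r) = 2 * j ∨
      (Odd (orderOf ((q : ℕ) : ZMod r)) ∧ orderOf ((q : ℕ) : ZMod r) = j)) :
    2 * j ≤ r - 1 := by
  have hr : r.Prime := Fact.out
  have hq0 : ((q : ℕ) : ZMod r) ≠ 0 := by
    intro h
    exact hrq ((ZMod.natCast_eq_zero_iff q r).mp h)
  have hdvd : orderOf ((q : ℕ) : ZMod r) ∣ r - 1 := ZMod.orderOf_dvd_card_sub_one hq0
  have hr1 : 0 < r - 1 := by have := hr.two_le; omega
  rcases hi with hi | ⟨hodd, hi⟩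
  · rw [hi] at hdvd
    exact Nat.le_of_dvd hr1 hdvd
  · rw [hi] at hdvd hodd
    have heven : 2 ∣ r - 1 := by
      rcases hr.eq_two_or_odd with h | h
      · exact absurd h hr2
      · omega
    have hcop : Nat.Coprime 2 j := by
      rw [Nat.coprime_two_left]; exact hodd
    exact Nat.le_of_dvd hr1 (hcop.mul_dvd_of_dvd_of_dvd heven hdvd)

/-- the odd case: contradiction -/
theorem odd_core {F : Type*} [Field F] [Fintype F] {p : ℕ} [Fact p.Prime] [CharP F p]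
    (d : ℕ) (hd : 2 ≤ d) (k : ℕ) (hk : k.Prime)
    (K : Subalgebra F (Matrix (Fin d ⊕ Fin d) (Fin d ⊕ Fin d) F)) (hK : HypK d k F K)
    (r : ℕ) [Fact r.Prime] (hr2 : r ≠ 2) (hrp : r ≠ p)
    (hΩ : r ∣ (Cfsg.Geo.subalgebraNormalizer K).relIndex (Cfsg.spGL d F))
    (H : ∀ x ∈ Cfsg.spGL d F, (∃ z : F, ((x ^ r : GL (Fin d ⊕ Fin d) F) :
        Matrix (Fin d ⊕ Fin d) (Fin d ⊕ Fin d) F) =
        z • (1 : Matrix (Fin d ⊕ Fin d) (Fin d ⊕ Fin d) F)) →
      (∀ z : F, (x : Matrix (Fin d ⊕ Fin d) (Fin d ⊕ Fin d) F) ≠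
        z • (1 : Matrix (Fin d ⊕ Fin d) (Fin d ⊕ Fin d) F)) →
      ∃ g ∈ Cfsg.spGL d F, g⁻¹ * x * g ∈ Cfsg.Geo.subalgebraNormalizer K)
    (hrq : ¬ r ∣ Fintype.card F) (j : ℕ) (hj : 1 ≤ j) (hjd : j ≤ d)
    (hi : orderOf ((Fintype.card F : ℕ) : ZMod r) = 2 * j ∨
      (Odd (orderOf ((Fintype.card F : ℕ) : ZMod r)) ∧
        orderOf ((Fintype.card F : ℕ) : ZMod r) = j))
    (x : GL (Fin d ⊕ Fin d) F) (hx : x ∈ Cfsg.spGL d F)
    (hxr : ((x ^ r : GL (Fin d ⊕ Fin d) F) : Matrix (Fin d ⊕ Fin d) (Fin d ⊕ Fin d) F) = 1)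
    (hdim : Module.finrank F (LinearMap.ker (Matrix.toLin'
      ((x : Matrix (Fin d ⊕ Fin d) (Fin d ⊕ Fin d) F) - 1))) + 2 * j = 2 * d)
    (hns : ∀ z : F, (x : Matrix (Fin d ⊕ Fin d) (Fin d ⊕ Fin d) F) ≠
        z • (1 : Matrix (Fin d ⊕ Fin d) (Fin d ⊕ Fin d) F)) : False := by
  have hr : r.Prime := Fact.out
  obtain ⟨g, hg, hyN⟩ := H x hx ⟨1, by rw [hxr, one_smul]⟩ hns
  set y := g⁻¹ * x * g with hydef
  have hySp : y ∈ Cfsg.spGL d F := mul_mem (mul_mem (inv_mem hg) hx) hg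
  have hyr := conj_pow_eq_one d x g r hxr
  have hydim : Module.finrank F (LinearMap.ker (Matrix.toLin'
      ((y : Matrix (Fin d ⊕ Fin d) (Fin d ⊕ Fin d) F) - 1))) + 2 * j = 2 * d := by
    rw [hydef, finrank_ker_conj d x g]; exact hdim
  rcases commute_or_not d K y with hc | ⟨a, ha, hne⟩
  · have h1 := two_mul_dvd_of_commute d k hk.pos K hK r (natCast_ne_zero_of_ne r hr hrp) y hySp
      hyr hc
    have h2 : 2 * d - Module.finrank F (LinearMap.ker (Matrix.toLin'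
      ((y : Matrix (Fin d ⊕ Fin d) (Fin d ⊕ Fin d) F) - 1))) = 2 * j := by omega
    rw [h2] at h1
    have hkj : k ∣ j := (Nat.mul_dvd_mul_iff_left (by norm_num)).mp h1
    exact not_dvd_relIndex d k (by omega) hk.pos K hK r hr2 hrq j hj hkj hi hΩ
  · have hrk : r = k := eq_of_not_commute d k hk K hK.field r hr y hyN 1
      (by rw [hyr, one_smul]) a ha hne
    have hle := finrank_ker_le_of_not_commute d k K hK.field y hyN a ha hne
    obtain ⟨m, hm⟩ := two_mul_dvd d k hk.pos K hK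
    have hkd : k ≤ d := by
      rcases Nat.eq_zero_or_pos m with h | h
      · rw [h, mul_zero] at hm; omega
      · rw [hm]; exact Nat.le_mul_of_pos_right k h
    have h2j := two_mul_le_of_ord (Fintype.card F) r hr2 hrq j hi
    have hr1 := hr.two_le
    omega


/-- direction ⇒ -/
theorem forward {F : Type*} [Field F] [Fintype F] {p : ℕ} [Fact p.Prime] [CharP F p]
    (d : ℕ) (hd : 2 ≤ d) (k : ℕ) (hk : k.Prime)
    (K : Subalgebra F (Matrix (Fin d ⊕ Fin d) (Fin d ⊕ Fin d) F)) (hK : HypK d k F K)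
    (r : ℕ) [Fact r.Prime]
    (hΩ : r ∣ (Cfsg.Geo.subalgebraNormalizer K).relIndex (Cfsg.spGL d F))
    (H : ∀ x ∈ Cfsg.spGL d F, (∃ z : F, ((x ^ r : GL (Fin d ⊕ Fin d) F) :
        Matrix (Fin d ⊕ Fin d) (Fin d ⊕ Fin d) F) =
        z • (1 : Matrix (Fin d ⊕ Fin d) (Fin d ⊕ Fin d) F)) →
      (∀ z : F, (x : Matrix (Fin d ⊕ Fin d) (Fin d ⊕ Fin d) F) ≠
        z • (1 : Matrix (Fin d ⊕ Fin d) (Fin d ⊕ Fin d) F)) →
      ∃ g ∈ Cfsg.spGL d F, g⁻¹ * x * g ∈ Cfsg.Geo.subalgebraNormalizer K) :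
    r = 2 ∧ d = 2 ∧ k = 2 ∧ Odd (Fintype.card F) := by
  have hr : r.Prime := Fact.out
  have hp : p.Prime := Fact.out
  obtain ⟨nn, -, hnn⟩ := FiniteField.card F p
  by_cases hrp : r = p
  · -- transvection
    exfalso
    obtain ⟨x, hx, hxp, hxdim⟩ := Cfsg.Agent.S5976P.exists_transvection (F := F) (p := p) d
      (by omega)
    rw [← hrp] at hxp
    obtain ⟨y, hySp, hyN, hyr, hydim⟩ := conj_data d K r H x hx hxp (2 * d - 1) hxdim
      (by omega) (by omega)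
    rcases commute_or_not d K y with hc | ⟨a, ha, hne⟩
    · have h1 := dvd_finrank_ker_of_commute d k K hK.field y hc
      rw [hydim] at h1
      obtain ⟨m, hm⟩ := two_mul_dvd d k hk.pos K hK
      have h2 : k ∣ 2 * d := ⟨2 * m, by rw [hm]; ring⟩
      have h3 : k ∣ 1 := by
        have := (Nat.dvd_sub h2 h1)
        have e : 2 * d - (2 * d - 1) = 1 := by omega
        rwa [e] at this
      exact hk.one_lt.ne' (Nat.dvd_one.mp h3)
    · have hle := finrank_ker_le_of_not_commute d k K hK.field y hyN a ha hne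
      omega
  · by_cases hr2 : r = 2
    · -- involutions in odd characteristic
      have hp2 : p ≠ 2 := fun h => hrp (hr2.trans h.symm)
      have h2F : (2 : F) ≠ 0 := by
        have := natCast_ne_zero_of_ne (F := F) (p := p) 2 Nat.prime_two (fun h => hp2 h.symm)
        simpa using this
      obtain ⟨x, hx, -, hx2, hxdim⟩ := Cfsg.Agent.S5976P.exists_involution_model h2F d 0 0
        (d - 1) (by omega)
      have hxr : ((x ^ r : GL (Fin d ⊕ Fin d) F) :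
          Matrix (Fin d ⊕ Fin d) (Fin d ⊕ Fin d) F) = 1 := by
        rw [hr2, Units.val_pow_eq_pow_val, pow_two, hx2]
      obtain ⟨y, hySp, hyN, hyr, hydim⟩ := conj_data d K r H x hx hxr (2 * (d - 1)) hxdim
        (by omega) (by omega)
      have hoddq : Odd (Fintype.card F) := by
        rw [hnn]
        exact (hp.eq_two_or_odd'.resolve_left hp2).pow
      rcases commute_or_not d K y with hc | ⟨a, ha, hne⟩
      · exfalso
        have h1 := two_mul_dvd_of_commute d k hk.pos K hK r (natCast_ne_zero_of_ne r hr hrp) y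
          hySp hyr hc
        rw [hydim] at h1
        have e : 2 * d - 2 * (d - 1) = 2 := by omega
        rw [e] at h1
        have h3 : k ∣ 1 := (Nat.mul_dvd_mul_iff_left (by norm_num : 0 < 2)).mp (by simpa using h1)
        exact hk.one_lt.ne' (Nat.dvd_one.mp h3)
      · have hrk : r = k := eq_of_not_commute d k hk K hK.field r hr y hyN 1
          (by rw [hyr, one_smul]) a ha hne
        have hle := finrank_ker_le_of_not_commute d k K hK.field y hyN a ha hne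
        rw [hydim] at hle
        refine ⟨hr2, by omega, by omega, hoddq⟩
    · -- odd r different from p
      exfalso
      have hrq : ¬ r ∣ Fintype.card F := by
        rw [hnn]
        intro h
        exact hrp ((Nat.prime_dvd_prime_iff_eq hr hp).mp (hr.dvd_of_dvd_pow h))
      have hq2 : 2 ≤ Fintype.card F := Fintype.one_lt_card
      have hdvd : r ∣ Fintype.card F ^ (d ^ 2) *
          ∏ m ∈ Finset.range d, (Fintype.card F ^ (2 * (m + 1)) - 1) := by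
        rw [← Cfsg.Agent.S5976P.card_spGL]
        exact hΩ.trans (Subgroup.relIndex_dvd_card _ _)
      rcases Cfsg.Agent.S5976P.ord_cases_of_dvd (Fintype.card F) r hr2 hq2 hrq d hdvd with
        ⟨hodd, hid⟩ | ⟨j, hj1, hi, hjd⟩
      · obtain ⟨x, hx, hxr, hns, hxdim⟩ := exists_elt_odd_exact (F := F) (p := p) d r hr2 hrp hid
        exact odd_core d hd k hk K hK r hr2 hrp hΩ H hrq _ hodd.pos hid (Or.inr ⟨hodd, rfl⟩)
          x hx hxr hxdim hns
      · obtain ⟨x, hx, hxr, hns, hxdim⟩ := Cfsg.Agent.S5976P.exists_elt_min (F := F) (p := p) d r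
          hr2 hrp j hj1 hi hjd
        exact odd_core d hd k hk K hK r hr2 hrp hΩ H hrq j hj1 hjd (Or.inl hi) x hx hxr hxdim hns

/-- direction ⇐ -/
theorem backward {F : Type*} [Field F] [Fintype F] (h2 : (2 : F) ≠ 0)
    (K : Subalgebra F (Matrix (Fin 2 ⊕ Fin 2) (Fin 2 ⊕ Fin 2) F)) (hK : HypK 2 2 F K)
    (x : GL (Fin 2 ⊕ Fin 2) F) (hx : x ∈ Cfsg.spGL 2 F) (z : F)
    (hz : ((x ^ 2 : GL (Fin 2 ⊕ Fin 2) F) : Matrix (Fin 2 ⊕ Fin 2) (Fin 2 ⊕ Fin 2) F) =
      z • (1 : Matrix (Fin 2 ⊕ Fin 2) (Fin 2 ⊕ Fin 2) F))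
    (hns : ∀ z : F, (x : Matrix (Fin 2 ⊕ Fin 2) (Fin 2 ⊕ Fin 2) F) ≠
      z • (1 : Matrix (Fin 2 ⊕ Fin 2) (Fin 2 ⊕ Fin 2) F)) :
    ∃ g ∈ Cfsg.spGL 2 F, g⁻¹ * x * g ∈ Cfsg.Geo.subalgebraNormalizer K := by
  have hzz := Cfsg.Agent.S5976P.scalar_sq_eq_one 2 (by norm_num) 2 x hx z hz
  rw [Units.val_pow_eq_pow_val, pow_two] at hz
  have hcases : z = 1 ∨ z = -1 := by
    have : (z - 1) * (z + 1) = 0 := by linear_combination hzz
    rcases mul_eq_zero.mp this with h | h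
    · exact Or.inl (sub_eq_zero.mp h)
    · exact Or.inr (eq_neg_of_add_eq_zero_left h)
  rcases hcases with rfl | rfl
  · rw [one_smul] at hz
    obtain ⟨a, ha1, ha2, hdim⟩ := Cfsg.Agent.S5976P.exists_dim_of_sq_eq_one h2 2 x hx hz hns
    have ha : a = 1 := by omega
    rw [ha] at hdim
    obtain ⟨y, hySp, hyN, hy2, hydim⟩ := exists_inv_model h2 K hK
    obtain ⟨g, hg, hgy⟩ := Cfsg.Agent.S5976P.conj_of_sq_eq_one h2 2 x y hx hySp hz hy2
      (by rw [hdim, hydim])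
    exact ⟨g, hg, by rw [hgy]; exact hyN⟩
  · obtain ⟨y, hySp, hyN, hy2⟩ := exists_neg_model 2 2 (by norm_num) K hK
    obtain ⟨g, hg, hgy⟩ := Cfsg.Agent.S5976P.conj_of_sq_eq_neg_one h2 2 x y hx hySp hz hy2
    exact ⟨g, hg, by rw [hgy]; exact hyN⟩

end Cfsg.Agent.S5975P.ASM
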