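import Mathlib
import Cfsg.Prelude.Def_GeometricClasses
import Cfsg.Prelude.Def_ClassicalGeometry
import Cfsg.Agent.Helper27.S5975Defs
import Cfsg.Agent.Helper24.S5975TAU
import Cfsg.Agent.Helper21.S5975FRAME
import Cfsg.Agent.Helper25.S5975FFORM
import Cfsg.Agent.Helper25.S5975FEQUIV

set_option autoImplicit false
open scoped MatrixGroups

/-! S5975 piece MODELM: a `K`-linear symplectic `y` with `y² = -1`. -/

namespace Cfsg.Agent.S5975P

namespace MODELM

/-- a matrix commuting with `K` normalizes `K` -/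
theorem mem_normalizer_of_commute {F : Type*} [Field F] {ι : Type} [Fintype ι] [DecidableEq ι]
    (K : Subalgebra F (Matrix ι ι F)) (y : GL ι F)
    (h : ∀ c ∈ K, (y : Matrix ι ι F) * c = c * (y : Matrix ι ι F)) :
    y ∈ Cfsg.Geo.subalgebraNormalizer K := by
  have h1 : (y : Matrix ι ι F) * ((y⁻¹ : GL ι F) : Matrix ι ι F) = 1 := by
    rw [← Units.val_mul, mul_inv_cancel, Units.val_one]
  have h2 : ((y⁻¹ : GL ι F) : Matrix ι ι F) * (y : Matrix ι ι F) = 1 := by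
    rw [← Units.val_mul, inv_mul_cancel, Units.val_one]
  intro c
  show c ∈ K ↔ (y : Matrix ι ι F) * c * ((y⁻¹ : GL ι F) : Matrix ι ι F) ∈ K
  constructor
  · intro hc
    rw [h c hc, Matrix.mul_assoc, h1, Matrix.mul_one]
    exact hc
  · intro hc
    have e := h _ hc
    have : c = (y : Matrix ι ι F) * c * ((y⁻¹ : GL ι F) : Matrix ι ι F) := by
      calc c = ((y⁻¹ : GL ι F) : Matrix ι ι F) * ((y : Matrix ι ι F) *
            ((y : Matrix ι ι F) * c * ((y⁻¹ : GL ι F) : Matrix ι ι F))) := by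
              rw [e]
              simp only [Matrix.mul_assoc]
              rw [h2, Matrix.mul_one, ← Matrix.mul_assoc, h2, Matrix.one_mul]
        _ = (y : Matrix ι ι F) * c * ((y⁻¹ : GL ι F) : Matrix ι ι F) := by
              rw [← Matrix.mul_assoc, h2, Matrix.one_mul]
    rw [this]; exact hc

end MODELM

open MODELM in
/-- MODELM (uses TAU, FRAME, FEQUIV, FFORM) -/
theorem exists_neg_model_h27 {F : Type*} [Field F] (d k : ℕ) (hk : 0 < k)
    (K : Subalgebra F (Matrix (Fin d ⊕ Fin d) (Fin d ⊕ Fin d) F)) (hK : HypK d k F K) :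
    ∃ y : GL (Fin d ⊕ Fin d) F, y ∈ Cfsg.spGL d F ∧ y ∈ Cfsg.Geo.subalgebraNormalizer K ∧
      (y : Matrix (Fin d ⊕ Fin d) (Fin d ⊕ Fin d) F) *
        (y : Matrix (Fin d ⊕ Fin d) (Fin d ⊕ Fin d) F) =
          (-1 : F) • (1 : Matrix (Fin d ⊕ Fin d) (Fin d ⊕ Fin d) F) := by
  classical
  obtain ⟨τ, hτ⟩ := exists_functional d k hk K hK.field
  obtain ⟨m, u, v, hfr, -⟩ := exists_frame d k hk K hK τ hτ ⊤
    (fun _ _ _ _ => Submodule.mem_top) (nDeg_top d F)
  obtain ⟨Φ, hΦ⟩ := exists_frame_equiv d k hk K hK τ hτ m u v hfr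
  -- the map in coordinates: (a, b) ↦ (-b, a)
  let S : ((Fin m → K) × (Fin m → K)) →ₗ[F] ((Fin m → K) × (Fin m → K)) :=
    LinearMap.prod (-(LinearMap.snd F (Fin m → K) (Fin m → K)))
      (LinearMap.fst F (Fin m → K) (Fin m → K))
  have hS : ∀ a b, S (a, b) = (-b, a) := fun a b => rfl
  let Y : (Fin d ⊕ Fin d → F) →ₗ[F] (Fin d ⊕ Fin d → F) :=
    Φ.toLinearMap ∘ₗ S ∘ₗ Φ.symm.toLinearMap
  have hY : ∀ a b, Y (Φ (a, b)) = Φ (-b, a) := by
    intro a b
    show Φ (S (Φ.symm (Φ (a, b)))) = _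
    rw [LinearEquiv.symm_apply_apply, hS]
  have hYY : Y ∘ₗ Y = -LinearMap.id := by
    apply LinearMap.ext
    intro w
    obtain ⟨⟨a, b⟩, rfl⟩ := Φ.surjective w
    rw [LinearMap.comp_apply, hY, hY, LinearMap.neg_apply, LinearMap.id_apply, ← map_neg]
    rfl
  obtain ⟨ym, hymdef⟩ : ∃ ym : Matrix (Fin d ⊕ Fin d) (Fin d ⊕ Fin d) F,
      ym = LinearMap.toMatrix' Y := ⟨_, rfl⟩
  have hym2 : ym * ym = -1 := by
    rw [hymdef, ← LinearMap.toMatrix'_comp, hYY, map_neg, LinearMap.toMatrix'_id]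
  have hyv : ∀ w, ym.mulVec w = Y w := fun w => by
    rw [hymdef, ← Matrix.toLin'_apply, Matrix.toLin'_toMatrix']
  obtain ⟨y, hy⟩ : ∃ y : GL (Fin d ⊕ Fin d) F,
      (y : Matrix (Fin d ⊕ Fin d) (Fin d ⊕ Fin d) F) = ym :=
    ⟨⟨ym, -ym, by rw [Matrix.mul_neg, hym2, neg_neg], by rw [Matrix.neg_mul, hym2, neg_neg]⟩, rfl⟩
  -- action of `K` in coordinates
  have hKΦ : ∀ (c : K) (a b : Fin m → K),
      c.1.mulVec (Φ (a, b)) = Φ (fun s => c * a s, fun s => c * b s) := by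
    intro c a b
    rw [hΦ, hΦ, Matrix.mulVec_sum]
    apply Finset.sum_congr rfl
    intro s _
    rw [Matrix.mulVec_add, Matrix.mulVec_mulVec, Matrix.mulVec_mulVec]
    rfl
  refine ⟨y, ?_, ?_, ?_⟩
  · -- symplectic
    intro w w'
    show Cfsg.sympForm d F ((y : Matrix (Fin d ⊕ Fin d) (Fin d ⊕ Fin d) F).mulVec w)
      ((y : Matrix (Fin d ⊕ Fin d) (Fin d ⊕ Fin d) F).mulVec w') = Cfsg.sympForm d F w w'
    obtain ⟨⟨a, b⟩, rfl⟩ := Φ.surjective w
    obtain ⟨⟨a', b'⟩, rfl⟩ := Φ.surjective w'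
    rw [hy, hyv, hyv, hY, hY, hΦ, hΦ, hΦ, hΦ, frame_form d K τ ⊤ m u v hfr,
      frame_form d K τ ⊤ m u v hfr]
    apply Finset.sum_congr rfl
    intro s _
    have hc : ∀ x z : K, x * z = z * x := fun x z =>
      Subtype.ext (hK.field.comm x.1 x.2 z.1 z.2)
    have e1 : (-b) s * a' s = -(a' s * b s) := by
      have := neg_mul (b s) (a' s)
      rw [hc (b s) (a' s)] at this
      exact this
    have e2 : (-b') s * a s = -(a s * b' s) := by
      have := neg_mul (b' s) (a s)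
      rw [hc (b' s) (a s)] at this
      exact this
    rw [e1, e2, map_neg, map_neg]
    ring
  · -- commutes with `K`
    apply mem_normalizer_of_commute K y
    intro c hc
    rw [hy]
    apply Matrix.toLin'.injective
    apply LinearMap.ext
    intro w
    obtain ⟨⟨a, b⟩, rfl⟩ := Φ.surjective w
    rw [Matrix.toLin'_apply, Matrix.toLin'_apply, ← Matrix.mulVec_mulVec, ← Matrix.mulVec_mulVec,
      hyv, hyv, hY]
    have e1 := hKΦ ⟨c, hc⟩ a b
    have e2 := hKΦ ⟨c, hc⟩ (-b) a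
    simp only at e1 e2
    rw [e1, hY, e2]
    congr 2
    funext s
    exact (mul_neg (⟨c, hc⟩ : K) (b s)).symm
  · rw [hy, hym2]
    simp
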