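import Mathlib
import Cfsg.Prelude.Def_GeometricClasses
import Cfsg.Prelude.Def_Classical
import Cfsg.Agent.Helper27.S5989Defs
import Cfsg.Agent.Helper3.S5989ARITHNEC
import Cfsg.Agent.Helper3.S5989ARITHSUFF
import Cfsg.Agent.Helper7.S5989MODELEVEN
import Cfsg.Agent.Helper25.S5989NECODD
import Cfsg.Agent.Helper25.S5989BLOCKNUM
import Cfsg.Agent.Helper25.S5989COUNTODD
import Cfsg.Agent.Helper19.S5989SUFFODD
import Cfsg.Agent.Helper3.S5989R2NT
import Cfsg.Agent.Helper22.S5989NEGIFF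
import Cfsg.Agent.Helper18.S5989NEGODD
import Cfsg.Agent.Helper22.S5989INVOLODD
import Cfsg.Agent.Helper28.IsoTransport
import Cfsg.Agent.Helper28.NonMax

set_option autoImplicit false
open scoped MatrixGroups
universe u

/-! S5989 / S5991: generic assembly (helper27). -/

namespace Cfsg.Agent.S5989P.ASM

open Cfsg.Agent.Helper2.SympInvol Cfsg.Agent.Helper2.SympUnits Cfsg.Agent.S5961P
  Cfsg.Agent.S5992P Cfsg.Agent.S5989P

section basics

variable {F : Type*} [Field F] [Fintype F] {ι : Type} [Fintype ι] [DecidableEq ι]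

theorem two_ne_zero_of_odd {q : ℕ} (hq : Fintype.card F = q) (hodd : Odd q) : (2 : F) ≠ 0 := by
  intro h
  have hchar : ringChar F = 2 := by
    have hdvd : ringChar F ∣ 2 := by
      rw [← ringChar.spec F 2]
      exact_mod_cast h
    rcases (Nat.dvd_prime Nat.prime_two).mp hdvd with h1 | h1
    · exact absurd h1 (CharP.ringChar_ne_one)
    · exact h1
  have := FiniteField.even_card_of_char_two hchar
  rw [hq] at this
  rcases hodd with ⟨k, hk⟩
  omega

theorem isom_of_mem_omegaGL (Q : QuadraticForm F (ι → F)) (x : GL ι F)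
    (hx : x ∈ Cfsg.Geo.omegaGL ⇑Q) : x ∈ Cfsg.isometryGroup F ⇑Q := by
  rw [Cfsg.Agent.Helper28.NM.mem_omegaGL_iff] at hx
  obtain ⟨h, -, rfl⟩ := hx
  exact h.2

theorem toLin'_isom (Q : QuadraticForm F (ι → F)) (x : GL ι F)
    (hx : x ∈ Cfsg.isometryGroup F ⇑Q) (v : ι → F) :
    Q (Matrix.toLin' (x : Matrix ι ι F) v) = Q v := by
  rw [Cfsg.Agent.Helper28.IsoTransport.mem_isometryGroup_iff] at hx
  rw [Matrix.toLin'_apply]
  exact hx v

/-- a nondegenerate quadratic space of positive dimension has a nonsingular vector -/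
theorem exists_ne_zero (h2 : (2 : F) ≠ 0) (Q : QuadraticForm F (ι → F))
    (hQ : (QuadraticMap.polarBilin Q).Nondegenerate) (hι : 0 < Fintype.card ι) :
    ∃ v : ι → F, Q v ≠ 0 := by
  by_contra hcon
  push Not at hcon
  obtain ⟨j⟩ := Fintype.card_pos_iff.mp hι
  have hzero : ∀ x : ι → F, x = 0 := by
    intro x
    apply hQ.1
    intro y
    show QuadraticMap.polar ⇑Q x y = 0
    unfold QuadraticMap.polar
    rw [hcon, hcon, hcon]
    ring
  have := congrFun (hzero (Pi.single j 1)) j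
  simp at this

/-- if `x ^ r` is the scalar `z` and `x` is an isometry then `z * z = 1` -/
theorem scalar_sq (h2 : (2 : F) ≠ 0) (Q : QuadraticForm F (ι → F))
    (hQ : (QuadraticMap.polarBilin Q).Nondegenerate) (hι : 0 < Fintype.card ι) (x : GL ι F)
    (hx : x ∈ Cfsg.isometryGroup F ⇑Q) (r : ℕ) (z : F)
    (hz : ((x ^ r : GL ι F) : Matrix ι ι F) = z • (1 : Matrix ι ι F)) : z * z = 1 := by
  obtain ⟨v, hv⟩ := exists_ne_zero h2 Q hQ hι
  have hxr : x ^ r ∈ Cfsg.isometryGroup F ⇑Q := Subgroup.pow_mem _ hx r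
  have h1 := toLin'_isom Q (x ^ r) hxr v
  rw [hz, Matrix.toLin'_apply, Matrix.smul_mulVec, Matrix.one_mulVec, QuadraticMap.map_smul,
    smul_eq_mul] at h1
  have : (z * z - 1) * Q v = 0 := by linear_combination h1
  rcases mul_eq_zero.mp this with h | h
  · linear_combination h
  · exact absurd h hv

theorem sq_one_cases {z : F} (hz : z * z = 1) : z = 1 ∨ z = -1 := by
  have : (z - 1) * (z + 1) = 0 := by linear_combination hz
  rcases mul_eq_zero.mp this with h | h
  · left; linear_combination h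
  · right; linear_combination h

end basics


section semisimple

variable {F : Type u} [Field F] [Fintype F] {ι : Type} [Fintype ι] [DecidableEq ι]

theorem nondeg_top (Q : QuadraticForm F (ι → F))
    (hQ : (QuadraticMap.polarBilin Q).Nondegenerate) : Nondeg (PB Q) ⊤ :=
  nondeg_top_of_nondegenerate Q hQ

/-- the normalised element `y = z x` with `y ^ r = 1` -/
theorem exists_normalised (h2 : (2 : F) ≠ 0) (Q : QuadraticForm F (ι → F))
    (hQ : (QuadraticMap.polarBilin Q).Nondegenerate) (hι : 0 < Fintype.card ι) (x : GL ι F)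
    (hx : x ∈ Cfsg.isometryGroup F ⇑Q) (r : ℕ) (hr : Odd r)
    (hxr : ∃ z : F, ((x ^ r : GL ι F) : Matrix ι ι F) = z • (1 : Matrix ι ι F))
    (hns : ∀ z : F, (x : Matrix ι ι F) ≠ z • (1 : Matrix ι ι F)) :
    ∃ (s : F) (y : Module.End F (ι → F)), s * s = 1 ∧
      y = s • Matrix.toLin' (x : Matrix ι ι F) ∧ IsYO Q y r ∧ y ≠ 1 := by
  obtain ⟨z, hz⟩ := hxr
  have hzz := scalar_sq h2 Q hQ hι x hx r z hz
  refine ⟨z, z • Matrix.toLin' (x : Matrix ι ι F), hzz, rfl, ⟨nondeg_top Q hQ, ?_, ?_⟩, ?_⟩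
  · intro v
    rw [LinearMap.smul_apply, QuadraticMap.map_smul, smul_eq_mul, hzz, one_mul]
    exact toLin'_isom Q x hx v
  · rw [smul_pow, ← Matrix.toLin'_pow]
    have : (x : Matrix ι ι F) ^ r = z • (1 : Matrix ι ι F) := by
      rw [← hz, Units.val_pow_eq_pow_val]
    rw [this, map_smul, Matrix.toLin'_one, smul_smul]
    obtain ⟨k, hk⟩ := hr
    have : z ^ r * z = 1 := by
      rw [hk, pow_succ, pow_mul, sq, hzz, one_pow, one_mul, hzz]
    rw [this, one_smul]
    rfl
  · intro h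
    apply hns z
    have h3 : Matrix.toLin' (x : Matrix ι ι F) = z • (1 : Module.End F (ι → F)) := by
      have := congrArg (fun t => z • t) h
      simp only [smul_smul, hzz, one_smul] at this
      exact this
    apply Matrix.toLin'.injective
    rw [h3, map_smul, Matrix.toLin'_one]
    rfl

theorem map_smul_le {s : F} (hs : s * s = 1) (f : Module.End F (ι → F))
    (W : Submodule F (ι → F)) : W.map (s • f) ≤ W ↔ W.map f ≤ W := by
  constructor
  · rintro h _ ⟨w, hw, rfl⟩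
    have h1 : (s • f) w ∈ W := h ⟨w, hw, rfl⟩
    have h2 : s • ((s • f) w) ∈ W := W.smul_mem s h1
    rwa [LinearMap.smul_apply, smul_smul, hs, one_smul] at h2
  · rintro h _ ⟨w, hw, rfl⟩
    rw [LinearMap.smul_apply]
    exact W.smul_mem s (h ⟨w, hw, rfl⟩)


/-- `r ≠ p` does not divide `q` -/
theorem not_dvd_card {p : ℕ} [Fact p.Prime] [CharP F p] (r : ℕ) (hr : r.Prime) (hrp : r ≠ p) :
    ¬ r ∣ Fintype.card F := by
  obtain ⟨n, -, hn⟩ := FiniteField.card F p
  rw [hn]
  intro h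
  have := hr.dvd_of_dvd_pow h
  exact hrp ((Nat.prime_dvd_prime_iff_eq hr Fact.out).mp this)

theorem orderOf_pos_of_not_dvd (r q : ℕ) [Fact r.Prime] (hrq : ¬ r ∣ q) :
    0 < orderOf (q : ZMod r) := by
  have hr : r.Prime := Fact.out
  have hne : (q : ZMod r) ≠ 0 := by
    rw [Ne, ZMod.natCast_eq_zero_iff]
    exact hrq
  apply orderOf_pos_iff.mpr
  rw [isOfFinOrder_iff_pow_eq_one]
  exact ⟨r - 1, Nat.sub_pos_of_lt hr.one_lt, ZMod.pow_card_sub_one_eq_one hne⟩

theorem cc_eq (q r i c : ℕ) (hq : Fintype.card F = q) (hi : i = orderOf (q : ZMod r))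
    (hc : c = if Even i then i else 2 * i) : c = cc F r := by
  rw [cc_def, hq, ← hi, hc]

theorem cc_pos (r : ℕ) [Fact r.Prime] {p : ℕ} [Fact p.Prime] [CharP F p] (hrp : r ≠ p) :
    0 < cc F r := by
  have h := orderOf_pos_of_not_dvd r (Fintype.card F) (not_dvd_card r Fact.out hrp)
  rw [cc_def]
  split_ifs <;> omega

/-- the case `r` odd, `r ≠ p` -/
theorem main_semisimple {p : ℕ} [Fact p.Prime] [CharP F p] {q : ℕ}
    (hq : Fintype.card F = q) (hodd : Odd q)
    (Q : QuadraticForm F (ι → F)) (hQ : (QuadraticMap.polarBilin Q).Nondegenerate)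
    (d m : ℕ) (hd : 4 ≤ d) (hι : Fintype.card ι = 2 * d) (ε : Bool) (hε : Plus Q ⊤ ↔ ε = true)
    (hG : Nat.card ↥(Cfsg.isometryGroup F ⇑Q) = ordO ε q d) (hm : Odd m) (hmd : m < d)
    (W₀ : Submodule F (ι → F)) (hW₀ : Module.finrank F W₀ = m ∧ Nondeg (PB Q) W₀)
    (r : ℕ) [Fact r.Prime] (hr2 : r ≠ 2) (hrp : r ≠ p)
    (hrΩ : r ∣ Nat.card {W : Submodule F (ι → F) // OmSet Q m W₀ W})
    (i c : ℕ) (hi : i = orderOf (q : ZMod r)) (hc : c = if Even i then i else 2 * i) :
    (∀ x : GL ι F, x ∈ Cfsg.Geo.omegaGL ⇑Q →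
      (∃ z : F, ((x ^ r : GL ι F) : Matrix ι ι F) = z • (1 : Matrix ι ι F)) →
      (∀ z : F, (x : Matrix ι ι F) ≠ z • (1 : Matrix ι ι F)) →
      ∃ W : Submodule F (ι → F), OmSet Q m W₀ W ∧
        W.map (Matrix.toLin' (x : Matrix ι ι F)) ≤ W) ↔ ClosedOdd ε i c d m := by
  have hr : r.Prime := Fact.out
  have h2 : (2 : F) ≠ 0 := two_ne_zero_of_odd hq hodd
  have hrodd : Odd r := hr.odd_of_ne_two hr2
  have hrq : ¬ r ∣ q := hq ▸ not_dvd_card r hr hrp
  have hi0 : 0 < i := hi ▸ orderOf_pos_of_not_dvd r q hrq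
  have hcc : c = cc F r := cc_eq q r i c hq hi hc
  have hiF : i = orderOf ((Fintype.card F : ℕ) : ZMod r) := by rw [hq]; exact hi
  have hcpos : 0 < c := hcc ▸ cc_pos r hrp
  have hιpos : 0 < Fintype.card ι := by omega
  have hV : Module.finrank F (ι → F) = 2 * d := by
    rw [Module.finrank_fintype_fun_eq_card, hι]
  constructor
  · -- necessity
    intro hall
    have hdiv := dvd_wk_of_dvd_card hq hodd Q hQ d m hι ε hG hm hmd W₀ hW₀ r hr2 hrp hrΩ
    have hq2 : 2 ≤ q := hq ▸ Fintype.one_lt_card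
    refine crit_imp_closed hr2 hrq hq2 ε i c d m hi hc hd hm hmd hdiv ?_
    intro b hb
    have hb' : Realiz ε (orderOf ((Fintype.card F : ℕ) : ZMod r)) (cc F r) d b := by
      rw [← hiF, ← hcc]; exact hb
    obtain ⟨x, hxΩ, hxr, hker⟩ := exists_model_even h2 r hr2 hrp Q hQ d (by omega) hι ε hε b hb'
    rw [← hcc] at hker
    have hxI := isom_of_mem_omegaGL Q x hxΩ
    obtain ⟨hb1, hb2, -⟩ := hb
    have hcb : 0 < c * b := Nat.mul_pos hcpos hb1
    -- `x` is not scalar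
    have hns : ∀ z : F, (x : Matrix ι ι F) ≠ z • (1 : Matrix ι ι F) := by
      intro z hz
      have hzr : ((x ^ r : GL ι F) : Matrix ι ι F) = (z ^ r) • (1 : Matrix ι ι F) := by
        rw [Units.val_pow_eq_pow_val, hz, smul_pow, one_pow]
      have hz1 : z * z = 1 := by
        have hx1 : ((x ^ 1 : GL ι F) : Matrix ι ι F) = z • (1 : Matrix ι ι F) := by
          rw [pow_one]; exact hz
        exact scalar_sq h2 Q hQ hιpos x hxI 1 z hx1
      have hzr1 : z ^ r = 1 := by
        have h1 : ((x ^ r : GL ι F) : Matrix ι ι F) = 1 := by rw [hxr]; rfl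
        rw [h1] at hzr
        obtain ⟨j⟩ := Fintype.card_pos_iff.mp hιpos
        have := congrFun (congrFun hzr j) j
        simpa using this.symm
      have hz' : z = 1 := by
        obtain ⟨k, hk⟩ := hrodd
        rw [hk, pow_succ, pow_mul, sq, hz1, one_pow, one_mul] at hzr1
        exact hzr1
      rw [hz', one_smul] at hz
      rw [hz, Matrix.toLin'_one] at hker
      have : LinearMap.ker ((LinearMap.id : Module.End F (ι → F)) - 1) = ⊤ := by
        have h0 : (LinearMap.id : Module.End F (ι → F)) - 1 = 0 := sub_self _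
        rw [h0]; exact LinearMap.ker_zero
      rw [this, finrank_top, hV] at hker
      omega
    obtain ⟨W, hWΩ, hWx⟩ := hall x hxΩ ⟨1, by rw [hxr, one_smul]; rfl⟩ hns
    have hY : IsYO Q (Matrix.toLin' (x : Matrix ι ι F)) r := by
      refine ⟨nondeg_top Q hQ, toLin'_isom Q x hxI, ?_⟩
      rw [← Matrix.toLin'_pow, ← Units.val_pow_eq_pow_val, hxr]
      exact Matrix.toLin'_one
    obtain ⟨a', b', hmab, ha', hb'r⟩ := odd_invariant_arith r hr2 hrp h2 Q _ hY W hWx hWΩ.2.1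
    rw [← hcc] at hmab hb'r
    rw [hWΩ.1] at hmab
    have hrn := LinearMap.finrank_range_add_finrank_ker
      (Matrix.toLin' (x : Matrix ι ι F) - 1)
    rw [hV, hker] at hrn
    rw [hker] at ha'
    refine ⟨a', b', hmab, ha', ?_⟩
    have : c * b' ≤ c * b := by omega
    exact Nat.le_of_mul_le_mul_left this hcpos
  · -- sufficiency
    intro hcl x hxΩ hxr hns
    have hxI := isom_of_mem_omegaGL Q x hxΩ
    obtain ⟨s, y, hs, hy, hY, hy1⟩ := exists_normalised h2 Q hQ hιpos x hxI r hrodd hxr hns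
    obtain ⟨b, hrange, hker, hb⟩ := realiz_of_isYO r hr2 hrp h2 Q y hY hy1 d hV ε hε
    rw [← hiF, ← hcc] at hb
    rw [← hcc] at hrange hker
    obtain ⟨a', b', hmab, hao, ha', hb'⟩ := closed_imp_crit ε i c d m b hi0 hc hd hm hmd hcl hb
    have hmab' : m = a' + cc F r * b' := by rw [← hcc]; exact hmab
    obtain ⟨W, hWΩ, hWy⟩ := exists_odd_invariant r hr2 hrp h2 Q y hY m W₀ hW₀ a' b' hmab' hao
      (by rw [hker]; exact ha')
      (by rw [hrange, ← hcc]; exact Nat.mul_le_mul_left c hb')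
    refine ⟨W, hWΩ, ?_⟩
    rw [hy, map_smul_le hs] at hWy
    exact hWy

end semisimple


section two

variable {F : Type u} [Field F] [Fintype F] {ι : Type} [Fintype ι] [DecidableEq ι]

theorem toLin'_mul_self_neg (x : GL ι F) (hx2 : x * x = -1) :
    Matrix.toLin' (x : Matrix ι ι F) * Matrix.toLin' (x : Matrix ι ι F) = -1 := by
  rw [Module.End.mul_eq_comp, ← Matrix.toLin'_mul, ← Units.val_mul, hx2, Units.val_neg,
    Units.val_one, map_neg, Matrix.toLin'_one]
  rfl

/-- the case `r = 2` -/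
theorem main_two {q : ℕ} (hq : Fintype.card F = q) (hodd : Odd q)
    (Q : QuadraticForm F (ι → F)) (hQ : (QuadraticMap.polarBilin Q).Nondegenerate)
    (d m : ℕ) (hd : 4 ≤ d) (hι : Fintype.card ι = 2 * d) (ε : Bool) (hε : Plus Q ⊤ ↔ ε = true)
    (hm : Odd m) (hmd : m < d)
    (W₀ : Submodule F (ι → F)) (hW₀ : Module.finrank F W₀ = m ∧ Nondeg (PB Q) W₀) :
    (∀ x : GL ι F, x ∈ Cfsg.Geo.omegaGL ⇑Q →
      (∃ z : F, ((x ^ 2 : GL ι F) : Matrix ι ι F) = z • (1 : Matrix ι ι F)) →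
      (∀ z : F, (x : Matrix ι ι F) ≠ z • (1 : Matrix ι ι F)) →
      ∃ W : Submodule F (ι → F), OmSet Q m W₀ W ∧
        W.map (Matrix.toLin' (x : Matrix ι ι F)) ≤ W) ↔ R2cond ε d q := by
  have h2 : (2 : F) ≠ 0 := two_ne_zero_of_odd hq hodd
  have hιpos : 0 < Fintype.card ι := by omega
  have hV : Module.finrank F (ι → F) = 2 * d := by
    rw [Module.finrank_fintype_fun_eq_card, hι]
  constructor
  · intro hall
    by_contra hcon
    have hnt := (r2_nt hq hodd ε d).mpr hcon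
    obtain ⟨x, hxΩ, hx2⟩ := (exists_neg_omega_iff h2 Q hQ d hι ε hε).mpr hnt
    have hxI := isom_of_mem_omegaGL Q x hxΩ
    have hns : ∀ z : F, (x : Matrix ι ι F) ≠ z • (1 : Matrix ι ι F) := by
      intro z hz
      have hx1 : ((x ^ 1 : GL ι F) : Matrix ι ι F) = z • (1 : Matrix ι ι F) := by
        rw [pow_one]; exact hz
      have hz1 := scalar_sq h2 Q hQ hιpos x hxI 1 z hx1
      have h3 : ((x * x : GL ι F) : Matrix ι ι F) = (z * z) • (1 : Matrix ι ι F) := by
        rw [Units.val_mul, hz, smul_mul_smul_comm, one_mul]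
      rw [hx2, hz1, one_smul, Units.val_neg, Units.val_one] at h3
      obtain ⟨j⟩ := Fintype.card_pos_iff.mp hιpos
      have := congrFun (congrFun h3 j) j
      simp only [Matrix.neg_apply, Matrix.one_apply_eq] at this
      apply h2
      linear_combination -this
    have hsc : ∃ z : F, ((x ^ 2 : GL ι F) : Matrix ι ι F) = z • (1 : Matrix ι ι F) := by
      refine ⟨-1, ?_⟩
      rw [sq, hx2, Units.val_neg, Units.val_one, neg_smul, one_smul]
    obtain ⟨W, hWΩ, hWx⟩ := hall x hxΩ hsc hns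
    have hev := even_of_neg_invariant h2 Q (Matrix.toLin' (x : Matrix ι ι F))
      (toLin'_isom Q x hxI) (toLin'_mul_self_neg x hx2) W hWx hWΩ.2.1
    rw [hWΩ.1] at hev
    exact (Nat.not_even_iff_odd.mpr hm) hev
  · intro hcond x hxΩ hxr hns
    have hxI := isom_of_mem_omegaGL Q x hxΩ
    obtain ⟨z, hz⟩ := hxr
    have hzz := scalar_sq h2 Q hQ hιpos x hxI 2 z hz
    rcases sq_one_cases hzz with h1 | h1
    · -- involution
      have hx2 : Matrix.toLin' (x : Matrix ι ι F) * Matrix.toLin' (x : Matrix ι ι F) = 1 := by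
        rw [Module.End.mul_eq_comp, ← Matrix.toLin'_mul, ← sq, ← Units.val_pow_eq_pow_val, hz,
          h1, one_smul, Matrix.toLin'_one]
        rfl
      exact exists_odd_of_invol h2 Q (nondeg_top Q hQ) _ (toLin'_isom Q x hxI) hx2 m hm
        (by rw [hV]; omega) W₀ hW₀
    · exfalso
      have hx2 : x * x = -1 := by
        apply Units.ext
        rw [← sq, hz, h1, Units.val_neg, Units.val_one, neg_smul, one_smul]
      have := (exists_neg_omega_iff h2 Q hQ d hι ε hε).mp ⟨x, hxΩ, hx2⟩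
      exact (r2_nt hq hodd ε d).mp this hcond

end two

section unip

variable {F : Type u} [Field F] [Fintype F] {ι : Type} [Fintype ι] [DecidableEq ι]

/-- the case `r = p` -/
theorem main_p {p : ℕ} [Fact p.Prime] [CharP F p]
    (Q : QuadraticForm F (ι → F)) (m : ℕ) (hι : 0 < Fintype.card ι)
    (W₀ : Submodule F (ι → F))
    (hUni : ∃ x : GL ι F, x ∈ Cfsg.Geo.omegaGL ⇑Q ∧ x ^ p = 1 ∧ x ≠ 1 ∧
      ∀ W : Submodule F (ι → F), OmSet Q m W₀ W →
        ¬ W.map (Matrix.toLin' (x : Matrix ι ι F)) ≤ W) :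
    ¬ (∀ x : GL ι F, x ∈ Cfsg.Geo.omegaGL ⇑Q →
      (∃ z : F, ((x ^ p : GL ι F) : Matrix ι ι F) = z • (1 : Matrix ι ι F)) →
      (∀ z : F, (x : Matrix ι ι F) ≠ z • (1 : Matrix ι ι F)) →
      ∃ W : Submodule F (ι → F), OmSet Q m W₀ W ∧
        W.map (Matrix.toLin' (x : Matrix ι ι F)) ≤ W) := by
  intro hall
  obtain ⟨x, hxΩ, hxp, hx1, hder⟩ := hUni
  have hns : ∀ z : F, (x : Matrix ι ι F) ≠ z • (1 : Matrix ι ι F) := by
    intro z hz
    have hzr : ((x ^ p : GL ι F) : Matrix ι ι F) = (z ^ p) • (1 : Matrix ι ι F) := by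
      rw [Units.val_pow_eq_pow_val, hz, smul_pow, one_pow]
    rw [hxp, Units.val_one] at hzr
    obtain ⟨j⟩ := Fintype.card_pos_iff.mp hι
    have h1 := congrFun (congrFun hzr j) j
    simp only [Matrix.one_apply_eq, Matrix.smul_apply, smul_eq_mul, mul_one] at h1
    have h3 : (z - 1) ^ p = 0 := by
      rw [sub_pow_char, one_pow, ← h1, sub_self]
    have hz1 : z = 1 := by
      have := pow_eq_zero_iff (Fact.out : p.Prime).ne_zero |>.mp h3
      linear_combination this
    apply hx1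
    apply Units.ext
    rw [hz, hz1, one_smul, Units.val_one]
  obtain ⟨W, hWΩ, hWx⟩ := hall x hxΩ ⟨1, by rw [hxp, one_smul, Units.val_one]⟩ hns
  exact hder W hWΩ hWx

end unip


section main

variable {F : Type u} [Field F] [Fintype F] {ι : Type} [Fintype ι] [DecidableEq ι]

/-- S5989 / S5991, generic form -/
theorem main_odd {p : ℕ} [Fact p.Prime] [CharP F p] {q : ℕ}
    (hq : Fintype.card F = q) (hodd : Odd q)
    (Q : QuadraticForm F (ι → F)) (hQ : (QuadraticMap.polarBilin Q).Nondegenerate)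
    (d m : ℕ) (hd : 4 ≤ d) (hι : Fintype.card ι = 2 * d) (ε : Bool) (hε : Plus Q ⊤ ↔ ε = true)
    (hG : Nat.card ↥(Cfsg.isometryGroup F ⇑Q) = ordO ε q d) (hm : Odd m) (hmd : m < d)
    (W₀ : Submodule F (ι → F)) (hW₀ : Module.finrank F W₀ = m ∧ Nondeg (PB Q) W₀)
    (r : ℕ) [Fact r.Prime]
    (hrΩ : r ∣ Nat.card {W : Submodule F (ι → F) // OmSet Q m W₀ W})
    (i c : ℕ) (hi : i = orderOf (q : ZMod r)) (hc : c = if Even i then i else 2 * i)
    (hUni : r = p → ∃ x : GL ι F, x ∈ Cfsg.Geo.omegaGL ⇑Q ∧ x ^ p = 1 ∧ x ≠ 1 ∧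
      ∀ W : Submodule F (ι → F), OmSet Q m W₀ W →
        ¬ W.map (Matrix.toLin' (x : Matrix ι ι F)) ≤ W) :
    (∀ x : GL ι F, x ∈ Cfsg.Geo.omegaGL ⇑Q →
      (∃ z : F, ((x ^ r : GL ι F) : Matrix ι ι F) = z • (1 : Matrix ι ι F)) →
      (∀ z : F, (x : Matrix ι ι F) ≠ z • (1 : Matrix ι ι F)) →
      ∃ W : Submodule F (ι → F), OmSet Q m W₀ W ∧
        W.map (Matrix.toLin' (x : Matrix ι ι F)) ≤ W) ↔
    ((r = 2 ∧ R2cond ε d q) ∨ (r ≠ p ∧ 2 < r ∧ ClosedOdd ε i c d m)) := by
  have hr : r.Prime := Fact.out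
  have h2 : (2 : F) ≠ 0 := two_ne_zero_of_odd hq hodd
  have hp2 : p ≠ 2 := by
    intro h
    apply h2
    have := CharP.cast_eq_zero F p
    rw [h] at this
    exact_mod_cast this
  by_cases hr2 : r = 2
  · subst hr2
    rw [main_two hq hodd Q hQ d m hd hι ε hε hm hmd W₀ hW₀]
    constructor
    · intro h; exact Or.inl ⟨rfl, h⟩
    · rintro (⟨-, h⟩ | ⟨-, h, -⟩)
      · exact h
      · omega
  · have hr3 : 2 < r := lt_of_le_of_ne hr.two_le (Ne.symm hr2)
    by_cases hrp : r = p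
    · subst hrp
      constructor
      · intro h
        exact absurd h (main_p Q m (by omega) W₀ (hUni rfl))
      · rintro (⟨h, -⟩ | ⟨h, -⟩)
        · exact absurd h hr2
        · exact absurd rfl h
    · rw [main_semisimple hq hodd Q hQ d m hd hι ε hε hG hm hmd W₀ hW₀ r hr2 hrp hrΩ i c hi hc]
      constructor
      · intro h; exact Or.inr ⟨hrp, hr3, h⟩
      · rintro (⟨h, -⟩ | ⟨-, -, h⟩)
        · exact absurd h hr2
        · exact h

end main

end Cfsg.Agent.S5989P.ASM
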