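import Cfsg.Agent.Helper27.GLIso

/-!
The centraliser of the transvection `1 + E₀₁` in `SL(5, 2)`: its shape, an upper bound for its order, and the
permutations of the vectors induced by it.
-/

set_option autoImplicit false

namespace Cfsg.Agent.Helper27

/-- the matrices over the field with two elements in the centraliser of the transvection -/
structure TvCent (M : Matrix (Fin 5) (Fin 5) (ZMod 2)) : Prop where
  col : ∀ i, i ≠ 0 → M i 0 = 0
  row : ∀ j, j ≠ 1 → M 1 j = 0
  diag : M 0 0 = M 1 1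

theorem tvCent_of_comm {M : Matrix (Fin 5) (Fin 5) (ZMod 2)}
    (h : M * Matrix.transvection 0 1 1 = Matrix.transvection 0 1 1 * M) : TvCent M := by
  have key : ∀ i j : Fin 5, (M * Matrix.transvection 0 1 (1 : ZMod 2) : Matrix (Fin 5) (Fin 5) (ZMod 2)) i j =
      (Matrix.transvection 0 1 (1 : ZMod 2) * M : Matrix (Fin 5) (Fin 5) (ZMod 2)) i j := fun i j => by rw [h]
  refine ⟨?_, ?_, ?_⟩
  · intro i hi
    have := key i 1
    fin_cases i
    · exact absurd rfl hi
    all_goals
      simp [Matrix.transvection, Matrix.mul_apply, Fin.sum_univ_five,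
        Matrix.single_apply] at this
      simpa using this
  · intro j hj
    have := key 0 j
    fin_cases j
    case «1» => exact absurd rfl hj
    all_goals
      simp [Matrix.transvection, Matrix.mul_apply, Fin.sum_univ_five,
        Matrix.single_apply] at this
      exact this
  · have := key 0 1
    simp [Matrix.transvection, Matrix.mul_apply, Fin.sum_univ_five,
      Matrix.single_apply] at this
    rw [add_comm] at this
    exact add_left_cancel this

/-- the lower right block -/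
def blockN (M : Matrix (Fin 5) (Fin 5) (ZMod 2)) : Matrix (Fin 3) (Fin 3) (ZMod 2) :=
  fun i j => M i.succ.succ j.succ.succ

theorem det_blockN {M : Matrix (Fin 5) (Fin 5) (ZMod 2)} (h : TvCent M) :
    M.det = M 0 0 * (M 1 1 * (blockN M).det) := by
  rw [Matrix.det_succ_column_zero, Finset.sum_eq_single 0]
  · rw [Matrix.det_succ_row_zero, Finset.sum_eq_single 0]
    · simp only [Fin.val_zero, pow_zero, one_mul, Fin.succAbove_zero, Matrix.submatrix_apply,
        Matrix.submatrix_submatrix]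
      rfl
    · intro j _ hj
      have : M 1 j.succ = 0 := h.row _ (by
        intro e
        apply hj
        apply Fin.succ_injective
        exact e)
      simp only [Matrix.submatrix_apply, Fin.succAbove_zero]
      show _ * M 1 j.succ * _ = 0
      rw [this, mul_zero, zero_mul]
    · intro h0
      exact absurd (Finset.mem_univ _) h0
  · intro i _ hi
    rw [h.col i hi, mul_zero, zero_mul]
  · intro h0
    exact absurd (Finset.mem_univ _) h0

theorem tvCent_ext {M M' : Matrix (Fin 5) (Fin 5) (ZMod 2)} (h : TvCent M) (h' : TvCent M')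
    (h00 : M 0 0 = M' 0 0)
    (hy : ∀ k : Fin 4, M (Fin.succAbove 1 k) 1 = M' (Fin.succAbove 1 k) 1)
    (hr : ∀ j : Fin 3, M 0 j.succ.succ = M' 0 j.succ.succ) (hN : blockN M = blockN M') : M = M' := by
  have hN' : ∀ i j : Fin 3, M i.succ.succ j.succ.succ = M' i.succ.succ j.succ.succ :=
    fun i j => congrFun (congrFun hN i) j
  have h11 : M 1 1 = M' 1 1 := by rw [← h.diag, ← h'.diag, h00]
  ext i j
  fin_cases i <;> fin_cases j
  · exact h00
  · exact hy 0
  · exact hr 0
  · exact hr 1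
  · exact hr 2
  · exact (h.row 0 (by decide)).trans (h'.row 0 (by decide)).symm
  · exact h11
  · exact (h.row 2 (by decide)).trans (h'.row 2 (by decide)).symm
  · exact (h.row 3 (by decide)).trans (h'.row 3 (by decide)).symm
  · exact (h.row 4 (by decide)).trans (h'.row 4 (by decide)).symm
  · exact (h.col 2 (by decide)).trans (h'.col 2 (by decide)).symm
  · exact hy 1
  · exact hN' 0 0
  · exact hN' 0 1
  · exact hN' 0 2
  · exact (h.col 3 (by decide)).trans (h'.col 3 (by decide)).symm
  · exact hy 2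
  · exact hN' 1 0
  · exact hN' 1 1
  · exact hN' 1 2
  · exact (h.col 4 (by decide)).trans (h'.col 4 (by decide)).symm
  · exact hy 3
  · exact hN' 2 0
  · exact hN' 2 1
  · exact hN' 2 2

theorem zmod2_mul_eq_one {a b : ZMod 2} (h : a * b = 1) : a = 1 ∧ b = 1 := by
  revert a b; decide

abbrev SL5 : Type := Matrix.SpecialLinearGroup (Fin 5) (ZMod 2)

theorem tvCent_of_mem {s c : SL5} (hs : (s : Matrix (Fin 5) (Fin 5) (ZMod 2)) = Matrix.transvection 0 1 1)
    (hc : c ∈ Subgroup.centralizer ({s} : Set SL5)) : TvCent (c : Matrix (Fin 5) (Fin 5) (ZMod 2)) := by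
  apply tvCent_of_comm
  have h := Subgroup.mem_centralizer_singleton_iff.mp hc
  have h2 := congrArg (fun x : SL5 => (x : Matrix (Fin 5) (Fin 5) (ZMod 2))) h
  simp only [Matrix.SpecialLinearGroup.coe_mul, hs] at h2
  exact h2

theorem tvCent_facts {M : Matrix (Fin 5) (Fin 5) (ZMod 2)} (h : TvCent M) (hdet : M.det = 1) :
    M 0 0 = 1 ∧ (blockN M).det ≠ 0 := by
  rw [det_blockN h] at hdet
  obtain ⟨h1, h2⟩ := zmod2_mul_eq_one hdet
  obtain ⟨h3, h4⟩ := zmod2_mul_eq_one h2
  refine ⟨h1, ?_⟩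
  rw [h4]
  exact one_ne_zero

theorem card_GL32' : Nat.card (GL (Fin 3) (ZMod 2)) = 168 := by
  rw [Matrix.card_GL_field]
  simp [Fin.prod_univ_succ, ZMod.card]

theorem card_tvCent_le (s : SL5) (hs : (s : Matrix (Fin 5) (Fin 5) (ZMod 2)) = Matrix.transvection 0 1 1) :
    Nat.card ↥(Subgroup.centralizer ({s} : Set SL5)) ≤ 21504 := by
  have hT : ∀ c : ↥(Subgroup.centralizer ({s} : Set SL5)), TvCent ((c : SL5) : Matrix (Fin 5) (Fin 5) (ZMod 2)) :=
    fun c => tvCent_of_mem hs c.2
  have hF : ∀ c : ↥(Subgroup.centralizer ({s} : Set SL5)),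
      ((c : SL5) : Matrix (Fin 5) (Fin 5) (ZMod 2)) 0 0 = 1 ∧
        (blockN ((c : SL5) : Matrix (Fin 5) (Fin 5) (ZMod 2))).det ≠ 0 :=
    fun c => tvCent_facts (hT c) (c : SL5).2
  let κ : ↥(Subgroup.centralizer ({s} : Set SL5)) → (Fin 4 → ZMod 2) × (Fin 3 → ZMod 2) × GL (Fin 3) (ZMod 2) :=
    fun c => (fun k => ((c : SL5) : Matrix (Fin 5) (Fin 5) (ZMod 2)) (Fin.succAbove 1 k) 1,
      fun j => ((c : SL5) : Matrix (Fin 5) (Fin 5) (ZMod 2)) 0 j.succ.succ,
      Matrix.GeneralLinearGroup.mkOfDetNeZero _ (hF c).2)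
  have hκ : Function.Injective κ := by
    intro c c' h
    apply Subtype.ext
    apply Subtype.ext
    have h1 : ∀ k : Fin 4, ((c : SL5) : Matrix (Fin 5) (Fin 5) (ZMod 2)) (Fin.succAbove 1 k) 1 =
        ((c' : SL5) : Matrix (Fin 5) (Fin 5) (ZMod 2)) (Fin.succAbove 1 k) 1 :=
      fun k => congrFun (congrArg Prod.fst h) k
    have h2 : ∀ j : Fin 3, ((c : SL5) : Matrix (Fin 5) (Fin 5) (ZMod 2)) 0 j.succ.succ =
        ((c' : SL5) : Matrix (Fin 5) (Fin 5) (ZMod 2)) 0 j.succ.succ :=
      fun j => congrFun (congrArg (fun x => x.2.1) h) j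
    have h3 : blockN ((c : SL5) : Matrix (Fin 5) (Fin 5) (ZMod 2)) =
        blockN ((c' : SL5) : Matrix (Fin 5) (Fin 5) (ZMod 2)) :=
      congrArg (fun x => ((x.2.2 : GL (Fin 3) (ZMod 2)) : Matrix (Fin 3) (Fin 3) (ZMod 2))) h
    exact tvCent_ext (hT c) (hT c') ((hF c).1.trans (hF c').1.symm) h1 h2 h3
  have := Nat.card_le_card_of_injective κ hκ
  rw [Nat.card_prod, Nat.card_prod, card_GL32'] at this
  simpa [Nat.card_eq_fintype_card, ZMod.card] using this

abbrev V5 : Type := Fin 5 → ZMod 2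

theorem glPerm_apply (n p : ℕ) (g : GL (Fin n) (ZMod p)) (v : Fin n → ZMod p) :
    glPerm n p g v = (g : Matrix (Fin n) (Fin n) (ZMod p)).mulVec v := rfl

theorem glPerm_tv_apply {s : SL5} (hs : (s : Matrix (Fin 5) (Fin 5) (ZMod 2)) = Matrix.transvection 0 1 1) (v : V5) :
    glPerm 5 2 (Matrix.SpecialLinearGroup.toGL s) v = v + v 1 • Pi.single 0 1 := by
  rw [glPerm_apply, Matrix.SpecialLinearGroup.coe_GL_coe_matrix, hs, Matrix.transvection, Matrix.add_mulVec,
    Matrix.one_mulVec]
  congr 1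
  ext i
  fin_cases i <;> simp [Matrix.mulVec, dotProduct, Matrix.single_apply]

/-- the action of the centraliser of an element of `SL(5, 2)` on vectors -/
def tvPerm (s : SL5) : ↥(Subgroup.centralizer ({s} : Set SL5)) →* Equiv.Perm V5 :=
  (glPerm 5 2).comp (Matrix.SpecialLinearGroup.toGL.comp (Subgroup.subtype _))

theorem tvPerm_injective (s : SL5) : Function.Injective (tvPerm s) := by
  unfold tvPerm
  rw [MonoidHom.coe_comp, MonoidHom.coe_comp]
  exact (glPerm_injective 5 2).comp (Matrix.SpecialLinearGroup.toGL_injective.comp (Subgroup.subtype_injective _))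

theorem zmod2_eq_one {a : ZMod 2} (h : a ≠ 0) : a = 1 := by
  revert a; decide

theorem mem_range_tvPerm (s : SL5) (σ : Equiv.Perm V5) (hadd : ∀ x y, σ (x + y) = σ x + σ y)
    (hcomm : σ * glPerm 5 2 (Matrix.SpecialLinearGroup.toGL s) = glPerm 5 2 (Matrix.SpecialLinearGroup.toGL s) * σ) :
    σ ∈ (tvPerm s).range := by
  obtain ⟨M, hM⟩ := mem_range_glPerm 5 2 σ hadd
  have hdet : (M : Matrix (Fin 5) (Fin 5) (ZMod 2)).det = 1 := by
    apply zmod2_eq_one
    exact Matrix.GeneralLinearGroup.det_ne_zero M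
  let m : SL5 := ⟨M, hdet⟩
  have hm : Matrix.SpecialLinearGroup.toGL m = M := by
    exact Units.ext (Matrix.SpecialLinearGroup.coe_GL_coe_matrix m)
  have hc : m * s = s * m := by
    apply Matrix.SpecialLinearGroup.toGL_injective
    apply glPerm_injective 5 2
    rw [map_mul, map_mul, map_mul, map_mul, hm, hM]
    exact hcomm
  refine ⟨⟨m, Subgroup.mem_centralizer_singleton_iff.mpr hc⟩, ?_⟩
  show glPerm 5 2 (Matrix.SpecialLinearGroup.toGL m) = σ
  rw [hm, hM]

end Cfsg.Agent.Helper27
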