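import Cfsg.Agent.Helper27.SL5Cent

/-!
The structure of the centraliser of the transvection `1 + E₀₁` in `SL(5, 2)`: the homomorphism onto `SL(3, 2)` given
by the lower right block, its section, and its kernel, a group of order `2 ^ 7` parametrised by a scalar and two
vectors of the three-dimensional space.
-/

set_option autoImplicit false

namespace Cfsg.Agent.Helper27

abbrev SL3 : Type := Matrix.SpecialLinearGroup (Fin 3) (ZMod 2)

/-- the standard transvection -/
def s0 : SL5 := ⟨Matrix.transvection 0 1 1, Matrix.det_transvection_of_ne 0 1 (by decide) 1⟩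

theorem s0_coe : (s0 : Matrix (Fin 5) (Fin 5) (ZMod 2)) = Matrix.transvection 0 1 1 := rfl

/-- the centraliser of the standard transvection -/
abbrev BT : Subgroup SL5 := Subgroup.centralizer ({s0} : Set SL5)

/-- the matrix of an element of the centraliser -/
def matB (c : ↥BT) : Matrix (Fin 5) (Fin 5) (ZMod 2) := ((c : SL5) : Matrix (Fin 5) (Fin 5) (ZMod 2))

theorem matB_tv (c : ↥BT) : TvCent (matB c) := tvCent_of_mem s0_coe c.2

theorem matB_mul (c c' : ↥BT) : matB (c * c') = matB c * matB c' := rfl

theorem matB_one : matB 1 = 1 := rfl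

theorem matB_injective : Function.Injective matB := fun _ _ h => Subtype.ext (Subtype.ext h)

theorem matB_det (c : ↥BT) : (matB c).det = 1 := (c : SL5).2

theorem matB_00 (c : ↥BT) : matB c 0 0 = 1 := (tvCent_facts (matB_tv c) (matB_det c)).1

theorem matB_11 (c : ↥BT) : matB c 1 1 = 1 := by rw [← (matB_tv c).diag, matB_00]

/-- matrices of the shape of the centraliser commute with the transvection -/
theorem comm_of_tvCent {M : Matrix (Fin 5) (Fin 5) (ZMod 2)} (h : TvCent M) :
    M * Matrix.transvection 0 1 1 = Matrix.transvection 0 1 1 * M := by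
  have c1 := h.col 1 (by decide)
  have c2 := h.col 2 (by decide)
  have c3 := h.col 3 (by decide)
  have c4 := h.col 4 (by decide)
  have r2 := h.row 2 (by decide)
  have r3 := h.row 3 (by decide)
  have r4 := h.row 4 (by decide)
  have d := h.diag
  rw [Matrix.transvection, mul_add, add_mul, mul_one, one_mul]
  congr 1
  ext i j
  fin_cases i <;> fin_cases j <;>
    simp [Matrix.mul_apply, Matrix.single_apply, c1, c2, c3, c4, r2, r3, r4, d]

theorem blockN_one : blockN 1 = 1 := by
  ext i j
  fin_cases i <;> fin_cases j <;> rfl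

theorem blockN_mul {M M' : Matrix (Fin 5) (Fin 5) (ZMod 2)} (h : TvCent M) (h' : TvCent M') :
    blockN (M * M') = blockN M * blockN M' := by
  have c2 := h.col 2 (by decide)
  have c3 := h.col 3 (by decide)
  have c4 := h.col 4 (by decide)
  have r2 := h'.row 2 (by decide)
  have r3 := h'.row 3 (by decide)
  have r4 := h'.row 4 (by decide)
  ext i j
  fin_cases i <;> fin_cases j <;>
    simp [blockN, Matrix.mul_apply, Fin.sum_univ_five, Fin.sum_univ_three, c2, c3, c4, r2, r3, r4]

theorem det_blockN_matB (c : ↥BT) : (blockN (matB c)).det = 1 :=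
  zmod2_eq_one (tvCent_facts (matB_tv c) (matB_det c)).2

/-- the lower right block, as a homomorphism onto `SL(3, 2)` -/
def nuHom : ↥BT →* SL3 where
  toFun c := ⟨blockN (matB c), det_blockN_matB c⟩
  map_one' := Subtype.ext blockN_one
  map_mul' c c' := Subtype.ext (blockN_mul (matB_tv c) (matB_tv c'))

theorem nuHom_coe (c : ↥BT) : ((nuHom c : SL3) : Matrix (Fin 3) (Fin 3) (ZMod 2)) = blockN (matB c) := rfl

/-! ### The section -/

/-- the block diagonal matrix with a given lower right block -/
def jmat (N : Matrix (Fin 3) (Fin 3) (ZMod 2)) : Matrix (Fin 5) (Fin 5) (ZMod 2) :=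
  !![1, 0, 0, 0, 0;
     0, 1, 0, 0, 0;
     0, 0, N 0 0, N 0 1, N 0 2;
     0, 0, N 1 0, N 1 1, N 1 2;
     0, 0, N 2 0, N 2 1, N 2 2]

theorem jmat_tv (N : Matrix (Fin 3) (Fin 3) (ZMod 2)) : TvCent (jmat N) := by
  refine ⟨?_, ?_, rfl⟩
  · intro i hi
    fin_cases i
    · exact absurd rfl hi
    all_goals rfl
  · intro j hj
    fin_cases j
    case «1» => exact absurd rfl hj
    all_goals rfl

theorem blockN_jmat (N : Matrix (Fin 3) (Fin 3) (ZMod 2)) : blockN (jmat N) = N := by
  ext i j
  fin_cases i <;> fin_cases j <;> rfl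

theorem jmat_one : jmat 1 = 1 := by
  ext i j
  fin_cases i <;> fin_cases j <;> rfl

theorem jmat_mul (N N' : Matrix (Fin 3) (Fin 3) (ZMod 2)) : jmat (N * N') = jmat N * jmat N' := by
  ext i j
  fin_cases i <;> fin_cases j <;>
    simp [jmat, Matrix.mul_apply, Fin.sum_univ_five, Fin.sum_univ_three]

theorem det_jmat (N : Matrix (Fin 3) (Fin 3) (ZMod 2)) : (jmat N).det = N.det := by
  rw [det_blockN (jmat_tv N), blockN_jmat]
  show (1 : ZMod 2) * (1 * N.det) = N.det
  rw [one_mul, one_mul]

/-- the block diagonal embedding of `SL(3, 2)` -/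
def jSL (N : SL3) : SL5 := ⟨jmat N, by rw [det_jmat]; exact N.2⟩

theorem jSL_mem (N : SL3) : jSL N ∈ BT := by
  rw [Subgroup.mem_centralizer_singleton_iff]
  apply Subtype.ext
  exact comm_of_tvCent (jmat_tv N)

/-- the section of the block homomorphism -/
def jHom : SL3 →* ↥BT where
  toFun N := ⟨jSL N, jSL_mem N⟩
  map_one' := Subtype.ext (Subtype.ext jmat_one)
  map_mul' N N' := Subtype.ext (Subtype.ext (jmat_mul N N'))

theorem nuHom_jHom (N : SL3) : nuHom (jHom N) = N := Subtype.ext (blockN_jmat N)

theorem nuHom_surjective : Function.Surjective nuHom := fun N => ⟨jHom N, nuHom_jHom N⟩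

/-! ### The kernel -/

/-- parameters of the kernel: a scalar and two vectors -/
abbrev HP : Type := ZMod 2 × (Fin 3 → ZMod 2) × (Fin 3 → ZMod 2)

/-- the product on parameters -/
def hmul (a b : HP) : HP :=
  (a.1 + b.1 + (a.2.1 0 * b.2.2 0 + a.2.1 1 * b.2.2 1 + a.2.1 2 * b.2.2 2), a.2.1 + b.2.1, a.2.2 + b.2.2)

/-- the unipotent matrix with given parameters -/
def umat (a : HP) : Matrix (Fin 5) (Fin 5) (ZMod 2) :=
  !![1, a.1, a.2.1 0, a.2.1 1, a.2.1 2;
     0, 1, 0, 0, 0;
     0, a.2.2 0, 1, 0, 0;
     0, a.2.2 1, 0, 1, 0;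
     0, a.2.2 2, 0, 0, 1]

theorem umat_mul (a b : HP) : umat a * umat b = umat (hmul a b) := by
  ext i j
  fin_cases i <;> fin_cases j <;>
    simp [umat, hmul, Matrix.mul_apply, Fin.sum_univ_five] <;> ring

theorem umat_zero : umat ((0, 0, 0) : HP) = 1 := by
  ext i j
  fin_cases i <;> fin_cases j <;> rfl

theorem umat_tv (a : HP) : TvCent (umat a) := by
  refine ⟨?_, ?_, rfl⟩
  · intro i hi
    fin_cases i
    · exact absurd rfl hi
    all_goals rfl
  · intro j hj
    fin_cases j
    case «1» => exact absurd rfl hj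
    all_goals rfl

theorem blockN_umat (a : HP) : blockN (umat a) = 1 := by
  ext i j
  fin_cases i <;> fin_cases j <;> rfl

theorem umat_injective : Function.Injective umat := by
  intro a b h
  have e : ∀ i j, umat a i j = umat b i j := fun i j => by rw [h]
  refine Prod.ext (e 0 1) (Prod.ext ?_ ?_)
  · funext k
    fin_cases k
    · exact e 0 2
    · exact e 0 3
    · exact e 0 4
  · funext k
    fin_cases k
    · exact e 2 1
    · exact e 3 1
    · exact e 4 1

theorem det_umat (a : HP) : (umat a).det = 1 := by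
  rw [det_blockN (umat_tv a), blockN_umat, Matrix.det_one]
  show (1 : ZMod 2) * (1 * 1) = 1
  rw [one_mul, one_mul]

/-- the unipotent element of `SL(5, 2)` with given parameters -/
def uSL (a : HP) : SL5 := ⟨umat a, det_umat a⟩

theorem uSL_mem (a : HP) : uSL a ∈ BT := by
  rw [Subgroup.mem_centralizer_singleton_iff]
  apply Subtype.ext
  exact comm_of_tvCent (umat_tv a)

/-- the unipotent element with given parameters -/
def uB (a : HP) : ↥BT := ⟨uSL a, uSL_mem a⟩

theorem matB_uB (a : HP) : matB (uB a) = umat a := rfl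

theorem uB_mul (a b : HP) : uB a * uB b = uB (hmul a b) := matB_injective (umat_mul a b)

theorem uB_injective : Function.Injective uB := fun _ _ h => umat_injective (congrArg matB h)

theorem uB_mem_ker (a : HP) : uB a ∈ nuHom.ker := by
  rw [MonoidHom.mem_ker]
  exact Subtype.ext (blockN_umat a)

/-- every element of the kernel is unipotent with suitable parameters -/
theorem exists_uB {c : ↥BT} (hc : c ∈ nuHom.ker) : ∃ a : HP, c = uB a := by
  rw [MonoidHom.mem_ker] at hc
  have hN : blockN (matB c) = 1 := congrArg Subtype.val hc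
  refine ⟨(matB c 0 1, fun k => matB c 0 k.succ.succ, fun k => matB c k.succ.succ 1), ?_⟩
  apply matB_injective
  rw [matB_uB]
  apply tvCent_ext (matB_tv c) (umat_tv _)
  · rw [matB_00]; rfl
  · intro k
    fin_cases k
    · rfl
    · rfl
    · rfl
    · rfl
  · intro k
    fin_cases k <;> rfl
  · rw [hN, blockN_umat]

theorem uB_s0 : uB ((1, 0, 0) : HP) = ⟨s0, Subgroup.mem_centralizer_singleton_iff.mpr rfl⟩ := by
  apply matB_injective
  rw [matB_uB]
  show _ = Matrix.transvection 0 1 1
  ext i j
  fin_cases i <;> fin_cases j <;> simp [umat, Matrix.transvection]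

end Cfsg.Agent.Helper27
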