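import Cfsg.Agent.Helper27.SL5Unip
import Cfsg.Agent.Helper3.ES2

/-!
The kernel of the block homomorphism on the centraliser of a transvection in `SL(5, 2)` is an extraspecial group of
order `2 ^ 7`, it is its own centraliser modulo its centre, and `SL(3, 2)` has no normal 2-subgroups.
-/

set_option autoImplicit false

namespace Cfsg.Agent.Helper27

open Cfsg.Agent.Helper3

/-- the central parameter -/
def hz : HP := (1, 0, 0)

/-- central parameters -/
def HPCentral (a : HP) : Prop := ∀ b : HP, hmul a b = hmul b a

instance : DecidablePred HPCentral := fun a => by unfold HPCentral; infer_instance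

theorem hp_center : ∀ a : HP, HPCentral a → a = ((0, 0, 0) : HP) ∨ a = hz := by
  decide +kernel

theorem hp_comm : ∀ a b : HP, hmul a b = hmul b a ∨ hmul a b = hmul (hmul b a) hz := by
  decide +kernel

theorem hp_central : ∀ a : HP, hmul a hz = hmul hz a := by decide +kernel

theorem hp_sq : ∀ a : HP, hmul a a = ((0, 0, 0) : HP) ∨ hmul a a = hz := by decide +kernel

theorem hp_zero : hmul ((0, 0, 0) : HP) ((0, 0, 0) : HP) = ((0, 0, 0) : HP) := by decide

/-- a group parametrised bijectively and multiplicatively by the parameters is extraspecial -/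
theorem es2_of_param {K : Type*} [Group K] (u : HP → K) (hu : Function.Bijective u)
    (hmulu : ∀ a b, u a * u b = u (hmul a b)) : ES2 K (u hz) := by
  have h0 : u ((0, 0, 0) : HP) = 1 := by
    have := hmulu ((0, 0, 0) : HP) ((0, 0, 0) : HP)
    rw [hp_zero] at this
    exact mul_left_cancel (a := u ((0, 0, 0) : HP)) (by rw [this, mul_one])
  refine ⟨?_, ?_, ?_, ?_, ?_, ?_⟩
  · rw [← h0]
    intro h
    have := hu.1 h
    revert this
    decide
  · intro g
    obtain ⟨a, rfl⟩ := hu.2 g
    rw [hmulu, hmulu, hp_central]
  · intro g hg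
    obtain ⟨a, rfl⟩ := hu.2 g
    have : HPCentral a := by
      intro b
      apply hu.1
      rw [← hmulu, ← hmulu]
      exact hg (u b)
    rcases hp_center a this with h | h
    · left; rw [h, h0]
    · right; rw [h]
  · intro x
    obtain ⟨a, rfl⟩ := hu.2 x
    rw [pow_two, hmulu]
    rcases hp_sq a with h | h
    · left; rw [h, h0]
    · right; rw [h]
  · intro x y
    obtain ⟨a, rfl⟩ := hu.2 x
    obtain ⟨b, rfl⟩ := hu.2 y
    rw [hmulu, hmulu, hmulu]
    rcases hp_comm a b with h | h
    · left; rw [h]
    · right; rw [h]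
  · refine ⟨u ((0, Pi.single 0 1, 0) : HP), u ((0, 0, Pi.single 0 1) : HP), ?_⟩
    rw [hmulu, hmulu]
    intro h
    have := hu.1 h
    revert this
    decide

/-- the parametrisation of the kernel -/
def uK (a : HP) : ↥nuHom.ker := ⟨uB a, uB_mem_ker a⟩

theorem uK_bijective : Function.Bijective uK := by
  constructor
  · intro a b h
    exact uB_injective (congrArg Subtype.val h)
  · intro c
    obtain ⟨a, ha⟩ := exists_uB c.2
    exact ⟨a, Subtype.ext ha.symm⟩

theorem uK_mul (a b : HP) : uK a * uK b = uK (hmul a b) := Subtype.ext (uB_mul a b)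

/-- the kernel is extraspecial -/
theorem es2_ker : ES2 ↥nuHom.ker (uK hz) := es2_of_param uK uK_bijective uK_mul

theorem card_ker : Nat.card ↥nuHom.ker = 2 ^ 7 := by
  rw [← Nat.card_congr (Equiv.ofBijective uK uK_bijective)]
  simp [Nat.card_eq_fintype_card, ZMod.card]

end Cfsg.Agent.Helper27
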