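import Cfsg.Agent.Helper27.SL5Unip2

/-!
More on the centraliser of a transvection in `SL(5, 2)`: the centraliser of the kernel of the block homomorphism,
the absence of normal 2-subgroups in `SL(3, 2)`, and an elementary abelian subgroup of order 16 of the kernel.
-/

set_option autoImplicit false
set_option linter.style.haveILetI false

namespace Cfsg.Agent.Helper27


theorem row_of_comm {M : Matrix (Fin 5) (Fin 5) (ZMod 2)} (h00 : M 0 0 = 1) (k : Fin 3)
    (hc : M * umat ((0, Pi.single k 1, 0) : HP) = umat ((0, Pi.single k 1, 0) : HP) * M) (b : Fin 5) :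
    M k.succ.succ b = if b = k.succ.succ then 1 else 0 := by
  have key := congrFun (congrFun hc 0) b
  fin_cases k <;> fin_cases b <;>
    simp [umat, Matrix.mul_apply, Fin.sum_univ_five, h00] at key ⊢ <;>
    first | exact key | (rw [add_comm] at key; exact (add_left_cancel key).symm)

theorem col_of_comm {M : Matrix (Fin 5) (Fin 5) (ZMod 2)} (h11 : M 1 1 = 1) (k : Fin 3)
    (hc : M * umat ((0, 0, Pi.single k 1) : HP) = umat ((0, 0, Pi.single k 1) : HP) * M) (b : Fin 5) :
    M b k.succ.succ = if b = k.succ.succ then 1 else 0 := by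
  have key := congrFun (congrFun hc b) 1
  fin_cases k <;> fin_cases b <;>
    simp [umat, Matrix.mul_apply, Fin.sum_univ_five, h11] at key ⊢ <;>
    first | exact key | (rw [add_comm 1] at key; exact add_left_cancel key)

theorem zmod2_zero_or_one (c : ZMod 2) : c = 0 ∨ c = 1 := by
  revert c; decide

theorem uB_zero : uB ((0, 0, 0) : HP) = 1 := matB_injective umat_zero

/-- the centraliser of the kernel in the centraliser of the transvection is the centre of the kernel -/
theorem cent_ker (c : ↥BT) (hc : ∀ a : HP, c * uB a = uB a * c) : c = 1 ∨ c = uB hz := by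
  have hM : ∀ a : HP, matB c * umat a = umat a * matB c := fun a => congrArg matB (hc a)
  have R := fun k b => row_of_comm (matB_00 c) k (hM _) b
  have C := fun k b => col_of_comm (matB_11 c) k (hM _) b
  have key : c = uB ((matB c 0 1, 0, 0) : HP) := by
    apply matB_injective
    rw [matB_uB]
    apply tvCent_ext (matB_tv c) (umat_tv _)
    · rw [matB_00]; rfl
    · intro k
      fin_cases k
      · rfl
      · exact R 0 1
      · exact R 1 1
      · exact R 2 1
    · intro k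
      fin_cases k
      · exact C 0 0
      · exact C 1 0
      · exact C 2 0
    · rw [blockN_umat]
      ext i j
      fin_cases i <;> fin_cases j
      · exact R 0 2
      · exact R 0 3
      · exact R 0 4
      · exact R 1 2
      · exact R 1 3
      · exact R 1 4
      · exact R 2 2
      · exact R 2 3
      · exact R 2 4
  rcases zmod2_zero_or_one (matB c 0 1) with h | h
  · left
    rw [key, h, uB_zero]
  · right
    rw [key, h]
    rfl



/-- a matrix of determinant one with a given nonzero first column -/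
def gOf (w : Fin 3 → ZMod 2) : Matrix (Fin 3) (Fin 3) (ZMod 2) :=
  if w 0 = 1 then !![1, 0, 0; w 1, 1, 0; w 2, 0, 1]
  else if w 1 = 1 then !![0, 1, 0; 1, 0, 0; w 2, 0, 1]
  else !![0, 0, 1; 0, 1, 0; 1, 0, 0]

theorem gOf_spec : ∀ w : Fin 3 → ZMod 2, w ≠ 0 → (gOf w).det = 1 ∧ (gOf w).mulVec (Pi.single 0 1) = w := by
  decide

/-- a 2-subgroup of `SL(3, 2)` fixes a nonzero vector -/
theorem exists_fixed_vector (N : Subgroup SL3) (h2 : IsPGroup 2 N) :
    ∃ v : Fin 3 → ZMod 2, v ≠ 0 ∧ ∀ n ∈ N, (n : Matrix (Fin 3) (Fin 3) (ZMod 2)).mulVec v = v := by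
  haveI : Fact (Nat.Prime 2) := ⟨Nat.prime_two⟩
  letI : MulAction ↥N (Fin 3 → ZMod 2) :=
    MulAction.compHom (Fin 3 → ZMod 2) ((Matrix.SpecialLinearGroup.toLin' (n := Fin 3) (R := ZMod 2)).comp N.subtype)
  have hfp : ∀ v : Fin 3 → ZMod 2, v ∈ MulAction.fixedPoints ↥N (Fin 3 → ZMod 2) ↔
      ∀ n ∈ N, (n : Matrix (Fin 3) (Fin 3) (ZMod 2)).mulVec v = v := by
    intro v
    constructor
    · intro h n hn
      exact h ⟨n, hn⟩
    · intro h n
      exact h n.1 n.2
  have hmod := h2.card_modEq_card_fixedPoints (Fin 3 → ZMod 2)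
  have hcard : Nat.card (Fin 3 → ZMod 2) = 8 := by
    simp [Nat.card_eq_fintype_card, ZMod.card]
  rw [hcard] at hmod
  by_contra hcon
  push Not at hcon
  have hsub : MulAction.fixedPoints ↥N (Fin 3 → ZMod 2) = {0} := by
    ext v
    rw [hfp, Set.mem_singleton_iff]
    constructor
    · intro hv
      by_contra hne
      obtain ⟨n, hn, hnv⟩ := hcon v hne
      exact hnv (hv n hn)
    · rintro rfl n _
      rw [Matrix.mulVec_zero]
  rw [hsub] at hmod
  simp at hmod
  revert hmod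
  decide

/-- `SL(3, 2)` has no nontrivial normal 2-subgroup -/
theorem sl3_no_normal_two (N : Subgroup SL3) (hN : N.Normal) (h2 : IsPGroup 2 N) : N = ⊥ := by
  obtain ⟨v0, hv0, hfix0⟩ := exists_fixed_vector N h2
  -- the fixed vectors are invariant
  have hinv : ∀ (g : SL3) (v : Fin 3 → ZMod 2),
      (∀ n ∈ N, (n : Matrix (Fin 3) (Fin 3) (ZMod 2)).mulVec v = v) →
      ∀ n ∈ N, (n : Matrix (Fin 3) (Fin 3) (ZMod 2)).mulVec
        ((g : Matrix (Fin 3) (Fin 3) (ZMod 2)).mulVec v) = (g : Matrix (Fin 3) (Fin 3) (ZMod 2)).mulVec v := by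
    intro g v hv n hn
    have hn' : g⁻¹ * n * g ∈ N := by
      have := hN.conj_mem n hn g⁻¹
      simpa using this
    have h1 := hv _ hn'
    have h3 : n * g = g * (g⁻¹ * n * g) := by group
    have h4 : (n : Matrix (Fin 3) (Fin 3) (ZMod 2)) * (g : Matrix (Fin 3) (Fin 3) (ZMod 2)) =
        (g : Matrix (Fin 3) (Fin 3) (ZMod 2)) * ((g⁻¹ * n * g : SL3) : Matrix (Fin 3) (Fin 3) (ZMod 2)) := by
      rw [← Matrix.SpecialLinearGroup.coe_mul, ← Matrix.SpecialLinearGroup.coe_mul, ← h3]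
    rw [Matrix.mulVec_mulVec, h4, ← Matrix.mulVec_mulVec, h1]
  -- the first basis vector is fixed
  let g0 : SL3 := ⟨gOf v0, (gOf_spec v0 hv0).1⟩
  have he0 : ∀ n ∈ N, (n : Matrix (Fin 3) (Fin 3) (ZMod 2)).mulVec (Pi.single 0 1) = Pi.single 0 1 := by
    have h1 := hinv g0⁻¹ v0 hfix0
    have h2 : ((g0⁻¹ : SL3) : Matrix (Fin 3) (Fin 3) (ZMod 2)).mulVec v0 = Pi.single 0 1 := by
      have h3 : v0 = (g0 : Matrix (Fin 3) (Fin 3) (ZMod 2)).mulVec (Pi.single 0 1) := (gOf_spec v0 hv0).2.symm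
      conv_lhs => rw [h3]
      rw [Matrix.mulVec_mulVec, ← Matrix.SpecialLinearGroup.coe_mul, inv_mul_cancel,
        Matrix.SpecialLinearGroup.coe_one, Matrix.one_mulVec]
    rwa [h2] at h1
  -- all vectors are fixed
  have hall : ∀ n ∈ N, ∀ w : Fin 3 → ZMod 2, (n : Matrix (Fin 3) (Fin 3) (ZMod 2)).mulVec w = w := by
    intro n hn w
    by_cases hw : w = 0
    · rw [hw, Matrix.mulVec_zero]
    · let gw : SL3 := ⟨gOf w, (gOf_spec w hw).1⟩
      have h1 := hinv gw _ he0 n hn
      have h2 : (gw : Matrix (Fin 3) (Fin 3) (ZMod 2)).mulVec (Pi.single 0 1) = w := (gOf_spec w hw).2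
      rwa [h2] at h1
  rw [eq_bot_iff]
  intro n hn
  rw [Subgroup.mem_bot]
  apply Subtype.ext
  apply Matrix.toLin'.injective
  apply LinearMap.ext
  intro w
  rw [Matrix.toLin'_apply, hall n hn w]
  simp


/-! ### An elementary abelian subgroup of order 16 -/

theorem hmul_e (c c' : ZMod 2) (r r' : Fin 3 → ZMod 2) :
    hmul ((c, r, 0) : HP) ((c', r', 0) : HP) = ((c + c', r + r', 0) : HP) := by
  simp [hmul]

theorem uB_e_sq (c : ZMod 2) (r : Fin 3 → ZMod 2) : uB ((c, r, 0) : HP) * uB ((c, r, 0) : HP) = 1 := by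
  rw [uB_mul, hmul_e, ← uB_zero]
  congr 2
  · exact CharTwo.add_self_eq_zero c
  · congr 1
    ext i
    exact CharTwo.add_self_eq_zero (r i)

/-- the elements with vanishing third parameter -/
def EB : Subgroup ↥BT where
  carrier := {x | ∃ (c : ZMod 2) (r : Fin 3 → ZMod 2), x = uB ((c, r, 0) : HP)}
  mul_mem' := by
    rintro _ _ ⟨c, r, rfl⟩ ⟨c', r', rfl⟩
    exact ⟨c + c', r + r', by rw [uB_mul, hmul_e]⟩
  one_mem' := ⟨0, 0, uB_zero.symm⟩
  inv_mem' := by
    rintro _ ⟨c, r, rfl⟩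
    exact ⟨c, r, inv_eq_of_mul_eq_one_left (uB_e_sq c r)⟩

theorem mem_EB (x : ↥BT) : x ∈ EB ↔ ∃ (c : ZMod 2) (r : Fin 3 → ZMod 2), x = uB ((c, r, 0) : HP) := Iff.rfl

theorem EB_le_ker : EB ≤ nuHom.ker := by
  rintro _ ⟨c, r, rfl⟩
  exact uB_mem_ker _

theorem EB_comm {x y : ↥BT} (hx : x ∈ EB) (hy : y ∈ EB) : x * y = y * x := by
  obtain ⟨c, r, rfl⟩ := hx
  obtain ⟨c', r', rfl⟩ := hy
  rw [uB_mul, uB_mul, hmul_e, hmul_e, add_comm c, add_comm r]

theorem EB_sq {x : ↥BT} (hx : x ∈ EB) : x * x = 1 := by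
  obtain ⟨c, r, rfl⟩ := hx
  exact uB_e_sq c r

theorem card_EB : Nat.card ↥EB = 2 ^ 4 := by
  have e : (ZMod 2 × (Fin 3 → ZMod 2)) ≃ ↥EB :=
    Equiv.ofBijective (fun p => ⟨uB ((p.1, p.2, 0) : HP), p.1, p.2, rfl⟩) (by
      constructor
      · intro p q h
        have h1 := uB_injective (congrArg Subtype.val h)
        have h2 : p.1 = q.1 := congrArg (fun a : HP => a.1) h1
        have h3 : p.2 = q.2 := congrArg (fun a : HP => a.2.1) h1
        exact Prod.ext h2 h3
      · rintro ⟨_, c, r, rfl⟩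
        exact ⟨(c, r), rfl⟩)
  rw [← Nat.card_congr e]
  simp [Nat.card_eq_fintype_card, ZMod.card]

end Cfsg.Agent.Helper27
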