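import Mathlib

/-!
Matrices of size `n + 2` over the field with two elements split into nine parts, and the shape of the matrices
commuting with the transvection `1 + E₀₁`.
-/

set_option autoImplicit false
namespace Cfsg.Agent.Helper27

variable {n : ℕ}

theorem fin_cases3 {P : Fin (n + 2) → Prop} (h0 : P 0) (h1 : P 1) (hk : ∀ k : Fin n, P k.succ.succ)
    (i : Fin (n + 2)) : P i := by
  refine Fin.cases h0 (fun i' => ?_) i
  refine Fin.cases ?_ (fun k => hk k) i'
  rw [Fin.succ_zero_eq_one]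
  exact h1

theorem sum3 {M : Type*} [AddCommMonoid M] (f : Fin (n + 2) → M) :
    ∑ i, f i = f 0 + f 1 + ∑ k : Fin n, f k.succ.succ := by
  rw [Fin.sum_univ_succ, Fin.sum_univ_succ, Fin.succ_zero_eq_one]
  exact (add_assoc _ _ _).symm

/-- a matrix given by its nine parts -/
def mk3 (a00 a01 : ZMod 2) (a0 : Fin n → ZMod 2) (a10 a11 : ZMod 2) (a1 : Fin n → ZMod 2)
    (c0 c1 : Fin n → ZMod 2) (N : Matrix (Fin n) (Fin n) (ZMod 2)) : Matrix (Fin (n + 2)) (Fin (n + 2)) (ZMod 2) :=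
  Matrix.of fun i j =>
    Fin.cases (Fin.cases a00 (fun j' => Fin.cases a01 a0 j') j)
      (fun i' => Fin.cases (Fin.cases a10 (fun j' => Fin.cases a11 a1 j') j)
        (fun k => Fin.cases (c0 k) (fun j' => Fin.cases (c1 k) (fun l => N k l) j') j) i') i

section
variable (a00 a01 : ZMod 2) (a0 : Fin n → ZMod 2) (a10 a11 : ZMod 2) (a1 : Fin n → ZMod 2)
    (c0 c1 : Fin n → ZMod 2) (N : Matrix (Fin n) (Fin n) (ZMod 2))

@[simp] theorem mk3_00 : mk3 a00 a01 a0 a10 a11 a1 c0 c1 N 0 0 = a00 := rfl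
@[simp] theorem mk3_01 : mk3 a00 a01 a0 a10 a11 a1 c0 c1 N 0 1 = a01 := by
  rw [← Fin.succ_zero_eq_one]; rfl
@[simp] theorem mk3_0k (l : Fin n) : mk3 a00 a01 a0 a10 a11 a1 c0 c1 N 0 l.succ.succ = a0 l := rfl
@[simp] theorem mk3_10 : mk3 a00 a01 a0 a10 a11 a1 c0 c1 N 1 0 = a10 := by
  rw [← Fin.succ_zero_eq_one]; rfl
@[simp] theorem mk3_11 : mk3 a00 a01 a0 a10 a11 a1 c0 c1 N 1 1 = a11 := by
  rw [← Fin.succ_zero_eq_one]; rfl
@[simp] theorem mk3_1k (l : Fin n) : mk3 a00 a01 a0 a10 a11 a1 c0 c1 N 1 l.succ.succ = a1 l := by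
  rw [← Fin.succ_zero_eq_one]; rfl
@[simp] theorem mk3_k0 (k : Fin n) : mk3 a00 a01 a0 a10 a11 a1 c0 c1 N k.succ.succ 0 = c0 k := rfl
@[simp] theorem mk3_k1 (k : Fin n) : mk3 a00 a01 a0 a10 a11 a1 c0 c1 N k.succ.succ 1 = c1 k := by
  rw [← Fin.succ_zero_eq_one]; rfl
@[simp] theorem mk3_kl (k l : Fin n) : mk3 a00 a01 a0 a10 a11 a1 c0 c1 N k.succ.succ l.succ.succ = N k l := rfl
end

theorem mat_ext3 {A B : Matrix (Fin (n + 2)) (Fin (n + 2)) (ZMod 2)} (h00 : A 0 0 = B 0 0) (h01 : A 0 1 = B 0 1)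
    (h0k : ∀ l : Fin n, A 0 l.succ.succ = B 0 l.succ.succ) (h10 : A 1 0 = B 1 0) (h11 : A 1 1 = B 1 1)
    (h1k : ∀ l : Fin n, A 1 l.succ.succ = B 1 l.succ.succ) (hk0 : ∀ k : Fin n, A k.succ.succ 0 = B k.succ.succ 0)
    (hk1 : ∀ k : Fin n, A k.succ.succ 1 = B k.succ.succ 1)
    (hkl : ∀ k l : Fin n, A k.succ.succ l.succ.succ = B k.succ.succ l.succ.succ) : A = B := by
  ext i j
  revert j
  refine fin_cases3 (P := fun i => ∀ j, A i j = B i j) ?_ ?_ ?_ i
  · exact fin_cases3 h00 h01 h0k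
  · exact fin_cases3 h10 h11 h1k
  · intro k
    exact fin_cases3 (hk0 k) (hk1 k) (hkl k)

theorem mul_apply3 (A B : Matrix (Fin (n + 2)) (Fin (n + 2)) (ZMod 2)) (i j : Fin (n + 2)) :
    (A * B) i j = A i 0 * B 0 j + A i 1 * B 1 j + ∑ k : Fin n, A i k.succ.succ * B k.succ.succ j := by
  rw [Matrix.mul_apply, sum3]

theorem fin_ne01 : (0 : Fin (n + 2)) ≠ 1 := by
  rw [← Fin.succ_zero_eq_one]
  exact (Fin.succ_ne_zero _).symm

theorem fin_nek0 (k : Fin n) : (k.succ.succ : Fin (n + 2)) ≠ 0 := Fin.succ_ne_zero _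

theorem fin_nek1 (k : Fin n) : (k.succ.succ : Fin (n + 2)) ≠ 1 := by
  rw [← Fin.succ_zero_eq_one]
  intro h
  exact Fin.succ_ne_zero k (Fin.succ_injective _ h)

theorem fin_kk_iff (k l : Fin n) : (k.succ.succ : Fin (n + 2)) = l.succ.succ ↔ k = l :=
  ⟨fun h => Fin.succ_injective _ (Fin.succ_injective _ h), fun h => by rw [h]⟩

/-- the matrices in the centraliser of the transvection -/
structure TvCentN (M : Matrix (Fin (n + 2)) (Fin (n + 2)) (ZMod 2)) : Prop where
  c10 : M 1 0 = 0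
  ck0 : ∀ k : Fin n, M k.succ.succ 0 = 0
  r1k : ∀ l : Fin n, M 1 l.succ.succ = 0
  diag : M 0 0 = M 1 1

theorem mul_single_eq_of_comm {M : Matrix (Fin (n + 2)) (Fin (n + 2)) (ZMod 2)} {i j : Fin (n + 2)}
    (h : M * Matrix.transvection i j 1 = Matrix.transvection i j 1 * M) :
    M * Matrix.single i j 1 = Matrix.single i j 1 * M := by
  rw [Matrix.transvection, mul_add, add_mul, mul_one, one_mul] at h
  exact add_left_cancel h

theorem tvCentN_of_comm {M : Matrix (Fin (n + 2)) (Fin (n + 2)) (ZMod 2)}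
    (h : M * Matrix.transvection 0 1 1 = Matrix.transvection 0 1 1 * M) : TvCentN M := by
  have key : ∀ a b : Fin (n + 2), (M * Matrix.single 0 1 (1 : ZMod 2) : Matrix _ _ (ZMod 2)) a b =
      (Matrix.single 0 1 (1 : ZMod 2) * M : Matrix _ _ (ZMod 2)) a b := fun a b => by
    rw [mul_single_eq_of_comm h]
  refine ⟨?_, ?_, ?_, ?_⟩
  · have := key 1 1
    rw [Matrix.mul_single_apply_same, Matrix.single_mul_apply_of_ne (h := fin_ne01.symm), mul_one] at this
    exact this
  · intro k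
    have := key k.succ.succ 1
    rw [Matrix.mul_single_apply_same, Matrix.single_mul_apply_of_ne (h := (fin_nek0 k)), mul_one] at this
    exact this
  · intro l
    have := key 0 l.succ.succ
    rw [Matrix.mul_single_apply_of_ne (hbj := (fin_nek1 l)), Matrix.single_mul_apply_same, one_mul] at this
    exact this.symm
  · have := key 0 1
    rw [Matrix.mul_single_apply_same, Matrix.single_mul_apply_same, mul_one, one_mul] at this
    exact this

theorem comm_of_tvCentN {M : Matrix (Fin (n + 2)) (Fin (n + 2)) (ZMod 2)} (h : TvCentN M) :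
    M * Matrix.transvection 0 1 1 = Matrix.transvection 0 1 1 * M := by
  rw [Matrix.transvection, mul_add, add_mul, mul_one, one_mul]
  congr 1
  apply mat_ext3
  · rw [Matrix.mul_single_apply_of_ne (hbj := fin_ne01), Matrix.single_mul_apply_same, one_mul, h.c10]
  · rw [Matrix.mul_single_apply_same, Matrix.single_mul_apply_same, mul_one, one_mul, h.diag]
  · intro l
    rw [Matrix.mul_single_apply_of_ne (hbj := (fin_nek1 l)), Matrix.single_mul_apply_same, one_mul, h.r1k]
  · rw [Matrix.mul_single_apply_of_ne (hbj := fin_ne01), Matrix.single_mul_apply_of_ne (h := fin_ne01.symm)]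
  · rw [Matrix.mul_single_apply_same, Matrix.single_mul_apply_of_ne (h := fin_ne01.symm), mul_one, h.c10]
  · intro l
    rw [Matrix.mul_single_apply_of_ne (hbj := (fin_nek1 l)), Matrix.single_mul_apply_of_ne (h := fin_ne01.symm)]
  · intro k
    rw [Matrix.mul_single_apply_of_ne (hbj := fin_ne01), Matrix.single_mul_apply_of_ne (h := (fin_nek0 k))]
  · intro k
    rw [Matrix.mul_single_apply_same, Matrix.single_mul_apply_of_ne (h := (fin_nek0 k)), mul_one, h.ck0]
  · intro k l
    rw [Matrix.mul_single_apply_of_ne (hbj := (fin_nek1 l)), Matrix.single_mul_apply_of_ne (h := (fin_nek0 k))]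

/-- the lower right block -/
def blockNn (M : Matrix (Fin (n + 2)) (Fin (n + 2)) (ZMod 2)) : Matrix (Fin n) (Fin n) (ZMod 2) :=
  fun k l => M k.succ.succ l.succ.succ

theorem det_blockNn {M : Matrix (Fin (n + 2)) (Fin (n + 2)) (ZMod 2)} (h : TvCentN M) :
    M.det = M 0 0 * (M 1 1 * (blockNn M).det) := by
  rw [Matrix.det_succ_column_zero, Finset.sum_eq_single 0]
  · rw [Matrix.det_succ_row_zero, Finset.sum_eq_single 0]
    · simp only [Fin.val_zero, pow_zero, one_mul, Fin.succAbove_zero, Matrix.submatrix_apply,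
        Matrix.submatrix_submatrix]
      rw [Fin.succ_zero_eq_one]
      rfl
    · intro j _ hj
      have : M 1 j.succ = 0 := by
        revert hj
        refine Fin.cases (fun h0 => absurd rfl h0) (fun l _ => ?_) j
        exact h.r1k l
      simp only [Matrix.submatrix_apply, Fin.succAbove_zero]
      rw [Fin.succ_zero_eq_one, this, mul_zero, zero_mul]
    · intro h0
      exact absurd (Finset.mem_univ _) h0
  · intro i _ hi
    have : M i 0 = 0 := by
      revert hi
      refine fin_cases3 (P := fun i => i ≠ 0 → M i 0 = 0) (fun h0 => absurd rfl h0) (fun _ => h.c10)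
        (fun k _ => h.ck0 k) i
    rw [this, mul_zero, zero_mul]
  · intro h0
    exact absurd (Finset.mem_univ _) h0

theorem blockNn_one : blockNn (1 : Matrix (Fin (n + 2)) (Fin (n + 2)) (ZMod 2)) = 1 := by
  ext k l
  rw [blockNn, Matrix.one_apply, Matrix.one_apply]
  simp only [fin_kk_iff]

theorem blockNn_mul {M M' : Matrix (Fin (n + 2)) (Fin (n + 2)) (ZMod 2)} (h : TvCentN M) (h' : TvCentN M') :
    blockNn (M * M') = blockNn M * blockNn M' := by
  ext k l
  rw [blockNn, mul_apply3, h.ck0, h'.r1k, zero_mul, mul_zero, zero_add, zero_add, Matrix.mul_apply]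
  rfl

end Cfsg.Agent.Helper27
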