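import Cfsg.Agent.Helper27.SLnTv
import Cfsg.Agent.Helper27.HeisParam

/-!
The centraliser of the transvection `1 + E₀₁` in `SL(n + 2, 2)`: the block homomorphism onto `SL(n, 2)`, its section,
and the parametrisation of its kernel.
-/

set_option autoImplicit false

namespace Cfsg.Agent.Helper27

variable {n : ℕ}

/-- the block diagonal matrix with a given lower right block -/
def jmatN (N : Matrix (Fin n) (Fin n) (ZMod 2)) : Matrix (Fin (n + 2)) (Fin (n + 2)) (ZMod 2) :=
  mk3 1 0 0 0 1 0 0 0 N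

/-- the unipotent matrix with given parameters -/
def umatN (a : HPn n) : Matrix (Fin (n + 2)) (Fin (n + 2)) (ZMod 2) :=
  mk3 1 a.1 a.2.1 0 1 0 0 a.2.2 1

theorem jmatN_tv (N : Matrix (Fin n) (Fin n) (ZMod 2)) : TvCentN (jmatN N) := by
  refine ⟨?_, ?_, ?_, ?_⟩ <;> simp [jmatN]

theorem umatN_tv (a : HPn n) : TvCentN (umatN a) := by
  refine ⟨?_, ?_, ?_, ?_⟩ <;> simp [umatN]

theorem blockNn_jmatN (N : Matrix (Fin n) (Fin n) (ZMod 2)) : blockNn (jmatN N) = N := by
  ext k l
  simp [blockNn, jmatN]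

theorem blockNn_umatN (a : HPn n) : blockNn (umatN a) = 1 := by
  ext k l
  simp [blockNn, umatN]

theorem jmatN_one : jmatN (1 : Matrix (Fin n) (Fin n) (ZMod 2)) = 1 := by
  apply mat_ext3 <;> simp [jmatN, Matrix.one_apply, fin_ne01.symm, fin_nek1, (fin_nek0 _).symm, (fin_nek1 _).symm]

theorem umatN_zero : umatN ((0, 0, 0) : HPn n) = 1 := by
  apply mat_ext3 <;> simp [umatN, Matrix.one_apply, fin_ne01.symm, fin_nek1, (fin_nek0 _).symm, (fin_nek1 _).symm]

theorem jmatN_mul (N N' : Matrix (Fin n) (Fin n) (ZMod 2)) : jmatN (N * N') = jmatN N * jmatN N' := by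
  apply mat_ext3 <;> intros <;> rw [mul_apply3] <;> simp [jmatN, Matrix.mul_apply]

theorem umatN_mul (a b : HPn n) : umatN a * umatN b = umatN (hmulN a b) := by
  apply mat_ext3 <;> intros <;> rw [mul_apply3] <;> simp [umatN, hmulN, dotProduct, Matrix.one_apply] <;>
    exact add_comm _ _


theorem tvCentN_ext {M M' : Matrix (Fin (n + 2)) (Fin (n + 2)) (ZMod 2)} (h : TvCentN M) (h' : TvCentN M')
    (h00 : M 0 0 = M' 0 0) (h01 : M 0 1 = M' 0 1) (hr : ∀ l : Fin n, M 0 l.succ.succ = M' 0 l.succ.succ)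
    (hy : ∀ k : Fin n, M k.succ.succ 1 = M' k.succ.succ 1) (hN : blockNn M = blockNn M') : M = M' := by
  apply mat_ext3 h00 h01 hr
  · rw [h.c10, h'.c10]
  · rw [← h.diag, ← h'.diag, h00]
  · intro l
    rw [h.r1k, h'.r1k]
  · intro k
    rw [h.ck0, h'.ck0]
  · exact hy
  · intro k l
    exact congrFun (congrFun hN k) l

theorem umatN_injective : Function.Injective (umatN (n := n)) := by
  intro a b h
  have e : ∀ i j, umatN a i j = umatN b i j := fun i j => by rw [h]
  refine Prod.ext ?_ (Prod.ext ?_ ?_)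
  · simpa [umatN] using e 0 1
  · funext l
    simpa [umatN] using e 0 l.succ.succ
  · funext k
    simpa [umatN] using e k.succ.succ 1

theorem zmod2_mul_eq_one_n {a b : ZMod 2} (h : a * b = 1) : a = 1 ∧ b = 1 := by
  revert a b; decide

theorem tvCentN_facts {M : Matrix (Fin (n + 2)) (Fin (n + 2)) (ZMod 2)} (h : TvCentN M) (hdet : M.det = 1) :
    M 0 0 = 1 ∧ (blockNn M).det = 1 := by
  rw [det_blockNn h] at hdet
  obtain ⟨h1, h2⟩ := zmod2_mul_eq_one_n hdet
  exact ⟨h1, (zmod2_mul_eq_one_n h2).2⟩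

theorem det_jmatN (N : Matrix (Fin n) (Fin n) (ZMod 2)) : (jmatN N).det = N.det := by
  rw [det_blockNn (jmatN_tv N), blockNn_jmatN]
  simp [jmatN]

theorem det_umatN (a : HPn n) : (umatN a).det = 1 := by
  rw [det_blockNn (umatN_tv a), blockNn_umatN]
  simp [umatN]

/-! ### The groups -/

abbrev SLt (n : ℕ) : Type := Matrix.SpecialLinearGroup (Fin (n + 2)) (ZMod 2)

abbrev SLb (n : ℕ) : Type := Matrix.SpecialLinearGroup (Fin n) (ZMod 2)

/-- the standard transvection -/
def s0N (n : ℕ) : SLt n := ⟨Matrix.transvection 0 1 1, Matrix.det_transvection_of_ne 0 1 fin_ne01 1⟩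

theorem s0N_coe : ((s0N n : SLt n) : Matrix (Fin (n + 2)) (Fin (n + 2)) (ZMod 2)) = Matrix.transvection 0 1 1 := rfl

/-- the centraliser of the standard transvection -/
abbrev BTn (n : ℕ) : Subgroup (SLt n) := Subgroup.centralizer ({s0N n} : Set (SLt n))

/-- the matrix of an element of the centraliser -/
def matBn (c : ↥(BTn n)) : Matrix (Fin (n + 2)) (Fin (n + 2)) (ZMod 2) :=
  ((c : SLt n) : Matrix (Fin (n + 2)) (Fin (n + 2)) (ZMod 2))

theorem matBn_tv (c : ↥(BTn n)) : TvCentN (matBn c) := by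
  apply tvCentN_of_comm
  have h := Subgroup.mem_centralizer_singleton_iff.mp c.2
  have h2 := congrArg (fun x : SLt n => (x : Matrix (Fin (n + 2)) (Fin (n + 2)) (ZMod 2))) h
  simp only [Matrix.SpecialLinearGroup.coe_mul, s0N_coe] at h2
  exact h2

theorem matBn_mul (c c' : ↥(BTn n)) : matBn (c * c') = matBn c * matBn c' := rfl

theorem matBn_one : matBn (1 : ↥(BTn n)) = 1 := rfl

theorem matBn_injective : Function.Injective (matBn (n := n)) := fun _ _ h => Subtype.ext (Subtype.ext h)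

theorem matBn_det (c : ↥(BTn n)) : (matBn c).det = 1 := (c : SLt n).2

theorem matBn_00 (c : ↥(BTn n)) : matBn c 0 0 = 1 := (tvCentN_facts (matBn_tv c) (matBn_det c)).1

theorem matBn_11 (c : ↥(BTn n)) : matBn c 1 1 = 1 := by rw [← (matBn_tv c).diag, matBn_00]

theorem mem_BTn_of_tv {g : SLt n} (h : TvCentN (g : Matrix (Fin (n + 2)) (Fin (n + 2)) (ZMod 2))) : g ∈ BTn n := by
  rw [Subgroup.mem_centralizer_singleton_iff]
  apply Subtype.ext
  exact comm_of_tvCentN h

/-- the lower right block, as a homomorphism onto `SL(n, 2)` -/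
def nuHomN : ↥(BTn n) →* SLb n where
  toFun c := ⟨blockNn (matBn c), (tvCentN_facts (matBn_tv c) (matBn_det c)).2⟩
  map_one' := Subtype.ext blockNn_one
  map_mul' c c' := Subtype.ext (blockNn_mul (matBn_tv c) (matBn_tv c'))

/-- the block diagonal embedding of `SL(n, 2)` -/
def jSLn (N : SLb n) : SLt n := ⟨jmatN N, by rw [det_jmatN]; exact N.2⟩

theorem jSLn_coe (N : SLb n) :
    ((jSLn N : SLt n) : Matrix (Fin (n + 2)) (Fin (n + 2)) (ZMod 2)) = jmatN (N : Matrix (Fin n) (Fin n) (ZMod 2)) := rfl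

theorem jSLn_mem (N : SLb n) : jSLn N ∈ BTn n :=
  mem_BTn_of_tv (g := jSLn N) (show TvCentN (jmatN (N : Matrix (Fin n) (Fin n) (ZMod 2))) from jmatN_tv _)

theorem jSLn_one : jSLn (1 : SLb n) = 1 := Subtype.ext jmatN_one

theorem jSLn_mul (N N' : SLb n) : jSLn (N * N') = jSLn N * jSLn N' :=
  Subtype.ext (jmatN_mul (N : Matrix (Fin n) (Fin n) (ZMod 2)) (N' : Matrix (Fin n) (Fin n) (ZMod 2)))

/-- the section of the block homomorphism -/
def jHomN : SLb n →* ↥(BTn n) where
  toFun N := ⟨jSLn N, jSLn_mem N⟩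
  map_one' := Subtype.ext jSLn_one
  map_mul' N N' := Subtype.ext (jSLn_mul N N')

theorem nuHomN_jHomN (N : SLb n) : nuHomN (jHomN N) = N :=
  Subtype.ext (blockNn_jmatN (N : Matrix (Fin n) (Fin n) (ZMod 2)))

/-- the unipotent element of `SL(n + 2, 2)` with given parameters -/
def uSLn (a : HPn n) : SLt n := ⟨umatN a, det_umatN a⟩

theorem uSLn_mem (a : HPn n) : uSLn a ∈ BTn n :=
  mem_BTn_of_tv (g := uSLn a) (show TvCentN (umatN a) from umatN_tv a)

/-- the unipotent element with given parameters -/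
def uBn (a : HPn n) : ↥(BTn n) := ⟨uSLn a, uSLn_mem a⟩

theorem matBn_uBn (a : HPn n) : matBn (uBn a) = umatN a := rfl

theorem uBn_mul (a b : HPn n) : uBn a * uBn b = uBn (hmulN a b) := matBn_injective (umatN_mul a b)

theorem uBn_injective : Function.Injective (uBn (n := n)) := fun _ _ h => umatN_injective (congrArg matBn h)

theorem uBn_zero : uBn ((0, 0, 0) : HPn n) = 1 := matBn_injective umatN_zero

theorem uBn_mem_ker (a : HPn n) : uBn a ∈ (nuHomN (n := n)).ker := by
  rw [MonoidHom.mem_ker]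
  exact Subtype.ext (blockNn_umatN a)

/-- every element of the kernel is unipotent with suitable parameters -/
theorem exists_uBn {c : ↥(BTn n)} (hc : c ∈ (nuHomN (n := n)).ker) : ∃ a : HPn n, c = uBn a := by
  rw [MonoidHom.mem_ker] at hc
  have hN : blockNn (matBn c) = 1 := congrArg Subtype.val hc
  refine ⟨(matBn c 0 1, fun l => matBn c 0 l.succ.succ, fun k => matBn c k.succ.succ 1), ?_⟩
  apply matBn_injective
  rw [matBn_uBn]
  apply tvCentN_ext (matBn_tv c) (umatN_tv _)
  · rw [matBn_00]; simp [umatN]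
  · simp [umatN]
  · intro l; simp [umatN]
  · intro k; simp [umatN]
  · rw [hN, blockNn_umatN]

theorem uBn_hz : ((uBn (hzN n) : ↥(BTn n)) : SLt n) = s0N n := by
  apply Subtype.ext
  show umatN (hzN n) = Matrix.transvection 0 1 1
  apply mat_ext3 <;> intros <;>
    simp [umatN, hzN, Matrix.transvection, Matrix.one_apply, fin_ne01.symm,
      fin_nek1, (fin_nek0 _).symm, (fin_nek1 _).symm]

end Cfsg.Agent.Helper27
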