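import Cfsg.Agent.Helper27.SLnTv2

/-!
More on the centraliser of a transvection in `SL(n + 2, 2)`: the centraliser of the kernel of the block homomorphism,
the absence of normal 2-subgroups in `SL(n, 2)`, and an elementary abelian subgroup of order `2 ^ (n + 1)` of the kernel.
-/

set_option autoImplicit false
set_option linter.style.haveILetI false

namespace Cfsg.Agent.Helper27

variable {n : ℕ}

theorem umatN_single_r (k : Fin n) :
    umatN ((0, Pi.single k 1, 0) : HPn n) = Matrix.transvection 0 k.succ.succ 1 := by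
  apply mat_ext3 <;> intros <;>
    simp [umatN, Matrix.transvection, Matrix.one_apply, Matrix.single_apply, Pi.single_apply,
      fin_ne01.symm, fin_nek1, (fin_nek0 _).symm, (fin_nek1 _).symm, eq_comm]

theorem umatN_single_y (k : Fin n) :
    umatN ((0, 0, Pi.single k 1) : HPn n) = Matrix.transvection k.succ.succ 1 1 := by
  apply mat_ext3 <;> intros <;>
    simp [umatN, Matrix.transvection, Matrix.one_apply, Matrix.single_apply, Pi.single_apply,
      fin_ne01.symm, fin_nek1, (fin_nek0 _).symm, (fin_nek1 _).symm, eq_comm]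

theorem row_of_commN {M : Matrix (Fin (n + 2)) (Fin (n + 2)) (ZMod 2)} (h00 : M 0 0 = 1) (k : Fin n)
    (hc : M * umatN ((0, Pi.single k 1, 0) : HPn n) = umatN ((0, Pi.single k 1, 0) : HPn n) * M)
    (b : Fin (n + 2)) : M k.succ.succ b = if b = k.succ.succ then 1 else 0 := by
  rw [umatN_single_r] at hc
  have key := congrFun (congrFun (mul_single_eq_of_comm hc) 0) b
  rw [Matrix.single_mul_apply_same, one_mul] at key
  rw [← key]
  split_ifs with hb
  · rw [hb, Matrix.mul_single_apply_same, h00, mul_one]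
  · rw [Matrix.mul_single_apply_of_ne (hbj := hb)]

theorem col_of_commN {M : Matrix (Fin (n + 2)) (Fin (n + 2)) (ZMod 2)} (h11 : M 1 1 = 1) (k : Fin n)
    (hc : M * umatN ((0, 0, Pi.single k 1) : HPn n) = umatN ((0, 0, Pi.single k 1) : HPn n) * M)
    (b : Fin (n + 2)) : M b k.succ.succ = if b = k.succ.succ then 1 else 0 := by
  rw [umatN_single_y] at hc
  have key := congrFun (congrFun (mul_single_eq_of_comm hc) b) 1
  rw [Matrix.mul_single_apply_same, mul_one] at key
  rw [key]
  split_ifs with hb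
  · rw [hb, Matrix.single_mul_apply_same, h11, one_mul]
  · rw [Matrix.single_mul_apply_of_ne (h := hb)]

/-- the centraliser of the kernel in the centraliser of the transvection is the centre of the kernel -/
theorem cent_kerN (c : ↥(BTn n)) (hc : ∀ a : HPn n, c * uBn a = uBn a * c) : c = 1 ∨ c = uBn (hzN n) := by
  have hM : ∀ a : HPn n, matBn c * umatN a = umatN a * matBn c := fun a => congrArg matBn (hc a)
  have R := fun k b => row_of_commN (matBn_00 c) k (hM _) b
  have C := fun k b => col_of_commN (matBn_11 c) k (hM _) b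
  have key : c = uBn ((matBn c 0 1, 0, 0) : HPn n) := by
    apply matBn_injective
    rw [matBn_uBn]
    apply tvCentN_ext (matBn_tv c) (umatN_tv _)
    · rw [matBn_00]; simp [umatN]
    · simp [umatN]
    · intro l
      rw [C l 0, if_neg (fin_nek0 l).symm]; simp [umatN]
    · intro k
      rw [R k 1, if_neg (fin_nek1 k).symm]; simp [umatN]
    · rw [blockNn_umatN]
      ext i j
      show matBn c i.succ.succ j.succ.succ = _
      rw [R i, Matrix.one_apply]
      simp only [fin_kk_iff, eq_comm]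
  rcases zmod2_eq_zero_or_one (matBn c 0 1) with h | h
  · left
    rw [key, h, uBn_zero]
  · right
    rw [key, h]
    rfl

/-! ### No normal 2-subgroups in `SL(n, 2)` -/

/-- a 2-subgroup of `SL(n, 2)` fixes a nonzero vector -/
theorem exists_fixed_vectorN (hn : 1 ≤ n) (N : Subgroup (SLb n)) (h2 : IsPGroup 2 N) :
    ∃ v : Fin n → ZMod 2, v ≠ 0 ∧ ∀ g ∈ N, (g : Matrix (Fin n) (Fin n) (ZMod 2)).mulVec v = v := by
  haveI : Fact (Nat.Prime 2) := ⟨Nat.prime_two⟩
  letI : MulAction ↥N (Fin n → ZMod 2) :=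
    MulAction.compHom (Fin n → ZMod 2) ((Matrix.SpecialLinearGroup.toLin' (n := Fin n) (R := ZMod 2)).comp N.subtype)
  have hfp : ∀ v : Fin n → ZMod 2, v ∈ MulAction.fixedPoints ↥N (Fin n → ZMod 2) ↔
      ∀ g ∈ N, (g : Matrix (Fin n) (Fin n) (ZMod 2)).mulVec v = v := by
    intro v
    constructor
    · intro h g hg
      exact h ⟨g, hg⟩
    · intro h g
      exact h g.1 g.2
  have hmod := h2.card_modEq_card_fixedPoints (Fin n → ZMod 2)
  have hcard : Nat.card (Fin n → ZMod 2) = 2 ^ n := by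
    simp [Nat.card_eq_fintype_card, ZMod.card]
  rw [hcard] at hmod
  by_contra hcon
  push Not at hcon
  have hsub : MulAction.fixedPoints ↥N (Fin n → ZMod 2) = {0} := by
    ext v
    rw [hfp, Set.mem_singleton_iff]
    constructor
    · intro hv
      by_contra hne
      obtain ⟨g, hg, hgv⟩ := hcon v hne
      exact hgv (hv g hg)
    · rintro rfl g _
      rw [Matrix.mulVec_zero]
  rw [hsub] at hmod
  obtain ⟨m, rfl⟩ : ∃ m, n = m + 1 := ⟨n - 1, by omega⟩
  simp [Nat.ModEq, pow_succ] at hmod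

/-- `SL(n, 2)` has no nontrivial normal 2-subgroup -/
theorem sln_no_normal_two (N : Subgroup (SLb n)) (hN : N.Normal) (h2 : IsPGroup 2 N) : N = ⊥ := by
  rcases Nat.eq_zero_or_pos n with h0 | hpos
  · subst h0
    rw [eq_bot_iff]
    intro g _
    rw [Subgroup.mem_bot]
    apply Subtype.ext
    exact Subsingleton.elim _ _
  obtain ⟨v0, hv0, hfix0⟩ := exists_fixed_vectorN hpos N h2
  -- the fixed vectors are invariant
  have hinv : ∀ (g : SLb n) (v : Fin n → ZMod 2),
      (∀ x ∈ N, (x : Matrix (Fin n) (Fin n) (ZMod 2)).mulVec v = v) →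
      ∀ x ∈ N, (x : Matrix (Fin n) (Fin n) (ZMod 2)).mulVec
        ((g : Matrix (Fin n) (Fin n) (ZMod 2)).mulVec v) = (g : Matrix (Fin n) (Fin n) (ZMod 2)).mulVec v := by
    intro g v hv x hx
    have hx' : g⁻¹ * x * g ∈ N := by
      have := hN.conj_mem x hx g⁻¹
      simpa using this
    have h1 := hv _ hx'
    have h3 : x * g = g * (g⁻¹ * x * g) := by group
    have h4 : (x : Matrix (Fin n) (Fin n) (ZMod 2)) * (g : Matrix (Fin n) (Fin n) (ZMod 2)) =
        (g : Matrix (Fin n) (Fin n) (ZMod 2)) * ((g⁻¹ * x * g : SLb n) : Matrix (Fin n) (Fin n) (ZMod 2)) := by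
      rw [← Matrix.SpecialLinearGroup.coe_mul, ← Matrix.SpecialLinearGroup.coe_mul, ← h3]
    rw [Matrix.mulVec_mulVec, h4, ← Matrix.mulVec_mulVec, h1]
  have hadd : ∀ v w : Fin n → ZMod 2,
      (∀ x ∈ N, (x : Matrix (Fin n) (Fin n) (ZMod 2)).mulVec v = v) →
      (∀ x ∈ N, (x : Matrix (Fin n) (Fin n) (ZMod 2)).mulVec w = w) →
      ∀ x ∈ N, (x : Matrix (Fin n) (Fin n) (ZMod 2)).mulVec (v + w) = v + w := by
    intro v w hv hw x hx
    rw [Matrix.mulVec_add, hv x hx, hw x hx]
  -- transvections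
  have htv : ∀ (a b : Fin n), a ≠ b → ∀ v : Fin n → ZMod 2,
      (∀ x ∈ N, (x : Matrix (Fin n) (Fin n) (ZMod 2)).mulVec v = v) →
      ∀ x ∈ N, (x : Matrix (Fin n) (Fin n) (ZMod 2)).mulVec (v + v b • Pi.single a 1) = v + v b • Pi.single a 1 := by
    intro a b hab v hv
    have h1 := hinv ⟨Matrix.transvection a b 1, Matrix.det_transvection_of_ne a b hab 1⟩ v hv
    have h2 : (Matrix.transvection a b (1 : ZMod 2)).mulVec v = v + v b • Pi.single a 1 := by
      rw [Matrix.transvection, Matrix.add_mulVec, Matrix.one_mulVec, Matrix.single_mulVec_eq, one_mul]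
    show ∀ x ∈ N, _
    rw [← h2]
    exact h1
  obtain ⟨i, hi⟩ : ∃ i, v0 i = 1 := by
    by_contra hcon
    push Not at hcon
    apply hv0
    funext i
    rcases zmod2_eq_zero_or_one (v0 i) with h | h
    · exact h
    · exact absurd h (hcon i)
  have hej : ∀ j, j ≠ i → ∀ x ∈ N, (x : Matrix (Fin n) (Fin n) (ZMod 2)).mulVec (Pi.single j 1) = Pi.single j 1 := by
    intro j hj
    have h1 := htv j i hj v0 hfix0
    rw [hi, one_smul] at h1
    have h3 := hadd _ _ h1 hfix0
    have e : v0 + (Pi.single j (1 : ZMod 2) : Fin n → ZMod 2) + v0 = Pi.single j (1 : ZMod 2) := by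
      rw [add_comm, ← add_assoc, vec2_add_self, zero_add]
    rwa [e] at h3
  have hei : ∀ x ∈ N, (x : Matrix (Fin n) (Fin n) (ZMod 2)).mulVec (Pi.single i 1) = Pi.single i 1 := by
    by_cases h : ∃ j, j ≠ i
    · obtain ⟨j, hj⟩ := h
      have h1 := htv i j (Ne.symm hj) _ (hej j hj)
      rw [Pi.single_eq_same, one_smul] at h1
      have h3 := hadd _ _ h1 (hej j hj)
      have e : (Pi.single j (1 : ZMod 2) : Fin n → ZMod 2) + Pi.single i 1 + Pi.single j 1 =
          Pi.single i (1 : ZMod 2) := by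
        rw [add_comm, ← add_assoc, vec2_add_self, zero_add]
      rwa [e] at h3
    · push Not at h
      have e : v0 = (Pi.single i (1 : ZMod 2) : Fin n → ZMod 2) := by
        funext k
        rw [h k, hi, Pi.single_eq_same]
      rwa [e] at hfix0
  have hall : ∀ j, ∀ x ∈ N, (x : Matrix (Fin n) (Fin n) (ZMod 2)).mulVec (Pi.single j 1) = Pi.single j 1 := by
    intro j
    by_cases h : j = i
    · rw [h]; exact hei
    · exact hej j h
  rw [eq_bot_iff]
  intro g hg
  rw [Subgroup.mem_bot]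
  apply Subtype.ext
  ext a b
  have h1 := congrFun (hall b g hg) a
  rw [Matrix.mulVec_single_one] at h1
  rw [Matrix.SpecialLinearGroup.coe_one, Matrix.one_apply]
  have h2 : (g : Matrix (Fin n) (Fin n) (ZMod 2)) a b = (Pi.single b (1 : ZMod 2) : Fin n → ZMod 2) a := h1
  rw [h2, Pi.single_apply]

/-! ### An elementary abelian subgroup of order `2 ^ (n + 1)` -/

theorem hmulN_e (c c' : ZMod 2) (r r' : Fin n → ZMod 2) :
    hmulN ((c, r, 0) : HPn n) ((c', r', 0) : HPn n) = ((c + c', r + r', 0) : HPn n) := by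
  simp [hmulN]

theorem uBn_e_sq (c : ZMod 2) (r : Fin n → ZMod 2) : uBn ((c, r, 0) : HPn n) * uBn ((c, r, 0) : HPn n) = 1 := by
  rw [uBn_mul, hmulN_e, ← uBn_zero, zmod2_add_self, vec2_add_self]

/-- the elements with vanishing third parameter -/
def EBn (n : ℕ) : Subgroup ↥(BTn n) where
  carrier := {x | ∃ (c : ZMod 2) (r : Fin n → ZMod 2), x = uBn ((c, r, 0) : HPn n)}
  mul_mem' := by
    rintro _ _ ⟨c, r, rfl⟩ ⟨c', r', rfl⟩
    exact ⟨c + c', r + r', by rw [uBn_mul, hmulN_e]⟩
  one_mem' := ⟨0, 0, uBn_zero.symm⟩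
  inv_mem' := by
    rintro _ ⟨c, r, rfl⟩
    exact ⟨c, r, inv_eq_of_mul_eq_one_left (uBn_e_sq c r)⟩

theorem mem_EBn (x : ↥(BTn n)) :
    x ∈ EBn n ↔ ∃ (c : ZMod 2) (r : Fin n → ZMod 2), x = uBn ((c, r, 0) : HPn n) := Iff.rfl

theorem EBn_le_ker : EBn n ≤ (nuHomN (n := n)).ker := by
  rintro _ ⟨c, r, rfl⟩
  exact uBn_mem_ker _

theorem EBn_comm {x y : ↥(BTn n)} (hx : x ∈ EBn n) (hy : y ∈ EBn n) : x * y = y * x := by
  obtain ⟨c, r, rfl⟩ := hx
  obtain ⟨c', r', rfl⟩ := hy
  rw [uBn_mul, uBn_mul, hmulN_e, hmulN_e, add_comm c, add_comm r]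

theorem EBn_sq {x : ↥(BTn n)} (hx : x ∈ EBn n) : x * x = 1 := by
  obtain ⟨c, r, rfl⟩ := hx
  exact uBn_e_sq c r

theorem card_EBn : Nat.card ↥(EBn n) = 2 ^ (n + 1) := by
  have e : (ZMod 2 × (Fin n → ZMod 2)) ≃ ↥(EBn n) :=
    Equiv.ofBijective (fun p => ⟨uBn ((p.1, p.2, 0) : HPn n), p.1, p.2, rfl⟩) (by
      constructor
      · intro p q h
        have h1 := uBn_injective (congrArg Subtype.val h)
        have h2 : p.1 = q.1 := congrArg (fun a : HPn n => a.1) h1
        have h3 : p.2 = q.2 := congrArg (fun a : HPn n => a.2.1) h1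
        exact Prod.ext h2 h3
      · rintro ⟨_, c, r, rfl⟩
        exact ⟨(c, r), rfl⟩)
  rw [← Nat.card_congr e]
  simp [Nat.card_eq_fintype_card, ZMod.card]
  ring

end Cfsg.Agent.Helper27
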