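import Cfsg.Agent.Helper27.SLnTv3

/-!
In `SL(n + 2, 2)`: the group of the matrices that differ from the identity only in the first row, and the fact that
the centraliser of the transvection `1 + E₀₂` normalises it.
-/

set_option autoImplicit false

namespace Cfsg.Agent.Helper27

variable {n : ℕ}

/-- the matrix that differs from the identity by a first row -/
def tmatN (ρ : Fin (n + 2) → ZMod 2) : Matrix (Fin (n + 2)) (Fin (n + 2)) (ZMod 2) :=
  1 + Matrix.vecMulVec (Pi.single 0 1) ρ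

theorem tmatN_zero : tmatN (0 : Fin (n + 2) → ZMod 2) = 1 := by
  rw [tmatN, Matrix.vecMulVec_zero, add_zero]

theorem tmatN_mul {ρ ρ' : Fin (n + 2) → ZMod 2} (h : ρ 0 = 0) : tmatN ρ * tmatN ρ' = tmatN (ρ + ρ') := by
  simp only [tmatN, mul_add, add_mul, mul_one, one_mul]
  rw [Matrix.vecMulVec_mul_vecMulVec, dotProduct_single_one, h, zero_smul, Matrix.vecMulVec_zero, add_zero,
    Matrix.vecMulVec_add]
  abel

/-- the group of these matrices -/
def TsubN (n : ℕ) : Subgroup (SLt n) where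
  carrier := {g | ∃ ρ : Fin (n + 2) → ZMod 2, ρ 0 = 0 ∧
    (g : Matrix (Fin (n + 2)) (Fin (n + 2)) (ZMod 2)) = tmatN ρ}
  mul_mem' := by
    rintro g g' ⟨ρ, h, e⟩ ⟨ρ', h', e'⟩
    refine ⟨ρ + ρ', by rw [Pi.add_apply, h, h', add_zero], ?_⟩
    rw [Matrix.SpecialLinearGroup.coe_mul, e, e', tmatN_mul h]
  one_mem' := ⟨0, rfl, by rw [tmatN_zero]; rfl⟩
  inv_mem' := by
    rintro g ⟨ρ, h, e⟩
    have hg : g⁻¹ = g := by
      apply inv_eq_of_mul_eq_one_left
      apply Subtype.ext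
      rw [Matrix.SpecialLinearGroup.coe_mul, e, tmatN_mul h, vec2_add_self, tmatN_zero]
      rfl
    rw [hg]
    exact ⟨ρ, h, e⟩

theorem TsubN_sq {g : SLt n} (hg : g ∈ TsubN n) : g * g = 1 := by
  obtain ⟨ρ, h, e⟩ := hg
  apply Subtype.ext
  rw [Matrix.SpecialLinearGroup.coe_mul, e, tmatN_mul h, vec2_add_self, tmatN_zero]
  rfl

theorem isPGroup_TsubN : IsPGroup 2 ↥(TsubN n) := by
  intro g
  refine ⟨1, ?_⟩
  rw [pow_one, pow_two]
  exact Subtype.ext (TsubN_sq g.2)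

theorem s0N_mem_TsubN : s0N n ∈ TsubN n := by
  refine ⟨Pi.single 1 1, Pi.single_eq_of_ne fin_ne01 _, ?_⟩
  rw [s0N_coe, Matrix.transvection, Matrix.single_eq_single_vecMulVec_single]
  rfl

/-- the transvection `1 + E₀₂` -/
def bN (hn : 1 ≤ n) : SLt n := ((uBn ((0, Pi.single ⟨0, hn⟩ 1, 0) : HPn n) : ↥(BTn n)) : SLt n)

theorem bN_coe (hn : 1 ≤ n) : ((bN hn : SLt n) : Matrix (Fin (n + 2)) (Fin (n + 2)) (ZMod 2)) =
    Matrix.transvection 0 (⟨0, hn⟩ : Fin n).succ.succ 1 := umatN_single_r _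

theorem col0_of_comm_bN (hn : 1 ≤ n) (x : SLt n) (hx : x * bN hn = bN hn * x) (i : Fin (n + 2)) (hi : i ≠ 0) :
    (x : Matrix (Fin (n + 2)) (Fin (n + 2)) (ZMod 2)) i 0 = 0 := by
  have h := congrArg (fun y : SLt n => (y : Matrix (Fin (n + 2)) (Fin (n + 2)) (ZMod 2))) hx
  simp only [Matrix.SpecialLinearGroup.coe_mul, bN_coe] at h
  have key := congrFun (congrFun (mul_single_eq_of_comm h) i) (⟨0, hn⟩ : Fin n).succ.succ
  rw [Matrix.mul_single_apply_same, mul_one, Matrix.single_mul_apply_of_ne (h := hi)] at key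
  exact key

theorem x00_of_col0 (x : SLt n)
    (hcol : ∀ i, i ≠ 0 → (x : Matrix (Fin (n + 2)) (Fin (n + 2)) (ZMod 2)) i 0 = 0) :
    (x : Matrix (Fin (n + 2)) (Fin (n + 2)) (ZMod 2)) 0 0 = 1 := by
  rcases zmod2_eq_zero_or_one ((x : Matrix (Fin (n + 2)) (Fin (n + 2)) (ZMod 2)) 0 0) with h | h
  · exfalso
    have h1 := Matrix.det_eq_zero_of_column_eq_zero (A := (x : Matrix (Fin (n + 2)) (Fin (n + 2)) (ZMod 2))) 0
      (fun i => by
        by_cases hi : i = 0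
        · rw [hi, h]
        · exact hcol i hi)
    rw [x.2] at h1
    exact one_ne_zero h1
  · exact h

/-- the centraliser of the transvection `1 + E₀₂` normalises the group -/
theorem conj_mem_TsubN (hn : 1 ≤ n) (x : SLt n) (hx : x * bN hn = bN hn * x) (t : SLt n) (ht : t ∈ TsubN n) :
    x * t * x⁻¹ ∈ TsubN n := by
  obtain ⟨ρ, h, e⟩ := ht
  have hx' : x⁻¹ * bN hn = bN hn * x⁻¹ := by
    have e1 : x⁻¹ * bN hn = x⁻¹ * (bN hn * x) * x⁻¹ := by group
    rw [e1, ← hx]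
    group
  have hc := col0_of_comm_bN hn x hx
  have hc' := col0_of_comm_bN hn x⁻¹ hx'
  have h00 := x00_of_col0 x hc
  refine ⟨Matrix.vecMul ρ ((x⁻¹ : SLt n) : Matrix (Fin (n + 2)) (Fin (n + 2)) (ZMod 2)), ?_, ?_⟩
  · show ∑ i, ρ i * ((x⁻¹ : SLt n) : Matrix (Fin (n + 2)) (Fin (n + 2)) (ZMod 2)) i 0 = 0
    apply Finset.sum_eq_zero
    intro i _
    by_cases hi : i = 0
    · rw [hi, h, zero_mul]
    · rw [hc' i hi, mul_zero]
  · have hv : Matrix.mulVec (x : Matrix (Fin (n + 2)) (Fin (n + 2)) (ZMod 2)) (Pi.single 0 1) = Pi.single 0 1 := by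
      rw [Matrix.mulVec_single_one]
      funext i
      show (x : Matrix (Fin (n + 2)) (Fin (n + 2)) (ZMod 2)) i 0 = _
      by_cases hi : i = 0
      · rw [hi, h00, Pi.single_eq_same]
      · rw [hc i hi, Pi.single_eq_of_ne hi]
    rw [Matrix.SpecialLinearGroup.coe_mul, Matrix.SpecialLinearGroup.coe_mul, e, tmatN, mul_add, add_mul, mul_one,
      ← Matrix.SpecialLinearGroup.coe_mul, mul_inv_cancel, Matrix.SpecialLinearGroup.coe_one,
      Matrix.mul_vecMulVec, Matrix.vecMulVec_mul, hv]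
    rfl

end Cfsg.Agent.Helper27
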