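import Cfsg.Agent.Helper27.TvStructN
import Cfsg.Agent.Helper27.SLnTvT

/-!
The centraliser of a transvection in `SL(n + 2, 2)`, `n ≥ 1`: its largest normal 2-subgroup is a large extraspecial
subgroup of order `2 ^ (2 n + 1)`, complemented by a copy of `SL(n, 2)`.
-/

set_option autoImplicit false

namespace Cfsg.Agent.Helper27

open Cfsg

variable {n : ℕ}

theorem s0N_ne_one : s0N n ≠ 1 := by
  intro h
  have h1 := congrArg (fun y : SLt n => (y : Matrix (Fin (n + 2)) (Fin (n + 2)) (ZMod 2)) 0 1) h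
  simp only [s0N_coe, Matrix.SpecialLinearGroup.coe_one, Matrix.transvection, Matrix.add_apply,
    Matrix.one_apply_ne fin_ne01, Matrix.single_apply_same, zero_add] at h1
  exact one_ne_zero h1

theorem bN_sq (hn : 1 ≤ n) : bN hn * bN hn = 1 :=
  congrArg Subtype.val (uBn_e_sq 0 (Pi.single ⟨0, hn⟩ 1))

theorem bN_ne_one (hn : 1 ≤ n) : bN hn ≠ 1 := by
  intro h
  have h1 : uBn ((0, Pi.single ⟨0, hn⟩ 1, 0) : HPn n) = uBn ((0, 0, 0) : HPn n) := by
    rw [uBn_zero]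
    exact Subtype.ext h
  have h2 := congrArg (fun a : HPn n => a.2.1 ⟨0, hn⟩) (uBn_injective h1)
  simp at h2

theorem bN_ne_s0N (hn : 1 ≤ n) : bN hn ≠ s0N n := by
  intro h
  have h1 : uBn ((0, Pi.single ⟨0, hn⟩ 1, 0) : HPn n) = uBn (hzN n) := by
    apply Subtype.ext
    rw [uBn_hz]
    exact h
  have h2 := congrArg (fun a : HPn n => a.1) (uBn_injective h1)
  simp [hzN] at h2

/-- the centraliser of a transvection in `SL(n + 2, 2)` -/
theorem sln_transvection_large (hn : 1 ≤ n) (z : SLt n)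
    (hz : (z : Matrix (Fin (n + 2)) (Fin (n + 2)) (ZMod 2)) = Matrix.transvection 0 1 1)
    (Q : Subgroup (SLt n))
    (hQ : Q = (Cfsg.pCore 2 ↥(Subgroup.centralizer ({z} : Set (SLt n)))).map
      (Subgroup.centralizer ({z} : Set (SLt n))).subtype) :
    Cfsg.IsExtraspecial 2 ↥Q ∧ Nat.card ↥Q = 2 ^ (2 * n + 1) ∧
      (∃ E : Subgroup (SLt n), E ≤ Q ∧ Cfsg.IsElementaryAbelian 2 E ∧ Nat.card ↥E = 2 ^ (n + 1)) ∧
      Cfsg.IsLargeExtraspecial Q ∧
      ∃ K : Subgroup (SLt n), K ≤ Subgroup.centralizer ({z} : Set (SLt n)) ∧ Q ⊓ K = ⊥ ∧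
        Q ⊔ K = Subgroup.centralizer ({z} : Set (SLt n)) ∧ Nonempty (↥K ≃* SLb n) := by
  have hzs : z = s0N n := Subtype.ext hz
  subst hzs
  refine tv_structN (MulEquiv.refl ↥(BTn n)) hn s0N_ne_one (bN hn) (TsubN n) (bN_sq hn) (bN_ne_one hn)
    (bN_ne_s0N hn) ?_ s0N_mem_TsubN isPGroup_TsubN (conj_mem_TsubN hn) Q hQ
  exact (mem_QCn_iff (MulEquiv.refl ↥(BTn n)) _).mpr ⟨_, rfl⟩

end Cfsg.Agent.Helper27
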