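import Mathlib
import Cfsg.Agent.Helper27.Suz2Defs
import Cfsg.Agent.Helper27.SUZ2F6
import Cfsg.Agent.Helper19.Suz2B0
import Cfsg.Agent.Helper3.SUZ2FPF
import Cfsg.Agent.Helper18.Suz2F3
import Cfsg.Agent.Helper20.SUZ2F4C
import Cfsg.Agent.Helper20.SUZ2F5

/-!
# SUZ2 board, piece X71B: blueprint 7.1 (beta)
-/

set_option autoImplicit false
set_option linter.style.haveILetI false
set_option linter.unusedSectionVars false

namespace Cfsg.Agent.SUZ2P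

open Cfsg.Agent.Helper17.Suz2

universe u v

variable {K : Type v} {P : Type u} [Group K] [Group P] [MulDistribMulAction K P]

theorem X71B_aux_inv_right {t : P} (ht : t ∈ Z2 P) (g : P) : cm t g⁻¹ = cm t g := by
  have h1 := F6_aux_mul_right ht g g⁻¹
  rw [mul_inv_cancel] at h1
  have h2 : cm t (1 : P) = 1 := by unfold cm; group
  rw [h2] at h1
  have h3 : cm t g⁻¹ = (cm t g)⁻¹ := eq_inv_of_mul_eq_one_right h1.symm
  have h4 : (cm t g)⁻¹ = cm t g := inv_eq_of_mul_eq_one_right ((mem_Z2.mp ht) g).2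
  rw [h3, h4]

/-- conjugation formula: `g t g⁻¹ = t * cm t g` -/
theorem X71B_aux_conj {t : P} (ht : t ∈ Z2 P) (g : P) : g * t * g⁻¹ = t * cm t g := by
  have hc := (mem_Z2.mp ht) g
  have h1 : (cm t g)⁻¹ = cm t g := inv_eq_of_mul_eq_one_right hc.2
  have h2 : t * cm t g = cm t g * t := Subgroup.mem_center_iff.mp hc.1 t
  rw [h2, ← h1]
  unfold cm; group

/-- key computation of blueprint 7.1 (beta): `β_x = id`. -/
theorem X71beta_key (h : MinCE K P) {M : Subgroup P} (hMC : M = CT P) (hMinv : KInv K M)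
    (hab : ∀ x ∈ M, ∀ y ∈ M, x * y = y * x) {u₀ : P} (hu₀ : u₀ ∈ M)
    (hz₀ : (u₀ * u₀) * (u₀ * u₀) ≠ 1)
    (hz₀' : ((u₀ * u₀) * (u₀ * u₀)) * ((u₀ * u₀) * (u₀ * u₀)) = 1)
    {x : P} (hxsq : x * x ∈ Om P)
    (hinj : ∀ t ∈ Z2 P, cm t x = 1 → t ∈ Om P) : ∀ t ∈ Z2 P, cm t x = t * t := by
  have hS := h.star
  have hna := h.nonab
  have hZ2sq : ∀ t ∈ Z2 P, t * t ∈ Om P := Z2_sq hS hna
  have hMn : M.Normal := hMC ▸ CT_normal
  intro t ht
  by_cases hz1 : t * t = 1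
  · have htZ : t ∈ Om P := (B0_mem_Om hS).mpr hz1
    rw [hz1]
    exact cm_of_mem_center_left htZ.1 x
  -- transport u₀ by K so that u⁴ = t²
  have hz₀Om : (u₀ * u₀) * (u₀ * u₀) ∈ Om P := (B0_mem_Om hS).mpr hz₀'
  obtain ⟨k, hk, -⟩ := B0_reg (K := K) hS hz₀Om hz₀ (hZ2sq t ht) hz1
  set u := k • u₀ with hu
  have huM : u ∈ M := hMinv k u₀ hu₀
  have hu4 : (u * u) * (u * u) = t * t := by
    rw [hu, ← smul_mul', ← smul_mul', hk]
  set s := u * u with hs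
  have hsM : s ∈ M := mul_mem huM huM
  have hsT : s ∈ Z2 P := by
    apply F5i h (hMC ▸ hsM)
    rw [hu4]; exact hZ2sq t ht
  have h1 : cm t x = cm s x := cmT_sq_eq h ht hsT hu4.symm x
  -- a := cm u x
  set a := cm u x with ha
  have hxux : x * u⁻¹ * x⁻¹ ∈ M := hMn.conj_mem _ (inv_mem huM) x
  have haM : a ∈ M := by
    have : a = u * (x * u⁻¹ * x⁻¹) := by rw [ha]; unfold cm; group
    rw [this]; exact mul_mem huM hxux
  -- conj_x(u) = a⁻¹ * u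
  have hconju : x * u * x⁻¹ = a⁻¹ * u := by rw [ha]; unfold cm; group
  -- x * x central
  have hxx : ∀ g : P, (x * x) * g = g * (x * x) := fun g =>
    (Subgroup.mem_center_iff.mp hxsq.1 g).symm
  -- conj_x(a) = a⁻¹
  have hconja : x * a * x⁻¹ = a⁻¹ := by
    have e1 : x * (x * u * x⁻¹) * x⁻¹ = u := by
      calc x * (x * u * x⁻¹) * x⁻¹ = (x * x) * u * (x * x)⁻¹ := by group
        _ = u * (x * x) * (x * x)⁻¹ := by rw [hxx u]
        _ = u := by group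
    rw [hconju] at e1
    have e2 : x * (a⁻¹ * u) * x⁻¹ = (x * a * x⁻¹)⁻¹ * (x * u * x⁻¹) := by group
    rw [e2, hconju] at e1
    -- (x a x⁻¹)⁻¹ * (a⁻¹ * u) = u
    have e3 : (x * a * x⁻¹)⁻¹ * a⁻¹ = 1 := by
      have : (x * a * x⁻¹)⁻¹ * a⁻¹ * u = 1 * u := by rw [one_mul, mul_assoc]; exact e1
      exact mul_right_cancel this
    have e4 : (x * a * x⁻¹)⁻¹ = a := by
      have := eq_inv_of_mul_eq_one_left e3
      rwa [inv_inv] at this
    exact inv_eq_iff_eq_inv.mp e4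
  -- a * a = cm s x
  have hxax : x * a⁻¹ * x⁻¹ ∈ M := hMn.conj_mem _ (inv_mem haM) x
  have haa : a * a = cm s x := by
    have e1 : cm s x = u * u * (x * u⁻¹ * x⁻¹) * (x * u⁻¹ * x⁻¹) := by
      rw [hs]; unfold cm; group
    have e2 : u * (x * u⁻¹ * x⁻¹) = (x * u⁻¹ * x⁻¹) * u := hab _ huM _ hxux
    have e3 : a = u * (x * u⁻¹ * x⁻¹) := by rw [ha]; unfold cm; group
    rw [e1, e3]
    calc u * (x * u⁻¹ * x⁻¹) * (u * (x * u⁻¹ * x⁻¹))
        = u * ((x * u⁻¹ * x⁻¹) * u) * (x * u⁻¹ * x⁻¹) := by group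
      _ = u * (u * (x * u⁻¹ * x⁻¹)) * (x * u⁻¹ * x⁻¹) := by rw [← e2]
      _ = u * u * (x * u⁻¹ * x⁻¹) * (x * u⁻¹ * x⁻¹) := by group
  have hbOm : cm s x ∈ Om P := (mem_Z2.mp hsT) x
  have haT : a ∈ Z2 P := by
    apply F5i h (hMC ▸ haM)
    rw [haa]; exact hbOm
  -- cm a x = a * a
  have hcmax : cm a x = a * a := by
    have e1 := X71B_aux_conj haT x
    rw [hconja] at e1
    -- a⁻¹ = a * cm a x
    have e2 : cm a x = a⁻¹ * a⁻¹ := by
      have : a⁻¹ * (a * cm a x) = a⁻¹ * a⁻¹ := by rw [← e1]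
      rwa [inv_mul_cancel_left] at this
    have e3 : (a * a) * (a * a) = 1 := by rw [haa]; exact hbOm.2
    have e4 : a⁻¹ * a⁻¹ = a * a := by
      have : (a * a)⁻¹ = a * a := inv_eq_of_mul_eq_one_right e3
      rw [← this]; group
    rw [e2, e4]
  -- injectivity: a * s⁻¹ ∈ Om
  have hs'T : s⁻¹ ∈ Z2 P := inv_mem hsT
  have hcminv : cm s⁻¹ x = (cm s x)⁻¹ := by
    have e1 := F6_aux_mul_left hsT hs'T x
    rw [mul_inv_cancel] at e1
    have e2 : cm (1 : P) x = 1 := by unfold cm; group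
    rw [e2] at e1
    exact (eq_inv_of_mul_eq_one_right e1.symm)
  have hker : cm (a * s⁻¹) x = 1 := by
    rw [F6_aux_mul_left haT hs'T, hcmax, haa, hcminv, mul_inv_cancel]
  have hasOm : a * s⁻¹ ∈ Om P := hinj _ (mul_mem haT hs'T) hker
  have hsq_eq : a * a = s * s := by
    have e1 : (a * s⁻¹) * (a * s⁻¹) = 1 := hasOm.2
    have e2 : a * s⁻¹ = s⁻¹ * a := hab _ haM _ (inv_mem hsM)
    have e3 : (a * s⁻¹) * (a * s⁻¹) = (a * a) * (s * s)⁻¹ := by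
      calc (a * s⁻¹) * (a * s⁻¹) = a * (s⁻¹ * a) * s⁻¹ := by group
        _ = a * (a * s⁻¹) * s⁻¹ := by rw [← e2]
        _ = (a * a) * (s * s)⁻¹ := by group
    rw [e3] at e1
    exact mul_inv_eq_one.mp e1
  rw [h1, ← haa, hsq_eq, hu4]

theorem X71beta (h : MinCE K P) {M : Subgroup P} (hM : KMin K M ⊤) (hCM : CT P ≤ M)
    (hab : ∀ x ∈ M, ∀ y ∈ M, x * y = y * x) (hm : ∃ m ∈ M, m * m ∉ Om P)
    (hx0 : ∃ x : P, x * x ∈ Om P ∧ x ∉ Z2 P) : False := by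
  have hS := h.star
  have hna := h.nonab
  haveI := hS.fin
  have hZ2sq : ∀ t ∈ Z2 P, t * t ∈ Om P := Z2_sq hS hna
  have hTC : Z2 P ≤ CT P := Z2_le_CT h
  -- M = CT P
  have hMC : M = CT P := by
    apply le_antisymm _ hCM
    intro g hg
    rw [mem_CT]
    intro t ht
    exact hab t (hCM (hTC ht)) g hg
  have hL : KMin K (CT P) ⊤ := hMC ▸ hM
  -- an element u₀ with u₀⁴ an involution
  obtain ⟨m, hmM, hmm⟩ := hm
  have hm4 : (m * m) * (m * m) ≠ 1 := fun h1 => hmm ((B0_mem_Om hS).mpr h1)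
  obtain ⟨j, hj1, hj2⟩ := exists_invol_pow hS.pgrp hm4
  set u₀ := m ^ (2 ^ j) with hu₀
  have hu₀M : u₀ ∈ M := pow_mem hmM _
  have h4pow : ∀ g : P, (g * g) * (g * g) = g ^ 4 := by
    intro g
    rw [pow_succ, pow_succ, pow_succ, pow_one]
    simp only [mul_assoc]
  have hpow : (u₀ * u₀) * (u₀ * u₀) = ((m * m) * (m * m)) ^ (2 ^ j) := by
    rw [h4pow u₀, h4pow m, hu₀, ← pow_mul, ← pow_mul, mul_comm]
  have hz₀ : (u₀ * u₀) * (u₀ * u₀) ≠ 1 := by rw [hpow]; exact hj1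
  have hz₀' : ((u₀ * u₀) * (u₀ * u₀)) * ((u₀ * u₀) * (u₀ * u₀)) = 1 := by rw [hpow]; exact hj2
  -- x0 and a K-translate
  obtain ⟨x0, hx0sq, hx0T⟩ := hx0
  have hx0C : x0 ∉ CT P := fun hc => hx0T (F5i h hc hx0sq)
  obtain ⟨k, hk⟩ : ∃ k : K, k ≠ 1 := by
    haveI : Finite K := B0_finK hS
    obtain ⟨n, hn2, -, hKn⟩ := B0_card hS
    have h4 : 2 ^ 2 ≤ 2 ^ n := Nat.pow_le_pow_right (by norm_num) hn2
    have : 1 < Nat.card K := by omega
    rw [Finite.one_lt_card_iff_nontrivial] at this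
    exact exists_ne 1
  set x1 := k • x0 with hx1
  have hx1sq : x1 * x1 ∈ Om P := by
    rw [hx1, ← smul_mul']
    exact B0_Om_inv k _ hx0sq
  have hx1C : x1 ∉ CT P := by
    intro hc
    apply hx0C
    have := CT_inv (K := K) k⁻¹ x1 hc
    rwa [hx1, inv_smul_smul] at this
  have hF0 := (F6 h hL (Subgroup.mem_top x0) hx0C).1
  have hF1 := (F6 h hL (Subgroup.mem_top x1) hx1C).1
  have hk0 := X71beta_key h hMC hM.invB hab hu₀M hz₀ hz₀' hx0sq hF0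
  have hk1 := X71beta_key h hMC hM.invB hab hu₀M hz₀ hz₀' hx1sq hF1
  -- x0⁻¹ * x1 ∈ CT P
  have hmem : x0⁻¹ * k • x0 ∈ CT P := by
    rw [mem_CT]
    intro t ht
    rw [← cm_eq_one_iff, F6_aux_mul_right ht, X71B_aux_inv_right ht, hk0 t ht, ← hx1, hk1 t ht]
    exact (hZ2sq t ht).2
  exact hx0C (fpf hS hk (CT P) (fun y hy => CT_inv k y hy) hmem)

end Cfsg.Agent.SUZ2P
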