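import Mathlib
import Cfsg.Prelude.Def_LieRecognition
import Cfsg.Agent.Helper19.Suz2B0
import Cfsg.Agent.Helper3.SUZ2FPF
import Cfsg.Agent.Helper27.SUZ2SEC
import Cfsg.Agent.Helper18.Suz2EXM
import Cfsg.Agent.Helper9.SUZ2SECLINE
import Cfsg.Agent.Helper9.SUZ2MAS
import Cfsg.Agent.Helper18.Suz2F3
import Cfsg.Agent.Helper8.SUZ2CMT
import Cfsg.Agent.Helper25.SUZ2F4A
import Cfsg.Agent.Helper25.SUZ2F4B
import Cfsg.Agent.Helper20.SUZ2F4C
import Cfsg.Agent.Helper20.SUZ2F5
import Cfsg.Agent.Helper27.SUZ2F6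
import Cfsg.Agent.Helper8.SUZ2F6INJ
import Cfsg.Agent.Helper20.SUZ2IHSUB
import Cfsg.Agent.Helper19.Suz2S6IH
import Cfsg.Agent.Helper4.SUZ2S6
import Cfsg.Agent.Helper4.SUZ2X71A
import Cfsg.Agent.Helper27.SUZ2X71B
import Cfsg.Agent.Helper2.SUZ2X72
import Cfsg.Agent.Helper17.SUZ2HYP
import Cfsg.Agent.Helper17.SUZ2END1
import Cfsg.Agent.Helper2.SUZ2END2
import Cfsg.Agent.Helper21.SUZ2CW
import Cfsg.Agent.Helper23.SUZ2DIV

set_option autoImplicit false
set_option linter.style.haveILetI false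

namespace Cfsg.Agent.SUZ2P

open Cfsg.Agent.Helper17.Suz2

universe u v

variable {K : Type v} {P : Type u} [Group K] [Group P] [MulDistribMulAction K P]

/-- blueprint 7.1 assembled -/
theorem exists_X (h : MinCE K P) (hx0 : ∃ x : P, x * x ∈ Om P ∧ x ∉ Z2 P) :
    ∃ X : Subgroup P, XHyp K X := by
  haveI := h.star.fin
  have hlt : CT P < ⊤ := lt_top_iff_ne_top.mpr (CT_ne_top h)
  have htop : KInv K (⊤ : Subgroup P) := fun _ _ _ => Subgroup.mem_top _
  obtain ⟨M, hM, hCM⟩ := exists_kmax (K := K) CT_inv htop hlt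
  rcases ih_sub h hM.invB hM.lt.ne with hab | ⟨hsq, hcm⟩
  · by_cases hm : ∃ m ∈ M, m * m ∉ Om P
    · exact (X71beta h hM hCM hab hm hx0).elim
    · push Not at hm
      refine X71alpha h hM hCM hm ?_ hx0
      intro x hx y hy
      have : cm x y = 1 := (cm_eq_one_iff x y).mpr (hab x hx y hy)
      rw [this]; exact one_mem _
  · exact X71alpha h hM hCM hsq hcm hx0

/-- There is no minimal counterexample. -/
theorem no_minCE (h : MinCE K P) : False := by
  by_cases hH' : ∀ x : P, x * x ∈ Om P → x ∈ Z2 P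
  · exact caseH h hH'
  · push Not at hH'
    obtain ⟨X, hX⟩ := exists_X h hH'
    by_cases hCT : CT P = Z2 P
    · exact endT h hX hCT
    · exact endC h hX hCT

/-- **Theorem H** (Higman). -/
theorem higman (K : Type v) [Group K] :
    ∀ (n : ℕ) (P : Type u) [Group P] [MulDistribMulAction K P], Nat.card P = n →
      Star K P → NonAb P → HConc P := by
  intro n
  induction n using Nat.strong_induction_on with
  | _ n ih =>
    intro P _ _ hn hS hna
    by_contra hnot
    refine no_minCE (K := K) (P := P) ⟨hS, hna, hnot, ?_⟩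
    intro Q _ _ hSQ hnaQ hlt
    exact ih (Nat.card Q) (hn ▸ hlt) Q rfl hSQ hnaQ

theorem higman' (hS : Star K P) (hna : NonAb P) : HConc P :=
  higman K (Nat.card P) P rfl hS hna

/-- From the frozen definition to `Star`. -/
theorem star_of_suzuki {P : Type u} [Group P] (hP : Cfsg.IsSuzukiTwoGroup P) :
    ∃ K : Subgroup (MulAut P), Star K P ∧ NonAb P := by
  obtain ⟨hfin, h2, hna, htwo, K, hcyc, hreg⟩ := hP
  refine ⟨K, ⟨hfin, h2, ?_, ?_, htwo⟩, hna⟩
  · intro a b
    obtain ⟨g, hg⟩ := hcyc.exists_generator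
    obtain ⟨m, rfl⟩ := Subgroup.mem_zpowers_iff.mp (hg a)
    obtain ⟨n, rfl⟩ := Subgroup.mem_zpowers_iff.mp (hg b)
    rw [← zpow_add, ← zpow_add, add_comm]
  · intro x y hx1 hx2 hy1 hy2
    exact hreg x y hx1 hx2 hy1 hy2

/-- Theorem H for Suzuki 2-groups, in elementary terms. -/
theorem suzuki_H {P : Type u} [Group P] (hP : Cfsg.IsSuzukiTwoGroup P) :
    (∀ x : P, x * x ∈ Subgroup.center P ∧ (x * x) * (x * x) = 1) ∧
      ∀ x y : P, x * y * x⁻¹ * y⁻¹ ∈ Subgroup.center P ∧
        (x * y * x⁻¹ * y⁻¹) * (x * y * x⁻¹ * y⁻¹) = 1 := by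
  obtain ⟨K, hS, hna⟩ := star_of_suzuki hP
  obtain ⟨h1, h2⟩ := higman' hS hna
  exact ⟨fun x => h1 x, fun x y => h2 x y⟩

/-- S1138 in assembled form. -/
theorem S1138_main {P : Type u} [Group P] (hP : Cfsg.IsSuzukiTwoGroup P) :
    (∀ x : P, x * x ∈ Subgroup.center P) ∧ (∀ x y : P, x⁻¹ * y⁻¹ * x * y ∈ Subgroup.center P) ∧
      (Nat.card P = Nat.card (Subgroup.center P) ^ 2 ∨
        Nat.card P = Nat.card (Subgroup.center P) ^ 3) ∧
      Monoid.exponent P = 4 := by
  obtain ⟨K, hS, hna⟩ := star_of_suzuki hP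
  have hH := higman' hS hna
  have hcen : Subgroup.center P = Om P := B0_center hS hna
  haveI := hS.fin
  refine ⟨fun x => (hH.1 x).1, fun x y => ?_, ?_, ?_⟩
  · have := (hH.2 x⁻¹ y⁻¹).1
    unfold cm at this
    simpa using this
  · rw [hcen]
    obtain ⟨r, hr⟩ := S1138_div hS hna hH
    have hcw := S1138_cw hS hna hH
    obtain ⟨n, hn2, hn, -⟩ := B0_card hS
    have hq : 2 ≤ Nat.card (Om P) := by
      rw [hn]
      calc 2 = 2 ^ 1 := rfl
        _ ≤ 2 ^ n := Nat.pow_le_pow_right (by norm_num) (by omega)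
    have hr3 : r + 1 ≤ 3 := by
      rw [hr] at hcw
      exact (Nat.pow_le_pow_iff_right hq).mp hcw
    have hr1 : r ≠ 0 := by
      rintro rfl
      rw [zero_add, pow_one] at hr
      -- then Om P = ⊤, so P is abelian
      obtain ⟨x, y, hxy⟩ := hna
      apply hxy
      have htop : Om P = ⊤ := by
        apply Subgroup.eq_top_of_card_eq
        exact hr.symm
      have hx : x ∈ Om P := by rw [htop]; trivial
      exact (Subgroup.mem_center_iff.mp hx.1 y).symm
    have : r = 1 ∨ r = 2 := by omega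
    rcases this with rfl | rfl
    · left; exact hr
    · right; exact hr
  · -- exponent 4
    have h4 : ∀ x : P, x ^ 4 = 1 := by
      intro x
      have := (hH.1 x).2
      calc x ^ 4 = (x * x) * (x * x) := by rw [pow_succ, pow_succ, pow_succ, pow_one, mul_assoc]
        _ = 1 := this
    have hdvd : Monoid.exponent P ∣ 4 := Monoid.exponent_dvd_of_forall_pow_eq_one h4
    have hne2 : ¬ Monoid.exponent P ∣ 2 := by
      intro hd
      obtain ⟨x, y, hxy⟩ := hna
      apply hxy
      have hsq : ∀ g : P, g * g = 1 := by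
        intro g
        have := Monoid.pow_exponent_eq_one g
        obtain ⟨c, hc⟩ := hd
        have h2 : g ^ 2 = 1 := by
          rw [hc, pow_mul, this, one_pow]
        rw [← pow_two]; exact h2
      have hx : x⁻¹ = x := inv_eq_of_mul_eq_one_right (hsq x)
      have hy : y⁻¹ = y := inv_eq_of_mul_eq_one_right (hsq y)
      have hxy' : (x * y)⁻¹ = x * y := inv_eq_of_mul_eq_one_right (hsq (x * y))
      calc x * y = (x * y)⁻¹ := hxy'.symm
        _ = y⁻¹ * x⁻¹ := mul_inv_rev x y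
        _ = y * x := by rw [hx, hy]
    have : Monoid.exponent P ∈ Nat.divisors 4 := by
      rw [Nat.mem_divisors]; exact ⟨hdvd, by norm_num⟩
    have hdiv : Nat.divisors 4 = {1, 2, 4} := by decide
    rw [hdiv] at this
    simp only [Finset.mem_insert, Finset.mem_singleton] at this
    rcases this with h | h | h
    · exact absurd (by rw [h]; exact one_dvd 2) hne2
    · exact absurd (by rw [h]) hne2
    · exact h

end Cfsg.Agent.SUZ2P
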