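import Mathlib

/-!
The inequality of Ree (in the linear form of Scott) for three permutations with product one: if `x * y * z = 1`
and the group generated by `x` and `y` has at most `k` orbits on the `n` points, then the ranks of `1 - x`, `1 - y`,
`1 - z` on the permutation module add up to at least `2 * (n - k)`.  Also a bound for the rank of `1 - σ` in terms
of the order of `σ` and the number of its fixed points.
-/

set_option autoImplicit false
set_option linter.unusedSectionVars false

namespace Cfsg.Agent.Helper27

open Module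

section

variable {α : Type*}

/-- the action of a permutation on the rational functions on the points -/
noncomputable def permLin (σ : Equiv.Perm α) : (α → ℚ) →ₗ[ℚ] (α → ℚ) :=
  LinearMap.funLeft ℚ ℚ (σ.symm : α → α)

theorem permLin_apply (σ : Equiv.Perm α) (f : α → ℚ) (a : α) : permLin σ f a = f (σ.symm a) := rfl

theorem permLin_mul_apply (σ τ : Equiv.Perm α) (f : α → ℚ) : permLin (σ * τ) f = permLin σ (permLin τ f) := by
  funext a
  simp only [permLin_apply]
  rfl

theorem permLin_one_apply (f : α → ℚ) : permLin (1 : Equiv.Perm α) f = f := by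
  funext a
  simp only [permLin_apply]
  rfl

variable [DecidableEq α]

theorem permLin_single (σ : Equiv.Perm α) (a : α) :
    permLin σ (Pi.single a (1 : ℚ)) = Pi.single (σ a) (1 : ℚ) := by
  funext b
  simp only [permLin_apply, Pi.single_apply]
  by_cases h : b = σ a
  · rw [if_pos h, if_pos]
    rw [h]
    exact σ.symm_apply_apply a
  · rw [if_neg h, if_neg]
    intro h'
    apply h
    rw [← h']
    exact (σ.apply_symm_apply b).symm

/-- the operator `1 - σ` on the permutation module -/
noncomputable def permDel (σ : Equiv.Perm α) : (α → ℚ) →ₗ[ℚ] (α → ℚ) := LinearMap.id - permLin σ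

theorem permDel_apply (σ : Equiv.Perm α) (f : α → ℚ) : permDel σ f = f - permLin σ f := rfl

variable [Fintype α]

/-- the rank of `1 - σ` on the permutation module -/
noncomputable def permRk (σ : Equiv.Perm α) : ℕ := finrank ℚ (LinearMap.range (permDel σ))

theorem permDel_single (σ : Equiv.Perm α) (a : α) :
    permDel σ (Pi.single a (1 : ℚ)) = Pi.single a (1 : ℚ) - Pi.single (σ a) (1 : ℚ) := by
  rw [permDel_apply, permLin_single]

/-- functions fixed by `x` and `y` are fixed by the group they generate -/
theorem invariant_of_closure {x y : Equiv.Perm α} {f : α → ℚ} (hx : permDel x f = 0) (hy : permDel y f = 0)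
    {g : Equiv.Perm α} (hg : g ∈ Subgroup.closure ({x, y} : Set (Equiv.Perm α))) : ∀ a, f (g a) = f a := by
  have key : ∀ s : Equiv.Perm α, permDel s f = 0 → ∀ a, f (s a) = f a := by
    intro s hs a
    have h1 : f = permLin s f := by
      rw [permDel_apply, sub_eq_zero] at hs
      exact hs
    have h2 := congrFun h1 (s a)
    rw [permLin_apply, Equiv.symm_apply_apply] at h2
    exact h2
  induction hg using Subgroup.closure_induction with
  | mem s hs =>
    rcases hs with rfl | hs
    · exact key _ hx
    · rw [Set.mem_singleton_iff] at hs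
      rw [hs]
      exact key _ hy
  | one => intro a; rfl
  | mul s t _ _ hs ht =>
    intro a
    rw [Equiv.Perm.mul_apply, hs, ht]
  | inv s _ hs =>
    intro a
    have := hs (s⁻¹ a)
    have e : s (s⁻¹ a) = a := by simp
    rw [e] at this
    exact this.symm

/-- the inequality of Ree and Scott for three permutations -/
theorem scott_ree (x y z : Equiv.Perm α) (hxyz : x * y * z = 1) {k : ℕ} (reps : Fin k → α)
    (hreps : ∀ a, ∃ i, ∃ g ∈ Subgroup.closure ({x, y} : Set (Equiv.Perm α)), g (reps i) = a) :
    2 * Fintype.card α ≤ permRk x + permRk y + permRk z + 2 * k := by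
  classical
  set RA := LinearMap.range (permDel x) with hRA
  set RB := LinearMap.range (permDel y) with hRB
  set RC := LinearMap.range (permDel z) with hRC
  -- the two maps
  let δ : (RA × RB × RC) →ₗ[ℚ] (α → ℚ) :=
    RA.subtype.coprod ((permLin x ∘ₗ RB.subtype).coprod (permLin (x * y) ∘ₗ RC.subtype))
  let β : (α → ℚ) →ₗ[ℚ] (RA × RB × RC) :=
    (permDel x).rangeRestrict.prod ((permDel y).rangeRestrict.prod (permDel z).rangeRestrict)
  have hδ : ∀ (a : RA) (b : RB) (c : RC), δ (a, b, c) = (a : α → ℚ) + (permLin x (b : α → ℚ) +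
      permLin (x * y) (c : α → ℚ)) := by
    intro a b c
    simp only [δ, LinearMap.coprod_apply, LinearMap.comp_apply, Submodule.subtype_apply]
  have hδβ : δ ∘ₗ β = 0 := by
    apply LinearMap.ext
    intro v
    have h1 : β v = ((permDel x).rangeRestrict v, (permDel y).rangeRestrict v, (permDel z).rangeRestrict v) := rfl
    rw [LinearMap.comp_apply, h1, hδ]
    rw [LinearMap.zero_apply]
    -- codRestrict coercions
    have e1 : (((permDel x).rangeRestrict v : RA) : α → ℚ) = permDel x v := rfl
    have e2 : (((permDel y).rangeRestrict v : RB) : α → ℚ) = permDel y v := rfl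
    have e3 : (((permDel z).rangeRestrict v : RC) : α → ℚ) = permDel z v := rfl
    rw [e1, e2, e3, permDel_apply, permDel_apply, permDel_apply, map_sub, map_sub]
    have e4 : permLin (x * y) (permLin z v) = v := by
      rw [← permLin_mul_apply, hxyz, permLin_one_apply]
    have e5 : permLin x (permLin y v) = permLin (x * y) v := (permLin_mul_apply x y v).symm
    rw [e4, e5]
    abel
  -- dimensions
  have hD : finrank ℚ (RA × RB × RC) = permRk x + permRk y + permRk z := by
    rw [Module.finrank_prod, Module.finrank_prod]
    simp only [permRk]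
    ring
  have h1 := LinearMap.finrank_range_add_finrank_ker δ
  have h2 : finrank ℚ (LinearMap.range β) ≤ finrank ℚ (LinearMap.ker δ) :=
    Submodule.finrank_mono (LinearMap.range_le_ker_iff.mpr hδβ)
  have h3 := LinearMap.finrank_range_add_finrank_ker β
  rw [Module.finrank_fintype_fun_eq_card] at h3
  -- the kernel of β
  have h4 : finrank ℚ (LinearMap.ker β) ≤ k := by
    let φ : LinearMap.ker β →ₗ[ℚ] (Fin k → ℚ) := LinearMap.funLeft ℚ ℚ reps ∘ₗ (LinearMap.ker β).subtype
    have hφ : Function.Injective φ := by
      rw [← LinearMap.ker_eq_bot, LinearMap.ker_eq_bot']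
      intro f hf
      have hfk : β (f : α → ℚ) = 0 := LinearMap.mem_ker.mp f.2
      have hb : β (f : α → ℚ) = ((permDel x).rangeRestrict f, (permDel y).rangeRestrict f,
          (permDel z).rangeRestrict f) := rfl
      rw [hb, Prod.mk_eq_zero, Prod.mk_eq_zero] at hfk
      have hx0 : permDel x (f : α → ℚ) = 0 := by
        have := congrArg (Subtype.val) hfk.1
        exact this
      have hy0 : permDel y (f : α → ℚ) = 0 := by
        have := congrArg (Subtype.val) hfk.2.1
        exact this
      apply Subtype.ext
      funext a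
      obtain ⟨i, g, hg, hga⟩ := hreps a
      have h5 := invariant_of_closure hx0 hy0 hg (reps i)
      rw [hga] at h5
      have h6 : (f : α → ℚ) (reps i) = 0 := congrFun hf i
      rw [h5, h6]
      rfl
    have := LinearMap.finrank_le_finrank_of_injective hφ
    rwa [Module.finrank_fin_fun] at this
  -- the range of δ
  have h5 : Fintype.card α ≤ finrank ℚ (LinearMap.range δ) + k := by
    set W := LinearMap.range δ with hW
    let S : Submodule ℚ (α → ℚ) := Submodule.span ℚ (Set.range fun i : Fin k => (Pi.single (reps i) (1 : ℚ) : α → ℚ))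
    -- the subgroup of permutations moving basis vectors inside `W`
    let Hs : Subgroup (Equiv.Perm α) :=
      { carrier := {g | ∀ a, (Pi.single a (1 : ℚ) - Pi.single (g a) (1 : ℚ) : α → ℚ) ∈ W}
        mul_mem' := by
          intro g h hg hh a
          have e : (Pi.single a (1 : ℚ) - Pi.single ((g * h) a) (1 : ℚ) : α → ℚ) =
              (Pi.single a (1 : ℚ) - Pi.single (h a) (1 : ℚ)) +
              (Pi.single (h a) (1 : ℚ) - Pi.single (g (h a)) (1 : ℚ)) := by
            rw [Equiv.Perm.mul_apply]; abel
          rw [e]
          exact W.add_mem (hh a) (hg (h a))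
        one_mem' := by
          intro a
          simp
        inv_mem' := by
          intro g hg a
          have e : (Pi.single a (1 : ℚ) - Pi.single (g⁻¹ a) (1 : ℚ) : α → ℚ) =
              -(Pi.single (g⁻¹ a) (1 : ℚ) - Pi.single (g (g⁻¹ a)) (1 : ℚ)) := by
            have e' : g (g⁻¹ a) = a := by simp
            rw [e']; abel
          rw [e]
          exact W.neg_mem (hg (g⁻¹ a)) }
    have hxH : x ∈ Hs := by
      intro a
      refine LinearMap.mem_range.mpr ⟨((permDel x).rangeRestrict (Pi.single a 1), 0, 0), ?_⟩
      rw [hδ]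
      have e1 : (((permDel x).rangeRestrict (Pi.single a 1) : RA) : α → ℚ) = permDel x (Pi.single a 1) := rfl
      rw [e1, permDel_single]
      simp
    have hxyH : x * y ∈ Hs := by
      intro a
      refine LinearMap.mem_range.mpr ⟨((permDel x).rangeRestrict (Pi.single a 1),
        (permDel y).rangeRestrict (Pi.single a 1), 0), ?_⟩
      rw [hδ]
      have e1 : (((permDel x).rangeRestrict (Pi.single a 1) : RA) : α → ℚ) = permDel x (Pi.single a 1) := rfl
      have e2 : (((permDel y).rangeRestrict (Pi.single a 1) : RB) : α → ℚ) = permDel y (Pi.single a 1) := rfl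
      rw [e1, e2, permDel_single, permDel_single, map_sub, permLin_single, permLin_single, Equiv.Perm.mul_apply]
      simp
    have hyH : y ∈ Hs := by
      have : y = x⁻¹ * (x * y) := by group
      rw [this]
      exact Hs.mul_mem (Hs.inv_mem hxH) hxyH
    have hcl : Subgroup.closure ({x, y} : Set (Equiv.Perm α)) ≤ Hs := by
      rw [Subgroup.closure_le]
      intro s hs
      rcases hs with rfl | hs
      · exact hxH
      · rw [Set.mem_singleton_iff] at hs
        rw [hs]
        exact hyH
    have htop : (⊤ : Submodule ℚ (α → ℚ)) ≤ W ⊔ S := by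
      rw [← (Pi.basisFun ℚ α).span_eq, Submodule.span_le]
      rintro _ ⟨a, rfl⟩
      rw [Pi.basisFun_apply]
      obtain ⟨i, g, hg, hga⟩ := hreps a
      have h6 := hcl hg (reps i)
      rw [hga] at h6
      have e : (Pi.single a (1 : ℚ) : α → ℚ) = -(Pi.single (reps i) (1 : ℚ) - Pi.single a (1 : ℚ)) +
          Pi.single (reps i) (1 : ℚ) := by abel
      rw [SetLike.mem_coe, e]
      exact Submodule.add_mem_sup (W.neg_mem h6) (Submodule.subset_span ⟨i, rfl⟩)
    have h7 : finrank ℚ (⊤ : Submodule ℚ (α → ℚ)) ≤ finrank ℚ (W ⊔ S : Submodule ℚ (α → ℚ)) :=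
      Submodule.finrank_mono htop
    rw [finrank_top, Module.finrank_fintype_fun_eq_card] at h7
    have h8 := Submodule.finrank_add_le_finrank_add_finrank W S
    have h9 : finrank ℚ S ≤ k := by
      have := finrank_range_le_card (R := ℚ) (fun i : Fin k => (Pi.single (reps i) (1 : ℚ) : α → ℚ))
      rwa [Fintype.card_fin] at this
    omega
  omega

/-- the number of orbits of the cyclic group generated by `σ` and the rank of `1 - σ` -/
theorem card_orbits_add_permRk_le (σ : Equiv.Perm α) :
    Nat.card (MulAction.orbitRel.Quotient (Subgroup.zpowers σ) α) + permRk σ ≤ Fintype.card α := by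
  classical
  have h := LinearMap.finrank_range_add_finrank_ker (permDel σ)
  rw [Module.finrank_fintype_fun_eq_card] at h
  letI : Fintype (MulAction.orbitRel.Quotient (Subgroup.zpowers σ) α) := Fintype.ofFinite _
  let mk : α → MulAction.orbitRel.Quotient (Subgroup.zpowers σ) α := Quotient.mk''
  have hmk : ∀ a, mk (σ.symm a) = mk a := by
    intro a
    apply Quotient.sound'
    change σ.symm a ∈ MulAction.orbit (Subgroup.zpowers σ) a
    refine ⟨⟨σ⁻¹, Subgroup.inv_mem _ (Subgroup.mem_zpowers σ)⟩, ?_⟩
    rfl
  let ι : ((MulAction.orbitRel.Quotient (Subgroup.zpowers σ) α) → ℚ) →ₗ[ℚ] LinearMap.ker (permDel σ) :=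
    LinearMap.codRestrict _ (LinearMap.funLeft ℚ ℚ mk) (by
      intro φ
      rw [LinearMap.mem_ker, permDel_apply, sub_eq_zero]
      funext a
      rw [permLin_apply, LinearMap.funLeft_apply, LinearMap.funLeft_apply, hmk])
  have hι : Function.Injective ι := by
    intro φ ψ hφψ
    have h1 : LinearMap.funLeft ℚ ℚ mk φ = LinearMap.funLeft ℚ ℚ mk ψ := congrArg Subtype.val hφψ
    exact LinearMap.funLeft_injective_of_surjective ℚ ℚ mk Quotient.mk''_surjective h1
  have h2 := LinearMap.finrank_le_finrank_of_injective hι
  rw [Module.finrank_fintype_fun_eq_card] at h2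
  rw [Nat.card_eq_fintype_card]
  unfold permRk
  omega

/-- the counting lemma of Burnside for a cyclic group, as an inequality -/
theorem order_mul_card_orbits_ge (σ : Equiv.Perm α) :
    Fintype.card α + (orderOf σ - 1) * (Finset.univ.filter fun a => σ a = a).card ≤
      orderOf σ * Nat.card (MulAction.orbitRel.Quotient (Subgroup.zpowers σ) α) := by
  classical
  letI : Fintype (Quotient (MulAction.orbitRel (Subgroup.zpowers σ) α)) := Fintype.ofFinite _
  letI : ∀ g : Subgroup.zpowers σ, Fintype (MulAction.fixedBy α g) := fun g => Fintype.ofFinite _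
  have hB := MulAction.sum_card_fixedBy_eq_card_orbits_mul_card_group (Subgroup.zpowers σ) α
  have hcard : Fintype.card (Subgroup.zpowers σ) = orderOf σ := Fintype.card_zpowers
  have hone : Fintype.card (MulAction.fixedBy α (1 : Subgroup.zpowers σ)) = Fintype.card α := by
    apply Fintype.card_congr
    refine ⟨fun a => a.1, fun a => ⟨a, by simp [MulAction.mem_fixedBy]⟩, fun a => rfl, fun a => rfl⟩
  have hge : ∀ g : Subgroup.zpowers σ,
      (Finset.univ.filter fun a => σ a = a).card ≤ Fintype.card (MulAction.fixedBy α g) := by
    intro g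
    obtain ⟨k, hk⟩ := Subgroup.mem_zpowers_iff.mp g.2
    rw [Fintype.card_of_subtype (Finset.univ.filter fun a => a ∈ MulAction.fixedBy α g) (by simp)]
    apply Finset.card_le_card
    intro a ha
    have ha' : σ a = a := (Finset.mem_filter.mp ha).2
    rw [Finset.mem_filter]
    refine ⟨Finset.mem_univ _, ?_⟩
    rw [MulAction.mem_fixedBy]
    change (g : Equiv.Perm α) a = a
    rw [← hk]
    exact Equiv.Perm.zpow_apply_eq_self_of_apply_eq_self ha' k
  have hsum : Fintype.card α + (orderOf σ - 1) * (Finset.univ.filter fun a => σ a = a).card ≤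
      ∑ g : Subgroup.zpowers σ, Fintype.card (MulAction.fixedBy α g) := by
    rw [← Finset.add_sum_erase Finset.univ _ (Finset.mem_univ (1 : Subgroup.zpowers σ)), hone]
    apply Nat.add_le_add_left
    have h1 := Finset.card_nsmul_le_sum (Finset.univ.erase (1 : Subgroup.zpowers σ))
      (fun g => Fintype.card (MulAction.fixedBy α g)) (Finset.univ.filter fun a => σ a = a).card
      (fun g _ => hge g)
    rw [Finset.card_erase_of_mem (Finset.mem_univ _), Finset.card_univ, hcard, smul_eq_mul] at h1
    exact h1
  rw [hB, hcard] at hsum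
  rw [Nat.card_eq_fintype_card]
  have e : Fintype.card (MulAction.orbitRel.Quotient (Subgroup.zpowers σ) α) =
      Fintype.card (Quotient (MulAction.orbitRel (Subgroup.zpowers σ) α)) := by
    apply Fintype.card_congr
    exact Equiv.refl _
  rw [e, Nat.mul_comm (orderOf σ)]
  exact hsum

/-- the rank of `1 - σ` in terms of the order of `σ` and the number of its fixed points -/
theorem permRk_bound (σ : Equiv.Perm α) :
    Fintype.card α + (orderOf σ - 1) * (Finset.univ.filter fun a => σ a = a).card + orderOf σ * permRk σ ≤
      orderOf σ * Fintype.card α := by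
  have h1 := card_orbits_add_permRk_le σ
  have h2 := order_mul_card_orbits_ge σ
  have h3 : orderOf σ * (Nat.card (MulAction.orbitRel.Quotient (Subgroup.zpowers σ) α) + permRk σ) ≤
      orderOf σ * Fintype.card α := Nat.mul_le_mul_left _ h1
  rw [Nat.mul_add] at h3
  omega

end

end Cfsg.Agent.Helper27
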