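import Cfsg.Agent.Helper27.TrioModel

/-!
A computable list of all sextets of `Cfsg.octads`, as sorted lists of six masks.
-/

set_option autoImplicit false

namespace Cfsg.Agent.Helper27

open Cfsg
open scoped Pointwise

/-- the masks of the octads containing the point with index `0` -/
def octL0 : List ℕ := octL.filter (fun m => m.testBit 0)

/-- the sextet of a tetrad given by a mask containing the point with index `0` -/
def sextetOf (t0 : ℕ) : List ℕ :=
  (t0 :: ((octL0.filter (fun m => m &&& t0 == t0)).map (fun m => m ^^^ t0))).insertionSort (· ≤ ·)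

/-- the index lists of the tetrads containing the point with index `0` -/
def tetIdxL : List (List ℕ) :=
  (List.range 24).flatMap (fun a => (List.range 24).flatMap (fun b => (List.range 24).filterMap (fun c =>
    if 0 < a ∧ a < b ∧ b < c then some [0, a, b, c] else none)))

/-- all sextets -/
def sextL : List (List ℕ) := tetIdxL.map (fun I => sextetOf (tblMask I))

/-- the list of six masks is a sextet -/
def isSextB (L : List ℕ) : Bool :=
  (L.length == 6) && sortedB L && L.all (fun m => popc 24 m == 4) &&
    L.all (fun m => L.all (fun m' => m == m' || isOct (m ||| m')))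

theorem card_famOf {L : List ℕ} (h : sortedB L = true) : (famOf L).card = L.length := by
  obtain ⟨hp, hlt⟩ := sortedB_spec h
  rw [famOf, List.toFinset_card_of_nodup, List.length_map]
  rw [List.nodup_map_iff_inj_on (hp.imp (fun h => ne_of_lt h))]
  intro a ha b hb hab
  exact maskSet_injOn (hlt a ha) (hlt b hb) hab

theorem isSextB_sound {L : List ℕ} (h : isSextB L = true) : sortedB L = true ∧ famOf L ∈ sextets := by
  simp only [isSextB, Bool.and_eq_true, beq_iff_eq, List.all_eq_true, Bool.or_eq_true] at h
  obtain ⟨⟨⟨h6, hs⟩, h4⟩, hpair⟩ := h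
  obtain ⟨hp, hlt⟩ := sortedB_spec hs
  refine ⟨hs, ?_, ?_, ?_⟩
  · rw [card_famOf hs, h6]
  · intro t ht
    obtain ⟨m, hm, rfl⟩ := (mem_famOf _ _).mp ht
    rw [card_maskSet, h4 m hm]
  · intro t ht u hu htu
    obtain ⟨m, hm, rfl⟩ := (mem_famOf _ _).mp ht
    obtain ⟨m', hm', rfl⟩ := (mem_famOf _ _).mp hu
    rcases hpair m hm m' hm' with h | h
    · rw [h] at htu
      exact absurd rfl htu
    · rw [← maskSet_or]
      exact maskSet_mem_octads h

set_option maxRecDepth 100000 in
theorem sextL_check : sextL.all isSextB = true := by decide +kernel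

theorem sextL_sound {L : List ℕ} (hL : L ∈ sextL) : sortedB L = true ∧ famOf L ∈ sextets :=
  isSextB_sound (List.all_eq_true.mp sextL_check L hL)

end Cfsg.Agent.Helper27
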