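import Mathlib
import Cfsg.Agent.Helper4.Sharp2
import Cfsg.Agent.Helper4.Sharp3
import Cfsg.Agent.Helper4.Sharp4

/-!
Sharply 4-transitive groups of degree 11: fixed points of elements of order two and three.
(Towards S0420, piece (B).)
-/

set_option autoImplicit false
set_option linter.unusedSectionVars false
set_option linter.unusedVariables false
set_option linter.style.haveILetI false

namespace Cfsg.Agent.Helper27.Sharp4Iso

open MulAction Cfsg.Agent.Helper4.Sharp4

section TwoPoint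

variable {G Ω : Type*} [Group G] [MulAction G Ω]

/-- the pointwise stabiliser of two points -/
def H2 (G : Type*) [Group G] {Ω : Type*} [MulAction G Ω] (r1 r2 : Ω) : Subgroup G :=
  stabilizer G r1 ⊓ stabilizer G r2

theorem mem_H2 {r1 r2 : Ω} {g : G} : g ∈ H2 G r1 r2 ↔ g • r1 = r1 ∧ g • r2 = r2 := by
  unfold H2
  rw [Subgroup.mem_inf, mem_stabilizer_iff, mem_stabilizer_iff]

/-- the remaining points, as a `SubMulAction` of the two-point stabiliser -/
def Del (G : Type*) [Group G] {Ω : Type*} [MulAction G Ω] (r1 r2 : Ω) :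
    SubMulAction (H2 G r1 r2) Ω where
  carrier := {x | x ≠ r1 ∧ x ≠ r2}
  smul_mem' := by
    intro h x hx
    obtain ⟨h1, h2⟩ := mem_H2.mp h.2
    constructor
    · intro hh
      apply hx.1
      have : (h : G) • x = (h : G) • r1 := by rw [h1]; exact hh
      exact MulAction.injective (h : G) this
    · intro hh
      apply hx.2
      have : (h : G) • x = (h : G) • r2 := by rw [h2]; exact hh
      exact MulAction.injective (h : G) this

theorem mem_Del {r1 r2 x : Ω} : x ∈ Del G r1 r2 ↔ x ≠ r1 ∧ x ≠ r2 := Iff.rfl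

end TwoPoint


section Fpf

variable {Γ : Type*} [Group Γ]

/-- Surjectivity of the twist map `x ↦ x⁻¹ * (g x g⁻¹)` for a fixed-point-free conjugation. -/
theorem twist_surj' (H : Subgroup Γ) [Finite H] (g : Γ)
    (hN : ∀ h ∈ H, g * h * g⁻¹ ∈ H) (hfp : ∀ h ∈ H, g * h * g⁻¹ = h → h = 1) :
    ∀ h ∈ H, ∃ x ∈ H, h = x⁻¹ * (g * x * g⁻¹) := by
  have hinj : Function.Injective (fun x : ↥H =>
      (⟨(x : Γ)⁻¹ * (g * x * g⁻¹), H.mul_mem (H.inv_mem x.2) (hN x x.2)⟩ : ↥H)) := by
    intro x y hxy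
    have h1 : (x : Γ)⁻¹ * (g * x * g⁻¹) = (y : Γ)⁻¹ * (g * y * g⁻¹) := congrArg Subtype.val hxy
    have e : g * (y : Γ) * g⁻¹ = (y : Γ) * (x : Γ)⁻¹ * (g * x * g⁻¹) := by
      rw [mul_assoc (y : Γ), h1]; group
    have h2 : g * ((y : Γ) * (x : Γ)⁻¹) * g⁻¹ = (y : Γ) * (x : Γ)⁻¹ := by
      calc g * ((y : Γ) * (x : Γ)⁻¹) * g⁻¹ = (g * y * g⁻¹) * (g * x * g⁻¹)⁻¹ := by group
        _ = (y : Γ) * (x : Γ)⁻¹ := by rw [e]; group
    have h3 := hfp _ (H.mul_mem y.2 (H.inv_mem x.2)) h2
    have h4 : (y : Γ) = x := mul_inv_eq_one.mp h3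
    exact Subtype.ext h4.symm
  intro h hh
  obtain ⟨x, hx⟩ := (Finite.injective_iff_surjective.mp hinj) ⟨h, hh⟩
  exact ⟨x, x.2, (congrArg Subtype.val hx).symm⟩

/-- A fixed-point-free involution inverts. -/
theorem conj_eq_inv_of_fpf_invol' (H : Subgroup Γ) [Finite H] (t : Γ) (ht : t * t = 1)
    (hN : ∀ h ∈ H, t * h * t⁻¹ ∈ H) (hfp : ∀ h ∈ H, t * h * t⁻¹ = h → h = 1) :
    ∀ h ∈ H, t * h * t⁻¹ = h⁻¹ := by
  intro h hh
  obtain ⟨x, _, rfl⟩ := twist_surj' H t hN hfp h hh
  have hti : t⁻¹ = t := inv_eq_of_mul_eq_one_left ht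
  have e : t * (t * x * t⁻¹) * t⁻¹ = x := by
    rw [hti]
    calc t * (t * x * t) * t = (t * t) * x * (t * t) := by group
      _ = x := by rw [ht, one_mul, mul_one]
  calc t * (x⁻¹ * (t * x * t⁻¹)) * t⁻¹ = (t * x * t⁻¹)⁻¹ * (t * (t * x * t⁻¹) * t⁻¹) := by group
    _ = (x⁻¹ * (t * x * t⁻¹))⁻¹ := by rw [e]; group

end Fpf

section StepC

variable {G Ω : Type*} [Group G] [MulAction G Ω] [Fintype Ω] [DecidableEq Ω] [Finite G]

/-- **Step C**: two involutions of a sharply 4-transitive group of degree at least 5 with three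
common fixed points are equal. -/
theorem invol_unique (hs : Sharp G Ω) (ht : Trans4 G Ω) (hcard : 5 ≤ Fintype.card Ω)
    {r1 r2 r3 : Ω} (h12 : r1 ≠ r2) (h13 : r1 ≠ r3) (h23 : r2 ≠ r3)
    {s t : G} (hss : s * s = 1) (htt : t * t = 1) (hs1 : s ≠ 1) (ht1 : t ≠ 1)
    (hsr1 : s • r1 = r1) (hsr2 : s • r2 = r2) (hsr3 : s • r3 = r3)
    (htr1 : t • r1 = r1) (htr2 : t • r2 = r2) (htr3 : t • r3 = r3) : s = t := by
  classical
  haveI : Fintype (Del G r1 r2) := Fintype.ofFinite _
  -- the action of the two-point stabiliser on the remaining points is sharply 2-transitive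
  have hcardD : Fintype.card (Del G r1 r2) = Fintype.card Ω - 2 := by
    have h1 : Fintype.card (Del G r1 r2) = Fintype.card {x : Ω // x ≠ r1 ∧ x ≠ r2} :=
      Fintype.card_congr (Equiv.refl _)
    rw [h1, Fintype.card_subtype]
    have h2 : (Finset.univ.filter (fun x : Ω => x ≠ r1 ∧ x ≠ r2))
        = (Finset.univ.erase r1).erase r2 := by
      ext x
      simp only [Finset.mem_filter, Finset.mem_univ, true_and, Finset.mem_erase, and_true]
      tauto
    rw [h2, Finset.card_erase_of_mem, Finset.card_erase_of_mem (Finset.mem_univ _),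
      Finset.card_univ]
    · rfl
    · rw [Finset.mem_erase]
      exact ⟨Ne.symm h12, Finset.mem_univ _⟩
  have h2t : IsMultiplyPretransitive (H2 G r1 r2) (Del G r1 r2) 2 := by
    rw [is_two_pretransitive_iff]
    intro a b c d hab hcd
    have hD : D4 r1 r2 (a : Ω) (b : Ω) :=
      ⟨h12, Ne.symm a.2.1, Ne.symm b.2.1, Ne.symm a.2.2, Ne.symm b.2.2,
        fun h => hab (Subtype.ext h)⟩
    have hD' : D4 r1 r2 (c : Ω) (d : Ω) :=
      ⟨h12, Ne.symm c.2.1, Ne.symm d.2.1, Ne.symm c.2.2, Ne.symm d.2.2,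
        fun h => hcd (Subtype.ext h)⟩
    obtain ⟨g, g1, g2, g3, g4⟩ := ht _ _ _ _ _ _ _ _ hD hD'
    refine ⟨⟨g, mem_H2.mpr ⟨g1, g2⟩⟩, ?_, ?_⟩
    · exact Subtype.ext g3
    · exact Subtype.ext g4
  have hsh : ∀ (g : H2 G r1 r2) (x y : Del G r1 r2), x ≠ y → g • x = x → g • y = y → g = 1 := by
    intro g x y hxy hx hy
    obtain ⟨g1, g2⟩ := mem_H2.mp g.2
    have hD : D4 r1 r2 (x : Ω) (y : Ω) :=
      ⟨h12, Ne.symm x.2.1, Ne.symm y.2.1, Ne.symm x.2.2, Ne.symm y.2.2,
        fun h => hxy (Subtype.ext h)⟩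
    have := hs (g : G) r1 r2 x y hD g1 g2 (congrArg Subtype.val hx) (congrArg Subtype.val hy)
    exact Subtype.ext this
  obtain ⟨N, hNn, hNmem, hNcard, -⟩ :=
    Cfsg.Agent.Helper4.sharp2_fpf_subgroup h2t hsh (by rw [hcardD]; omega)
  -- `s`, `t` as elements of the two-point stabiliser and `r3` as a point
  set s' : H2 G r1 r2 := ⟨s, mem_H2.mpr ⟨hsr1, hsr2⟩⟩ with hs'
  set t' : H2 G r1 r2 := ⟨t, mem_H2.mpr ⟨htr1, htr2⟩⟩ with ht'
  set p3 : Del G r1 r2 := ⟨r3, ⟨Ne.symm h13, Ne.symm h23⟩⟩ with hp3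
  have hs'p : s' • p3 = p3 := Subtype.ext hsr3
  have ht'p : t' • p3 = p3 := Subtype.ext htr3
  -- an element of the two-point stabiliser fixing `r3` and commuting with `n ∈ N`, `n ≠ 1`, is `1`
  have key : ∀ (u : H2 G r1 r2), u • p3 = p3 → ∀ n ∈ N, n ≠ 1 → u * n * u⁻¹ = n → u = 1 := by
    intro u hu n hn hn1 hcomm
    have hfpf : ∀ a : Del G r1 r2, n • a ≠ a := by
      rcases (hNmem n).mp hn with h | h
      · exact absurd h hn1
      · exact h
    have h1 : u • (n • p3) = n • p3 := by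
      have : u * n = n * u := by
        calc u * n = (u * n * u⁻¹) * u := by group
          _ = n * u := by rw [hcomm]
      rw [← mul_smul, this, mul_smul, hu]
    exact hsh u p3 (n • p3) (Ne.symm (hfpf p3)) hu h1
  have hss' : s' * s' = 1 := Subtype.ext hss
  have htt' : t' * t' = 1 := Subtype.ext htt
  have hs'1 : s' ≠ 1 := fun h => hs1 (congrArg Subtype.val h)
  have ht'1 : t' ≠ 1 := fun h => ht1 (congrArg Subtype.val h)
  haveI : Finite N := inferInstance
  have hsinv : ∀ n ∈ N, s' * n * s'⁻¹ = n⁻¹ :=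
    conj_eq_inv_of_fpf_invol' N s' hss' (fun n hn => hNn.conj_mem n hn s')
      (fun n hn hc => by
        by_contra hn1
        exact hs'1 (key s' hs'p n hn hn1 hc))
  have htinv : ∀ n ∈ N, t' * n * t'⁻¹ = n⁻¹ :=
    conj_eq_inv_of_fpf_invol' N t' htt' (fun n hn => hNn.conj_mem n hn t')
      (fun n hn hc => by
        by_contra hn1
        exact ht'1 (key t' ht'p n hn hn1 hc))
  -- a nonidentity element of `N`
  have hNnt : ∃ n ∈ N, n ≠ 1 := by
    have h2 : 1 < Nat.card N := by rw [hNcard, hcardD]; omega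
    haveI : Nontrivial N := Finite.one_lt_card_iff_nontrivial.mp h2
    obtain ⟨n, hn⟩ := exists_ne (1 : N)
    exact ⟨n, n.2, fun h => hn (Subtype.ext h)⟩
  obtain ⟨n, hn, hn1⟩ := hNnt
  have hst : s' * t' = 1 := by
    apply key (s' * t') (by rw [mul_smul, ht'p, hs'p]) n hn hn1
    have h1 := htinv n hn
    have h2 := hsinv n⁻¹ (N.inv_mem hn)
    calc s' * t' * n * (s' * t')⁻¹ = s' * (t' * n * t'⁻¹) * s'⁻¹ := by group
      _ = n := by rw [h1, h2, inv_inv]
  have h3 : s * t = 1 := congrArg Subtype.val hst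
  calc s = s * (t * t) := by rw [htt, mul_one]
    _ = (s * t) * t := by rw [mul_assoc]
    _ = t := by rw [h3, one_mul]

end StepC


section FixCounts

variable {G Ω : Type*} [Group G] [MulAction G Ω] [Fintype Ω] [DecidableEq Ω]

theorem mem_fixSet (g : G) (q : Ω) :
    q ∈ Finset.univ.filter (fun q : Ω => g • q = q) ↔ g • q = q := by
  rw [Finset.mem_filter]
  exact ⟨fun h => h.2, fun h => ⟨Finset.mem_univ _, h⟩⟩

/-- an element of order three of a sharply 4-transitive group of degree 11 fixes two points -/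
theorem fixCard_order_three (hs : Sharp G Ω) (hcard : Fintype.card Ω = 11) {g : G}
    (hg3 : g ^ 3 = 1) (hg1 : g ≠ 1) : fixCard (Ω := Ω) g = 2 := by
  classical
  haveI : Fact (Nat.Prime 3) := ⟨by norm_num⟩
  have ho : orderOf g = 3 := orderOf_eq_prime hg3 hg1
  have h := Cfsg.Agent.Helper4.card_modEq_card_fixedBy_of_orderOf_prime (Ω := Ω) 3 g ho
  have h2 : Nat.card (fixedBy Ω g) = fixCard (Ω := Ω) g := by
    rw [Nat.card_eq_fintype_card, Fintype.card_subtype]
    rfl
  rw [h2, Nat.card_eq_fintype_card, hcard] at h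
  have h3 := fixCard_le hs g hg1
  unfold Nat.ModEq at h
  omega

/-- an element of order three does not fix three distinct points -/
theorem not_fix_three (hs : Sharp G Ω) (hcard : Fintype.card Ω = 11) {g : G}
    (hg3 : g ^ 3 = 1) (hg1 : g ≠ 1) {x y z : Ω} (hxy : x ≠ y) (hxz : x ≠ z) (hyz : y ≠ z)
    (hx : g • x = x) (hy : g • y = y) (hz : g • z = z) : False := by
  have h := fixCard_order_three hs hcard hg3 hg1
  unfold fixCard at h
  have hsub : ({x, y, z} : Finset Ω) ⊆ Finset.univ.filter (fun q : Ω => g • q = q) := by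
    intro q hq
    rw [mem_fixSet]
    simp only [Finset.mem_insert, Finset.mem_singleton] at hq
    rcases hq with rfl | rfl | rfl
    · exact hx
    · exact hy
    · exact hz
  have h3 : ({x, y, z} : Finset Ω).card = 3 := Finset.card_eq_three.mpr ⟨x, y, z, hxy, hxz, hyz, rfl⟩
  have := Finset.card_le_card hsub
  omega

/-- a double transposition on four points fixes exactly three points -/
theorem fixCard_dt (hs : Sharp G Ω) (ht : Trans4 G Ω) (hcard : Fintype.card Ω = 11)
    {a b c d : Ω} (hD : D4 a b c d) {v : G} (va : v • a = b) (vb : v • b = a)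
    (vc : v • c = d) (vd : v • d = c) : fixCard (Ω := Ω) v = 3 := by
  classical
  obtain ⟨Φ, hΦ, huniq, hinv, hconj⟩ := inv_facts hs ht hD.1
  have hv : v = Φ (c, d) := huniq c d hD v va vb vc vd
  have hD' : D4 b a c d := ⟨Ne.symm hD.1, hD.2.2.2.1, hD.2.2.2.2.1, hD.2.1, hD.2.2.1,
    hD.2.2.2.2.2⟩
  obtain ⟨u, ua, ub, uc, ud⟩ := ht _ _ _ _ _ _ _ _ hD hD'
  have huu : u * u = 1 := by
    apply eq_of_agree hs _ _ hD
    · rw [mul_smul, ua, ub, one_smul]
    · rw [mul_smul, ub, ua, one_smul]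
    · rw [mul_smul, uc, uc, one_smul]
    · rw [mul_smul, ud, ud, one_smul]
  have hu1 : u ≠ 1 := by
    intro h
    rw [h, one_smul] at ua
    exact hD.1 ua
  have huinv : ∀ q : Ω, u • (u • q) = q := by
    intro q
    rw [← mul_smul, huu, one_smul]
  have hfu : fixCard (Ω := Ω) u = 3 := by
    have h1 := fixCard_parity (Ω := Ω) u huu
    have h2 := fixCard_le hs u hu1
    have h3 : 2 ≤ fixCard (Ω := Ω) u := by
      unfold fixCard
      have hsub : ({c, d} : Finset Ω) ⊆ Finset.univ.filter (fun q : Ω => u • q = q) := by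
        intro q hq
        rw [mem_fixSet]
        simp only [Finset.mem_insert, Finset.mem_singleton] at hq
        rcases hq with rfl | rfl
        · exact uc
        · exact ud
      have h4 : ({c, d} : Finset Ω).card = 2 := Finset.card_pair hD.2.2.2.2.2
      have := Finset.card_le_card hsub
      omega
    rw [hcard] at h1
    omega
  -- a moved point other than `a`, `b`
  have hmoved : ∃ p : Ω, p ≠ a ∧ p ≠ b ∧ u • p ≠ p := by
    have hsplit : (Finset.univ.filter (fun q : Ω => u • q = q)).card +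
        (Finset.univ.filter (fun q : Ω => ¬ u • q = q)).card = Fintype.card Ω := by
      rw [Finset.card_filter_add_card_filter_not, Finset.card_univ]
    unfold fixCard at hfu
    have h2 : ({a, b} : Finset Ω).card < (Finset.univ.filter (fun q : Ω => ¬ u • q = q)).card := by
      have : ({a, b} : Finset Ω).card = 2 := Finset.card_pair hD.1
      omega
    obtain ⟨p, hp, hpn⟩ := Finset.exists_mem_notMem_of_card_lt_card h2
    rw [Finset.mem_filter] at hp
    simp only [Finset.mem_insert, Finset.mem_singleton, not_or] at hpn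
    exact ⟨p, hpn.1, hpn.2, hp.2⟩
  obtain ⟨p, hpa, hpb, hup⟩ := hmoved
  have hqa : u • p ≠ a := by
    intro h
    apply hpb
    have := huinv p
    rw [h, ua] at this
    exact this.symm
  have hqb : u • p ≠ b := by
    intro h
    apply hpa
    have := huinv p
    rw [h, ub] at this
    exact this.symm
  have hD2 : D4 a b p (u • p) :=
    ⟨hD.1, Ne.symm hpa, Ne.symm hqa, Ne.symm hpb, Ne.symm hqb, Ne.symm hup⟩
  have hu : u = Φ (p, u • p) := huniq p (u • p) hD2 u ua ub rfl (huinv p)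
  have := hconj p (u • p) c d hD2 hD
  rw [hv, this, ← hu, hfu]

end FixCounts

section CommonFix

variable {G Ω : Type*} [Group G] [MulAction G Ω] [Fintype Ω] [DecidableEq Ω] [Finite G]

/-- an involution of a three-element set has a fixed point -/
theorem invol_three_fix {f : Ω → Ω} (hf : ∀ q, f (f q) = q) {x y z : Ω}
    (hxy : x ≠ y) (hxz : x ≠ z) (hyz : y ≠ z)
    (hx : f x = x ∨ f x = y ∨ f x = z) (hy : f y = x ∨ f y = y ∨ f y = z)
    (hz : f z = x ∨ f z = y ∨ f z = z) : f x = x ∨ f y = y ∨ f z = z := by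
  rcases hx with hx | hx | hx
  · exact Or.inl hx
  · -- f x = y, so f y = x
    have hyx : f y = x := by rw [← hx, hf]
    rcases hz with hz | hz | hz
    · exfalso
      have := hf z
      rw [hz, hx] at this
      exact hyz this
    · exfalso
      have := hf z
      rw [hz, hyx] at this
      exact hxz this
    · exact Or.inr (Or.inr hz)
  · -- f x = z, so f z = x
    have hzx : f z = x := by rw [← hx, hf]
    rcases hy with hy | hy | hy
    · exfalso
      have := hf y
      rw [hy, hx] at this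
      exact hyz this.symm
    · exact Or.inr (Or.inl hy)
    · exfalso
      have := hf y
      rw [hy, hzx] at this
      exact hxy this

/-- **Step B**: the Klein four-group of double transpositions on four points has a unique common
fixed point. -/
theorem exists_unique_common_fix (hs : Sharp G Ω) (ht : Trans4 G Ω)
    (hcard : Fintype.card Ω = 11) {a b c d : Ω} (hD : D4 a b c d) {v1 v2 : G}
    (v1a : v1 • a = b) (v1b : v1 • b = a) (v1c : v1 • c = d) (v1d : v1 • d = c)
    (v2a : v2 • a = c) (v2b : v2 • b = d) (v2c : v2 • c = a) (v2d : v2 • d = b) :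
    ∃! e : Ω, v1 • e = e ∧ v2 • e = e := by
  classical
  have h11 : v1 * v1 = 1 := by
    apply eq_of_agree hs _ _ hD
    · rw [mul_smul, v1a, v1b, one_smul]
    · rw [mul_smul, v1b, v1a, one_smul]
    · rw [mul_smul, v1c, v1d, one_smul]
    · rw [mul_smul, v1d, v1c, one_smul]
  have h22 : v2 * v2 = 1 := by
    apply eq_of_agree hs _ _ hD
    · rw [mul_smul, v2a, v2c, one_smul]
    · rw [mul_smul, v2b, v2d, one_smul]
    · rw [mul_smul, v2c, v2a, one_smul]
    · rw [mul_smul, v2d, v2b, one_smul]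
  have h12 : v1 * v2 = v2 * v1 := by
    apply eq_of_agree hs _ _ hD
    · rw [mul_smul, mul_smul, v2a, v1c, v1a, v2b]
    · rw [mul_smul, mul_smul, v2b, v1d, v1b, v2a]
    · rw [mul_smul, mul_smul, v2c, v1a, v1c, v2d]
    · rw [mul_smul, mul_smul, v2d, v1b, v1d, v2c]
  have hv1 : v1 ≠ 1 := by
    intro h
    rw [h, one_smul] at v1a
    exact hD.1 v1a
  have hv2 : v2 ≠ 1 := by
    intro h
    rw [h, one_smul] at v2a
    exact hD.2.1 v2a
  have hne : v1 ≠ v2 := by
    intro h
    rw [h, v2a] at v1a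
    exact hD.2.2.2.1 v1a.symm
  have hf2 : ∀ q : Ω, v2 • (v2 • q) = q := by
    intro q
    rw [← mul_smul, h22, one_smul]
  have hfix : ∀ w : Ω, v1 • w = w → v1 • (v2 • w) = v2 • w := by
    intro w hw
    rw [← mul_smul, h12, mul_smul, hw]
  have hc3 := fixCard_dt hs ht hcard hD v1a v1b v1c v1d
  unfold fixCard at hc3
  obtain ⟨x, y, z, hxy, hxz, hyz, hF⟩ := Finset.card_eq_three.mp hc3
  have hmemF : ∀ w : Ω, v1 • w = w ↔ w = x ∨ w = y ∨ w = z := by
    intro w
    rw [← mem_fixSet, hF]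
    simp only [Finset.mem_insert, Finset.mem_singleton]
  have hx1 : v1 • x = x := (hmemF x).mpr (Or.inl rfl)
  have hy1 : v1 • y = y := (hmemF y).mpr (Or.inr (Or.inl rfl))
  have hz1 : v1 • z = z := (hmemF z).mpr (Or.inr (Or.inr rfl))
  -- existence
  have hex : ∃ e : Ω, v1 • e = e ∧ v2 • e = e := by
    rcases invol_three_fix (f := fun q => v2 • q) hf2 hxy hxz hyz
      ((hmemF _).mp (hfix x hx1)) ((hmemF _).mp (hfix y hy1)) ((hmemF _).mp (hfix z hz1))
      with h | h | h
    · exact ⟨x, hx1, h⟩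
    · exact ⟨y, hy1, h⟩
    · exact ⟨z, hz1, h⟩
  obtain ⟨e, he1, he2⟩ := hex
  refine ⟨e, ⟨he1, he2⟩, ?_⟩
  rintro e' ⟨he1', he2'⟩
  by_contra hee
  -- then `v2` fixes all three fixed points of `v1`
  have hall : ∀ w : Ω, v1 • w = w → v2 • w = w := by
    intro w hw
    by_contra hw2
    have hwe : w ≠ e := fun h => hw2 (by rw [h]; exact he2)
    have hwe' : w ≠ e' := fun h => hw2 (by rw [h]; exact he2')
    -- `v2 • w` is a fixed point of `v1` different from `e`, `e'`, `w`: four fixed points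
    have h2w := hfix w hw
    have h2we : v2 • w ≠ e := by
      intro h
      apply hwe
      have := hf2 w
      rw [h, he2] at this
      exact this.symm
    have h2we' : v2 • w ≠ e' := by
      intro h
      apply hwe'
      have := hf2 w
      rw [h, he2'] at this
      exact this.symm
    have hD4 : D4 e e' w (v2 • w) :=
      ⟨Ne.symm hee, Ne.symm hwe, Ne.symm h2we, Ne.symm hwe', Ne.symm h2we', Ne.symm hw2⟩
    exact hv1 (hs v1 _ _ _ _ hD4 he1 he1' hw h2w)
  have := invol_unique hs ht (by omega) hxy hxz hyz h11 h22 hv1 hv2 hx1 hy1 hz1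
    (hall x hx1) (hall y hy1) (hall z hz1)
  exact hne this

end CommonFix

end Cfsg.Agent.Helper27.Sharp4Iso
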