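import Mathlib
import Cfsg.Prelude.Def_Sporadic_a
import Cfsg.Agent.Helper27.Sharp4IsoA

/-!
Sharply 4-transitive groups of degree 11: the invariant Steiner system `S(4,5,11)`.
(Towards S0420, piece (B).)
-/

set_option autoImplicit false
set_option linter.unusedSectionVars false
set_option linter.unusedVariables false
set_option linter.style.haveILetI false

namespace Cfsg.Agent.Helper27.Sharp4Iso

open MulAction Cfsg.Agent.Helper4.Sharp4

section Basic

variable {G Ω : Type*} [Group G] [MulAction G Ω] [DecidableEq Ω]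

/-- points outside `S` fixed by the setwise stabiliser of `S` -/
def fixOut (G : Type*) [Group G] {Ω : Type*} [MulAction G Ω] (S : Finset Ω) : Set Ω :=
  {e | e ∉ S ∧ ∀ g : G, (∀ x ∈ S, g • x ∈ S) → g • e = e}

theorem mem4 {a b c d x : Ω} : x ∈ ({a, b, c, d} : Finset Ω) ↔ x = a ∨ x = b ∨ x = c ∨ x = d := by
  simp only [Finset.mem_insert, Finset.mem_singleton]

theorem maps_inv {S : Finset Ω} {g : G} (h : ∀ x ∈ S, g • x ∈ S) : ∀ x ∈ S, g⁻¹ • x ∈ S := by
  have himg : S.image (fun x => g • x) = S := by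
    apply Finset.eq_of_subset_of_card_le
    · intro y hy
      rw [Finset.mem_image] at hy
      obtain ⟨x, hx, rfl⟩ := hy
      exact h x hx
    · rw [Finset.card_image_of_injective _ (MulAction.injective g)]
  intro x hx
  rw [← himg, Finset.mem_image] at hx
  obtain ⟨y, hy, rfl⟩ := hx
  rw [inv_smul_smul]
  exact hy

/-- equivariance of `fixOut` -/
theorem fixOut_smul (g : G) {S : Finset Ω} {e : Ω} (he : e ∈ fixOut G S) :
    g • e ∈ fixOut G (S.image (fun x => g • x)) := by
  obtain ⟨he1, he2⟩ := he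
  constructor
  · intro h
    rw [Finset.mem_image] at h
    obtain ⟨x, hx, hxe⟩ := h
    have : x = e := MulAction.injective g hxe
    exact he1 (this ▸ hx)
  · intro h hh
    have h1 : ∀ x ∈ S, (g⁻¹ * h * g) • x ∈ S := by
      intro x hx
      have h2 := hh (g • x) (Finset.mem_image_of_mem _ hx)
      rw [Finset.mem_image] at h2
      obtain ⟨x', hx', hx'e⟩ := h2
      rw [mul_smul, mul_smul, ← hx'e, inv_smul_smul]
      exact hx'
    have h3 := he2 _ h1
    rw [mul_smul, mul_smul, inv_smul_eq_iff] at h3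
    exact h3

end Basic

section Main

variable {G Ω : Type*} [Group G] [MulAction G Ω] [Fintype Ω] [DecidableEq Ω] [Finite G]

/-- classification of the fixed-point-free involutions on four points -/
theorem dt_classify (hs : Sharp G Ω) {a b c d : Ω} (hD : D4 a b c d) {v1 v2 w : G}
    (v1a : v1 • a = b) (v1b : v1 • b = a) (v1c : v1 • c = d) (v1d : v1 • d = c)
    (v2a : v2 • a = c) (v2b : v2 • b = d) (v2c : v2 • c = a) (v2d : v2 • d = b)
    (hwS : ∀ x ∈ ({a, b, c, d} : Finset Ω), w • x ∈ ({a, b, c, d} : Finset Ω))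
    (hwf : ∀ x ∈ ({a, b, c, d} : Finset Ω), w • x ≠ x) (hww : ∀ x : Ω, w • (w • x) = x) :
    w = v1 ∨ w = v2 ∨ w = v1 * v2 := by
  obtain ⟨hab, hac, had, hbc, hbd, hcd⟩ := hD
  have hD : D4 a b c d := ⟨hab, hac, had, hbc, hbd, hcd⟩
  have ha := mem4.mp (hwS a (mem4.mpr (Or.inl rfl)))
  have hb := mem4.mp (hwS b (mem4.mpr (Or.inr (Or.inl rfl))))
  have hc := mem4.mp (hwS c (mem4.mpr (Or.inr (Or.inr (Or.inl rfl)))))
  have hd := mem4.mp (hwS d (mem4.mpr (Or.inr (Or.inr (Or.inr rfl)))))
  have hfa := hwf a (mem4.mpr (Or.inl rfl))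
  have hfb := hwf b (mem4.mpr (Or.inr (Or.inl rfl)))
  have hfc := hwf c (mem4.mpr (Or.inr (Or.inr (Or.inl rfl))))
  have hfd := hwf d (mem4.mpr (Or.inr (Or.inr (Or.inr rfl))))
  -- if `w x = y` then `w y = x`
  have hsw : ∀ {x y : Ω}, w • x = y → w • y = x := by
    intro x y h
    rw [← h, hww]
  rcases ha with ha | ha | ha | ha
  · exact absurd ha hfa
  · -- w a = b
    left
    have wb : w • b = a := hsw ha
    have wc : w • c = d := by
      rcases hc with h | h | h | h
      · exact absurd ((hsw h).symm.trans ha) hbc.symm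
      · exact absurd ((hsw h).symm.trans wb) hac.symm
      · exact absurd h hfc
      · exact h
    have wd : w • d = c := hsw wc
    exact eq_of_agree hs _ _ hD (by rw [ha, v1a]) (by rw [wb, v1b]) (by rw [wc, v1c])
      (by rw [wd, v1d])
  · -- w a = c
    right; left
    have wc : w • c = a := hsw ha
    have wb : w • b = d := by
      rcases hb with h | h | h | h
      · exact absurd ((hsw h).symm.trans ha) hbc
      · exact absurd h hfb
      · exact absurd ((hsw h).symm.trans wc) hab.symm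
      · exact h
    have wd : w • d = b := hsw wb
    exact eq_of_agree hs _ _ hD (by rw [ha, v2a]) (by rw [wb, v2b]) (by rw [wc, v2c])
      (by rw [wd, v2d])
  · -- w a = d
    right; right
    have wd : w • d = a := hsw ha
    have wb : w • b = c := by
      rcases hb with h | h | h | h
      · exact absurd ((hsw h).symm.trans ha) hbd
      · exact absurd h hfb
      · exact h
      · exact absurd ((hsw h).symm.trans wd) hab.symm
    have wc : w • c = b := hsw wb
    exact eq_of_agree hs _ _ hD (by rw [ha, mul_smul, v2a, v1c]) (by rw [wb, mul_smul, v2b, v1d])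
      (by rw [wc, mul_smul, v2c, v1a]) (by rw [wd, mul_smul, v2d, v1b])

/-- existence of the fifth point of a block -/
theorem exists_fixOut4 (hs : Sharp G Ω) (ht : Trans4 G Ω) (hcard : Fintype.card Ω = 11)
    {a b c d : Ω} (hD : D4 a b c d) : ∃ e : Ω, e ∈ fixOut G ({a, b, c, d} : Finset Ω) := by
  obtain ⟨hab, hac, had, hbc, hbd, hcd⟩ := hD
  have hD : D4 a b c d := ⟨hab, hac, had, hbc, hbd, hcd⟩
  have hD1 : D4 b a d c := ⟨hab.symm, hbd, hbc, had, hac, hcd.symm⟩
  have hD2 : D4 c d a b := ⟨hcd, hac.symm, hbc.symm, had.symm, hbd.symm, hab⟩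
  obtain ⟨v1, v1a, v1b, v1c, v1d⟩ := ht _ _ _ _ _ _ _ _ hD hD1
  obtain ⟨v2, v2a, v2b, v2c, v2d⟩ := ht _ _ _ _ _ _ _ _ hD hD2
  obtain ⟨e, ⟨he1, he2⟩, huniq⟩ :=
    exists_unique_common_fix hs ht hcard hD v1a v1b v1c v1d v2a v2b v2c v2d
  have h11 : ∀ q : Ω, v1 • (v1 • q) = q := by
    intro q
    have : v1 * v1 = 1 := by
      apply eq_of_agree hs _ _ hD
      · rw [mul_smul, v1a, v1b, one_smul]
      · rw [mul_smul, v1b, v1a, one_smul]
      · rw [mul_smul, v1c, v1d, one_smul]
      · rw [mul_smul, v1d, v1c, one_smul]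
    rw [← mul_smul, this, one_smul]
  have h22 : ∀ q : Ω, v2 • (v2 • q) = q := by
    intro q
    have : v2 * v2 = 1 := by
      apply eq_of_agree hs _ _ hD
      · rw [mul_smul, v2a, v2c, one_smul]
      · rw [mul_smul, v2b, v2d, one_smul]
      · rw [mul_smul, v2c, v2a, one_smul]
      · rw [mul_smul, v2d, v2b, one_smul]
    rw [← mul_smul, this, one_smul]
  -- `v1`, `v2` map `S` to itself without fixed points
  have v1S : ∀ x ∈ ({a, b, c, d} : Finset Ω), v1 • x ∈ ({a, b, c, d} : Finset Ω) := by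
    intro x hx
    rw [mem4] at hx ⊢
    rcases hx with rfl | rfl | rfl | rfl
    · rw [v1a]; tauto
    · rw [v1b]; tauto
    · rw [v1c]; tauto
    · rw [v1d]; tauto
  have v2S : ∀ x ∈ ({a, b, c, d} : Finset Ω), v2 • x ∈ ({a, b, c, d} : Finset Ω) := by
    intro x hx
    rw [mem4] at hx ⊢
    rcases hx with rfl | rfl | rfl | rfl
    · rw [v2a]; tauto
    · rw [v2b]; tauto
    · rw [v2c]; tauto
    · rw [v2d]; tauto
  have v1f : ∀ x ∈ ({a, b, c, d} : Finset Ω), v1 • x ≠ x := by
    intro x hx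
    rw [mem4] at hx
    rcases hx with rfl | rfl | rfl | rfl
    · rw [v1a]; exact hab.symm
    · rw [v1b]; exact hab
    · rw [v1c]; exact hcd.symm
    · rw [v1d]; exact hcd
  have v2f : ∀ x ∈ ({a, b, c, d} : Finset Ω), v2 • x ≠ x := by
    intro x hx
    rw [mem4] at hx
    rcases hx with rfl | rfl | rfl | rfl
    · rw [v2a]; exact hac.symm
    · rw [v2b]; exact hbd.symm
    · rw [v2c]; exact hac
    · rw [v2d]; exact hbd
  refine ⟨e, ?_, ?_⟩
  · intro heS
    exact v1f e heS he1
  · intro g hg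
    have hginv := maps_inv hg
    -- conjugates of `v1`, `v2` by `g⁻¹` fix `e`
    have hconj : ∀ v : G, (∀ x ∈ ({a, b, c, d} : Finset Ω), v • x ∈ ({a, b, c, d} : Finset Ω)) →
        (∀ x ∈ ({a, b, c, d} : Finset Ω), v • x ≠ x) → (∀ q : Ω, v • (v • q) = q) →
        (g⁻¹ * v * g) • e = e := by
      intro v hvS hvf hvv
      have hw := dt_classify hs hD (w := g⁻¹ * v * g) v1a v1b v1c v1d v2a v2b v2c v2d
        (by
          intro x hx
          rw [mul_smul, mul_smul]
          exact hginv _ (hvS _ (hg x hx)))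
        (by
          intro x hx h
          rw [mul_smul, mul_smul, inv_smul_eq_iff] at h
          exact hvf _ (hg x hx) h)
        (by
          intro q
          rw [← mul_smul]
          have : g⁻¹ * v * g * (g⁻¹ * v * g) = g⁻¹ * (v * v) * g := by group
          rw [this, mul_smul, mul_smul, mul_smul, hvv, inv_smul_smul])
      rcases hw with h | h | h
      · rw [h]; exact he1
      · rw [h]; exact he2
      · rw [h, mul_smul, he2, he1]
    apply huniq
    constructor
    · have := hconj v1 v1S v1f h11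
      rw [mul_smul, mul_smul, inv_smul_eq_iff] at this
      exact this
    · have := hconj v2 v2S v2f h22
      rw [mul_smul, mul_smul, inv_smul_eq_iff] at this
      exact this

/-- the three-cycle on `b c d` fixing `a` -/
theorem exists_three_cycle (hs : Sharp G Ω) (ht : Trans4 G Ω) {a b c d : Ω} (hD : D4 a b c d) :
    ∃ x : G, x • a = a ∧ x • b = c ∧ x • c = d ∧ x • d = b ∧ x ^ 3 = 1 ∧ x ≠ 1 := by
  obtain ⟨hab, hac, had, hbc, hbd, hcd⟩ := hD
  have hD : D4 a b c d := ⟨hab, hac, had, hbc, hbd, hcd⟩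
  have hD' : D4 a c d b := ⟨hac, had, hab, hcd, hbc.symm, hbd.symm⟩
  obtain ⟨x, xa, xb, xc, xd⟩ := ht _ _ _ _ _ _ _ _ hD hD'
  refine ⟨x, xa, xb, xc, xd, ?_, ?_⟩
  · rw [pow_three]
    apply eq_of_agree hs _ _ hD
    · rw [mul_smul, mul_smul, xa, xa, xa, one_smul]
    · rw [mul_smul, mul_smul, xb, xc, xd, one_smul]
    · rw [mul_smul, mul_smul, xc, xd, xb, one_smul]
    · rw [mul_smul, mul_smul, xd, xb, xc, one_smul]
  · intro h
    rw [h, one_smul] at xb
    exact hbc xb

/-- uniqueness of the fifth point -/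
theorem fixOut4_unique (hs : Sharp G Ω) (ht : Trans4 G Ω) (hcard : Fintype.card Ω = 11)
    {a b c d : Ω} (hD : D4 a b c d) {e e' : Ω} (he : e ∈ fixOut G ({a, b, c, d} : Finset Ω))
    (he' : e' ∈ fixOut G ({a, b, c, d} : Finset Ω)) : e = e' := by
  obtain ⟨x, xa, xb, xc, xd, x3, x1⟩ := exists_three_cycle hs ht hD
  have xS : ∀ q ∈ ({a, b, c, d} : Finset Ω), x • q ∈ ({a, b, c, d} : Finset Ω) := by
    intro q hq
    rw [mem4] at hq ⊢
    rcases hq with rfl | rfl | rfl | rfl
    · rw [xa]; tauto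
    · rw [xb]; tauto
    · rw [xc]; tauto
    · rw [xd]; tauto
  by_contra hee
  have hae : a ≠ e := fun h => he.1 (h ▸ mem4.mpr (Or.inl rfl))
  have hae' : a ≠ e' := fun h => he'.1 (h ▸ mem4.mpr (Or.inl rfl))
  exact not_fix_three hs hcard x3 x1 hae hae' hee xa (he.2 x xS) (he'.2 x xS)

/-- **Step D**: exchanging a point of `S` with the fifth point -/
theorem fixOut4_swap (hs : Sharp G Ω) (ht : Trans4 G Ω) (hcard : Fintype.card Ω = 11)
    {a b c d : Ω} (hD : D4 a b c d) {e : Ω} (he : e ∈ fixOut G ({a, b, c, d} : Finset Ω)) :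
    a ∈ fixOut G ({e, b, c, d} : Finset Ω) := by
  obtain ⟨hab, hac, had, hbc, hbd, hcd⟩ := hD
  have hD : D4 a b c d := ⟨hab, hac, had, hbc, hbd, hcd⟩
  have heb : e ≠ b := fun h => he.1 (h ▸ mem4.mpr (Or.inr (Or.inl rfl)))
  have hec : e ≠ c := fun h => he.1 (h ▸ mem4.mpr (Or.inr (Or.inr (Or.inl rfl))))
  have hed : e ≠ d := fun h => he.1 (h ▸ mem4.mpr (Or.inr (Or.inr (Or.inr rfl))))
  have hea : e ≠ a := fun h => he.1 (h ▸ mem4.mpr (Or.inl rfl))
  have hD' : D4 e b c d := ⟨heb, hec, hed, hbc, hbd, hcd⟩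
  obtain ⟨e', he'⟩ := exists_fixOut4 hs ht hcard hD'
  obtain ⟨x, xa, xb, xc, xd, x3, x1⟩ := exists_three_cycle hs ht hD
  have xS : ∀ q ∈ ({a, b, c, d} : Finset Ω), x • q ∈ ({a, b, c, d} : Finset Ω) := by
    intro q hq
    rw [mem4] at hq ⊢
    rcases hq with rfl | rfl | rfl | rfl
    · rw [xa]; tauto
    · rw [xb]; tauto
    · rw [xc]; tauto
    · rw [xd]; tauto
  have xe : x • e = e := he.2 x xS
  have xS' : ∀ q ∈ ({e, b, c, d} : Finset Ω), x • q ∈ ({e, b, c, d} : Finset Ω) := by
    intro q hq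
    rw [mem4] at hq ⊢
    rcases hq with rfl | rfl | rfl | rfl
    · rw [xe]; tauto
    · rw [xb]; tauto
    · rw [xc]; tauto
    · rw [xd]; tauto
  have xe' : x • e' = e' := he'.2 x xS'
  have he'e : e' ≠ e := fun h => he'.1 (h ▸ mem4.mpr (Or.inl rfl))
  have : e' = a := by
    by_contra hne
    exact not_fix_three hs hcard x3 x1 (Ne.symm hea) (Ne.symm hne) (Ne.symm he'e) xa xe xe'
  rw [← this]
  exact he'


/-- a four-element set, listed -/
theorem card4_exists {S : Finset Ω} (hS : S.card = 4) :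
    ∃ a b c d : Ω, D4 a b c d ∧ S = {a, b, c, d} := by
  obtain ⟨a, ha, b, hb, c, hc, d, hd, hD⟩ := exists_d4_of_card (s := S) (by omega)
  refine ⟨a, b, c, d, hD, ?_⟩
  symm
  apply Finset.eq_of_subset_of_card_le
  · intro x hx
    rw [mem4] at hx
    rcases hx with rfl | rfl | rfl | rfl <;> assumption
  · obtain ⟨hab, hac, had, hbc, hbd, hcd⟩ := hD
    have : ({a, b, c, d} : Finset Ω).card = 4 := by
      rw [Finset.card_insert_of_notMem, Finset.card_insert_of_notMem, Finset.card_pair hcd]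
      · simp only [Finset.mem_insert, Finset.mem_singleton, not_or]
        exact ⟨hbc, hbd⟩
      · simp only [Finset.mem_insert, Finset.mem_singleton, not_or]
        exact ⟨hab, hac, had⟩
    omega

theorem exists_fixOut (hs : Sharp G Ω) (ht : Trans4 G Ω) (hcard : Fintype.card Ω = 11)
    {S : Finset Ω} (hS : S.card = 4) : ∃ e : Ω, e ∈ fixOut G S := by
  obtain ⟨a, b, c, d, hD, rfl⟩ := card4_exists hS
  exact exists_fixOut4 hs ht hcard hD

theorem fixOut_unique (hs : Sharp G Ω) (ht : Trans4 G Ω) (hcard : Fintype.card Ω = 11)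
    {S : Finset Ω} (hS : S.card = 4) {e e' : Ω} (he : e ∈ fixOut G S) (he' : e' ∈ fixOut G S) :
    e = e' := by
  obtain ⟨a, b, c, d, hD, rfl⟩ := card4_exists hS
  exact fixOut4_unique hs ht hcard hD he he'

theorem fixOut_swap (hs : Sharp G Ω) (ht : Trans4 G Ω) (hcard : Fintype.card Ω = 11)
    {S : Finset Ω} (hS : S.card = 4) {e : Ω} (he : e ∈ fixOut G S) {a : Ω} (ha : a ∈ S) :
    a ∈ fixOut G (insert e (S.erase a)) := by
  have h3 : (S.erase a).card = 3 := by rw [Finset.card_erase_of_mem ha, hS]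
  obtain ⟨b, c, d, hbc, hbd, hcd, hE⟩ := Finset.card_eq_three.mp h3
  have hb : b ∈ S.erase a := by rw [hE]; simp
  have hc : c ∈ S.erase a := by rw [hE]; simp
  have hd : d ∈ S.erase a := by rw [hE]; simp
  rw [Finset.mem_erase] at hb hc hd
  have hD : D4 a b c d := ⟨Ne.symm hb.1, Ne.symm hc.1, Ne.symm hd.1, hbc, hbd, hcd⟩
  have hSeq : S = {a, b, c, d} := by
    rw [← Finset.insert_erase ha, hE]
  rw [hE]
  rw [hSeq] at he
  exact fixOut4_swap hs ht hcard hD he

/-- the blocks -/
def blocks (G : Type*) [Group G] {Ω : Type*} [MulAction G Ω] [DecidableEq Ω] :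
    Set (Finset Ω) :=
  {P | ∃ S : Finset Ω, S.card = 4 ∧ ∃ e ∈ fixOut G S, P = insert e S}

theorem blocks_smul (g : G) {P : Finset Ω} (hP : P ∈ blocks G) :
    P.image (fun x => g • x) ∈ blocks G := by
  obtain ⟨S, hS, e, he, rfl⟩ := hP
  refine ⟨S.image (fun x => g • x), ?_, g • e, fixOut_smul g he, ?_⟩
  · rw [Finset.card_image_of_injective _ (MulAction.injective g), hS]
  · rw [Finset.image_insert]

/-- the blocks form a Steiner system `S(4,5,11)` -/
theorem isSteiner_blocks (hs : Sharp G Ω) (ht : Trans4 G Ω) (hcard : Fintype.card Ω = 11) :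
    Cfsg.IsSteinerSystem 4 5 (blocks G (Ω := Ω)) := by
  constructor
  · rintro P ⟨S, hS, e, he, rfl⟩
    rw [Finset.card_insert_of_notMem he.1, hS]
  · intro T hT
    obtain ⟨eT, heT⟩ := exists_fixOut hs ht hcard hT
    refine ⟨insert eT T, ⟨⟨T, hT, eT, heT, rfl⟩, Finset.subset_insert _ _⟩, ?_⟩
    rintro P ⟨⟨S, hS, e, he, rfl⟩, hTP⟩
    by_cases heTm : e ∈ T
    · -- `T = insert e (S.erase a₀)`
      have hT' : (T.erase e).card = 3 := by rw [Finset.card_erase_of_mem heTm, hT]
      have hsub : T.erase e ⊆ S := by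
        intro x hx
        rw [Finset.mem_erase] at hx
        have := hTP hx.2
        rw [Finset.mem_insert] at this
        rcases this with h | h
        · exact absurd h hx.1
        · exact h
      have hdiff : (S \ T.erase e).card = 1 := by
        rw [Finset.card_sdiff_of_subset hsub, hS, hT']
      obtain ⟨a₀, ha₀⟩ := Finset.card_eq_one.mp hdiff
      have ha₀m : a₀ ∈ S \ T.erase e := by rw [ha₀]; exact Finset.mem_singleton_self _
      rw [Finset.mem_sdiff] at ha₀m
      have hEq : S.erase a₀ = T.erase e := by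
        symm
        apply Finset.eq_of_subset_of_card_le
        · intro x hx
          rw [Finset.mem_erase]
          refine ⟨?_, hsub hx⟩
          intro h
          exact ha₀m.2 (h ▸ hx)
        · rw [Finset.card_erase_of_mem ha₀m.1, hS, hT']
      have hTeq : T = insert e (S.erase a₀) := by
        rw [hEq, Finset.insert_erase heTm]
      have hsw := fixOut_swap hs ht hcard hS he ha₀m.1
      rw [← hTeq] at hsw
      have := fixOut_unique hs ht hcard hT heT hsw
      rw [this, hTeq, Finset.insert_comm, Finset.insert_erase ha₀m.1]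
    · have hsub : T ⊆ S := by
        intro x hx
        have := hTP hx
        rw [Finset.mem_insert] at this
        rcases this with h | h
        · exact absurd (h ▸ hx) heTm
        · exact h
      have hTS : T = S := Finset.eq_of_subset_of_card_le hsub (by rw [hS, hT])
      subst hTS
      rw [fixOut_unique hs ht hcard hT heT he]

end Main

end Cfsg.Agent.Helper27.Sharp4Iso
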