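import Mathlib
import Cfsg.Prelude.Def_Sporadic_a
import Cfsg.Agent.Helper4.M11Rigid
import Cfsg.Agent.Helper27.Sharp4IsoB

/-!
Two sharply 4-transitive groups of degree 11 are isomorphic. (S0420, piece (B).)
-/

set_option autoImplicit false
set_option linter.unusedSectionVars false
set_option linter.unusedVariables false
set_option linter.style.haveILetI false

namespace Cfsg.Agent.Helper27.Sharp4Iso

open MulAction Cfsg Cfsg.Agent.Helper4.Sharp4

section Final

variable {α β : Type*} [Fintype α] [DecidableEq α] [Fintype β] [DecidableEq β]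

/-- a sharply 4-transitive group of degree 11 is the automorphism group of a Steiner system
`S(4,5,11)` -/
theorem eq_aut (hα : Fintype.card α = 11) (G : Subgroup (Equiv.Perm α))
    (hG4 : IsMultiplyPretransitive G α 4) (hGs : ∀ x : Fin 4 ↪ α, stabilizer G x = ⊥) :
    ∃ B : Set (Finset α), IsSteinerSystem 4 5 B ∧ G = setSystemAut B := by
  have hs : Sharp G α := sharp_of_stabilizer hGs
  have ht : Trans4 G α := trans4_of_pretransitive hG4
  haveI : Finite G := inferInstance
  have hB := isSteiner_blocks hs ht hα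
  refine ⟨blocks G, hB, ?_⟩
  have key : ∀ (g : Equiv.Perm α), g ∈ G → ∀ b, b ∈ blocks G (Ω := α) →
      b.map g.toEmbedding ∈ blocks G (Ω := α) := by
    intro g hg b hb
    have := blocks_smul (⟨g, hg⟩ : G) hb
    rw [Finset.map_eq_image]
    exact this
  have hle : G ≤ setSystemAut (blocks G (Ω := α)) := by
    intro g hg
    rw [Cfsg.Agent.Helper4.M11Rigid.mem_aut_iff]
    intro b
    constructor
    · exact key g hg b
    · intro h
      have h2 := key g⁻¹ (G.inv_mem hg) _ h
      rw [Finset.map_map] at h2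
      have h3 : b.map (g.toEmbedding.trans (g⁻¹ : Equiv.Perm α).toEmbedding) = b := by
        ext x
        simp
      rw [h3] at h2
      exact h2
  have hne : Nonempty (Fin 4 ↪ α) :=
    Function.Embedding.nonempty_of_card_le (by rw [Fintype.card_fin, hα]; norm_num)
  have hcG := Cfsg.Agent.Helper4.M11Simple.card_of_sharp hG4 hGs hne
  obtain ⟨hA4, hAs⟩ := Cfsg.Agent.Helper4.M11Rigid.aut_sharp4 hα hB
  have hcA := Cfsg.Agent.Helper4.M11Simple.card_of_sharp hA4 hAs hne
  exact Subgroup.eq_of_le_of_card_ge hle (by rw [hcG, hcA])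

/-- isomorphic set systems have isomorphic automorphism groups -/
theorem aut_equiv {B : Set (Finset α)} {B' : Set (Finset β)} (e : α ≃ β)
    (he : ∀ b, b ∈ B ↔ b.map e.toEmbedding ∈ B') :
    Nonempty (setSystemAut B ≃* setSystemAut B') := by
  have he' : ∀ b' : Finset β, b' ∈ B' ↔ b'.map e.symm.toEmbedding ∈ B := by
    intro b'
    rw [he, Finset.map_map]
    have : b'.map (e.symm.toEmbedding.trans e.toEmbedding) = b' := by
      ext x
      simp
    rw [this]
  have hconj : ∀ (σ : Equiv.Perm α) (b' : Finset β),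
      b'.map (e.permCongrHom σ).toEmbedding
        = ((b'.map e.symm.toEmbedding).map σ.toEmbedding).map e.toEmbedding := by
    intro σ b'
    rw [Finset.map_map, Finset.map_map]
    congr 1
  have hmap : (setSystemAut B).map ((e.permCongrHom : Equiv.Perm α ≃* Equiv.Perm β) :
      Equiv.Perm α →* Equiv.Perm β) = setSystemAut B' := by
    ext τ
    rw [Subgroup.mem_map, Cfsg.Agent.Helper4.M11Rigid.mem_aut_iff]
    constructor
    · rintro ⟨σ, hσ, rfl⟩
      rw [Cfsg.Agent.Helper4.M11Rigid.mem_aut_iff] at hσ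
      intro b'
      change b' ∈ B' ↔ b'.map (e.permCongrHom σ).toEmbedding ∈ B'
      rw [hconj, ← he, ← hσ, ← he']
    · intro hτ
      refine ⟨e.permCongrHom.symm τ, ?_, ?_⟩
      · rw [Cfsg.Agent.Helper4.M11Rigid.mem_aut_iff]
        intro b
        have h1 := hτ (b.map e.toEmbedding)
        have h2 : e.permCongrHom (e.permCongrHom.symm τ) = τ := MulEquiv.apply_symm_apply _ _
        rw [← h2, hconj, ← he, ← he] at h1
        have h3 : (b.map e.toEmbedding).map e.symm.toEmbedding = b := by
          rw [Finset.map_map]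
          ext x
          simp
        rw [h3] at h1
        exact h1
      · exact MulEquiv.apply_symm_apply _ _
  exact ⟨((e.permCongrHom).subgroupMap (setSystemAut B)).trans (MulEquiv.subgroupCongr hmap)⟩

/-- **(B)** two sharply 4-transitive groups of degree 11 are isomorphic. -/
theorem sharp4_eleven_iso {α β : Type*} [Fintype α] [DecidableEq α] [Fintype β] [DecidableEq β]
    (hα : Fintype.card α = 11) (hβ : Fintype.card β = 11) (G : Subgroup (Equiv.Perm α))
    (K : Subgroup (Equiv.Perm β)) (hG4 : MulAction.IsMultiplyPretransitive G α 4)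
    (hGs : ∀ x : Fin 4 ↪ α, MulAction.stabilizer G x = ⊥)
    (hK4 : MulAction.IsMultiplyPretransitive K β 4)
    (hKs : ∀ x : Fin 4 ↪ β, MulAction.stabilizer K x = ⊥) : Nonempty (G ≃* K) := by
  obtain ⟨B, hB, rfl⟩ := eq_aut hα G hG4 hGs
  obtain ⟨B', hB', rfl⟩ := eq_aut hβ K hK4 hKs
  have hne : Nonempty (Fin 4 ↪ α) :=
    Function.Embedding.nonempty_of_card_le (by rw [Fintype.card_fin, hα]; norm_num)
  have hne' : Nonempty (Fin 4 ↪ β) :=
    Function.Embedding.nonempty_of_card_le (by rw [Fintype.card_fin, hβ]; norm_num)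
  obtain ⟨x⟩ := hne
  obtain ⟨y⟩ := hne'
  obtain ⟨e, he, -⟩ := Cfsg.Agent.Helper4.M11Rigid.rigid11_exists hα hβ hB hB' x y
  exact aut_equiv e he

end Final

end Cfsg.Agent.Helper27.Sharp4Iso
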