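import Cfsg.Agent.Helper27.SimpleTools

/-!
Facts about the two stabiliser chains (of `M24` and of the stabiliser of the standard dodecad) used in the simplicity
proofs: orders of the groups in the chains, faithfulness, and the elements of order 23 and 11.
-/

set_option autoImplicit false

namespace Cfsg.Agent.Helper27

open Cfsg
open scoped Pointwise commutatorElement

theorem fixH_fixH_pt (H : Subgroup (Equiv.Perm GolayPt)) (fixed : List ℕ) (a : ℕ) :
    fixH (fixH H (ptsOf fixed)) {pt a} = fixH H (ptsOf (a :: fixed)) := by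
  rw [fixH_fixH, ptsOf_cons]
  congr 1
  ext q
  simp only [Finset.mem_union, Finset.mem_singleton, Finset.mem_insert]
  tauto

theorem mem_orbit_of_eq {H : Subgroup (Equiv.Perm GolayPt)} {a : GolayPt} {m : ℕ}
    (h : orbitSet H a = (maskSet m : Set GolayPt)) {q : GolayPt} (hq : q ∈ maskSet m) : q ∈ orbitSet H a := by
  rw [h]; exact hq

theorem mask_step {m m' a : ℕ} (h : ∀ i < 24, m.testBit i = true → i ≠ a → m'.testBit i = true) {q : GolayPt}
    (hq : q ∈ maskSet m) (hne : q ≠ pt a) : q ∈ maskSet m' := by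
  rw [mem_maskSet] at hq ⊢
  apply h _ (idx_lt q) hq
  intro h'
  apply hne
  rw [← h', pt_idx]

/-- an element fixing the points of `fixed` and all other points is the identity -/
theorem faithful_compl {H : Subgroup (Equiv.Perm GolayPt)} {fixed : List ℕ} (hfix : ∀ f ∈ fixed, f < 24) :
    ∀ h ∈ fixH H (ptsOf fixed), (∀ q ∈ maskSet (onesMask ^^^ tblMask fixed), h q = q) → h = 1 := by
  intro h hh hq
  rw [mem_fixH] at hh
  apply Equiv.ext
  intro q
  by_cases hqf : q ∈ ptsOf fixed
  · exact hh.2 q hqf
  · apply hq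
    rw [maskSet_compl, ← ptsOf_eq_maskSet hfix, Finset.mem_sdiff]
    exact ⟨Finset.mem_univ _, hqf⟩

/-- an element of the stabiliser of the standard dodecad fixing all its points is the identity -/
theorem faithful12 {fixed : List ℕ} (hfix : ∀ f ∈ fixed, f < 24) :
    ∀ h ∈ fixH H12 (ptsOf fixed), (∀ q ∈ maskSet (dod0 ^^^ (dod0 &&& tblMask fixed)), h q = q) → h = 1 := by
  intro h hh hq
  rw [mem_fixH] at hh
  apply fixH12_eq_one hh.1
  intro i
  have hD : pt ([0, 2, 3, 4, 6].getD i.val 0) ∈ maskSet dod0 := by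
    rw [mem_maskSet]
    have : ∀ i : Fin [0, 2, 3, 4, 6].length, dod0.testBit (idx (pt ([0, 2, 3, 4, 6].getD i.val 0))) = true := by
      intro i
      fin_cases i <;> (rw [idx_pt (by norm_num)]; decide +kernel)
    exact this i
  by_cases hqf : pt ([0, 2, 3, 4, 6].getD i.val 0) ∈ ptsOf fixed
  · exact hh.2 _ hqf
  · apply hq
    rw [maskSet_xor_and, Finset.mem_sdiff, ← ptsOf_eq_maskSet hfix]
    exact ⟨hD, hqf⟩

/-! ### Orders -/

theorem ptsOf_nil : ptsOf [] = ∅ := by simp [ptsOf]

theorem card_fix24_0 : Nat.card (fixH M24 (ptsOf [])) = 244823040 := by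
  rw [ptsOf_nil, fixH_empty, card_M24]

theorem card_fix24_1 : Nat.card (fixH M24 (ptsOf [0])) = 10200960 := by
  have h0 := card_fixG_insert (ptsOf []) (pt 0)
  rw [← ptsOf_cons, orbit_card0] at h0
  have h := card_fix24_0
  have e : Nat.card (fixH M24 (ptsOf [])) = Nat.card (fixG (ptsOf [])) := rfl
  have e' : Nat.card (fixH M24 (ptsOf [0])) = Nat.card (fixG (ptsOf [0])) := rfl
  rw [e, h0] at h
  rw [e']
  omega

theorem card_fix24_2 : Nat.card (fixH M24 (ptsOf [1, 0])) = 443520 := by
  have h1 := card_fixG_insert (ptsOf [0]) (pt 1)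
  rw [← ptsOf_cons, orbit_card1] at h1
  have h := card_fix24_1
  have e : Nat.card (fixH M24 (ptsOf [0])) = Nat.card (fixG (ptsOf [0])) := rfl
  have e' : Nat.card (fixH M24 (ptsOf [1, 0])) = Nat.card (fixG (ptsOf [1, 0])) := rfl
  rw [e, h1] at h
  rw [e']
  omega

theorem card_fix12_0 : Nat.card (fixH H12 (ptsOf [])) = 95040 := by
  rw [ptsOf_nil, fixH_empty]
  exact card_stabP maskSet_dod0_mem

theorem card_fix12_1 : Nat.card (fixH H12 (ptsOf [0])) = 7920 := by
  have h0 := card_fixH_insert H12 (ptsOf []) (pt 0)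
  rw [← ptsOf_cons, orbit_ncard_of_eq orbit12_eq0, card_fix12_0] at h0
  have e0 : popc 24 (dod0 ^^^ (dod0 &&& tblMask [])) = 12 := by decide +kernel
  rw [e0] at h0
  omega

/-! ### Elements of order 23 and 11 -/

/-- an element of order 23 fixing the point with index 0 -/
def x23T : List ℕ := [0, 23, 18, 17, 22, 2, 15, 12, 9, 19, 14, 1, 16, 21, 4, 5, 8, 20, 3, 10, 11, 6, 13, 7]

/-- an element of order 11 fixing the points with indices 0 and 1 -/
def x11T : List ℕ := [0, 1, 11, 12, 10, 3, 2, 21, 19, 18, 20, 8, 6, 22, 13, 9, 7, 16, 5, 15, 14, 4, 23, 17]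

/-- an element of order 11 stabilising the standard dodecad and fixing its point with index 0 -/
def y11T : List ℕ := [0, 15, 4, 8, 3, 17, 13, 11, 14, 10, 6, 2, 12, 7, 9, 22, 21, 20, 23, 16, 1, 5, 18, 19]

theorem x23_valid : validTbl x23T = true := by decide +kernel
theorem x11_valid : validTbl x11T = true := by decide +kernel
theorem y11_valid : validTbl y11T = true := by decide +kernel

theorem fact_prime_23 : Fact (Nat.Prime 23) := ⟨by norm_num⟩
theorem fact_prime_11 : Fact (Nat.Prime 11) := ⟨by norm_num⟩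

theorem x23_order : orderOf (tblPerm x23T x23_valid) = 23 :=
  haveI := fact_prime_23
  tblPerm_orderOf x23_valid (by decide +kernel)

theorem x11_order : orderOf (tblPerm x11T x11_valid) = 11 :=
  haveI := fact_prime_11
  tblPerm_orderOf x11_valid (by decide +kernel)

theorem y11_order : orderOf (tblPerm y11T y11_valid) = 11 :=
  haveI := fact_prime_11
  tblPerm_orderOf y11_valid (by decide +kernel)

/-- certificate: the pointwise stabiliser of the 23 points other than the first is trivial -/
def cert23 : List (ℕ × ℕ × ℕ) := [(13062145, 13062145, 0)]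

/-- certificate: the pointwise stabiliser of a cycle of `x11T` is trivial -/
def cert22 : List (ℕ × ℕ × ℕ) := [(843820, 806987, 14), (843820, 843820, 13), (381252, 381252, 16), (1405448, 1405448, 20), (3698756, 3698756, 21), (2207772, 2207772, 4), (2422785, 2422785, 0), (1302533, 1302533, 17), (7221256, 7221256, 22), (13062145, 13062145, 23), (4845570, 4845570, 1), (2019456, 2019456, 7), (11654144, 11654144, 10)]

/-- certificate: the pointwise stabiliser of a cycle of `y11T` is trivial -/
def cert11 : List (ℕ × ℕ × ℕ) := [(663645, 2121909, 0), (663645, 180636, 17), (663645, 663645, 19), (180636, 180636, 15), (57883, 57883, 1), (737427, 737427, 16), (1302533, 1302533, 20), (1618953, 1618953, 12), (4845570, 4845570, 22), (10170384, 10170384, 23), (13062145, 13062145, 18), (7221256, 7221256, 21), (11952160, 11952160, 5)]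

theorem x23_semireg {H : Subgroup (Equiv.Perm GolayPt)} (hHM : H ≤ M24) :
    ∀ g ∈ H, g * tblPerm x23T x23_valid = tblPerm x23T x23_valid * g → g (pt 1) = pt 1 → g = 1 :=
  semireg_of_cert hHM x23_valid (by norm_num) (by decide +kernel : orbitOK x23T 23 1 16777214 = true) cert23
    (by decide +kernel)

theorem x11_semireg {H : Subgroup (Equiv.Perm GolayPt)} (hHM : H ≤ M24) :
    ∀ g ∈ H, g * tblPerm x11T x11_valid = tblPerm x11T x11_valid * g → g (pt 2) = pt 2 → g = 1 :=
  semireg_of_cert hHM x11_valid (by norm_num) (by decide +kernel : orbitOK x11T 11 2 826220 = true) cert22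
    (by decide +kernel)

theorem y11_semireg {H : Subgroup (Equiv.Perm GolayPt)} (hHM : H ≤ M24) :
    ∀ g ∈ H, g * tblPerm y11T y11_valid = tblPerm y11T y11_valid * g → g (pt 2) = pt 2 → g = 1 :=
  semireg_of_cert hHM y11_valid (by norm_num) (by decide +kernel : orbitOK y11T 11 2 28636 = true) cert11
    (by decide +kernel)

end Cfsg.Agent.Helper27
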