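import Cfsg.Agent.Helper27.SimpleCrit
import Cfsg.Agent.Helper27.M24Gen

/-!
Simplicity criteria for groups of permutations of the 24 points, in terms of a doubly transitive action on an invariant
set of points, an element of prime order with semiregular centraliser, and perfectness.
-/

set_option autoImplicit false

namespace Cfsg.Agent.Helper27

open Cfsg
open scoped Pointwise

/-! ### Abstract lemmas -/

/-- a finite group with a central element `z` of order more than a third of the group order is solvable -/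
theorem solvable_of_central_small {C : Type*} [Group C] [Finite C] (z : C) (hz : ∀ c : C, c * z = z * c)
    (hcard : Nat.card C < 3 * orderOf z) : Group.IsSolvable C := by
  have hP : Subgroup.zpowers z ≤ Subgroup.center C := by
    rw [Subgroup.zpowers_le, Subgroup.mem_center_iff]
    intro c
    exact hz c
  have hnorm : (Subgroup.zpowers z).Normal := by
    refine ⟨fun n hn g => ?_⟩
    have hn' := hP hn
    rw [Subgroup.mem_center_iff] at hn'
    have : g * n * g⁻¹ = n := by rw [hn' g]; group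
    rw [this]
    exact hn
  have hidx := Subgroup.card_mul_index (Subgroup.zpowers z)
  rw [Nat.card_zpowers] at hidx
  have hzpos : 0 < orderOf z := orderOf_pos z
  have hlt : (Subgroup.zpowers z).index < 3 := by
    by_contra hcon
    have hcon' : 3 ≤ (Subgroup.zpowers z).index := Nat.le_of_not_lt hcon
    have : orderOf z * 3 ≤ orderOf z * (Subgroup.zpowers z).index := Nat.mul_le_mul_left _ hcon'
    omega
  have hipos : 0 < (Subgroup.zpowers z).index := Nat.pos_of_ne_zero Subgroup.index_ne_zero_of_finite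
  have hcq : Nat.card (C ⧸ Subgroup.zpowers z) = (Subgroup.zpowers z).index := rfl
  have hcyc : IsCyclic (C ⧸ Subgroup.zpowers z) := by
    have h12 : (Subgroup.zpowers z).index = 1 ∨ (Subgroup.zpowers z).index = 2 := by omega
    rcases h12 with h1 | h2
    · have : Subsingleton (C ⧸ Subgroup.zpowers z) := by
        rw [← Finite.card_le_one_iff_subsingleton, hcq, h1]
      exact isCyclic_of_subsingleton
    · have : Fact (Nat.Prime 2) := ⟨Nat.prime_two⟩
      exact isCyclic_of_prime_card (p := 2) (by rw [hcq, h2])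
  apply Group.isSolvable_of_comm
  intro a b
  exact commutative_of_cyclic_center_quotient (QuotientGroup.mk' (Subgroup.zpowers z))
    (by rw [QuotientGroup.ker_mk']; exact hP) a b

/-! ### Subgroups normalised by a group of permutations -/

/-- `N` is a subgroup of `H` normalised by `H` -/
def NormalIn (N H : Subgroup (Equiv.Perm GolayPt)) : Prop :=
  N ≤ H ∧ ∀ h ∈ H, ∀ m ∈ N, h * m * h⁻¹ ∈ N

/-- a non-trivial normal subgroup of a group acting faithfully and doubly transitively on `D` is transitive on `D` -/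
theorem normal_transitive {H N : Subgroup (Equiv.Perm GolayPt)} {D : Finset GolayPt} (hN : NormalIn N H)
    (hne : N ≠ ⊥)
    (h2 : ∀ u ∈ D, ∀ v ∈ D, ∀ u' ∈ D, ∀ v' ∈ D, u ≠ v → u' ≠ v' → ∃ h ∈ H, h u = u' ∧ h v = v')
    (hinv : ∀ h ∈ H, ∀ q ∈ D, h q ∈ D) (hfaith : ∀ h ∈ H, (∀ q ∈ D, h q = q) → h = 1) :
    ∀ u ∈ D, ∀ v ∈ D, u ≠ v → ∃ m ∈ N, m u = v := by
  obtain ⟨m0, hm0⟩ := (Subgroup.ne_bot_iff_exists_ne_one.mp hne)
  have hm0N : (m0 : Equiv.Perm GolayPt) ∈ N := m0.2
  have hm0H : (m0 : Equiv.Perm GolayPt) ∈ H := hN.1 hm0N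
  have hex : ∃ a ∈ D, (m0 : Equiv.Perm GolayPt) a ≠ a := by
    by_contra hcon
    have hcon' : ∀ q ∈ D, (m0 : Equiv.Perm GolayPt) q = q := by
      intro q hq
      by_contra hne'
      exact hcon ⟨q, hq, hne'⟩
    have := hfaith _ hm0H hcon'
    exact hm0 (Subtype.ext this)
  obtain ⟨a, haD, hma⟩ := hex
  intro u hu v hv huv
  obtain ⟨h, hh, hha, hhb⟩ := h2 a haD _ (hinv _ hm0H a haD) u hu v hv (Ne.symm hma) huv
  refine ⟨h * m0 * h⁻¹, hN.2 h hh _ hm0N, ?_⟩
  rw [Equiv.Perm.mul_apply, Equiv.Perm.mul_apply]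
  have : h⁻¹ u = a := by rw [Equiv.Perm.inv_eq_iff_eq, hha]
  rw [this, hhb]

/-- the order of a group transitive on `D` -/
theorem card_eq_of_transitive {N : Subgroup (Equiv.Perm GolayPt)} {D : Finset GolayPt} {a : GolayPt} (ha : a ∈ D)
    (htr : ∀ v ∈ D, v ≠ a → ∃ m ∈ N, m a = v) (hinv : ∀ m ∈ N, m a ∈ D) :
    Nat.card N = D.card * Nat.card (fixH N {a}) := by
  have h := card_fixH_insert N ∅ a
  rw [fixH_empty] at h
  have h2 : (insert a ∅ : Finset GolayPt) = {a} := by simp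
  rw [h2] at h
  rw [h]
  congr 1
  have : orbitSet N a = (D : Set GolayPt) := by
    ext q
    constructor
    · rintro ⟨m, hm, rfl⟩
      exact hinv m hm
    · intro hq
      by_cases hqa : q = a
      · exact ⟨1, N.one_mem, by rw [hqa]; rfl⟩
      · exact htr q hq hqa
  rw [this, Set.ncard_coe_finset]

/-- the order of a non-trivial normal subgroup is divisible by the degree -/
theorem normal_card_dvd {H N : Subgroup (Equiv.Perm GolayPt)} {D : Finset GolayPt} (hN : NormalIn N H)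
    (hne : N ≠ ⊥)
    (h2 : ∀ u ∈ D, ∀ v ∈ D, ∀ u' ∈ D, ∀ v' ∈ D, u ≠ v → u' ≠ v' → ∃ h ∈ H, h u = u' ∧ h v = v')
    (hinv : ∀ h ∈ H, ∀ q ∈ D, h q ∈ D) (hfaith : ∀ h ∈ H, (∀ q ∈ D, h q = q) → h = 1)
    {a : GolayPt} (ha : a ∈ D) : Nat.card N = D.card * Nat.card (fixH N {a}) := by
  have htr := normal_transitive hN hne h2 hinv hfaith
  exact card_eq_of_transitive ha (fun v hv hva => htr a ha v hv (Ne.symm hva))
    (fun m hm => hinv m (hN.1 hm) a ha)

/-! ### From normal subgroups of the abstract group to subgroups of permutations -/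

theorem normalIn_map {H : Subgroup (Equiv.Perm GolayPt)} (N : Subgroup H) [hN : N.Normal] :
    NormalIn (N.map H.subtype) H := by
  constructor
  · rintro _ ⟨n, _, rfl⟩
    exact n.2
  · rintro h hh _ ⟨n, hn, rfl⟩
    refine ⟨⟨h, hh⟩ * n * ⟨h, hh⟩⁻¹, hN.conj_mem n hn ⟨h, hh⟩, rfl⟩

theorem map_ne_bot {H : Subgroup (Equiv.Perm GolayPt)} {N : Subgroup H} (hN : N ≠ ⊥) : N.map H.subtype ≠ ⊥ := by
  intro h
  apply hN
  rw [Subgroup.map_eq_bot_iff_of_injective _ H.subtype_injective] at h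
  exact h

theorem card_map_subtype {H : Subgroup (Equiv.Perm GolayPt)} (N : Subgroup H) :
    Nat.card (N.map H.subtype) = Nat.card N :=
  Subgroup.card_map_of_injective H.subtype_injective

theorem commutator_eq_top_of_le {H : Subgroup (Equiv.Perm GolayPt)} (h : H ≤ ⁅H, H⁆) : commutator H = ⊤ := by
  have h1 : (commutator H).map H.subtype = ⁅H, H⁆ := Subgroup.map_subtype_commutator H
  have h2 : ⁅H, H⁆ = H := by
    apply le_antisymm _ h
    rw [Subgroup.commutator_le]
    intro g₁ hg₁ g₂ hg₂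
    rw [commutatorElement_def]
    exact H.mul_mem (H.mul_mem (H.mul_mem hg₁ hg₂) (H.inv_mem hg₁)) (H.inv_mem hg₂)
  have h3 : (⊤ : Subgroup H).map H.subtype = H := by
    rw [← MonoidHom.range_eq_map, Subgroup.range_subtype]
  apply Subgroup.map_injective H.subtype_injective
  rw [h1, h2, h3]

/-- the centraliser of an element with semiregular centraliser is solvable -/
theorem centralizer_solvable {H : Subgroup (Equiv.Perm GolayPt)} {x : Equiv.Perm GolayPt} (hxH : x ∈ H) {p : ℕ}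
    (hx : orderOf x = p) (hp3 : 24 < 3 * p) (a1 : GolayPt)
    (hsemi : ∀ g ∈ H, g * x = x * g → g a1 = a1 → g = 1) :
    Group.IsSolvable (Subgroup.centralizer ((Subgroup.zpowers (⟨x, hxH⟩ : H) : Subgroup H) : Set H)) := by
  let xt : H := ⟨x, hxH⟩
  let C := Subgroup.centralizer ((Subgroup.zpowers xt : Subgroup H) : Set H)
  show Group.IsSolvable C
  have hcomm : ∀ c : C, (c : H) * xt = xt * (c : H) := by
    intro c
    have := Subgroup.mem_centralizer_iff.mp c.2
    exact (this xt (Subgroup.mem_zpowers xt)).symm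
  have hxC : xt ∈ C := by
    rw [Subgroup.mem_centralizer_iff]
    intro y hy
    obtain ⟨k, rfl⟩ := Subgroup.mem_zpowers_iff.mp hy
    exact (Commute.zpow_left (Commute.refl xt) k).eq
  -- the centraliser embeds in the set of points
  have hinj : Function.Injective (fun c : C => ((c : H) : Equiv.Perm GolayPt) a1) := by
    intro c c' hcc
    have hmem : ((c'⁻¹ * c : C) : H) ∈ C := (c'⁻¹ * c).2
    have h1 : (((c'⁻¹ * c : C) : H) : Equiv.Perm GolayPt) = 1 := by
      apply hsemi _ ((c'⁻¹ * c : C) : H).2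
      · have := hcomm (c'⁻¹ * c)
        exact congrArg Subtype.val this
      · show ((c' : H) : Equiv.Perm GolayPt)⁻¹ (((c : H) : Equiv.Perm GolayPt) a1) = a1
        rw [Equiv.Perm.inv_eq_iff_eq]
        exact hcc
    have h2 : c'⁻¹ * c = 1 := Subtype.ext (Subtype.ext h1)
    exact (inv_mul_eq_one.mp h2).symm
  have hcard : Nat.card C ≤ 24 := by
    have := Nat.card_le_card_of_injective _ hinj
    rwa [card_GolayPt] at this
  have hord : orderOf (⟨xt, hxC⟩ : C) = p := by
    rw [← hx]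
    have h1 : orderOf (⟨xt, hxC⟩ : C) = orderOf xt := (Subgroup.orderOf_coe (⟨xt, hxC⟩ : C)).symm
    have h2 : orderOf xt = orderOf x := (Subgroup.orderOf_coe xt).symm
    rw [h1, h2]
  apply solvable_of_central_small (⟨xt, hxC⟩ : C)
  · intro c
    apply Subtype.ext
    exact hcomm c
  · rw [hord]; omega

/-! ### The criteria -/

/-- simplicity from perfectness, an element of prime order `p` with semiregular centraliser, and divisibility by `p`
of the orders of the non-trivial normal subgroups -/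
theorem simple_of_normal_dvd (p : ℕ) [hp : Fact p.Prime] (H : Subgroup (Equiv.Perm GolayPt))
    (hperf : H ≤ ⁅H, H⁆) (x : Equiv.Perm GolayPt) (hxH : x ∈ H) (hx : orderOf x = p)
    (hp2 : ¬ p ^ 2 ∣ Nat.card H) (hp3 : 24 < 3 * p)
    (hNdvd : ∀ N, NormalIn N H → N ≠ ⊥ → p ∣ Nat.card N)
    (a1 : GolayPt) (hsemi : ∀ g ∈ H, g * x = x * g → g a1 = a1 → g = 1) : IsSimpleGroup H := by
  have hx1 : x ≠ 1 := by
    intro h
    rw [h, orderOf_one] at hx
    exact hp.out.one_lt.ne hx
  have : Nontrivial H := ⟨⟨⟨x, hxH⟩, 1, fun h => hx1 (congrArg Subtype.val h)⟩⟩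
  have hord : orderOf (⟨x, hxH⟩ : H) = p := by
    rw [← hx]
    exact (Subgroup.orderOf_coe (⟨x, hxH⟩ : H)).symm
  exact simple_of_perfect_sylow p (commutator_eq_top_of_le hperf) ⟨x, hxH⟩ hord hp2
    (fun N hN hne => by
      rw [← card_map_subtype]
      exact hNdvd _ (normalIn_map N) (map_ne_bot hne))
    (centralizer_solvable hxH hx hp3 a1 hsemi)

/-- type A: the degree is divisible by `p` -/
theorem normal_card_dvd_typeA {H N : Subgroup (Equiv.Perm GolayPt)} {D : Finset GolayPt} {p : ℕ}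
    (hN : NormalIn N H) (hne : N ≠ ⊥)
    (h2 : ∀ u ∈ D, ∀ v ∈ D, ∀ u' ∈ D, ∀ v' ∈ D, u ≠ v → u' ≠ v' → ∃ h ∈ H, h u = u' ∧ h v = v')
    (hinv : ∀ h ∈ H, ∀ q ∈ D, h q ∈ D) (hfaith : ∀ h ∈ H, (∀ q ∈ D, h q = q) → h = 1)
    {a : GolayPt} (ha : a ∈ D) (hpD : p ∣ D.card) : p ∣ Nat.card N := by
  rw [normal_card_dvd hN hne h2 hinv hfaith ha]
  exact Dvd.dvd.mul_right hpD _

theorem normalIn_fixH {H N : Subgroup (Equiv.Perm GolayPt)} (hN : NormalIn N H) (F : Finset GolayPt) :
    NormalIn (fixH N F) (fixH H F) := by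
  constructor
  · intro g hg
    rw [mem_fixH] at hg ⊢
    exact ⟨hN.1 hg.1, hg.2⟩
  · intro h hh m hm
    rw [mem_fixH] at hh hm ⊢
    refine ⟨hN.2 h hh.1 m hm.1, ?_⟩
    intro q hq
    rw [Equiv.Perm.mul_apply, Equiv.Perm.mul_apply]
    have h1 : h⁻¹ q = q := by rw [Equiv.Perm.inv_eq_iff_eq, hh.2 q hq]
    rw [h1, hm.2 q hq, hh.2 q hq]

/-- type B: the degree is divisible by 6, and `p` divides the orders of the non-trivial normal subgroups of a point
stabiliser, which contains an element permuting the other points of `D` transitively -/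
theorem normal_card_dvd_typeB {H N : Subgroup (Equiv.Perm GolayPt)} {D : Finset GolayPt} (p : ℕ)
    (hN : NormalIn N H) (hne : N ≠ ⊥)
    (h2 : ∀ u ∈ D, ∀ v ∈ D, ∀ u' ∈ D, ∀ v' ∈ D, u ≠ v → u' ≠ v' → ∃ h ∈ H, h u = u' ∧ h v = v')
    (hinv : ∀ h ∈ H, ∀ q ∈ D, h q ∈ D) (hfaith : ∀ h ∈ H, (∀ q ∈ D, h q = q) → h = 1)
    {a0 : GolayPt} (ha0 : a0 ∈ D) (h6 : 6 ∣ D.card)
    (x : Equiv.Perm GolayPt) (hxH : x ∈ H) (hxa : x a0 = a0)
    (hxtr : ∀ u ∈ D, ∀ v ∈ D, u ≠ a0 → v ≠ a0 → ∃ i : ℕ, (x ^ i) u = v)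
    (hsub : ∀ N', NormalIn N' (fixH H {a0}) → N' ≠ ⊥ → p ∣ Nat.card N') : p ∣ Nat.card N := by
  have hcard := normal_card_dvd hN hne h2 hinv hfaith ha0
  by_cases hbot : fixH N {a0} = ⊥
  · exfalso
    rw [hbot, Subgroup.card_bot, mul_one] at hcard
    have h2dvd : 2 ∣ Nat.card N := by rw [hcard]; exact Dvd.dvd.trans (by norm_num) h6
    have h3dvd : 3 ∣ Nat.card N := by rw [hcard]; exact Dvd.dvd.trans (by norm_num) h6
    haveI : Fact (Nat.Prime 2) := ⟨Nat.prime_two⟩
    haveI : Fact (Nat.Prime 3) := ⟨Nat.prime_three⟩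
    obtain ⟨m2, hm2⟩ := exists_prime_orderOf_dvd_card' (G := N) 2 h2dvd
    obtain ⟨m3, hm3⟩ := exists_prime_orderOf_dvd_card' (G := N) 3 h3dvd
    have hmove : ∀ m : N, m ≠ 1 → (m : Equiv.Perm GolayPt) a0 ≠ a0 := by
      intro m hm hfix
      have : (m : Equiv.Perm GolayPt) ∈ fixH N {a0} := by
        rw [mem_fixH]
        refine ⟨m.2, ?_⟩
        intro q hq
        rw [Finset.mem_singleton] at hq
        rw [hq]; exact hfix
      rw [hbot, Subgroup.mem_bot] at this
      exact hm (Subtype.ext this)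
    have hm21 : m2 ≠ 1 := by
      intro h; rw [h, orderOf_one] at hm2; norm_num at hm2
    have hm31 : m3 ≠ 1 := by
      intro h; rw [h, orderOf_one] at hm3; norm_num at hm3
    have hD2 : (m2 : Equiv.Perm GolayPt) a0 ∈ D := hinv _ (hN.1 m2.2) a0 ha0
    have hD3 : (m3 : Equiv.Perm GolayPt) a0 ∈ D := hinv _ (hN.1 m3.2) a0 ha0
    obtain ⟨i, hi⟩ := hxtr _ hD2 _ hD3 (hmove m2 hm21) (hmove m3 hm31)
    have hxi : x ^ i ∈ H := H.pow_mem hxH i
    have hxia : (x ^ i) a0 = a0 := by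
      have : ∀ n : ℕ, (x ^ n) a0 = a0 := by
        intro n
        induction n with
        | zero => simp
        | succ n ih => rw [pow_succ, Equiv.Perm.mul_apply, hxa, ih]
      exact this i
    have hconj : x ^ i * (m2 : Equiv.Perm GolayPt) * (x ^ i)⁻¹ ∈ N := hN.2 _ hxi _ m2.2
    have heq : x ^ i * (m2 : Equiv.Perm GolayPt) * (x ^ i)⁻¹ = (m3 : Equiv.Perm GolayPt) := by
      have hmem : (m3 : Equiv.Perm GolayPt)⁻¹ * (x ^ i * (m2 : Equiv.Perm GolayPt) * (x ^ i)⁻¹) ∈ fixH N {a0} := by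
        rw [mem_fixH]
        refine ⟨N.mul_mem (N.inv_mem m3.2) hconj, ?_⟩
        intro q hq
        rw [Finset.mem_singleton] at hq
        rw [hq, Equiv.Perm.mul_apply, Equiv.Perm.mul_apply, Equiv.Perm.mul_apply, Equiv.Perm.inv_eq_iff_eq]
        have h1 : (x ^ i)⁻¹ a0 = a0 := by rw [Equiv.Perm.inv_eq_iff_eq, hxia]
        rw [h1, hi]
      rw [hbot, Subgroup.mem_bot] at hmem
      exact (inv_mul_eq_one.mp hmem).symm
    have ho : orderOf (x ^ i * (m2 : Equiv.Perm GolayPt) * (x ^ i)⁻¹) = orderOf (m2 : Equiv.Perm GolayPt) := by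
      symm
      apply SemiconjBy.orderOf_eq (x ^ i)
      show x ^ i * (m2 : Equiv.Perm GolayPt) = x ^ i * (m2 : Equiv.Perm GolayPt) * (x ^ i)⁻¹ * x ^ i
      group
    rw [heq, Subgroup.orderOf_coe, Subgroup.orderOf_coe, hm2, hm3] at ho
    norm_num at ho
  · have h1 := hsub _ (normalIn_fixH hN {a0}) hbot
    rw [hcard]
    exact Dvd.dvd.mul_left h1 _

end Cfsg.Agent.Helper27
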