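import Mathlib

/-!
A criterion for simplicity: a perfect finite group with a Sylow subgroup of prime order `p` whose centraliser is
solvable, all of whose non-trivial normal subgroups have order divisible by `p`, is simple.
-/

set_option autoImplicit false

namespace Cfsg.Agent.Helper27

open Subgroup

theorem commutator_quotient_eq_top {G : Type*} [Group G] (hperf : commutator G = ⊤) (N : Subgroup G) [N.Normal] :
    commutator (G ⧸ N) = ⊤ := by
  have hsurj : Function.Surjective (QuotientGroup.mk' N) := QuotientGroup.mk'_surjective N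
  rw [commutator_def] at hperf ⊢
  have h1 : (⊤ : Subgroup (G ⧸ N)) = Subgroup.map (QuotientGroup.mk' N) ⊤ :=
    (Subgroup.map_top_of_surjective _ hsurj).symm
  rw [h1, ← Subgroup.map_commutator, hperf]

theorem normalizer_zpowers_solvable {G : Type*} [Group G] (x : G)
    (hC : Group.IsSolvable (Subgroup.centralizer ((Subgroup.zpowers x : Subgroup G) : Set G))) :
    Group.IsSolvable (normalizer ((zpowers x : Subgroup G) : Set G)) := by
  let _ : CommGroup (MulAut (zpowers x)) :=
    (IsCyclic.mulAutMulEquiv (zpowers x)).toMonoidHom.commGroupOfInjective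
      (IsCyclic.mulAutMulEquiv (zpowers x)).injective
  have hle : centralizer ((zpowers x : Subgroup G) : Set G) ≤ normalizer ((zpowers x : Subgroup G) : Set G) :=
    Subgroup.centralizer_le_normalizer _
  have : Group.IsSolvable
      ((centralizer ((zpowers x : Subgroup G) : Set G)).subgroupOf (normalizer ((zpowers x : Subgroup G) : Set G))) :=
    Group.isSolvable_of_isSolvable_injective (f := (Subgroup.subgroupOfEquivOfLe hle).toMonoidHom)
      (Subgroup.subgroupOfEquivOfLe hle).injective
  refine Group.isSolvable_of_ker_le_range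
    ((centralizer ((zpowers x : Subgroup G) : Set G)).subgroupOf
      (normalizer ((zpowers x : Subgroup G) : Set G))).subtype
    (zpowers x).normalizerMonoidHom ?_
  rw [normalizerMonoidHom_ker, Subgroup.range_subtype]

theorem simple_of_perfect_sylow {G : Type*} [Group G] [Finite G] [Nontrivial G] (p : ℕ) [hp : Fact p.Prime]
    (hperf : commutator G = ⊤) (x : G) (hx : orderOf x = p) (hp2 : ¬ p ^ 2 ∣ Nat.card G)
    (hN : ∀ N : Subgroup G, N.Normal → N ≠ ⊥ → p ∣ Nat.card N)
    (hC : Group.IsSolvable (Subgroup.centralizer ((Subgroup.zpowers x : Subgroup G) : Set G))) :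
    IsSimpleGroup G := by
  have hcard_pos : Nat.card G ≠ 0 := Nat.card_pos.ne'
  have hpdvd : p ∣ Nat.card G := hx ▸ orderOf_dvd_natCard x
  have hfac : (Nat.card G).factorization p = 1 := by
    have h1 : 1 ≤ (Nat.card G).factorization p :=
      (hp.out.pow_dvd_iff_le_factorization hcard_pos).mp (by simpa using hpdvd)
    have h2 : ¬ 2 ≤ (Nat.card G).factorization p := fun h =>
      hp2 ((hp.out.pow_dvd_iff_le_factorization hcard_pos).mpr h)
    omega
  have hcardz : ∀ y : G, orderOf y = p → Nat.card (zpowers y) = p ^ (Nat.card G).factorization p := by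
    intro y hy
    rw [hfac, pow_one, Nat.card_zpowers, hy]
  let P : Sylow p G := Sylow.ofCard (zpowers x) (hcardz x hx)
  have hPcoe : (P : Subgroup G) = zpowers x := Sylow.coe_ofCard _ _
  have hNP := normalizer_zpowers_solvable x hC
  refine ⟨fun N hNn => ?_⟩
  by_cases hbot : N = ⊥
  · exact Or.inl hbot
  right
  have hpN := hN N hNn hbot
  obtain ⟨y, hy⟩ := exists_prime_orderOf_dvd_card' p hpN
  have hy' : orderOf (y : G) = p := by rw [Subgroup.orderOf_coe]; exact hy
  let Q : Sylow p G := Sylow.ofCard (zpowers (y : G)) (hcardz _ hy')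
  have hQcoe : (Q : Subgroup G) = zpowers (y : G) := Sylow.coe_ofCard _ _
  obtain ⟨g, hg⟩ := MulAction.exists_smul_eq G Q P
  have hPN : (P : Subgroup G) ≤ N := by
    rw [← hg, Sylow.coe_subgroup_smul, hQcoe]
    intro z hz
    rw [Subgroup.mem_smul_pointwise_iff_exists] at hz
    obtain ⟨s, hs, rfl⟩ := hz
    have hsN : s ∈ N := by
      have : zpowers (y : G) ≤ N := by
        rw [zpowers_le]; exact y.2
      exact this hs
    rw [MulAut.smul_def, MulAut.conj_apply]
    exact hNn.conj_mem s hsN g
  have hfr : normalizer ((zpowers x : Subgroup G) : Set G) ⊔ N = ⊤ := Sylow.normalizer_sup_eq_top' P hPN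
  -- the quotient is solvable
  let φ : normalizer ((zpowers x : Subgroup G) : Set G) →* G ⧸ N :=
    (QuotientGroup.mk' N).comp (normalizer ((zpowers x : Subgroup G) : Set G)).subtype
  have hφ : Function.Surjective φ := by
    intro q
    obtain ⟨g', rfl⟩ := QuotientGroup.mk'_surjective N q
    have hg' : g' ∈ ((normalizer ((zpowers x : Subgroup G) : Set G) ⊔ N : Subgroup G) : Set G) := by
      rw [hfr]; exact Set.mem_univ _
    rw [Subgroup.mul_normal] at hg'
    obtain ⟨a, ha, n, hn, rfl⟩ := Set.mem_mul.mp hg'
    refine ⟨⟨a, ha⟩, ?_⟩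
    show QuotientGroup.mk' N a = QuotientGroup.mk' N (a * n)
    rw [QuotientGroup.mk'_apply, QuotientGroup.mk'_apply, QuotientGroup.eq]
    simpa using hn
  have : Group.IsSolvable (G ⧸ N) := Group.isSolvable_of_surjective hφ
  have hq := commutator_quotient_eq_top hperf N
  apply QuotientGroup.subgroup_eq_top_of_subsingleton
  by_contra hns
  rw [not_subsingleton_iff_nontrivial] at hns
  have := Group.IsSolvable.commutator_lt_top_of_nontrivial (G ⧸ N)
  rw [hq] at this
  exact lt_irrefl _ this

end Cfsg.Agent.Helper27
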