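import Cfsg.Agent.Helper27.SimpleChain

/-!
The stabiliser of a dodecad and one of its points in `Cfsg.M24` is simple.
-/

set_option autoImplicit false

namespace Cfsg.Agent.Helper27

open Cfsg
open scoped Pointwise commutatorElement

/-- commutator leaves for the perfectness certificate -/
def p11Leaves : List (List ℕ × List ℕ × List ℕ × List ℕ) := [
  ([0,17,8,6,10,5,3,7,2,9,4,14,21,13,11,15,22,1,18,23,20,12,16,19],
   [0,5,9,7,14,23,11,6,8,4,10,3,1,13,2,21,19,22,20,16,15,18,17,12],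
   [0,17,8,6,10,5,3,7,2,9,4,14,21,13,11,15,22,1,18,23,20,12,16,19],
   [0,12,14,11,9,1,7,3,8,2,10,6,23,13,4,20,19,22,21,16,18,15,17,5]),
  ([0,5,9,7,14,23,11,6,8,4,10,3,1,13,2,21,19,22,20,16,15,18,17,12],
   [0,17,8,6,10,5,3,7,2,9,4,14,21,13,11,15,22,1,18,23,20,12,16,19],
   [0,12,14,11,9,1,7,3,8,2,10,6,23,13,4,20,19,22,21,16,18,15,17,5],
   [0,17,8,6,10,5,3,7,2,9,4,14,21,13,11,15,22,1,18,23,20,12,16,19]),
  ([0,1,7,10,2,15,9,3,8,14,4,6,12,11,13,19,20,21,22,18,17,23,5,16],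
   [0,18,11,2,14,20,10,3,8,9,4,7,16,13,6,23,12,19,17,1,22,5,21,15],
   [0,1,4,7,10,22,11,2,8,6,3,13,12,14,9,5,23,20,19,15,16,17,18,21],
   [0,19,3,7,10,21,14,11,8,9,6,2,16,13,4,23,12,18,1,17,5,22,20,15]),
  ([0,18,11,2,14,20,10,3,8,9,4,7,16,13,6,23,12,19,17,1,22,5,21,15],
   [0,1,7,10,2,15,9,3,8,14,4,6,12,11,13,19,20,21,22,18,17,23,5,16],
   [0,19,3,7,10,21,14,11,8,9,6,2,16,13,4,23,12,18,1,17,5,22,20,15],
   [0,1,4,7,10,22,11,2,8,6,3,13,12,14,9,5,23,20,19,15,16,17,18,21]),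
  ([0,16,13,14,6,1,11,10,2,9,4,7,12,3,8,17,15,5,19,20,21,23,22,18],
   [0,16,10,3,13,15,6,2,14,7,9,11,5,8,4,20,22,23,21,1,12,18,19,17],
   [0,5,8,13,10,17,4,11,14,9,7,6,12,2,3,16,1,15,23,18,19,20,22,21],
   [0,19,7,3,14,12,6,9,13,10,2,11,20,4,8,5,1,23,21,22,15,18,16,17]),
  ([0,16,10,3,13,15,6,2,14,7,9,11,5,8,4,20,22,23,21,1,12,18,19,17],
   [0,16,13,14,6,1,11,10,2,9,4,7,12,3,8,17,15,5,19,20,21,23,22,18],
   [0,19,7,3,14,12,6,9,13,10,2,11,20,4,8,5,1,23,21,22,15,18,16,17],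
   [0,5,8,13,10,17,4,11,14,9,7,6,12,2,3,16,1,15,23,18,19,20,22,21]),
  ([0,16,14,3,4,21,6,2,10,8,11,9,18,7,13,20,1,23,15,22,12,5,17,19],
   [0,22,13,6,7,17,9,10,11,4,2,8,20,3,14,23,19,21,15,12,16,18,5,1],
   [0,16,7,3,4,21,6,13,9,11,8,10,20,14,2,18,1,22,12,23,15,5,19,17],
   [0,23,10,13,9,22,3,4,11,6,7,8,19,2,14,18,20,5,21,16,12,17,1,15]),
  ([0,22,13,6,7,17,9,10,11,4,2,8,20,3,14,23,19,21,15,12,16,18,5,1],
   [0,16,14,3,4,21,6,2,10,8,11,9,18,7,13,20,1,23,15,22,12,5,17,19],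
   [0,23,10,13,9,22,3,4,11,6,7,8,19,2,14,18,20,5,21,16,12,17,1,15],
   [0,16,7,3,4,21,6,13,9,11,8,10,20,14,2,18,1,22,12,23,15,5,19,17])]

/-- the straight-line program producing the transversal elements from the commutators -/
def p11Prog : List (ℕ × ℕ) := [
  (0,2),(3,1),(2,4),(5,3),(4,6),(7,5),(6,0),(1,7),(13,6),(7,14),(2,15),(16,3),(2,4),(5,3),
  (17,21),(22,18),(4,13),(14,5),(9,23),(24,10),(0,13),(14,1),(17,9),(10,18),(25,9),(10,26),(31,27),(28,32),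
  (35,29),(30,36),(0,33),(34,1),(0,19),(20,1),(41,37),(38,42),(29,37),(38,30),(25,11),(12,26),(31,37),(38,32),
  (19,45),(46,20),(39,19),(20,40),(19,47),(48,20),(11,43),(44,12),(57,53),(54,58),(55,31),(32,56),(43,49),(50,44),
  (61,43),(44,62),(65,57),(58,66),(47,59),(60,48),(31,63),(64,32),(43,59),(60,44),(43,67),(68,44),(57,63),(64,58),
  (73,43),(44,74),(51,77),(78,52),(79,63),(64,80),(63,75),(76,64),(71,75),(76,72),(85,81),(82,86),(69,43),(44,70),
  (81,87),(88,82),(91,69),(70,92),(91,93),(94,92),(89,95),(96,90),(99,97),(98,100),(97,99),(100,98),(103,97),(98,104),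
  (101,99),(100,102),(103,99),(99,101),(102,100),(110,99),(100,111),(105,101),(102,106),(51,99),(100,52),(115,116),(117,114),(118,118),
  (119,119),(120,118),(120,120),(121,121),(123,118),(119,124),(123,120),(123,122),(91,83),(84,92),(104,129),(130,103),(126,131),(132,125),
  (133,133),(134,134),(135,133),(89,129),(130,90),(111,138),(139,110),(121,140),(141,120),(136,142),(143,135),(138,116),(91,51),(52,92),
  (106,147),(148,105),(136,149),(150,135),(151,144),(145,152),(87,89),(113,155),(124,156),(157,133),(157,135),(144,135),(153,135),(136,154),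
  (147,146),(108,163),(121,164),(162,165),(166,144),(166,151),(166,153),(75,51),(170,147),(161,118)]

/-- transversal at level 0, all elements products of commutators -/
def p11L0 : List (List ℕ) := [
  [0,1,2,3,4,5,6,7,8,9,10,11,12,13,14,15,16,17,18,19,20,21,22,23],
  [0,1,3,14,7,16,4,11,2,9,8,13,21,6,10,5,17,22,18,23,12,19,15,20],
  [0,1,4,9,13,21,11,14,6,8,3,10,15,2,7,17,23,20,19,12,18,5,16,22],
  [0,1,6,7,11,15,9,4,2,14,13,10,18,8,3,21,19,20,16,23,22,12,5,17],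
  [0,1,7,11,6,15,14,4,10,3,13,8,18,2,9,22,23,12,20,17,5,16,21,19],
  [0,1,8,13,6,12,2,3,14,7,10,9,23,11,4,18,5,21,22,16,20,15,17,19],
  [0,1,9,4,3,19,11,14,6,10,13,8,15,7,2,12,23,5,21,17,22,20,16,18],
  [0,1,10,7,14,22,2,6,13,3,9,4,5,8,11,21,15,23,20,16,19,18,12,17],
  [0,1,11,10,8,15,14,4,7,13,9,2,16,6,3,23,17,18,20,22,21,12,19,5],
  [0,1,13,14,2,16,9,11,7,4,10,3,19,6,8,20,12,18,22,23,17,21,15,5],
  [0,1,14,3,8,18,4,11,2,13,7,9,21,10,6,23,17,19,16,5,20,22,15,12]]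

/-- transversal at level 1, all elements products of commutators -/
def p11L1 : List (List ℕ) := [
  [0,1,2,3,4,5,6,7,8,9,10,11,12,13,14,15,16,17,18,19,20,21,22,23],
  [0,18,2,4,10,19,11,8,7,3,13,14,15,6,9,20,17,5,22,23,21,12,16,1],
  [0,17,2,6,11,18,3,7,8,13,14,4,12,9,10,15,23,1,5,22,20,21,19,16],
  [0,23,2,7,14,1,13,8,9,3,10,11,16,4,6,22,12,21,17,5,18,20,15,19],
  [0,19,2,8,11,23,10,7,14,9,4,6,22,3,13,18,21,20,16,17,1,15,12,5],
  [0,23,2,9,3,17,13,8,7,14,4,6,21,10,11,12,22,16,1,5,15,20,18,19],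
  [0,22,2,10,13,23,14,7,8,4,6,9,20,11,3,21,5,19,16,1,12,15,17,18],
  [0,5,2,11,14,22,4,8,7,6,9,10,15,3,13,20,1,18,19,16,21,12,23,17],
  [0,16,2,13,6,1,9,8,7,10,11,3,21,14,4,12,19,23,17,18,15,20,5,22],
  [0,19,2,14,9,16,10,7,8,11,3,13,20,4,6,21,18,22,23,17,12,15,1,5]]

/-- transversal at level 2, all elements products of commutators -/
def p11L2 : List (List ℕ) := [
  [0,1,2,3,4,5,6,7,8,9,10,11,12,13,14,15,16,17,18,19,20,21,22,23],
  [0,1,2,3,6,16,4,11,14,10,9,7,22,13,8,23,5,19,18,17,20,21,12,15],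
  [0,19,2,3,7,21,4,9,8,6,14,13,20,10,11,16,15,12,23,1,22,18,17,5],
  [0,20,2,3,8,15,14,10,6,7,11,9,17,13,4,16,23,22,21,12,1,18,19,5],
  [0,21,2,3,9,17,10,8,11,6,4,14,23,13,7,12,19,16,20,5,18,1,15,22],
  [0,21,2,3,10,19,9,14,7,4,6,8,15,13,11,22,17,5,20,16,18,1,23,12],
  [0,18,2,3,11,12,7,4,10,8,14,6,16,13,9,19,22,15,1,23,21,20,5,17],
  [0,12,2,3,13,18,4,14,11,7,8,10,22,6,9,21,5,17,16,19,20,23,1,15],
  [0,20,2,3,14,23,8,9,4,11,7,10,19,13,6,5,15,12,21,22,1,18,17,16]]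

/-- transversal at level 3, all elements products of commutators -/
def p11L3 : List (List ℕ) := [
  [0,1,2,3,4,5,6,7,8,9,10,11,12,13,14,15,16,17,18,19,20,21,22,23],
  [0,19,2,3,4,15,7,13,11,14,6,9,17,10,8,5,21,1,23,12,22,18,20,16],
  [0,18,2,3,4,22,8,14,13,6,11,7,16,9,10,20,1,23,12,21,15,17,5,19],
  [0,16,2,3,4,22,9,11,6,13,14,10,18,8,7,20,12,21,1,23,15,19,5,17],
  [0,17,2,3,4,15,10,6,14,11,13,8,19,7,9,5,23,12,21,1,22,16,20,18],
  [0,23,2,3,4,20,11,8,10,7,9,13,21,14,6,22,19,16,17,18,5,1,15,12],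
  [0,12,2,3,4,5,13,10,9,8,7,14,1,6,11,15,18,19,16,17,20,23,22,21],
  [0,21,2,3,4,20,14,9,7,10,8,6,23,11,13,22,17,18,19,16,5,12,15,1]]

theorem p11_leavesOK : leavesOK (certFix cert12 [0]) p11Leaves = true := by decide +kernel

theorem p11_cover : checkCover (slpRun (leafTables p11Leaves) p11Prog)
    (p11L0 ++ p11L1 ++ p11L2 ++ p11L3) = true := by decide +kernel

theorem p11_inK : ∀ T ∈ p11L0 ++ p11L1 ++ p11L2 ++ p11L3,
    InK ⁅fixH H12 (ptsOf [0]), fixH H12 (ptsOf [0])⁆ T :=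
  tables_inK (certSound_fix certSound12 (fixed_lt_24 (by decide))) p11_leavesOK p11Prog _ p11_cover

theorem p11OK0 : transOKH cert12 [0] p11L0 = true := by decide +kernel
theorem p11OK1 : transOKH cert12 [2, 0] p11L1 = true := by decide +kernel
theorem p11OK2 : transOKH cert12 [3, 2, 0] p11L2 = true := by decide +kernel
theorem p11OK3 : transOKH cert12 [4, 3, 2, 0] p11L3 = true := by decide +kernel

/-- the group is perfect -/
theorem p11_perfect : fixH H12 (ptsOf [0]) ≤ ⁅fixH H12 (ptsOf [0]), fixH H12 (ptsOf [0])⁆ := by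
  have hb : fixH H12 (ptsOf (6 :: [4, 3, 2, 0])) ≤ ⁅fixH H12 (ptsOf [0]), fixH H12 (ptsOf [0])⁆ := by
    have : fixH H12 (ptsOf (6 :: [4, 3, 2, 0])) = ⊥ := fixH12_base_eq_bot
    rw [this]
    exact bot_le
  have h3 : fixH H12 (ptsOf (4 :: [3, 2, 0])) ≤ ⁅fixH H12 (ptsOf [0]), fixH H12 (ptsOf [0])⁆ :=
    fixH_le_of_trans certSound12 (fixed_lt_24 (by decide)) (by norm_num) p11OK3
      (fun T hT => p11_inK T (by simp [hT])) hb (fun g hg => by
        have h := apply_mem_of_orbit_eq orbit12_eq4 hg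
        have e : transImg 6 p11L3 = dod0 ^^^ (dod0 &&& tblMask [4, 3, 2, 0]) := by decide +kernel
        rw [e]; exact h)
  have h2 : fixH H12 (ptsOf (3 :: [2, 0])) ≤ ⁅fixH H12 (ptsOf [0]), fixH H12 (ptsOf [0])⁆ :=
    fixH_le_of_trans certSound12 (fixed_lt_24 (by decide)) (by norm_num) p11OK2
      (fun T hT => p11_inK T (by simp [hT])) h3 (fun g hg => by
        have h := apply_mem_of_orbit_eq orbit12_eq3 hg
        have e : transImg 4 p11L2 = dod0 ^^^ (dod0 &&& tblMask [3, 2, 0]) := by decide +kernel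
        rw [e]; exact h)
  have h1 : fixH H12 (ptsOf (2 :: [0])) ≤ ⁅fixH H12 (ptsOf [0]), fixH H12 (ptsOf [0])⁆ :=
    fixH_le_of_trans certSound12 (fixed_lt_24 (by decide)) (by norm_num) p11OK1
      (fun T hT => p11_inK T (by simp [hT])) h2 (fun g hg => by
        have h := apply_mem_of_orbit_eq orbit12_eq2 hg
        have e : transImg 3 p11L1 = dod0 ^^^ (dod0 &&& tblMask [2, 0]) := by decide +kernel
        rw [e]; exact h)
  have h0 : fixH H12 (ptsOf [0]) ≤ ⁅fixH H12 (ptsOf [0]), fixH H12 (ptsOf [0])⁆ :=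
    fixH_le_of_trans certSound12 (fixed_lt_24 (by decide)) (by norm_num) p11OK0
      (fun T hT => p11_inK T (by simp [hT])) h1 (fun g hg => by
        have h := apply_mem_of_orbit_eq orbit12_eq1 hg
        have e : transImg 2 p11L0 = dod0 ^^^ (dod0 &&& tblMask [0]) := by decide +kernel
        rw [e]; exact h)
  exact h0

theorem p11_x_mem : tblPerm y11T y11_valid ∈ fixH H12 (ptsOf [0]) :=
  certSound_fix certSound12 (fixed_lt_24 (by decide)) y11T y11_valid (by decide +kernel)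

/-- the order of a non-trivial normal subgroup is divisible by 11 -/
theorem p11_normal_dvd : ∀ N, NormalIn N (fixH H12 (ptsOf [0])) → N ≠ ⊥ → 11 ∣ Nat.card N := by
  intro N hN hne
  have hfix : ∀ f ∈ ([0] : List ℕ), f < 24 := fixed_lt_24 (by decide)
  have hinv := orbit_invariant orbit12_eq1
  have h2 := two_trans_of_orbits (H := H12) (fixed := [0]) (a := 2) (b := 3)
    (D := maskSet (dod0 ^^^ (dod0 &&& tblMask [0])))
    (fun q hq => mem_orbit_of_eq orbit12_eq1 hq)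
    (fun q hq hne' => mem_orbit_of_eq orbit12_eq2 (mask_step (by decide +kernel) hq hne'))
    hinv
  have ha : pt 2 ∈ maskSet (dod0 ^^^ (dod0 &&& tblMask [0])) := by
    rw [mem_maskSet, idx_pt (by norm_num)]; decide +kernel
  exact normal_card_dvd_typeA hN hne h2 hinv (faithful12 hfix) ha (by rw [card_maskSet]; decide +kernel)

theorem p11_simple : IsSimpleGroup (fixH H12 (ptsOf [0])) :=
  haveI := fact_prime_11
  simple_of_normal_dvd 11 (fixH H12 (ptsOf [0])) p11_perfect (tblPerm y11T y11_valid) p11_x_mem y11_order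
    (by rw [card_fix12_1]; norm_num) (by norm_num) p11_normal_dvd (pt 2) (y11_semireg ((fixH_le _ _).trans inf_le_left))

end Cfsg.Agent.Helper27
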