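import Cfsg.Agent.Helper27.SimpleChain

/-!
The stabiliser of a point in `Cfsg.M24` is simple.
-/

set_option autoImplicit false

namespace Cfsg.Agent.Helper27

open Cfsg
open scoped Pointwise commutatorElement

/-- commutator leaves for the perfectness certificate -/
def p23Leaves : List (List ℕ × List ℕ × List ℕ × List ℕ) := [
  ([0,8,16,14,20,3,15,12,5,4,11,21,19,2,6,1,18,17,7,13,10,23,22,9],
   [0,20,11,10,7,22,13,4,21,18,14,16,15,8,19,1,6,5,3,12,17,2,23,9],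
   [0,15,13,5,9,8,14,18,1,23,20,10,7,19,3,6,2,17,16,12,4,11,22,21],
   [0,15,21,18,7,17,16,4,13,23,3,2,19,6,10,12,11,20,9,14,1,8,5,22]),
  ([0,20,11,10,7,22,13,4,21,18,14,16,15,8,19,1,6,5,3,12,17,2,23,9],
   [0,8,16,14,20,3,15,12,5,4,11,21,19,2,6,1,18,17,7,13,10,23,22,9],
   [0,15,21,18,7,17,16,4,13,23,3,2,19,6,10,12,11,20,9,14,1,8,5,22],
   [0,15,13,5,9,8,14,18,1,23,20,10,7,19,3,6,2,17,16,12,4,11,22,21]),
  ([0,11,20,10,5,2,23,9,15,16,19,13,22,21,17,14,4,3,1,7,12,6,18,8],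
   [0,6,14,5,4,16,3,15,7,13,18,11,17,8,22,9,1,19,12,10,23,21,20,2],
   [0,18,5,17,16,4,21,19,23,7,3,1,20,11,15,8,9,14,22,10,2,13,12,6],
   [0,16,23,6,4,3,1,8,13,15,19,11,18,9,2,7,5,12,10,17,22,21,14,20]),
  ([0,6,14,5,4,16,3,15,7,13,18,11,17,8,22,9,1,19,12,10,23,21,20,2],
   [0,11,20,10,5,2,23,9,15,16,19,13,22,21,17,14,4,3,1,7,12,6,18,8],
   [0,16,23,6,4,3,1,8,13,15,19,11,18,9,2,7,5,12,10,17,22,21,14,20],
   [0,18,5,17,16,4,21,19,23,7,3,1,20,11,15,8,9,14,22,10,2,13,12,6]),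
  ([0,14,7,2,8,15,9,16,4,19,10,3,23,17,18,21,5,1,6,13,12,11,20,22],
   [0,14,16,10,20,2,5,3,9,17,1,11,22,6,23,19,18,8,13,15,4,12,21,7],
   [0,17,3,11,8,16,18,2,4,6,10,21,20,19,1,5,7,13,14,9,22,15,23,12],
   [0,10,5,7,20,6,13,23,17,8,3,11,21,18,1,19,2,9,16,15,4,22,12,14]),
  ([0,14,16,10,20,2,5,3,9,17,1,11,22,6,23,19,18,8,13,15,4,12,21,7],
   [0,14,7,2,8,15,9,16,4,19,10,3,23,17,18,21,5,1,6,13,12,11,20,22],
   [0,10,5,7,20,6,13,23,17,8,3,11,21,18,1,19,2,9,16,15,4,22,12,14],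
   [0,17,3,11,8,16,18,2,4,6,10,21,20,19,1,5,7,13,14,9,22,15,23,12]),
  ([0,10,22,2,9,23,15,17,8,16,4,11,14,13,3,5,1,19,6,21,7,20,12,18],
   [0,10,17,4,5,14,3,20,12,16,1,23,13,7,22,18,19,9,21,11,6,8,15,2],
   [0,16,3,14,10,15,18,20,8,4,1,11,22,13,12,6,9,7,23,17,21,19,2,5],
   [0,10,23,6,3,4,20,13,21,17,1,19,8,12,5,22,9,2,15,16,7,18,14,11]),
  ([0,10,17,4,5,14,3,20,12,16,1,23,13,7,22,18,19,9,21,11,6,8,15,2],
   [0,10,22,2,9,23,15,17,8,16,4,11,14,13,3,5,1,19,6,21,7,20,12,18],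
   [0,10,23,6,3,4,20,13,21,17,1,19,8,12,5,22,9,2,15,16,7,18,14,11],
   [0,16,3,14,10,15,18,20,8,4,1,11,22,13,12,6,9,7,23,17,21,19,2,5])]

/-- the straight-line program producing the transversal elements from the commutators -/
def p23Prog : List (ℕ × ℕ) := [
  (0,2),(3,1),(2,4),(5,3),(4,6),(7,5),(6,0),(1,7),(2,15),(16,3),(6,0),(1,7),(17,11),(12,18),
  (19,21),(22,20),(6,23),(24,7),(4,2),(3,5),(9,21),(22,10),(29,27),(28,30),(31,23),(24,32),(27,17),(18,28),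
  (33,25),(26,34),(35,27),(28,36),(13,31),(32,14),(39,21),(22,40),(35,37),(38,36),(41,4),(5,42),(25,47),(48,26),
  (4,45),(46,5),(31,21),(22,32),(47,53),(54,48),(55,45),(46,56),(37,49),(50,38),(43,57),(58,44),(51,59),(60,52),
  (53,51),(52,54),(61,51),(52,62),(67,57),(58,68),(67,51),(52,68),(63,71),(72,64),(51,55),(56,52),(65,73),(74,66),
  (37,55),(56,38),(63,65),(66,64),(75,65),(66,76),(81,77),(78,82),(85,79),(80,86),(37,83),(84,38),(37,69),(70,38),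
  (91,87),(88,92),(79,87),(88,80),(75,21),(22,76),(97,97),(98,98),(99,97),(98,100),(99,99),(100,100),(103,97),(98,104),
  (103,99),(100,104),(103,101),(103,103),(110,97),(110,99),(81,87),(88,82),(98,113),(114,97),(115,115),(116,116),(117,115),(117,117),
  (118,118),(120,115),(116,121),(69,95),(96,70),(102,124),(125,101),(126,117),(126,120),(121,127),(126,122),(123,127),(115,126),(127,116),
  (117,126),(127,118),(119,126),(120,126),(127,121),(133,117),(118,134),(135,117),(118,136),(133,120),(121,134),(135,120),(121,136),(129,128),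
  (126,129),(133,129),(130,134),(144,128),(89,69),(70,90),(119,97),(120,97),(126,97),(98,127),(138,97),(150,97),(98,151),(153,99),
  (126,101),(133,101),(102,134),(131,103),(104,132),(129,105),(106,130),(144,105),(106,145),(69,97),(98,70),(171,172),(173,170),(141,174),
  (175,140),(176,176),(177,177),(178,176),(177,179),(178,178),(179,179),(21,93),(94,22),(108,184),(185,107),(118,186),(187,117),(188,188),
  (189,189),(190,188),(189,191),(184,153),(154,185),(158,194),(195,157),(139,196),(197,138),(188,176),(177,189),(190,176),(192,176),(198,178),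
  (188,178),(198,180),(190,180),(198,182),(176,198),(188,198),(190,198),(199,191),(192,198),(199,193),(211,180),(181,212),(213,180),(181,214),
  (209,182),(172,81),(82,173),(161,220),(221,160),(130,222),(223,129),(201,224),(225,200),(189,226),(227,188),(228,228),(229,229),(93,113),
  (114,94),(169,232),(233,168),(121,234),(235,120),(218,236),(237,217),(238,188),(189,239),(228,188),(230,188),(228,190),(191,229),(230,190),
  (238,192),(228,192),(230,192),(190,238),(238,238),(228,238),(230,238),(250,188),(244,238),(239,245),(246,238),(220,93),(94,221),(165,258),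
  (259,164),(147,260),(261,146),(216,262),(263,215),(245,264),(265,244),(266,228),(266,230),(228,266),(230,266),(267,231),(266,266),(271,228),
  (273,228),(271,230),(258,184),(106,277),(145,278),(183,279),(241,280),(272,281),(282,282),(81,232),(93,277),(284,285),(167,286),(143,287),
  (216,288),(256,289),(283,228),(283,269),(283,271)]

/-- transversal at level 0, all elements products of commutators -/
def p23L0 : List (List ℕ) := [
  [0,1,2,3,4,5,6,7,8,9,10,11,12,13,14,15,16,17,18,19,20,21,22,23],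
  [0,2,5,22,9,17,4,23,19,20,7,3,12,8,18,16,14,13,21,6,1,10,15,11],
  [0,3,1,19,17,20,5,21,14,7,10,13,9,8,23,12,18,11,15,6,2,16,22,4],
  [0,4,9,7,8,20,13,18,5,19,14,10,12,2,22,11,3,1,15,17,6,16,23,21],
  [0,5,17,15,20,13,9,11,6,1,23,22,12,19,21,14,18,8,10,4,2,7,16,3],
  [0,6,4,10,13,9,17,14,2,8,16,21,12,1,3,23,11,20,22,5,19,15,7,18],
  [0,7,2,4,6,3,14,16,11,5,15,21,9,20,12,19,22,1,18,8,17,23,13,10],
  [0,8,19,18,5,6,2,15,20,17,22,14,12,9,23,10,7,4,11,1,13,3,21,16],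
  [0,9,20,23,19,1,8,21,17,6,18,7,12,5,15,3,22,2,16,13,4,14,11,10],
  [0,10,1,18,6,14,8,16,13,7,2,20,17,15,23,12,22,21,5,9,3,11,19,4],
  [0,11,9,7,2,23,3,18,1,17,21,4,10,14,6,12,15,20,16,19,22,13,5,8],
  [0,12,20,4,23,18,5,8,11,19,22,6,10,14,15,2,13,16,21,9,17,3,7,1],
  [0,13,8,14,2,19,1,22,9,5,3,16,12,4,7,21,10,6,23,20,17,11,18,15],
  [0,14,1,21,9,3,18,2,20,4,16,23,12,6,11,19,5,8,13,15,17,22,10,7],
  [0,15,1,11,2,6,19,17,8,12,21,7,4,10,16,22,20,14,5,13,3,18,9,23],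
  [0,16,2,23,17,7,6,19,1,3,11,12,9,15,10,4,13,8,21,22,18,5,20,14],
  [0,17,13,16,1,8,20,3,4,2,11,15,12,6,10,18,21,19,7,9,5,23,14,22],
  [0,18,16,2,17,14,19,6,5,12,1,7,10,9,3,15,21,11,22,23,20,8,13,4],
  [0,19,6,21,17,4,5,16,1,13,15,18,12,20,11,7,23,9,3,2,8,22,10,14],
  [0,20,1,11,6,2,19,10,13,4,21,23,12,17,16,22,15,5,14,8,9,18,3,7],
  [0,21,9,2,11,20,22,18,8,15,10,19,7,1,17,4,23,6,16,3,12,14,13,5],
  [0,22,1,16,5,4,7,17,19,12,15,8,9,20,13,21,18,2,14,11,3,10,6,23],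
  [0,23,9,12,3,17,8,11,21,13,14,16,10,5,4,18,19,1,22,20,2,7,15,6]]

/-- transversal at level 1, all elements products of commutators -/
def p23L1 : List (List ℕ) := [
  [0,1,2,3,4,5,6,7,8,9,10,11,12,13,14,15,16,17,18,19,20,21,22,23],
  [0,1,3,10,4,8,9,7,15,17,2,21,12,20,13,5,11,6,22,18,14,16,19,23],
  [0,1,4,6,12,2,5,23,11,3,17,16,9,19,14,18,13,20,10,7,22,15,21,8],
  [0,1,5,19,23,21,2,12,3,9,16,18,10,8,14,22,7,20,11,13,17,6,4,15],
  [0,1,6,9,12,14,2,23,13,3,17,11,4,8,5,20,16,10,18,19,15,21,22,7],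
  [0,1,7,14,12,4,22,23,6,2,13,15,20,21,16,9,5,19,3,10,8,11,18,17],
  [0,1,8,17,9,3,21,13,15,20,2,23,7,11,18,14,10,22,5,12,6,19,16,4],
  [0,1,9,17,12,13,3,23,20,10,6,21,4,15,8,14,11,2,22,18,5,16,19,7],
  [0,1,10,2,4,15,17,7,5,6,3,16,12,14,20,8,21,9,19,22,13,11,18,23],
  [0,1,11,13,7,19,5,4,16,9,18,23,6,8,2,17,3,10,15,12,20,22,21,14],
  [0,1,12,10,4,17,20,7,16,6,3,21,2,22,15,19,5,8,9,23,18,13,11,14],
  [0,1,13,18,7,16,9,4,17,10,11,22,6,20,8,19,23,5,21,15,2,3,12,14],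
  [0,1,14,19,7,21,6,4,9,3,16,18,17,13,5,22,23,15,11,8,10,2,12,20],
  [0,1,15,22,23,11,10,12,2,6,21,19,3,5,20,18,7,13,16,14,9,17,4,8],
  [0,1,16,5,23,22,20,12,21,2,19,7,10,14,17,3,6,9,13,4,8,18,11,15],
  [0,1,17,6,12,20,10,23,14,2,9,16,4,5,15,13,21,3,19,22,8,11,18,7],
  [0,1,18,11,7,17,10,4,19,5,13,3,6,2,20,16,22,9,12,21,8,23,15,14],
  [0,1,19,16,23,3,9,12,22,20,5,6,10,17,8,21,18,2,4,11,14,7,13,15],
  [0,1,20,22,7,11,17,4,6,2,21,19,9,14,15,18,23,8,16,5,3,10,12,13],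
  [0,1,21,20,7,18,8,4,11,17,22,23,9,15,3,6,10,2,5,12,14,19,16,13],
  [0,1,22,21,7,6,2,4,18,8,20,10,9,3,14,11,19,17,12,16,15,23,5,13],
  [0,1,23,15,4,12,18,7,10,17,5,13,8,11,21,2,20,22,6,9,14,16,19,3]]

/-- transversal at level 2, all elements products of commutators -/
def p23L2 : List (List ℕ) := [
  [0,1,2,3,4,5,6,7,8,9,10,11,12,13,14,15,16,17,18,19,20,21,22,23],
  [0,1,2,4,5,11,14,18,3,20,9,8,19,13,17,10,12,21,16,7,23,22,6,15],
  [0,1,2,5,11,8,17,16,4,23,20,3,7,13,21,9,19,22,12,18,15,6,14,10],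
  [0,1,2,6,10,7,9,16,15,3,18,11,17,8,23,13,5,19,4,12,20,14,22,21],
  [0,1,2,7,11,15,19,5,10,21,20,6,16,8,14,3,12,22,17,4,13,9,23,18],
  [0,1,2,8,3,4,22,19,11,10,15,5,16,13,6,23,18,14,7,12,9,17,21,20],
  [0,1,2,9,21,3,19,14,7,18,12,5,16,15,6,8,17,22,20,13,23,10,4,11],
  [0,1,2,10,7,11,23,4,6,20,3,15,12,8,19,18,17,14,5,16,21,22,9,13],
  [0,1,2,11,8,3,21,12,5,15,23,4,18,13,22,20,7,6,19,16,10,14,17,9],
  [0,1,2,12,4,11,14,7,6,21,3,16,10,19,8,13,5,23,17,15,20,22,9,18],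
  [0,1,2,13,22,14,6,23,9,15,16,5,4,20,11,8,17,10,18,7,3,21,12,19],
  [0,1,2,14,5,9,10,17,22,19,3,13,23,20,21,15,7,12,4,18,8,6,11,16],
  [0,1,2,15,6,10,22,12,11,18,13,7,5,8,9,21,4,23,16,17,3,19,14,20],
  [0,1,2,16,6,12,22,10,11,13,18,4,17,19,9,20,7,14,15,5,3,8,23,21],
  [0,1,2,17,11,19,5,15,7,14,21,3,4,18,20,9,8,22,10,13,16,6,23,12],
  [0,1,2,18,22,23,6,14,9,16,15,17,7,21,11,19,5,12,13,4,3,20,10,8],
  [0,1,2,19,3,7,22,8,11,12,16,17,15,18,6,14,13,23,4,10,9,5,20,21],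
  [0,1,2,20,3,17,6,21,9,14,13,4,18,16,22,10,15,12,5,23,11,7,8,19],
  [0,1,2,21,3,5,6,20,9,23,18,7,13,15,22,12,16,10,17,14,11,4,19,8],
  [0,1,2,22,15,19,10,18,23,8,7,5,14,11,20,13,4,12,3,16,9,6,21,17],
  [0,1,2,23,22,15,21,16,5,7,13,19,4,11,10,17,3,20,18,14,8,12,6,9]]

/-- transversal at level 3, all elements products of commutators -/
def p23L3 : List (List ℕ) := [
  [0,1,2,3,4,5,6,7,8,9,10,11,12,13,14,15,16,17,18,19,20,21,22,23],
  [0,1,2,3,5,7,22,17,21,11,23,9,14,15,10,18,13,4,16,20,8,19,6,12],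
  [0,1,2,3,6,12,19,11,21,15,9,8,22,17,7,20,18,4,5,13,23,14,16,10],
  [0,1,2,3,7,17,6,4,19,9,12,11,10,18,23,16,15,5,13,8,21,20,22,14],
  [0,1,2,3,8,20,5,15,22,14,19,23,16,7,21,11,9,18,4,6,10,12,17,13],
  [0,1,2,3,9,18,16,11,14,19,22,8,6,10,21,17,23,13,4,5,12,7,15,20],
  [0,1,2,3,10,15,5,4,22,23,7,17,12,13,8,6,11,16,20,9,21,18,14,19],
  [0,1,2,3,11,4,19,6,13,15,22,8,9,5,10,18,20,12,17,21,14,23,16,7],
  [0,1,2,3,12,11,16,4,14,8,10,15,7,20,9,5,17,6,18,23,21,13,19,22],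
  [0,1,2,3,13,17,11,20,10,9,18,22,21,15,14,4,12,23,8,7,19,16,6,5],
  [0,1,2,3,14,18,6,5,8,22,23,9,17,10,20,16,19,21,7,15,4,12,11,13],
  [0,1,2,3,15,4,14,16,18,17,19,23,8,6,7,20,13,10,11,21,22,9,5,12],
  [0,1,2,3,16,10,14,15,21,17,8,23,19,11,12,13,20,4,6,18,9,22,5,7],
  [0,1,2,3,17,4,22,5,20,11,14,9,23,16,12,13,18,7,15,21,19,8,6,10],
  [0,1,2,3,18,5,11,21,12,9,13,22,20,16,23,7,10,14,19,4,8,15,6,17],
  [0,1,2,3,19,13,5,16,9,14,8,23,15,12,18,6,22,21,10,11,4,7,17,20],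
  [0,1,2,3,20,7,6,18,8,11,13,22,21,23,4,19,15,12,5,16,14,17,9,10],
  [0,1,2,3,21,14,11,18,4,9,20,22,13,19,17,10,7,5,16,12,15,8,6,23],
  [0,1,2,3,22,20,16,6,23,19,9,8,11,7,13,5,14,21,12,17,4,10,15,18],
  [0,1,2,3,23,13,6,17,19,22,14,9,5,12,21,15,8,20,4,16,7,10,11,18]]

/-- transversal at level 4, all elements products of commutators -/
def p23L4 : List (List ℕ) := [
  [0,1,2,3,4,5,6,7,8,9,10,11,12,13,14,15,16,17,18,19,20,21,22,23],
  [0,1,2,3,4,6,16,12,23,8,7,15,10,18,22,17,5,11,20,14,13,21,19,9],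
  [0,1,2,3,4,8,17,10,11,14,12,5,7,13,15,9,22,19,20,6,21,18,23,16],
  [0,1,2,3,4,9,15,12,17,19,7,16,10,20,11,23,14,22,18,5,21,13,8,6],
  [0,1,2,3,4,11,19,12,5,15,7,8,10,13,9,14,23,6,21,17,18,20,16,22],
  [0,1,2,3,4,13,9,10,5,22,12,11,7,8,18,17,14,21,16,23,19,15,6,20],
  [0,1,2,3,4,14,9,7,19,6,10,22,12,21,5,16,15,23,20,8,18,13,11,17],
  [0,1,2,3,4,15,14,10,6,17,12,23,7,18,8,22,9,16,21,11,20,13,5,19],
  [0,1,2,3,4,16,5,10,9,23,12,17,7,20,19,11,6,15,13,22,18,21,14,8],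
  [0,1,2,3,4,17,22,7,16,11,10,9,12,20,23,19,8,5,21,15,13,18,6,14],
  [0,1,2,3,4,18,22,10,23,9,12,6,7,15,13,14,17,20,19,5,16,8,11,21],
  [0,1,2,3,4,19,23,10,22,5,12,14,7,21,16,6,11,8,18,9,13,20,17,15],
  [0,1,2,3,4,20,11,10,17,6,12,9,7,16,21,5,23,18,8,14,15,19,22,13],
  [0,1,2,3,4,21,6,10,14,11,12,22,7,19,20,23,5,13,15,17,8,16,9,18],
  [0,1,2,3,4,22,8,12,14,16,7,19,10,21,6,5,17,9,13,23,20,18,15,11],
  [0,1,2,3,4,23,11,7,15,22,10,6,12,18,17,8,19,14,13,16,21,20,9,5]]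

/-- transversal at level 5, all elements products of commutators -/
def p23L5 : List (List ℕ) := [
  [0,1,2,3,4,5,6,7,8,9,10,11,12,13,14,15,16,17,18,19,20,21,22,23],
  [0,1,2,3,4,5,16,10,13,19,12,8,7,11,23,20,21,14,9,18,22,6,15,17],
  [0,1,2,3,4,5,21,12,11,18,7,13,10,8,17,22,6,23,19,9,15,16,20,14]]

theorem p23_leavesOK : leavesOK (certFix tblInCode [0]) p23Leaves = true := by decide +kernel

theorem p23_cover : checkCover (slpRun (leafTables p23Leaves) p23Prog)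
    (p23L0 ++ p23L1 ++ p23L2 ++ p23L3 ++ p23L4 ++ p23L5) = true := by decide +kernel

theorem p23_inK : ∀ T ∈ p23L0 ++ p23L1 ++ p23L2 ++ p23L3 ++ p23L4 ++ p23L5,
    InK ⁅fixH M24 (ptsOf [0]), fixH M24 (ptsOf [0])⁆ T :=
  tables_inK (certSound_fix certSound_M24 (fixed_lt_24 (by decide))) p23_leavesOK p23Prog _ p23_cover

theorem p23OK0 : transOKH tblInCode [0] p23L0 = true := by decide +kernel
theorem p23OK1 : transOKH tblInCode [1, 0] p23L1 = true := by decide +kernel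
theorem p23OK2 : transOKH tblInCode [2, 1, 0] p23L2 = true := by decide +kernel
theorem p23OK3 : transOKH tblInCode [3, 2, 1, 0] p23L3 = true := by decide +kernel
theorem p23OK4 : transOKH tblInCode [4, 3, 2, 1, 0] p23L4 = true := by decide +kernel
theorem p23OK5 : transOKH tblInCode [5, 4, 3, 2, 1, 0] p23L5 = true := by decide +kernel

/-- the group is perfect -/
theorem p23_perfect : fixH M24 (ptsOf [0]) ≤ ⁅fixH M24 (ptsOf [0]), fixH M24 (ptsOf [0])⁆ := by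
  have hb : fixH M24 (ptsOf (7 :: [5, 4, 3, 2, 1, 0])) ≤ ⁅fixH M24 (ptsOf [0]), fixH M24 (ptsOf [0])⁆ := by
    have : fixH M24 (ptsOf (7 :: [5, 4, 3, 2, 1, 0])) = ⊥ := fixG_base_eq_bot
    rw [this]
    exact bot_le
  have h5 : fixH M24 (ptsOf (5 :: [4, 3, 2, 1, 0])) ≤ ⁅fixH M24 (ptsOf [0]), fixH M24 (ptsOf [0])⁆ :=
    fixH_le_of_trans certSound_M24 (fixed_lt_24 (by decide)) (by norm_num) p23OK5
      (fun T hT => p23_inK T (by simp [hT])) hb (fun g hg => by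
        have h := apply_mem_of_orbit_eq orbit_eq6 hg
        have e : transImg 7 p23L5 = oct5 ^^^ (oct5 &&& 63) := by decide +kernel
        rw [e]; exact h)
  have h4 : fixH M24 (ptsOf (4 :: [3, 2, 1, 0])) ≤ ⁅fixH M24 (ptsOf [0]), fixH M24 (ptsOf [0])⁆ :=
    fixH_le_of_trans certSound_M24 (fixed_lt_24 (by decide)) (by norm_num) p23OK4
      (fun T hT => p23_inK T (by simp [hT])) h5 (fun g hg => by
        have h := apply_mem_of_orbit_eq orbit_eq5 hg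
        have e : transImg 5 p23L4 = onesMask ^^^ oct5 := by decide +kernel
        rw [e]; exact h)
  have h3 : fixH M24 (ptsOf (3 :: [2, 1, 0])) ≤ ⁅fixH M24 (ptsOf [0]), fixH M24 (ptsOf [0])⁆ :=
    fixH_le_of_trans certSound_M24 (fixed_lt_24 (by decide)) (by norm_num) p23OK3
      (fun T hT => p23_inK T (by simp [hT])) h4 (fun g hg => by
        have h := apply_mem_of_orbit_eq orbit_eq4 hg
        have e : transImg 4 p23L3 = onesMask ^^^ tblMask [3, 2, 1, 0] := by decide +kernel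
        rw [e]; exact h)
  have h2 : fixH M24 (ptsOf (2 :: [1, 0])) ≤ ⁅fixH M24 (ptsOf [0]), fixH M24 (ptsOf [0])⁆ :=
    fixH_le_of_trans certSound_M24 (fixed_lt_24 (by decide)) (by norm_num) p23OK2
      (fun T hT => p23_inK T (by simp [hT])) h3 (fun g hg => by
        have h := apply_mem_of_orbit_eq orbit_eq3 hg
        have e : transImg 3 p23L2 = onesMask ^^^ tblMask [2, 1, 0] := by decide +kernel
        rw [e]; exact h)
  have h1 : fixH M24 (ptsOf (1 :: [0])) ≤ ⁅fixH M24 (ptsOf [0]), fixH M24 (ptsOf [0])⁆ :=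
    fixH_le_of_trans certSound_M24 (fixed_lt_24 (by decide)) (by norm_num) p23OK1
      (fun T hT => p23_inK T (by simp [hT])) h2 (fun g hg => by
        have h := apply_mem_of_orbit_eq orbit_eq2 hg
        have e : transImg 2 p23L1 = onesMask ^^^ tblMask [1, 0] := by decide +kernel
        rw [e]; exact h)
  have h0 : fixH M24 (ptsOf [0]) ≤ ⁅fixH M24 (ptsOf [0]), fixH M24 (ptsOf [0])⁆ :=
    fixH_le_of_trans certSound_M24 (fixed_lt_24 (by decide)) (by norm_num) p23OK0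
      (fun T hT => p23_inK T (by simp [hT])) h1 (fun g hg => by
        have h := apply_mem_of_orbit_eq orbit_eq1 hg
        have e : transImg 1 p23L0 = onesMask ^^^ tblMask [0] := by decide +kernel
        rw [e]; exact h)
  exact h0

theorem p23_x_mem : tblPerm x23T x23_valid ∈ fixH M24 (ptsOf [0]) :=
  certSound_fix certSound_M24 (fixed_lt_24 (by decide)) x23T x23_valid (by decide +kernel)

/-- the order of a non-trivial normal subgroup is divisible by 23 -/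
theorem p23_normal_dvd : ∀ N, NormalIn N (fixH M24 (ptsOf [0])) → N ≠ ⊥ → 23 ∣ Nat.card N := by
  intro N hN hne
  have hfix : ∀ f ∈ ([0] : List ℕ), f < 24 := fixed_lt_24 (by decide)
  have hinv := orbit_invariant orbit_eq1
  have h2 := two_trans_of_orbits (H := M24) (fixed := [0]) (a := 1) (b := 2)
    (D := maskSet (onesMask ^^^ tblMask [0]))
    (fun q hq => mem_orbit_of_eq orbit_eq1 hq)
    (fun q hq hne' => mem_orbit_of_eq orbit_eq2 (mask_step (by decide +kernel) hq hne'))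
    hinv
  have ha : pt 1 ∈ maskSet (onesMask ^^^ tblMask [0]) := by
    rw [mem_maskSet, idx_pt (by norm_num)]; decide +kernel
  exact normal_card_dvd_typeA hN hne h2 hinv (faithful_compl hfix) ha (by rw [card_maskSet]; decide +kernel)

theorem p23_simple : IsSimpleGroup (fixH M24 (ptsOf [0])) :=
  haveI := fact_prime_23
  simple_of_normal_dvd 23 (fixH M24 (ptsOf [0])) p23_perfect (tblPerm x23T x23_valid) p23_x_mem x23_order
    (by rw [card_fix24_1]; norm_num) (by norm_num) p23_normal_dvd (pt 1) (x23_semireg (fixH_le _ _))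

end Cfsg.Agent.Helper27
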