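import Cfsg.Agent.Helper27.SimpleM23

/-!
`Cfsg.M24` is simple.
-/

set_option autoImplicit false

namespace Cfsg.Agent.Helper27

open Cfsg
open scoped Pointwise commutatorElement

/-- commutator leaves for the perfectness certificate -/
def p24Leaves : List (List ℕ × List ℕ × List ℕ × List ℕ) := [
  ([10,23,6,4,19,18,20,3,0,1,12,16,21,8,17,2,5,13,9,11,14,15,7,22],
   [6,20,5,16,13,11,7,4,8,3,2,9,18,17,21,10,15,23,14,0,1,12,22,19],
   [8,9,15,7,3,16,2,22,13,18,0,19,10,17,20,21,11,14,5,4,6,12,23,1],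
   [19,20,10,9,7,2,0,6,8,11,15,5,21,4,18,16,3,13,12,23,1,14,22,17]),
  ([6,20,5,16,13,11,7,4,8,3,2,9,18,17,21,10,15,23,14,0,1,12,22,19],
   [10,23,6,4,19,18,20,3,0,1,12,16,21,8,17,2,5,13,9,11,14,15,7,22],
   [19,20,10,9,7,2,0,6,8,11,15,5,21,4,18,16,3,13,12,23,1,14,22,17],
   [8,9,15,7,3,16,2,22,13,18,0,19,10,17,20,21,11,14,5,4,6,12,23,1]),
  ([20,8,16,14,3,1,19,2,23,11,21,12,5,4,9,22,13,15,18,6,10,17,0,7],
   [16,12,10,14,2,20,22,3,0,8,17,5,19,18,15,6,4,21,1,13,11,7,9,23],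
   [22,5,7,4,13,12,19,23,1,14,20,9,11,16,3,17,2,21,18,6,0,10,15,8],
   [8,18,4,7,16,11,15,21,9,22,2,20,1,19,3,14,0,10,13,12,5,17,6,23]),
  ([16,12,10,14,2,20,22,3,0,8,17,5,19,18,15,6,4,21,1,13,11,7,9,23],
   [20,8,16,14,3,1,19,2,23,11,21,12,5,4,9,22,13,15,18,6,10,17,0,7],
   [8,18,4,7,16,11,15,21,9,22,2,20,1,19,3,14,0,10,13,12,5,17,6,23],
   [22,5,7,4,13,12,19,23,1,14,20,9,11,16,3,17,2,21,18,6,0,10,15,8]),
  ([22,20,17,18,0,7,12,10,2,5,15,4,21,23,1,6,3,16,8,14,19,11,9,13],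
   [21,11,8,15,13,14,0,4,16,19,9,10,7,3,6,1,12,17,22,5,2,18,23,20],
   [4,14,8,16,11,9,15,5,18,22,7,21,6,23,19,10,17,2,3,20,1,12,0,13],
   [6,15,20,13,7,19,14,12,2,10,11,1,16,4,5,3,8,17,21,9,23,0,18,22]),
  ([21,11,8,15,13,14,0,4,16,19,9,10,7,3,6,1,12,17,22,5,2,18,23,20],
   [22,20,17,18,0,7,12,10,2,5,15,4,21,23,1,6,3,16,8,14,19,11,9,13],
   [6,15,20,13,7,19,14,12,2,10,11,1,16,4,5,3,8,17,21,9,23,0,18,22],
   [4,14,8,16,11,9,15,5,18,22,7,21,6,23,19,10,17,2,3,20,1,12,0,13]),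
  ([19,12,23,16,0,7,2,5,4,8,1,21,10,11,14,20,13,9,3,17,15,18,22,6],
   [7,2,3,6,13,18,15,14,11,22,1,12,16,10,0,20,21,5,9,4,23,17,19,8],
   [4,10,6,18,8,7,23,5,9,17,12,13,1,16,14,20,3,19,21,0,15,11,22,2],
   [14,10,1,2,19,17,3,0,23,18,13,8,11,4,7,6,12,21,5,22,15,16,9,20]),
  ([7,2,3,6,13,18,15,14,11,22,1,12,16,10,0,20,21,5,9,4,23,17,19,8],
   [19,12,23,16,0,7,2,5,4,8,1,21,10,11,14,20,13,9,3,17,15,18,22,6],
   [14,10,1,2,19,17,3,0,23,18,13,8,11,4,7,6,12,21,5,22,15,16,9,20],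
   [4,10,6,18,8,7,23,5,9,17,12,13,1,16,14,20,3,19,21,0,15,11,22,2])]

/-- the straight-line program producing the transversal elements from the commutators -/
def p24Prog : List (ℕ × ℕ) := [
  (0,2),(3,1),(2,4),(5,3),(4,6),(7,5),(6,0),(1,7),(15,11),(12,16),(0,17),(18,1),(6,19),(20,7),
  (4,2),(3,5),(9,17),(18,10),(25,23),(24,26),(27,19),(20,28),(23,15),(16,24),(29,21),(22,30),(31,23),(24,32),
  (13,27),(28,14),(35,17),(18,36),(31,33),(34,32),(37,4),(5,38),(21,43),(44,22),(4,41),(42,5),(27,17),(18,28),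
  (43,49),(50,44),(51,41),(42,52),(33,45),(46,34),(39,53),(54,40),(47,55),(56,48),(49,47),(48,50),(57,47),(48,58),
  (63,53),(54,64),(63,47),(48,64),(59,67),(68,60),(47,51),(52,48),(61,69),(70,62),(33,51),(52,34),(59,61),(62,60),
  (71,61),(62,72),(77,73),(74,78),(81,75),(76,82),(33,79),(80,34),(33,65),(66,34),(87,83),(84,88),(75,83),(84,76),
  (71,17),(18,72),(77,83),(84,78),(65,91),(92,66),(97,97),(98,98),(99,97),(98,100),(85,65),(66,86),(103,97),(98,104),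
  (103,101),(102,104),(103,103),(104,104),(109,97),(109,101),(109,103),(97,105),(99,105),(106,100),(105,105),(106,106),(97,109),(99,109),
  (110,100),(65,93),(94,66),(106,122),(123,105),(124,124),(125,125),(126,124),(125,127),(126,126),(127,127),(130,124),(125,131),(130,126),
  (127,131),(130,128),(129,131),(130,130),(131,131),(138,124),(125,139),(138,126),(127,139),(17,89),(90,18),(116,144),(145,115),(146,124),
  (146,132),(146,136),(146,138),(126,146),(128,146),(130,146),(132,146),(147,133),(138,146),(147,139),(140,146),(151,146),(144,103),(104,145),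
  (155,97),(98,156),(128,99),(100,129),(130,99),(100,131),(132,99),(134,99),(100,135),(136,99),(100,137),(140,99),(100,141),(122,77),
  (78,123),(164,176),(177,163),(143,178),(179,142),(180,180),(181,181),(182,180),(181,183),(182,182),(183,183),(186,180),(181,187),(186,182),
  (183,187),(186,184),(185,187),(89,95),(96,90),(102,194),(195,101),(131,196),(197,130),(198,182),(198,184),(185,199),(198,186),(198,188),
  (189,199),(198,190),(191,199),(182,198),(199,183),(186,198),(188,198),(190,198),(208,182),(211,182),(211,184),(206,198),(199,207),(176,89),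
  (90,177),(118,218),(219,117),(125,220),(221,124),(193,222),(223,192),(224,224),(225,225),(226,224),(225,227),(226,226),(227,227),(230,224),
  (225,231),(230,226),(227,231),(218,144),(145,219),(166,236),(237,165),(147,238),(239,146),(199,240),(241,198),(242,224),(225,243),(242,226),
  (242,228),(229,243),(242,230),(242,232),(228,242),(230,242),(232,242),(242,242),(243,243),(251,226),(252,226),(253,226),(254,232),(233,255),
  (93,161),(162,94),(173,261),(262,172),(158,263),(264,157),(209,265),(266,208),(235,267),(268,234),(269,269),(270,270),(77,194),(195,78),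
  (171,273),(274,170),(147,275),(276,146),(217,277),(278,216),(245,279),(280,244),(281,281),(282,282),(89,161),(162,90),(108,285),(286,107),
  (129,287),(288,128),(205,289),(290,204),(260,291),(292,259),(281,269),(283,269),(270,284),(293,271),(272,294),(281,271),(283,271),(272,284),
  (271,293),(293,293),(283,293),(305,271),(300,293),(301,293),(294,302),(300,295),(89,236),(237,90),(121,311),(312,120),(156,313),(314,155),
  (191,315),(316,190),(297,317),(318,296),(319,281),(319,283),(281,319),(320,282),(283,319),(323,281),(282,324),(325,281),(323,283),(325,283),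
  (144,194),(175,331),(185,332),(248,333),(299,334),(327,335),(336,336),(285,89),(168,338),(135,339),(207,340),(243,341),(321,269),(326,269),
  (328,269),(273,311),(162,346),(125,347),(202,348),(225,349),(309,350),(351,319),(337,322),(337,326)]

/-- transversal at level 0, all elements products of commutators -/
def p24L0 : List (List ℕ) := [
  [0,1,2,3,4,5,6,7,8,9,10,11,12,13,14,15,16,17,18,19,20,21,22,23],
  [1,22,23,18,19,21,0,4,14,20,7,6,12,15,9,3,11,17,10,13,8,16,5,2],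
  [2,12,22,5,13,9,18,10,15,16,4,3,19,11,23,14,21,0,6,17,20,8,1,7],
  [3,1,2,0,22,5,7,6,8,12,11,10,9,21,23,15,19,17,18,16,20,13,4,14],
  [4,16,20,13,0,19,5,3,9,2,7,6,8,1,23,22,15,17,21,10,14,11,18,12],
  [5,21,23,7,15,11,22,13,20,14,19,1,12,18,8,10,0,17,4,3,9,6,16,2],
  [6,15,8,7,13,5,3,0,2,23,19,16,14,22,9,1,10,17,18,11,20,4,21,12],
  [7,15,8,6,21,5,0,3,2,14,16,19,23,4,12,1,11,17,18,10,20,22,13,9],
  [8,19,6,0,21,16,7,22,12,14,3,15,20,17,18,2,9,4,1,10,11,5,13,23],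
  [9,14,16,0,15,17,7,10,20,11,19,13,18,2,8,5,23,6,12,4,1,21,22,3],
  [10,7,2,21,11,1,19,18,12,8,0,13,9,22,20,16,5,17,15,6,23,4,3,14],
  [11,6,2,13,10,1,16,18,9,8,3,21,12,4,20,19,5,17,15,7,14,22,0,23],
  [12,9,22,0,17,10,7,21,14,23,8,2,11,4,1,6,20,13,19,15,3,16,5,18],
  [13,10,20,22,6,11,5,7,23,8,0,3,2,15,12,21,1,17,4,19,9,16,18,14],
  [14,20,21,0,4,15,7,17,23,18,12,6,3,13,19,22,11,5,9,2,8,10,16,1],
  [15,0,9,18,5,3,11,7,14,23,13,22,20,21,2,16,10,17,6,19,8,1,4,12],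
  [16,19,9,18,4,1,13,11,2,23,7,5,20,0,8,6,3,17,15,21,14,10,22,12],
  [17,22,19,3,8,18,0,5,16,11,2,14,9,7,13,6,1,12,20,23,10,4,15,21],
  [18,19,9,16,22,1,11,13,2,20,5,7,23,10,12,6,21,17,15,3,14,0,4,8],
  [19,0,8,4,16,15,11,18,14,2,6,22,23,21,20,10,5,17,1,3,12,13,7,9],
  [20,23,10,0,2,4,7,15,11,3,9,5,1,6,12,16,18,22,14,13,19,17,21,8],
  [21,11,20,4,7,10,5,6,14,8,3,0,2,15,9,13,1,17,22,16,12,19,18,23],
  [22,10,20,13,18,11,7,5,23,2,3,0,8,16,14,21,19,17,4,1,9,15,6,12],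
  [23,11,17,0,13,2,7,4,18,1,14,22,8,5,9,21,3,16,20,6,12,15,10,19]]

/-- transversal at level 1, all elements products of commutators -/
def p24L1 : List (List ℕ) := [
  [0,1,2,3,4,5,6,7,8,9,10,11,12,13,14,15,16,17,18,19,20,21,22,23],
  [0,2,22,21,12,8,20,6,19,14,4,23,18,16,1,9,15,5,3,13,17,7,11,10],
  [0,3,4,18,15,6,13,7,1,12,21,23,19,2,9,17,22,10,11,8,14,16,5,20],
  [0,4,6,2,7,20,23,16,3,5,9,11,15,21,14,13,17,1,12,19,22,18,10,8],
  [0,5,21,22,7,3,1,15,12,10,11,8,6,4,18,16,13,9,23,20,17,19,2,14],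
  [0,6,16,5,7,18,3,17,19,21,23,1,13,15,11,22,2,12,20,14,10,8,4,9],
  [0,7,9,4,6,13,18,16,17,12,2,14,15,20,19,5,11,10,21,3,22,1,8,23],
  [0,8,13,1,2,22,5,7,19,14,17,18,9,6,20,4,21,15,3,12,23,10,16,11],
  [0,9,22,12,5,10,21,7,14,11,2,8,23,16,18,6,15,13,19,20,3,4,17,1],
  [0,10,4,17,7,12,9,6,23,2,8,14,21,5,19,15,16,11,1,3,13,20,22,18],
  [0,11,17,23,10,2,4,7,18,8,22,14,1,15,19,21,6,16,20,3,12,5,13,9],
  [0,12,5,19,6,21,16,7,9,23,4,1,20,22,11,13,17,2,8,14,18,15,10,3],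
  [0,13,20,19,16,15,11,6,18,17,9,21,1,8,10,22,4,12,2,14,23,5,7,3],
  [0,14,16,9,22,17,10,7,20,18,13,19,11,21,3,5,4,6,12,23,1,2,15,8],
  [0,15,13,4,7,14,20,22,18,6,12,23,17,16,9,2,10,3,19,8,5,11,21,1],
  [0,16,17,21,7,8,19,2,14,15,3,12,22,13,1,10,5,20,18,11,4,9,6,23],
  [0,17,7,1,15,9,5,6,10,21,20,18,3,4,2,11,22,8,14,23,19,16,12,13],
  [0,18,15,11,17,13,2,7,3,19,16,20,8,4,12,10,5,21,23,1,9,22,6,14],
  [0,19,6,8,13,16,22,7,12,20,15,3,14,5,23,2,10,4,1,9,11,17,21,18],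
  [0,20,21,14,16,15,17,7,23,3,6,12,18,10,1,22,2,5,9,11,8,13,4,19],
  [0,21,12,3,9,20,16,6,2,18,7,10,13,22,14,5,11,4,23,19,1,15,8,17],
  [0,22,10,16,7,1,8,4,9,17,18,19,5,2,3,21,6,14,11,23,15,12,13,20],
  [0,23,10,20,21,4,15,7,11,1,5,9,3,17,8,16,13,22,14,18,19,6,2,12]]

/-- transversal at level 2, all elements products of commutators -/
def p24L2 : List (List ℕ) := [
  [0,1,2,3,4,5,6,7,8,9,10,11,12,13,14,15,16,17,18,19,20,21,22,23],
  [0,1,3,16,9,11,10,7,19,22,23,14,18,5,17,15,8,13,6,2,21,4,20,12],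
  [0,1,4,2,15,13,5,21,7,9,11,19,17,20,23,10,12,22,14,3,8,6,18,16],
  [0,1,5,8,11,9,4,6,22,23,17,7,19,18,12,2,10,20,13,21,14,16,15,3],
  [0,1,6,21,14,18,23,17,11,19,13,2,22,5,15,20,10,8,3,12,16,4,7,9],
  [0,1,7,8,12,19,21,16,5,11,22,14,6,2,18,23,4,20,9,15,17,13,3,10],
  [0,1,8,21,5,4,16,22,14,23,2,17,10,9,13,11,3,19,15,7,18,6,20,12],
  [0,1,9,3,4,5,6,15,23,2,13,22,14,10,12,7,16,20,19,18,17,21,11,8],
  [0,1,10,16,5,4,21,19,2,13,12,15,23,14,8,18,6,11,20,17,22,3,7,9],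
  [0,1,11,12,13,15,6,3,4,20,17,10,16,23,7,14,5,19,8,22,18,2,21,9],
  [0,1,12,6,4,5,3,17,10,14,23,18,9,8,2,20,21,15,22,11,7,16,19,13],
  [0,1,13,16,5,4,21,18,9,10,14,7,8,12,23,19,6,22,17,20,11,3,15,2],
  [0,1,14,6,4,5,3,20,13,12,8,19,2,23,9,17,21,7,11,22,15,16,18,10],
  [0,1,15,23,14,18,21,16,5,22,11,12,6,9,19,8,4,17,2,7,20,10,3,13],
  [0,1,16,6,13,15,12,19,17,7,9,8,20,4,11,18,2,14,21,10,3,5,22,23],
  [0,1,17,10,9,11,16,21,5,18,19,2,3,12,22,13,4,7,14,20,15,8,6,23],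
  [0,1,18,10,9,11,16,13,23,17,12,6,22,19,3,21,4,15,20,14,7,8,2,5],
  [0,1,19,4,11,9,8,20,17,12,3,13,23,22,5,14,16,2,15,7,6,10,21,18],
  [0,1,20,13,2,22,16,21,5,19,18,9,3,14,11,10,4,15,12,17,7,23,6,8],
  [0,1,21,5,3,20,8,4,11,2,6,22,16,17,14,23,9,15,18,13,7,12,10,19],
  [0,1,22,16,9,11,10,15,12,3,5,20,17,23,18,7,8,21,2,6,13,4,14,19],
  [0,1,23,21,5,4,16,11,12,8,9,20,13,2,10,22,3,18,7,15,19,6,17,14]]

/-- transversal at level 3, all elements products of commutators -/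
def p24L3 : List (List ℕ) := [
  [0,1,2,3,4,5,6,7,8,9,10,11,12,13,14,15,16,17,18,19,20,21,22,23],
  [0,1,2,4,20,12,15,14,23,17,8,21,6,5,10,13,16,3,19,22,9,18,11,7],
  [0,1,2,5,12,23,10,6,4,8,13,21,15,20,3,9,19,14,11,18,7,16,22,17],
  [0,1,2,6,5,22,23,15,17,21,12,7,13,4,3,16,18,11,8,10,14,20,19,9],
  [0,1,2,7,11,22,17,16,21,9,5,13,20,12,15,19,23,14,3,6,4,10,8,18],
  [0,1,2,8,5,18,16,22,20,19,21,15,10,17,11,6,14,12,9,4,7,13,3,23],
  [0,1,2,9,19,10,21,18,7,14,4,16,5,22,23,8,17,15,11,13,6,3,12,20],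
  [0,1,2,10,5,20,4,21,19,7,22,3,8,6,9,14,13,23,16,11,18,17,12,15],
  [0,1,2,11,19,17,8,10,3,12,14,18,13,7,15,9,6,4,20,22,16,5,23,21],
  [0,1,2,12,22,14,5,20,10,15,19,6,17,23,21,3,4,9,18,7,8,11,13,16],
  [0,1,2,13,6,14,21,5,7,20,15,3,12,16,19,9,17,11,4,8,23,22,18,10],
  [0,1,2,14,13,4,3,11,18,23,19,17,10,12,20,7,15,8,16,22,21,9,5,6],
  [0,1,2,15,12,11,7,13,3,18,6,14,5,20,4,16,19,21,23,8,10,9,22,17],
  [0,1,2,16,13,15,7,4,9,5,23,11,22,18,8,14,21,19,6,12,17,10,20,3],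
  [0,1,2,17,22,8,18,19,14,10,20,16,12,11,7,23,3,13,21,5,15,4,6,9],
  [0,1,2,18,8,6,9,23,13,4,12,19,11,22,17,3,21,16,14,20,7,15,5,10],
  [0,1,2,19,4,21,13,9,22,11,5,14,18,3,23,20,12,6,15,17,16,8,10,7],
  [0,1,2,20,12,13,14,17,16,6,22,8,19,10,21,11,7,18,15,5,9,23,4,3],
  [0,1,2,21,10,12,20,8,15,3,5,18,22,19,9,17,11,16,7,4,23,6,13,14],
  [0,1,2,22,15,12,23,7,9,13,14,4,18,8,20,11,3,17,5,6,10,21,16,19],
  [0,1,2,23,22,19,9,16,11,20,13,15,4,5,6,18,8,7,17,12,3,14,10,21]]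

/-- transversal at level 4, all elements products of commutators -/
def p24L4 : List (List ℕ) := [
  [0,1,2,3,4,5,6,7,8,9,10,11,12,13,14,15,16,17,18,19,20,21,22,23],
  [0,1,2,3,5,16,6,23,12,11,14,22,17,18,15,10,4,8,20,7,13,21,9,19],
  [0,1,2,3,6,21,5,11,12,23,9,17,22,8,13,10,4,18,19,7,15,16,14,20],
  [0,1,2,3,7,18,9,12,17,22,10,11,4,19,13,5,23,20,15,14,8,16,6,21],
  [0,1,2,3,8,18,22,19,10,11,16,9,15,14,21,7,4,13,23,12,5,17,6,20],
  [0,1,2,3,9,15,13,11,7,20,22,21,6,5,8,12,4,16,23,10,17,14,18,19],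
  [0,1,2,3,10,16,22,7,21,6,12,11,4,23,8,13,20,19,17,18,5,14,9,15],
  [0,1,2,3,11,21,14,6,10,17,22,23,9,16,13,12,7,18,15,4,19,8,5,20],
  [0,1,2,3,12,20,9,7,14,22,4,11,10,15,21,23,5,18,19,17,16,8,6,13],
  [0,1,2,3,13,14,9,20,7,11,18,6,21,16,17,12,4,5,19,10,8,15,22,23],
  [0,1,2,3,14,4,9,23,21,6,17,22,5,19,12,18,13,7,8,20,16,15,11,10],
  [0,1,2,3,15,5,11,19,21,6,8,9,16,7,17,20,18,23,12,13,4,10,22,14],
  [0,1,2,3,16,4,6,19,17,22,15,9,8,20,10,14,5,12,13,23,18,21,11,7],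
  [0,1,2,3,17,13,11,23,15,9,5,22,14,10,21,19,16,20,7,8,4,12,6,18],
  [0,1,2,3,18,4,22,20,15,9,21,6,13,23,7,16,8,10,5,19,14,17,11,12],
  [0,1,2,3,19,12,6,16,23,22,8,9,15,13,7,5,14,4,20,17,21,18,11,10],
  [0,1,2,3,20,10,22,18,19,9,13,6,21,5,12,8,16,4,23,15,17,14,11,7],
  [0,1,2,3,21,8,11,20,17,22,13,6,18,12,15,23,14,19,10,5,4,7,9,16],
  [0,1,2,3,22,17,8,11,10,19,6,15,9,13,5,7,4,14,20,12,21,18,16,23],
  [0,1,2,3,23,7,9,14,20,6,5,22,17,8,10,13,18,4,19,21,15,16,11,12]]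

/-- transversal at level 5, all elements products of commutators -/
def p24L5 : List (List ℕ) := [
  [0,1,2,3,4,5,6,7,8,9,10,11,12,13,14,15,16,17,18,19,20,21,22,23],
  [0,1,2,3,4,6,5,7,18,14,10,23,12,15,9,13,21,22,8,20,19,16,17,11],
  [0,1,2,3,4,8,22,12,13,6,7,11,10,5,16,21,18,15,14,20,23,17,9,19],
  [0,1,2,3,4,9,13,10,16,18,12,20,7,17,22,8,15,6,5,19,23,14,21,11],
  [0,1,2,3,4,11,20,10,8,21,12,13,7,5,6,16,19,22,17,15,14,23,18,9],
  [0,1,2,3,4,13,9,10,5,22,12,11,7,8,18,17,14,21,16,23,19,15,6,20],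
  [0,1,2,3,4,14,15,10,21,8,12,19,7,22,17,18,13,5,6,20,11,9,16,23],
  [0,1,2,3,4,15,14,10,6,17,12,23,7,18,8,22,9,16,21,11,20,13,5,19],
  [0,1,2,3,4,16,21,7,17,13,10,20,12,9,15,14,5,8,22,23,11,6,18,19],
  [0,1,2,3,4,17,18,12,9,21,7,20,10,16,5,6,22,14,15,11,19,8,13,23],
  [0,1,2,3,4,18,17,12,15,5,7,23,10,6,21,16,8,13,9,19,11,22,14,20],
  [0,1,2,3,4,19,23,10,22,5,12,14,7,21,16,6,11,8,18,9,13,20,17,15],
  [0,1,2,3,4,20,11,10,17,6,12,9,7,16,21,5,23,18,8,14,15,19,22,13],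
  [0,1,2,3,4,21,16,7,22,15,10,19,12,14,13,9,6,18,17,11,23,5,8,20],
  [0,1,2,3,4,22,8,12,14,16,7,19,10,21,6,5,17,9,13,23,20,18,15,11],
  [0,1,2,3,4,23,19,10,18,16,12,15,7,6,5,21,20,17,22,13,9,11,8,14]]

/-- transversal at level 6, all elements products of commutators -/
def p24L6 : List (List ℕ) := [
  [0,1,2,3,4,5,6,7,8,9,10,11,12,13,14,15,16,17,18,19,20,21,22,23],
  [0,1,2,3,4,5,16,10,13,19,12,8,7,11,23,20,21,14,9,18,22,6,15,17],
  [0,1,2,3,4,5,21,12,11,18,7,13,10,8,17,22,6,23,19,9,15,16,20,14]]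

theorem p24_leavesOK : leavesOK (certFix tblInCode []) p24Leaves = true := by decide +kernel

theorem p24_cover : checkCover (slpRun (leafTables p24Leaves) p24Prog)
    (p24L0 ++ p24L1 ++ p24L2 ++ p24L3 ++ p24L4 ++ p24L5 ++ p24L6) = true := by decide +kernel

theorem p24_inK : ∀ T ∈ p24L0 ++ p24L1 ++ p24L2 ++ p24L3 ++ p24L4 ++ p24L5 ++ p24L6,
    InK ⁅fixH M24 (ptsOf []), fixH M24 (ptsOf [])⁆ T :=
  tables_inK (certSound_fix certSound_M24 (fixed_lt_24 (by decide))) p24_leavesOK p24Prog _ p24_cover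

theorem p24OK0 : transOKH tblInCode [] p24L0 = true := by decide +kernel
theorem p24OK1 : transOKH tblInCode [0] p24L1 = true := by decide +kernel
theorem p24OK2 : transOKH tblInCode [1, 0] p24L2 = true := by decide +kernel
theorem p24OK3 : transOKH tblInCode [2, 1, 0] p24L3 = true := by decide +kernel
theorem p24OK4 : transOKH tblInCode [3, 2, 1, 0] p24L4 = true := by decide +kernel
theorem p24OK5 : transOKH tblInCode [4, 3, 2, 1, 0] p24L5 = true := by decide +kernel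
theorem p24OK6 : transOKH tblInCode [5, 4, 3, 2, 1, 0] p24L6 = true := by decide +kernel

/-- the group is perfect -/
theorem p24_perfect : fixH M24 (ptsOf []) ≤ ⁅fixH M24 (ptsOf []), fixH M24 (ptsOf [])⁆ := by
  have hb : fixH M24 (ptsOf (7 :: [5, 4, 3, 2, 1, 0])) ≤ ⁅fixH M24 (ptsOf []), fixH M24 (ptsOf [])⁆ := by
    have : fixH M24 (ptsOf (7 :: [5, 4, 3, 2, 1, 0])) = ⊥ := fixG_base_eq_bot
    rw [this]
    exact bot_le
  have h6 : fixH M24 (ptsOf (5 :: [4, 3, 2, 1, 0])) ≤ ⁅fixH M24 (ptsOf []), fixH M24 (ptsOf [])⁆ :=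
    fixH_le_of_trans certSound_M24 (fixed_lt_24 (by decide)) (by norm_num) p24OK6
      (fun T hT => p24_inK T (by simp [hT])) hb (fun g hg => by
        have h := apply_mem_of_orbit_eq orbit_eq6 hg
        have e : transImg 7 p24L6 = oct5 ^^^ (oct5 &&& 63) := by decide +kernel
        rw [e]; exact h)
  have h5 : fixH M24 (ptsOf (4 :: [3, 2, 1, 0])) ≤ ⁅fixH M24 (ptsOf []), fixH M24 (ptsOf [])⁆ :=
    fixH_le_of_trans certSound_M24 (fixed_lt_24 (by decide)) (by norm_num) p24OK5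
      (fun T hT => p24_inK T (by simp [hT])) h6 (fun g hg => by
        have h := apply_mem_of_orbit_eq orbit_eq5 hg
        have e : transImg 5 p24L5 = onesMask ^^^ oct5 := by decide +kernel
        rw [e]; exact h)
  have h4 : fixH M24 (ptsOf (3 :: [2, 1, 0])) ≤ ⁅fixH M24 (ptsOf []), fixH M24 (ptsOf [])⁆ :=
    fixH_le_of_trans certSound_M24 (fixed_lt_24 (by decide)) (by norm_num) p24OK4
      (fun T hT => p24_inK T (by simp [hT])) h5 (fun g hg => by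
        have h := apply_mem_of_orbit_eq orbit_eq4 hg
        have e : transImg 4 p24L4 = onesMask ^^^ tblMask [3, 2, 1, 0] := by decide +kernel
        rw [e]; exact h)
  have h3 : fixH M24 (ptsOf (2 :: [1, 0])) ≤ ⁅fixH M24 (ptsOf []), fixH M24 (ptsOf [])⁆ :=
    fixH_le_of_trans certSound_M24 (fixed_lt_24 (by decide)) (by norm_num) p24OK3
      (fun T hT => p24_inK T (by simp [hT])) h4 (fun g hg => by
        have h := apply_mem_of_orbit_eq orbit_eq3 hg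
        have e : transImg 3 p24L3 = onesMask ^^^ tblMask [2, 1, 0] := by decide +kernel
        rw [e]; exact h)
  have h2 : fixH M24 (ptsOf (1 :: [0])) ≤ ⁅fixH M24 (ptsOf []), fixH M24 (ptsOf [])⁆ :=
    fixH_le_of_trans certSound_M24 (fixed_lt_24 (by decide)) (by norm_num) p24OK2
      (fun T hT => p24_inK T (by simp [hT])) h3 (fun g hg => by
        have h := apply_mem_of_orbit_eq orbit_eq2 hg
        have e : transImg 2 p24L2 = onesMask ^^^ tblMask [1, 0] := by decide +kernel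
        rw [e]; exact h)
  have h1 : fixH M24 (ptsOf (0 :: [])) ≤ ⁅fixH M24 (ptsOf []), fixH M24 (ptsOf [])⁆ :=
    fixH_le_of_trans certSound_M24 (fixed_lt_24 (by decide)) (by norm_num) p24OK1
      (fun T hT => p24_inK T (by simp [hT])) h2 (fun g hg => by
        have h := apply_mem_of_orbit_eq orbit_eq1 hg
        have e : transImg 1 p24L1 = onesMask ^^^ tblMask [0] := by decide +kernel
        rw [e]; exact h)
  have h0 : fixH M24 (ptsOf []) ≤ ⁅fixH M24 (ptsOf []), fixH M24 (ptsOf [])⁆ :=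
    fixH_le_of_trans certSound_M24 (fixed_lt_24 (by decide)) (by norm_num) p24OK0
      (fun T hT => p24_inK T (by simp [hT])) h1 (fun g hg => by
        have h := apply_mem_of_orbit_eq orbit_eq0 hg
        have e : transImg 0 p24L0 = onesMask ^^^ tblMask [] := by decide +kernel
        rw [e]; exact h)
  exact h0

theorem p24_x_mem : tblPerm x23T x23_valid ∈ fixH M24 (ptsOf []) :=
  certSound_fix certSound_M24 (fixed_lt_24 (by decide)) x23T x23_valid (by decide +kernel)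

/-- the order of a non-trivial normal subgroup is divisible by 23 -/
theorem p24_normal_dvd : ∀ N, NormalIn N (fixH M24 (ptsOf [])) → N ≠ ⊥ → 23 ∣ Nat.card N := by
  intro N hN hne
  have hfix : ∀ f ∈ ([] : List ℕ), f < 24 := fixed_lt_24 (by decide)
  have hinv := orbit_invariant orbit_eq0
  have h2 := two_trans_of_orbits (H := M24) (fixed := []) (a := 0) (b := 1)
    (D := maskSet (onesMask ^^^ tblMask []))
    (fun q hq => mem_orbit_of_eq orbit_eq0 hq)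
    (fun q hq hne' => mem_orbit_of_eq orbit_eq1 (mask_step (by decide +kernel) hq hne'))
    hinv
  have ha : pt 0 ∈ maskSet (onesMask ^^^ tblMask []) := by
    rw [mem_maskSet, idx_pt (by norm_num)]; decide +kernel
  refine normal_card_dvd_typeB 23 hN hne h2 hinv (faithful_compl hfix) ha (by rw [card_maskSet]; decide +kernel)
    (tblPerm x23T x23_valid) p24_x_mem ?_ ?_ ?_
  · rw [tblPerm_pt _ _ (by norm_num)]; rfl
  · intro u hu v hv hua hva
    exact pow_transitive_of_orbit x23_valid (by norm_num) (tblPerm_pow_eq_one x23_valid (by decide +kernel))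
      (by decide +kernel : orbitOK x23T 23 1 16777214 = true)
      (mask_step (m' := 16777214) (by decide +kernel) hu hua) (mask_step (m' := 16777214) (by decide +kernel) hv hva)
  · intro N' hN' hne'
    rw [fixH_fixH_pt] at hN'
    exact p23_normal_dvd N' hN' hne'

theorem p24_simple : IsSimpleGroup (fixH M24 (ptsOf [])) :=
  haveI := fact_prime_23
  simple_of_normal_dvd 23 (fixH M24 (ptsOf [])) p24_perfect (tblPerm x23T x23_valid) p24_x_mem x23_order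
    (by rw [card_fix24_0]; norm_num) (by norm_num) p24_normal_dvd (pt 1) (x23_semireg (fixH_le _ _))

end Cfsg.Agent.Helper27
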