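import Mathlib

/-!
# General lemmas for S1010 (no group has exactly 21 Sylow 5-subgroups)

* counting Sylow subgroups in subgroups / quotients,
* a congruence for `P`-stable sets of Sylow subgroups,
* two evaluations of the transfer homomorphism,
* even involutions move a multiple of four points.
-/

set_option autoImplicit false
open Subgroup MulAction MonoidHom

namespace Cfsg.Agent.Helper27.Syl21

section A


variable {G : Type*} [Group G]

/-- If a subgroup contains every Sylow `p`-subgroup, it has the same number of them. -/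
theorem card_sylow_subgroup_of_forall_le {p : ℕ} (M : Subgroup G)
    (h : ∀ P : Sylow p G, (P : Subgroup G) ≤ M) :
    Nat.card (Sylow p M) = Nat.card (Sylow p G) := by
  symm
  refine Nat.card_congr (Equiv.ofBijective (fun P => P.subtype (h P)) ⟨?_, ?_⟩)
  · intro P Q hPQ
    exact Sylow.subtype_injective hPQ
  · intro Q
    obtain ⟨P, hP⟩ := Q.exists_comap_subtype_eq
    refine ⟨P, Sylow.ext ?_⟩
    rw [Sylow.coe_subtype]
    exact hP

/-- A normal subgroup normalizing every Sylow `p`-subgroup does not change their number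
in the quotient. -/
theorem card_sylow_quotient_of_le_normalizer [Finite G] {p : ℕ} [Fact p.Prime] (K : Subgroup G) [K.Normal]
    (h : ∀ P : Sylow p G, K ≤ normalizer (P : Set G)) :
    Nat.card (Sylow p (G ⧸ K)) = Nat.card (Sylow p G) := by
  symm
  refine Nat.card_congr (Equiv.ofBijective
    (Sylow.mapSurjective (QuotientGroup.mk'_surjective K)) ⟨?_, ?_⟩)
  · intro P Q hPQ
    have h1 : (P : Subgroup G).map (QuotientGroup.mk' K) = (Q : Subgroup G).map (QuotientGroup.mk' K) := by
      have := congrArg (fun S : Sylow p (G ⧸ K) => (S : Subgroup (G ⧸ K))) hPQ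
      simpa using this
    have h2 : (P : Subgroup G) ⊔ K = (Q : Subgroup G) ⊔ K := by
      have := congrArg (Subgroup.comap (QuotientGroup.mk' K)) h1
      simpa [Subgroup.comap_map_eq] using this
    have h3 : (Q : Subgroup G) ≤ normalizer (P : Set G) := by
      calc (Q : Subgroup G) ≤ (Q : Subgroup G) ⊔ K := le_sup_left
        _ = (P : Subgroup G) ⊔ K := h2.symm
        _ ≤ normalizer (P : Set G) := sup_le le_normalizer (h P)
    have h4 : (Q : Subgroup G) ≤ P := by
      have := Q.2.inf_normalizer_sylow P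
      rw [inf_eq_left.mpr h3] at this
      exact inf_eq_left.mp this.symm
    exact Sylow.ext (Q.3 P.2 h4)
  · exact Sylow.mapSurjective_surjective _ p


end A

section B


variable {G : Type*} [Group G]

/-- A subset of the set of Sylow `p`-subgroups that contains `P` and is stable under `P`
has cardinality `≡ 1` modulo `p`. -/
theorem card_invariant_set_modEq_one [Finite G] {p : ℕ} [Fact p.Prime] (P : Sylow p G)
    (X : Set (Sylow p G)) (hPX : P ∈ X)
    (hX : ∀ g ∈ (P : Subgroup G), ∀ ω ∈ X, g • ω ∈ X) :
    Nat.card X ≡ 1 [MOD p] := by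
  let S : SubMulAction (P : Subgroup G) (Sylow p G) :=
    { carrier := X
      smul_mem' := fun g ω hω => hX g.1 g.2 ω hω }
  have h1 : Nat.card S ≡ Nat.card (fixedPoints (P : Subgroup G) S) [MOD p] :=
    P.2.card_modEq_card_fixedPoints S
  have h2 : Nat.card (fixedPoints (P : Subgroup G) S) = 1 := by
    rw [Nat.card_eq_one_iff_unique]
    refine ⟨⟨?_⟩, ⟨⟨⟨P, hPX⟩, ?_⟩⟩⟩
    · rintro ⟨⟨a, ha⟩, ha'⟩ ⟨⟨b, hb⟩, hb'⟩
      have key : ∀ (c : Sylow p G) (hc : c ∈ X),
          (⟨c, hc⟩ : S) ∈ fixedPoints (P : Subgroup G) S → c = P := by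
        intro c hc hfix
        have : c ∈ fixedPoints (P : Subgroup G) (Sylow p G) := by
          intro g
          have := hfix g
          exact congrArg Subtype.val this
        have hle := (P.2.sylow_mem_fixedPoints_iff).mp this
        exact (Sylow.ext (P.3 c.2 hle))
      have e1 := key a ha ha'
      have e2 := key b hb hb'
      subst e1
      subst e2
      rfl
    · intro g
      apply Subtype.ext
      show (g : G) • P = P
      exact Sylow.smul_eq_iff_mem_normalizer.mpr (le_normalizer g.2)
  rw [h2] at h1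
  exact h1


end B

section C


variable {G : Type*} [Group G] {A : Type*} [CommGroup A]

/-- Transfer of an involution all of whose conjugates in `H` have the same image `ι`. -/
theorem transfer_involution (H : Subgroup G) [H.FiniteIndex] (ϕ : H →* A) (s : G)
    (hs : s ^ 2 = 1) (ι : A) (hι : ι ^ 2 = 1)
    (hall : ∀ (k : G) (hk : k⁻¹ * s * k ∈ H), ϕ ⟨k⁻¹ * s * k, hk⟩ = ι) :
    transfer ϕ s = ι ^ H.index := by
  classical
  let _ : Fintype (Quotient (orbitRel (zpowers s) (G ⧸ H))) := Fintype.ofFinite _
  rw [transfer_eq_prod_quotient_orbitRel_zpowers_quot, index_eq_sum_minimalPeriod H s,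
    ← Finset.prod_pow_eq_pow_sum]
  refine Finset.prod_congr rfl (fun q _ => ?_)
  have hper : Function.minimalPeriod (s • ·) q.out ∣ 2 := by
    apply Function.IsPeriodicPt.minimalPeriod_dvd
    show (s • ·)^[2] q.out = q.out
    rw [smul_iterate, hs]; simp
  have h12 : Function.minimalPeriod (s • ·) q.out = 1 ∨ Function.minimalPeriod (s • ·) q.out = 2 := by
    have := Nat.le_of_dvd (by norm_num) hper
    have h0 : Function.minimalPeriod (s • ·) q.out ≠ 0 := by
      intro h0; rw [h0] at hper; simp at hper
    interval_cases h : Function.minimalPeriod (s • ·) q.out <;> simp_all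
  have hmem := QuotientGroup.out_conj_pow_minimalPeriod_mem H s q.out
  rcases h12 with h1 | h2
  · have e : q.out.out⁻¹ * s ^ Function.minimalPeriod (s • ·) q.out * q.out.out
        = q.out.out⁻¹ * s * q.out.out := by rw [h1, pow_one]
    have hk : q.out.out⁻¹ * s * q.out.out ∈ H := e ▸ hmem
    have : (⟨_, hmem⟩ : H) = ⟨_, hk⟩ := Subtype.ext e
    rw [this, hall _ hk, h1, pow_one]
  · have e : q.out.out⁻¹ * s ^ Function.minimalPeriod (s • ·) q.out * q.out.out = 1 := by
      rw [h2, hs]; group
    have : (⟨_, hmem⟩ : H) = 1 := Subtype.ext e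
    rw [this, map_one, h2, hι]

/-- Transfer of an element of `H` whose nontrivial powers fix only the trivial coset. -/
theorem transfer_of_unique_fixed (H : Subgroup G) [H.FiniteIndex] (ϕ : H →* A) (g : G)
    (hg : g ∈ H)
    (hfix : ∀ (n : ℕ) (k : G), k⁻¹ * g ^ n * k ∈ H → g ^ n = 1 ∨ k ∈ H) :
    transfer ϕ g = ϕ ⟨g, hg⟩ := by
  classical
  let _ : Fintype (Quotient (orbitRel (zpowers g) (G ⧸ H))) := Fintype.ofFinite _
  rw [transfer_eq_prod_quotient_orbitRel_zpowers_quot]
  let q₀ : Quotient (orbitRel (zpowers g) (G ⧸ H)) := ⟦((1 : G) : G ⧸ H)⟧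
  have hq₀ : q₀.out = ((1 : G) : G ⧸ H) := by
    have h1 : orbitRel (zpowers g) (G ⧸ H) q₀.out ((1 : G) : G ⧸ H) := Quotient.mk_out (s := orbitRel (zpowers g) (G ⧸ H)) _
    rw [orbitRel_apply] at h1
    obtain ⟨⟨z, hz⟩, hz'⟩ := h1
    rw [← hz']
    show ((z * 1 : G) : G ⧸ H) = _
    rw [mul_one]
    rw [QuotientGroup.eq]
    simp only [mul_one, inv_mem_iff]
    exact (zpowers_le.mpr hg) hz
  rw [Finset.prod_eq_single q₀]
  · have hmem := QuotientGroup.out_conj_pow_minimalPeriod_mem H g q₀.out
    have hk : q₀.out.out ∈ H := by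
      have : ((q₀.out.out : G) : G ⧸ H) = ((1 : G) : G ⧸ H) := by
        rw [QuotientGroup.out_eq', hq₀]
      rw [QuotientGroup.eq] at this
      simpa using this
    have hp : Function.minimalPeriod (g • ·) q₀.out = 1 := by
      rw [Function.minimalPeriod_eq_one_iff_isFixedPt, hq₀]
      show ((g * 1 : G) : G ⧸ H) = _
      rw [mul_one, QuotientGroup.eq]
      simpa using hg
    have e : q₀.out.out⁻¹ * g ^ Function.minimalPeriod (g • ·) q₀.out * q₀.out.out
        = q₀.out.out⁻¹ * g * q₀.out.out := by rw [hp, pow_one]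
    have : (⟨_, hmem⟩ : H) = (⟨_, hk⟩ : H)⁻¹ * ⟨g, hg⟩ * ⟨_, hk⟩ := Subtype.ext e
    rw [this, map_mul, map_mul, map_inv, mul_comm, mul_inv_cancel_left]
  · intro q _ hq
    have hmem := QuotientGroup.out_conj_pow_minimalPeriod_mem H g q.out
    rcases hfix _ _ hmem with h1 | h2
    · have e : q.out.out⁻¹ * g ^ Function.minimalPeriod (g • ·) q.out * q.out.out = 1 := by
        rw [h1]; group
      have : (⟨_, hmem⟩ : H) = 1 := Subtype.ext e
      rw [this, map_one]
    · exfalso
      apply hq
      have h3 : q.out = ((1 : G) : G ⧸ H) := by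
        rw [← QuotientGroup.out_eq' q.out, QuotientGroup.eq]
        simpa using h2
      calc q = ⟦q.out⟧ := (Quotient.out_eq q).symm
        _ = q₀ := by rw [h3]
  · intro h; exact absurd (Finset.mem_univ _) h


end C

section D


/-- An even involution moves a multiple of four points. -/
theorem card_support_of_sq_eq_one {Ω : Type*} [Fintype Ω] [DecidableEq Ω] (π : Equiv.Perm Ω)
    (h2 : π ^ 2 = 1) (hs : Equiv.Perm.sign π = 1) : 4 ∣ π.support.card := by
  by_cases h1 : π = 1
  · subst h1; simp
  · have ho : orderOf π = 2 := orderOf_eq_prime h2 h1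
    have hp : (orderOf π).Prime := ho ▸ Nat.prime_two
    obtain ⟨n, hn⟩ := Equiv.Perm.cycleType_prime_order hp
    rw [ho] at hn
    have hsum : π.support.card = 2 * (n + 1) := by
      rw [← Equiv.Perm.sum_cycleType, hn]; simp; ring
    rw [Equiv.Perm.sign_of_cycleType, hn] at hs
    simp only [Multiset.sum_replicate, Multiset.card_replicate, smul_eq_mul] at hs
    have heven : Even (n + 1) := by
      have h3 : (n + 1) * 2 + (n + 1) = 2 * (n + 1) + (n + 1) := by ring
      rw [h3, pow_add, pow_mul] at hs
      simp only [even_two, Even.neg_pow, one_pow, one_mul] at hs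
      by_contra hodd
      rw [Nat.not_even_iff_odd] at hodd
      rw [hodd.neg_one_pow] at hs
      exact absurd hs (by decide)
    obtain ⟨m, hm⟩ := heven
    rw [hsum, hm]
    exact ⟨m, by ring⟩


end D

end Cfsg.Agent.Helper27.Syl21
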