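import Cfsg.Agent.Helper27.Syl21Basic

/-!
# S1010: a minimal counterexample to "no group has exactly 21 Sylow 5-subgroups"

Part 1: the conjugation action on the 21 Sylow subgroups is faithful, homomorphisms to
abelian `5'`-groups are trivial, and Sylow 5-subgroups have order 5.
-/

set_option autoImplicit false
open Subgroup MulAction MonoidHom

namespace Cfsg.Agent.Helper27.Syl21

universe u v

instance fact5 : Fact (Nat.Prime 5) := ⟨by norm_num⟩

variable {G : Type u} [Group G] [Finite G]

/-- The induction hypothesis: no smaller group (in the same universe) has 21 Sylow 5-subgroups. -/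
def MinCE (G : Type u) [Group G] [Finite G] : Prop :=
  Nat.card (Sylow 5 G) = 21 ∧
  ∀ (H : Type u) [Group H] [Finite H], Nat.card H < Nat.card G → Nat.card (Sylow 5 H) ≠ 21


theorem faithful (hG : MinCE G) (g : G) (hg : ∀ Q : Sylow 5 G, g • Q = Q) : g = 1 := by
  let K : Subgroup G := (MulAction.toPermHom G (Sylow 5 G)).ker
  have hK : ∀ P : Sylow 5 G, K ≤ normalizer (P : Set G) := by
    intro P k hk
    rw [← Sylow.smul_eq_iff_mem_normalizer]
    have : MulAction.toPermHom G (Sylow 5 G) k = 1 := hk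
    have := congrArg (fun f : Equiv.Perm (Sylow 5 G) => f P) this
    simpa using this
  have hcard := card_sylow_quotient_of_le_normalizer K hK
  rw [hG.1] at hcard
  have hgK : g ∈ K := by
    show MulAction.toPermHom G (Sylow 5 G) g = 1
    apply Equiv.ext
    intro Q
    exact hg Q
  by_contra hne
  have hlt : Nat.card (G ⧸ K) < Nat.card G := by
    have h1 := Subgroup.card_mul_index K
    rw [Subgroup.index_eq_card] at h1
    have hK1 : 1 < Nat.card K := by
      rw [Finite.one_lt_card_iff_nontrivial]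
      exact ⟨⟨⟨g, hgK⟩, 1, fun h => hne (congrArg Subtype.val h)⟩⟩
    have hpos : 0 < Nat.card (G ⧸ K) := Nat.card_pos
    nlinarith
  exact hG.2 (G ⧸ K) hlt hcard

theorem hom_trivial (hG : MinCE G) {A : Type v} [CommGroup A] [Finite A]
    (hA : (Nat.card A).Coprime 5) (ψ : G →* A) (g : G) : ψ g = 1 := by
  have hle : ∀ P : Sylow 5 G, (P : Subgroup G) ≤ ψ.ker := by
    intro P x hx
    rw [MonoidHom.mem_ker]
    obtain ⟨k, hk⟩ := (P.2 ⟨x, hx⟩)
    have hk' : x ^ 5 ^ k = 1 := by simpa using congrArg Subtype.val hk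
    have h1 : orderOf (ψ x) ∣ 5 ^ k := by
      apply orderOf_dvd_of_pow_eq_one
      rw [← map_pow, hk', map_one]
    have h2 : orderOf (ψ x) ∣ Nat.card A := orderOf_dvd_natCard _
    have h3 : orderOf (ψ x) = 1 := by
      have h4 : (Nat.card A).Coprime (5 ^ k) := Nat.Coprime.pow_right k hA
      exact Nat.eq_one_of_dvd_coprimes h4 h2 h1
    exact orderOf_eq_one_iff.mp h3
  have hcard := card_sylow_subgroup_of_forall_le ψ.ker hle
  rw [hG.1] at hcard
  by_contra hne
  have hlt : Nat.card ψ.ker < Nat.card G := by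
    have hne' : ψ.ker ≠ ⊤ := by
      intro htop
      apply hne
      have : g ∈ ψ.ker := htop ▸ Subgroup.mem_top g
      exact this
    have h1 := Subgroup.card_mul_index ψ.ker
    have h2 : ψ.ker.index ≠ 1 := fun h => hne' (Subgroup.index_eq_one.mp h)
    have h3 : ψ.ker.index ≠ 0 := Subgroup.index_ne_zero_of_finite
    have h4 : 0 < Nat.card ψ.ker := Nat.card_pos
    have h5 : 2 ≤ ψ.ker.index := by omega
    nlinarith
  exact hG.2 ψ.ker hlt hcard


/-- With 21 Sylow 5-subgroups, two distinct ones meet in a subgroup of index 5. -/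
theorem card_eq_five_mul_card_inf (h21 : Nat.card (Sylow 5 G) = 21) (P Q : Sylow 5 G)
    (hPQ : P ≠ Q) :
    Nat.card (P : Subgroup G) = 5 * Nat.card ((P : Subgroup G) ⊓ Q : Subgroup G) := by
  -- the stabilizer of `Q` in `P`
  have hstab : stabilizer (P : Subgroup G) Q = ((P : Subgroup G) ⊓ Q).subgroupOf P := by
    ext ⟨x, hx⟩
    rw [mem_stabilizer_iff, mem_subgroupOf]
    show x • Q = Q ↔ x ∈ (P : Subgroup G) ⊓ Q
    rw [Sylow.smul_eq_iff_mem_normalizer, ← P.2.inf_normalizer_sylow Q, mem_inf]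
    exact ⟨fun h => ⟨hx, h⟩, fun h => h.2⟩
  have h1 : Nat.card (orbit (P : Subgroup G) Q) * Nat.card (stabilizer (P : Subgroup G) Q)
      = Nat.card (P : Subgroup G) := by
    rw [← Nat.card_prod]
    exact (Nat.card_congr (orbitProdStabilizerEquivGroup (P : Subgroup G) Q))
  have h2 : Nat.card (stabilizer (P : Subgroup G) Q) = Nat.card ((P : Subgroup G) ⊓ Q : Subgroup G) := by
    rw [hstab]
    exact Nat.card_congr (Subgroup.subgroupOfEquivOfLe inf_le_left).toEquiv
  rw [h2] at h1
  -- the orbit has size a power of 5, at most 21, not 1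
  obtain ⟨k, hk⟩ := P.2.exists_card_eq
  have hdvd : Nat.card (orbit (P : Subgroup G) Q) ∣ 5 ^ k := by
    rw [← hk]; exact Dvd.intro _ h1
  obtain ⟨j, hj, hj'⟩ := (Nat.dvd_prime_pow (by norm_num : Nat.Prime 5)).mp hdvd
  have hle : Nat.card (orbit (P : Subgroup G) Q) ≤ 21 := by
    rw [← h21]
    exact Nat.card_le_card_of_injective _ Subtype.val_injective
  have hne1 : Nat.card (orbit (P : Subgroup G) Q) ≠ 1 := by
    intro h
    rw [h, one_mul] at h1
    have hle' : (P : Subgroup G) ≤ (P : Subgroup G) ⊓ Q := by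
      have := Subgroup.eq_of_le_of_card_ge (inf_le_left : (P : Subgroup G) ⊓ Q ≤ P) (le_of_eq h1.symm)
      rw [this]
    have hPQ' : (P : Subgroup G) ≤ Q := hle'.trans inf_le_right
    exact hPQ (Sylow.ext (P.3 Q.2 hPQ')).symm
  have hj1 : j = 1 := by
    rw [hj'] at hle hne1
    rcases j with _ | _ | j
    · simp at hne1
    · rfl
    · exfalso
      have : 5 ^ 2 ≤ 5 ^ (j + 1 + 1) := Nat.pow_le_pow_right (by norm_num) (by omega)
      omega
  rw [hj', hj1, pow_one] at h1
  exact h1.symm


/-- The Sylow subgroups containing a given 5-subgroup: their number is `≡ 21` mod 5. -/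
theorem card_line_modEq (h21 : Nat.card (Sylow 5 G) = 21) (D : Subgroup G) (hD : IsPGroup 5 D) :
    Nat.card {Q : Sylow 5 G | D ≤ Q} ≡ 21 [MOD 5] := by
  have h1 := hD.card_modEq_card_fixedPoints (Sylow 5 G)
  rw [h21] at h1
  have h2 : fixedPoints D (Sylow 5 G) = {Q : Sylow 5 G | D ≤ Q} := by
    ext Q
    exact hD.sylow_mem_fixedPoints_iff
  rw [h2] at h1
  exact h1.symm

open Classical in
/-- the line through a 5-subgroup, as a finset -/
noncomputable def line (D : Subgroup G) : Finset (Sylow 5 G) :=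
  letI : Fintype (Sylow 5 G) := Fintype.ofFinite _
  Finset.univ.filter (fun Q => D ≤ (Q : Subgroup G))

theorem mem_line (D : Subgroup G) (Q : Sylow 5 G) : Q ∈ line D ↔ D ≤ (Q : Subgroup G) := by
  classical
  unfold line
  simp

theorem card_line (h21 : Nat.card (Sylow 5 G) = 21) (D : Subgroup G) (hD : IsPGroup 5 D) :
    (line D).card % 5 = 1 := by
  classical
  have h1 := card_line_modEq h21 D hD
  have h2 : Nat.card {Q : Sylow 5 G | D ≤ Q} = (line D).card := by
    exact Nat.subtype_card (line D) (fun Q => mem_line D Q)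
  rw [h2] at h1
  exact h1


theorem six_le_card_line (h21 : Nat.card (Sylow 5 G) = 21) (S T : Sylow 5 G) (hST : S ≠ T) :
    6 ≤ (line ((S : Subgroup G) ⊓ T)).card := by
  classical
  have h1 := card_line h21 ((S : Subgroup G) ⊓ T) (S.2.to_le inf_le_left)
  have h2 : 2 ≤ (line ((S : Subgroup G) ⊓ T)).card := by
    have : ({S, T} : Finset (Sylow 5 G)) ⊆ line ((S : Subgroup G) ⊓ T) := by
      intro x hx
      rw [Finset.mem_insert, Finset.mem_singleton] at hx
      rw [mem_line]
      rcases hx with rfl | rfl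
      · exact inf_le_left
      · exact inf_le_right
    have h3 := Finset.card_le_card this
    rwa [Finset.card_pair hST] at h3
  omega

theorem card_sylow_eq (S T : Sylow 5 G) : Nat.card (S : Subgroup G) = Nat.card (T : Subgroup G) := by
  rw [Sylow.card_eq_multiplicity, Sylow.card_eq_multiplicity]

/-- an intersection of two distinct Sylow subgroups contained in another one is equal to it -/
theorem inf_eq_of_le (h21 : Nat.card (Sylow 5 G) = 21) (S T S' T' : Sylow 5 G) (hST : S ≠ T)
    (hST' : S' ≠ T') (hle : (S : Subgroup G) ⊓ T ≤ (S' : Subgroup G) ⊓ T') :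
    (S : Subgroup G) ⊓ T = (S' : Subgroup G) ⊓ T' := by
  have h1 := card_eq_five_mul_card_inf h21 S T hST
  have h2 := card_eq_five_mul_card_inf h21 S' T' hST'
  rw [card_sylow_eq S S'] at h1
  have h3 : Nat.card ((S' : Subgroup G) ⊓ T' : Subgroup G) ≤ Nat.card ((S : Subgroup G) ⊓ T : Subgroup G) := by
    omega
  exact Subgroup.eq_of_le_of_card_ge hle h3

theorem inf_le_of_ne (h21 : Nat.card (Sylow 5 G) = 21) (P Q : Sylow 5 G) (hPQ : P ≠ Q)
    (R₀ : Sylow 5 G) : (P : Subgroup G) ⊓ Q ≤ R₀ := by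
  classical
  by_contra hR
  set D : Subgroup G := (P : Subgroup G) ⊓ Q with hDdef
  have hne : ∀ S ∈ line D, S ≠ R₀ := by
    intro S hS h
    rw [mem_line] at hS
    exact hR (h ▸ hS)
  let m : Sylow 5 G → Finset (Sylow 5 G) := fun S => (line ((R₀ : Subgroup G) ⊓ S)).erase R₀
  have hm : ∀ S ∈ line D, 5 ≤ (m S).card := by
    intro S hS
    have h1 := six_le_card_line h21 R₀ S (hne S hS).symm
    have h2 : R₀ ∈ line ((R₀ : Subgroup G) ⊓ S) := by rw [mem_line]; exact inf_le_left
    show 5 ≤ ((line ((R₀ : Subgroup G) ⊓ S)).erase R₀).card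
    rw [Finset.card_erase_of_mem h2]
    omega
  have hdisj : ((line D : Finset (Sylow 5 G)) : Set (Sylow 5 G)).PairwiseDisjoint m := by
    intro S hS S' hS' hSS'
    rw [Function.onFun, Finset.disjoint_left]
    intro T hT hT'
    have hS1 : S ∈ line D := hS
    have hS1' : S' ∈ line D := hS'
    simp only [m, Finset.mem_erase, mem_line] at hT hT'
    obtain ⟨hTR, hT1⟩ := hT
    obtain ⟨_, hT2⟩ := hT'
    -- R₀ ⊓ S = R₀ ⊓ T = R₀ ⊓ S'
    have e1 : (R₀ : Subgroup G) ⊓ S = (R₀ : Subgroup G) ⊓ T :=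
      inf_eq_of_le h21 R₀ S R₀ T (hne S hS1).symm (Ne.symm hTR) (le_inf inf_le_left hT1)
    have e2 : (R₀ : Subgroup G) ⊓ S' = (R₀ : Subgroup G) ⊓ T :=
      inf_eq_of_le h21 R₀ S' R₀ T (hne S' hS1').symm (Ne.symm hTR) (le_inf inf_le_left hT2)
    have e3 : (R₀ : Subgroup G) ⊓ S = (S : Subgroup G) ⊓ S' :=
      inf_eq_of_le h21 R₀ S S S' (hne S hS1).symm hSS'
        (le_inf inf_le_right (by rw [e1, ← e2]; exact inf_le_right))
    have e4 : D = (S : Subgroup G) ⊓ S' := by
      rw [mem_line] at hS1 hS1'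
      exact inf_eq_of_le h21 P Q S S' hPQ hSS' (le_inf hS1 hS1')
    apply hR
    rw [e4, ← e3]
    exact inf_le_left
  have hcard : ((line D).biUnion m).card = ∑ S ∈ line D, (m S).card :=
    Finset.card_biUnion hdisj
  have h6 : 6 ≤ (line D).card := six_le_card_line h21 P Q hPQ
  have hsum : 30 ≤ ∑ S ∈ line D, (m S).card := by
    calc 30 ≤ (line D).card * 5 := by omega
      _ = ∑ _S ∈ line D, 5 := by rw [Finset.sum_const, smul_eq_mul]
      _ ≤ ∑ S ∈ line D, (m S).card := Finset.sum_le_sum hm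
  have hle : ((line D).biUnion m).card ≤ 21 := by
    letI : Fintype (Sylow 5 G) := Fintype.ofFinite _
    calc ((line D).biUnion m).card ≤ Fintype.card (Sylow 5 G) := Finset.card_le_univ _
      _ = 21 := by rw [← Nat.card_eq_fintype_card, h21]
  omega


end Cfsg.Agent.Helper27.Syl21
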