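import Cfsg.Agent.Helper27.TernStage

/-!
The permutation parts of the monomial automorphisms of the ternary code of length 12 are transitive on ordered
quintuples of distinct positions.
-/

set_option autoImplicit false

namespace Cfsg.Agent.Helper27

open Cfsg

/-- the chain of full orbits on the base points -/
theorem tern_chain (n : Fin 5) (b : ArrayPt) (hb : ∀ j : Fin 5, j.val < n.val → b ≠ baseA j) :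
    ∃ σ ∈ monPerm, (∀ j : Fin 5, j.val < n.val → σ (baseA j) = baseA j) ∧ σ (baseA n) = b := by
  obtain ⟨k, rfl⟩ : ∃ k : Fin 12, b = eA12.symm k := ⟨eA12 b, (eA12.symm_apply_apply b).symm⟩
  fin_cases n <;> fin_cases k
  · exact ⟨tS_0_0, ⟨tC_0_0, tOK_0_0⟩, tMove_0_0.1, tMove_0_0.2⟩
  · exact ⟨tS_0_1, ⟨tC_0_1, tOK_0_1⟩, tMove_0_1.1, tMove_0_1.2⟩
  · exact ⟨tS_0_2, ⟨tC_0_2, tOK_0_2⟩, tMove_0_2.1, tMove_0_2.2⟩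
  · exact ⟨tS_0_3, ⟨tC_0_3, tOK_0_3⟩, tMove_0_3.1, tMove_0_3.2⟩
  · exact ⟨tS_0_4, ⟨tC_0_4, tOK_0_4⟩, tMove_0_4.1, tMove_0_4.2⟩
  · exact ⟨tS_0_5, ⟨tC_0_5, tOK_0_5⟩, tMove_0_5.1, tMove_0_5.2⟩
  · exact ⟨tS_0_6, ⟨tC_0_6, tOK_0_6⟩, tMove_0_6.1, tMove_0_6.2⟩
  · exact ⟨tS_0_7, ⟨tC_0_7, tOK_0_7⟩, tMove_0_7.1, tMove_0_7.2⟩
  · exact ⟨tS_0_8, ⟨tC_0_8, tOK_0_8⟩, tMove_0_8.1, tMove_0_8.2⟩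
  · exact ⟨tS_0_9, ⟨tC_0_9, tOK_0_9⟩, tMove_0_9.1, tMove_0_9.2⟩
  · exact ⟨tS_0_10, ⟨tC_0_10, tOK_0_10⟩, tMove_0_10.1, tMove_0_10.2⟩
  · exact ⟨tS_0_11, ⟨tC_0_11, tOK_0_11⟩, tMove_0_11.1, tMove_0_11.2⟩
  · exact absurd rfl (hb ⟨0, by omega⟩ (by decide))
  · exact ⟨tS_1_1, ⟨tC_1_1, tOK_1_1⟩, tMove_1_1.1, tMove_1_1.2⟩
  · exact ⟨tS_1_2, ⟨tC_1_2, tOK_1_2⟩, tMove_1_2.1, tMove_1_2.2⟩
  · exact ⟨tS_1_3, ⟨tC_1_3, tOK_1_3⟩, tMove_1_3.1, tMove_1_3.2⟩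
  · exact ⟨tS_1_4, ⟨tC_1_4, tOK_1_4⟩, tMove_1_4.1, tMove_1_4.2⟩
  · exact ⟨tS_1_5, ⟨tC_1_5, tOK_1_5⟩, tMove_1_5.1, tMove_1_5.2⟩
  · exact ⟨tS_1_6, ⟨tC_1_6, tOK_1_6⟩, tMove_1_6.1, tMove_1_6.2⟩
  · exact ⟨tS_1_7, ⟨tC_1_7, tOK_1_7⟩, tMove_1_7.1, tMove_1_7.2⟩
  · exact ⟨tS_1_8, ⟨tC_1_8, tOK_1_8⟩, tMove_1_8.1, tMove_1_8.2⟩
  · exact ⟨tS_1_9, ⟨tC_1_9, tOK_1_9⟩, tMove_1_9.1, tMove_1_9.2⟩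
  · exact ⟨tS_1_10, ⟨tC_1_10, tOK_1_10⟩, tMove_1_10.1, tMove_1_10.2⟩
  · exact ⟨tS_1_11, ⟨tC_1_11, tOK_1_11⟩, tMove_1_11.1, tMove_1_11.2⟩
  · exact absurd rfl (hb ⟨0, by omega⟩ (by decide))
  · exact absurd rfl (hb ⟨1, by omega⟩ (by decide))
  · exact ⟨tS_2_2, ⟨tC_2_2, tOK_2_2⟩, tMove_2_2.1, tMove_2_2.2⟩
  · exact ⟨tS_2_3, ⟨tC_2_3, tOK_2_3⟩, tMove_2_3.1, tMove_2_3.2⟩
  · exact ⟨tS_2_4, ⟨tC_2_4, tOK_2_4⟩, tMove_2_4.1, tMove_2_4.2⟩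
  · exact ⟨tS_2_5, ⟨tC_2_5, tOK_2_5⟩, tMove_2_5.1, tMove_2_5.2⟩
  · exact ⟨tS_2_6, ⟨tC_2_6, tOK_2_6⟩, tMove_2_6.1, tMove_2_6.2⟩
  · exact ⟨tS_2_7, ⟨tC_2_7, tOK_2_7⟩, tMove_2_7.1, tMove_2_7.2⟩
  · exact ⟨tS_2_8, ⟨tC_2_8, tOK_2_8⟩, tMove_2_8.1, tMove_2_8.2⟩
  · exact ⟨tS_2_9, ⟨tC_2_9, tOK_2_9⟩, tMove_2_9.1, tMove_2_9.2⟩
  · exact ⟨tS_2_10, ⟨tC_2_10, tOK_2_10⟩, tMove_2_10.1, tMove_2_10.2⟩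
  · exact ⟨tS_2_11, ⟨tC_2_11, tOK_2_11⟩, tMove_2_11.1, tMove_2_11.2⟩
  · exact absurd rfl (hb ⟨0, by omega⟩ (by decide))
  · exact absurd rfl (hb ⟨1, by omega⟩ (by decide))
  · exact absurd rfl (hb ⟨2, by omega⟩ (by decide))
  · exact ⟨tS_3_3, ⟨tC_3_3, tOK_3_3⟩, tMove_3_3.1, tMove_3_3.2⟩
  · exact ⟨tS_3_4, ⟨tC_3_4, tOK_3_4⟩, tMove_3_4.1, tMove_3_4.2⟩
  · exact ⟨tS_3_5, ⟨tC_3_5, tOK_3_5⟩, tMove_3_5.1, tMove_3_5.2⟩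
  · exact ⟨tS_3_6, ⟨tC_3_6, tOK_3_6⟩, tMove_3_6.1, tMove_3_6.2⟩
  · exact ⟨tS_3_7, ⟨tC_3_7, tOK_3_7⟩, tMove_3_7.1, tMove_3_7.2⟩
  · exact ⟨tS_3_8, ⟨tC_3_8, tOK_3_8⟩, tMove_3_8.1, tMove_3_8.2⟩
  · exact ⟨tS_3_9, ⟨tC_3_9, tOK_3_9⟩, tMove_3_9.1, tMove_3_9.2⟩
  · exact ⟨tS_3_10, ⟨tC_3_10, tOK_3_10⟩, tMove_3_10.1, tMove_3_10.2⟩
  · exact ⟨tS_3_11, ⟨tC_3_11, tOK_3_11⟩, tMove_3_11.1, tMove_3_11.2⟩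
  · exact absurd rfl (hb ⟨0, by omega⟩ (by decide))
  · exact absurd rfl (hb ⟨1, by omega⟩ (by decide))
  · exact absurd rfl (hb ⟨2, by omega⟩ (by decide))
  · exact absurd rfl (hb ⟨3, by omega⟩ (by decide))
  · exact ⟨tS_4_4, ⟨tC_4_4, tOK_4_4⟩, tMove_4_4.1, tMove_4_4.2⟩
  · exact ⟨tS_4_5, ⟨tC_4_5, tOK_4_5⟩, tMove_4_5.1, tMove_4_5.2⟩
  · exact ⟨tS_4_6, ⟨tC_4_6, tOK_4_6⟩, tMove_4_6.1, tMove_4_6.2⟩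
  · exact ⟨tS_4_7, ⟨tC_4_7, tOK_4_7⟩, tMove_4_7.1, tMove_4_7.2⟩
  · exact ⟨tS_4_8, ⟨tC_4_8, tOK_4_8⟩, tMove_4_8.1, tMove_4_8.2⟩
  · exact ⟨tS_4_9, ⟨tC_4_9, tOK_4_9⟩, tMove_4_9.1, tMove_4_9.2⟩
  · exact ⟨tS_4_10, ⟨tC_4_10, tOK_4_10⟩, tMove_4_10.1, tMove_4_10.2⟩
  · exact ⟨tS_4_11, ⟨tC_4_11, tOK_4_11⟩, tMove_4_11.1, tMove_4_11.2⟩

/-- every quintuple of distinct positions is the image of the base under the permutation part of a monomial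
automorphism -/
theorem tern_move (y : Fin 5 → ArrayPt) (hy : Function.Injective y) : ∃ σ ∈ monPerm, ∀ i, σ (baseA i) = y i := by
  suffices hP : ∀ n : ℕ, n ≤ 5 → ∃ h ∈ monPerm, ∀ i : Fin 5, i.val < n → h (baseA i) = y i by
    obtain ⟨h, hh, hi⟩ := hP 5 le_rfl
    exact ⟨h, hh, fun i => hi i i.2⟩
  intro n
  induction n with
  | zero =>
    intro _
    exact ⟨1, monPerm.one_mem, fun i hi => absurd hi (Nat.not_lt_zero _)⟩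
  | succ n ih =>
    intro hn
    obtain ⟨h, hh, hi⟩ := ih (Nat.le_of_succ_le hn)
    have hnk : n < 5 := hn
    obtain ⟨g, hg, hgfix, hgn⟩ := tern_chain ⟨n, hnk⟩ (h.symm (y ⟨n, hnk⟩)) (by
      intro j hj heq
      have h1 : y ⟨n, hnk⟩ = h (baseA j) := by rw [← heq, Equiv.apply_symm_apply]
      rw [hi j hj] at h1
      have h2 := hy h1
      have h3 : n = j.val := congrArg Fin.val h2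
      have hj' : j.val < n := hj
      omega)
    refine ⟨h * g, monPerm.mul_mem hh hg, ?_⟩
    intro i hi'
    rw [Equiv.Perm.mul_apply]
    rcases Nat.lt_succ_iff_lt_or_eq.mp hi' with h1 | h1
    · rw [hgfix i h1, hi i h1]
    · have e : i = ⟨n, hnk⟩ := Fin.ext h1
      rw [e, hgn, Equiv.apply_symm_apply]

end Cfsg.Agent.Helper27
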