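import Cfsg.Agent.Helper27.TernChain
import Cfsg.Agent.S0425
import Cfsg.Agent.S1592
import Cfsg.Agent.S1593

/-!
The monomial automorphism group of the ternary code of length 12: its permutation parts are exactly the automorphisms
of the hexad system, and it has order `190080`.
-/

set_option autoImplicit false

namespace Cfsg.Agent.Helper27

open Cfsg

theorem card_arrayPt : Fintype.card ArrayPt = 12 := by decide

theorem ternHexads_steiner : IsSteinerSystem 5 6 ternHexads := Cfsg.Agent.S1592.result.1

/-- the base embedding -/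
def baseEmb : Fin 5 ↪ ArrayPt := ⟨baseA, by decide⟩

/-- the permutation parts are exactly the automorphisms of the hexad system -/
theorem monPerm_eq_aut :
    (monPerm : Set (Equiv.Perm ArrayPt)) = ((setSystemAut ternHexads : Subgroup (Equiv.Perm ArrayPt)) : Set _) := by
  apply Set.Subset.antisymm
  · intro σ hσ
    exact monPerm_le_aut hσ
  · intro σ hσ
    obtain ⟨τ, hτ, hτσ⟩ := tern_move (fun i => σ (baseA i)) (fun i j h => baseEmb.injective (σ.injective h))
    have hτA := monPerm_le_aut hτ
    have hstab := (Cfsg.Agent.S0425.result card_arrayPt ternHexads_steiner).2.2 baseEmb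
    have hg : (⟨τ⁻¹ * σ, (setSystemAut ternHexads).mul_mem ((setSystemAut ternHexads).inv_mem hτA) hσ⟩ :
        ↥(setSystemAut ternHexads)) ∈ MulAction.stabilizer ↥(setSystemAut ternHexads) baseEmb := by
      rw [MulAction.mem_stabilizer_iff]
      apply Function.Embedding.ext
      intro i
      show (τ⁻¹ * σ) (baseA i) = baseA i
      rw [Equiv.Perm.mul_apply, Equiv.Perm.inv_eq_iff_eq, hτσ]
    rw [hstab, Subgroup.mem_bot] at hg
    have h1 : τ⁻¹ * σ = 1 := congrArg Subtype.val hg
    have h2 : σ = τ := by
      have : σ = τ * (τ⁻¹ * σ) := by group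
      rw [this, h1, mul_one]
    rw [h2]
    exact hτ

theorem units3_eq_neg : ∀ u v : (ZMod 3)ˣ, u ≠ v → u = -v := by decide

theorem units3_one_ne : (1 : (ZMod 3)ˣ) ≠ -1 := by decide

theorem card_units3 : Nat.card (ZMod 3)ˣ = 2 := by
  rw [Nat.card_eq_fintype_card]
  decide

/-- the order of the monomial automorphism group -/
theorem card_mon : Nat.card {f : Equiv.Perm ArrayPt × (ArrayPt → (ZMod 3)ˣ) //
    ∀ x ∈ ternaryGolayCode, monomialMap f.1 f.2 x ∈ ternaryGolayCode} = 190080 := by
  have hA : Nat.card ↥(setSystemAut ternHexads) = 95040 :=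
    (Cfsg.Agent.S0425.result card_arrayPt ternHexads_steiner).1.2
  have e : {f : Equiv.Perm ArrayPt × (ArrayPt → (ZMod 3)ˣ) //
      ∀ x ∈ ternaryGolayCode, monomialMap f.1 f.2 x ∈ ternaryGolayCode} ≃
      ↥(setSystemAut ternHexads) × (ZMod 3)ˣ :=
    Equiv.ofBijective (fun f => (⟨f.1.1, monPerm_le_aut ⟨f.1.2, f.2⟩⟩, f.1.2 (baseA 0))) (by
      constructor
      · rintro ⟨⟨σ, c⟩, hf⟩ ⟨⟨σ', c'⟩, hf'⟩ h
        have h1 : σ = σ' := congrArg (fun q : ↥(setSystemAut ternHexads) × (ZMod 3)ˣ => (q.1 : Equiv.Perm ArrayPt)) h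
        have h2 : c (baseA 0) = c' (baseA 0) := congrArg (fun q : ↥(setSystemAut ternHexads) × (ZMod 3)ˣ => q.2) h
        subst h1
        have hr := monOK_ratio (σ := σ) (c := c) (c' := c') hf hf'
        have hcc : c = c' := by
          rcases Cfsg.Agent.S1593.result _ hr with h3 | h3
          · funext p
            have := h3 p
            rw [mul_inv_eq_one] at this
            exact this.symm
          · exfalso
            have := h3 (baseA 0)
            rw [h2, mul_inv_cancel] at this
            exact units3_one_ne this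
        subst hcc
        rfl
      · rintro ⟨⟨σ, hσ⟩, u⟩
        have hσ' : σ ∈ (monPerm : Set (Equiv.Perm ArrayPt)) := by
          rw [monPerm_eq_aut]
          exact hσ
        obtain ⟨c, hc⟩ := hσ'
        by_cases hu : c (baseA 0) = u
        · exact ⟨⟨(σ, c), hc⟩, Prod.ext rfl hu⟩
        · refine ⟨⟨(σ, fun i => -c i), monOK_neg hc⟩, Prod.ext rfl ?_⟩
          show -c (baseA 0) = u
          rw [units3_eq_neg u (c (baseA 0)) (Ne.symm hu)])
  rw [Nat.card_congr e, Nat.card_prod, hA, card_units3]

end Cfsg.Agent.Helper27
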