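import Cfsg.Agent.Helper22.Ternary

/-!
Monomial maps preserving the ternary code of length 12: composition, reduction to a basis, supports.
-/

set_option autoImplicit false

namespace Cfsg.Agent.Helper27

open Cfsg Cfsg.Agent.Helper22.Tern
open scoped Pointwise

/-- the monomial map preserves the code -/
def MonOK (σ : Equiv.Perm ArrayPt) (c : ArrayPt → (ZMod 3)ˣ) : Prop :=
  ∀ x ∈ ternaryGolayCode, monomialMap σ c x ∈ ternaryGolayCode

theorem monomialMap_add' (σ : Equiv.Perm ArrayPt) (c : ArrayPt → (ZMod 3)ˣ) (x y : ArrayPt → ZMod 3) :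
    monomialMap σ c (x + y) = monomialMap σ c x + monomialMap σ c y := by
  funext i
  simp [monomialMap, mul_add]

theorem monomialMap_smul' (σ : Equiv.Perm ArrayPt) (c : ArrayPt → (ZMod 3)ˣ) (a : ZMod 3) (x : ArrayPt → ZMod 3) :
    monomialMap σ c (a • x) = a • monomialMap σ c x := by
  funext i
  simp only [monomialMap, Pi.smul_apply, smul_eq_mul]
  ring

theorem monomialMap_neg_sign (σ : Equiv.Perm ArrayPt) (c : ArrayPt → (ZMod 3)ˣ) (x : ArrayPt → ZMod 3) :
    monomialMap σ (fun i => -c i) x = -monomialMap σ c x := by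
  funext i
  simp [monomialMap]

theorem monomialMap_comp' (σ τ : Equiv.Perm ArrayPt) (c d : ArrayPt → (ZMod 3)ˣ) (x : ArrayPt → ZMod 3) :
    monomialMap σ c (monomialMap τ d x) = monomialMap (σ * τ) (fun i => c i * d (σ.symm i)) x := by
  funext i
  simp only [monomialMap, Units.val_mul, mul_assoc]
  rfl

/-- it suffices to check the basis -/
theorem monOK_of_basis (σ : Equiv.Perm ArrayPt) (c : ArrayPt → (ZMod 3)ˣ)
    (h0 : IsTG (monomialMap σ c B0)) (h1 : IsTG (monomialMap σ c B1)) (h2 : IsTG (monomialMap σ c B2))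
    (h3 : IsTG (monomialMap σ c B3)) (h4 : IsTG (monomialMap σ c B4)) (h5 : IsTG (monomialMap σ c B5)) :
    MonOK σ c := by
  intro x hx
  obtain ⟨e, rfl⟩ := (mem_code_iff x).mp hx
  rw [enc_eq]
  simp only [monomialMap_add', monomialMap_smul']
  exact Submodule.add_mem _ (Submodule.add_mem _ (Submodule.add_mem _ (Submodule.add_mem _
    (Submodule.add_mem _ (Submodule.smul_mem _ _ ((mem_code_iff_isTG _).2 h0))
      (Submodule.smul_mem _ _ ((mem_code_iff_isTG _).2 h1)))
    (Submodule.smul_mem _ _ ((mem_code_iff_isTG _).2 h2))) (Submodule.smul_mem _ _ ((mem_code_iff_isTG _).2 h3)))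
    (Submodule.smul_mem _ _ ((mem_code_iff_isTG _).2 h4))) (Submodule.smul_mem _ _ ((mem_code_iff_isTG _).2 h5))

theorem monOK_mul {σ τ : Equiv.Perm ArrayPt} {c d : ArrayPt → (ZMod 3)ˣ} (h : MonOK σ c) (h' : MonOK τ d) :
    MonOK (σ * τ) (fun i => c i * d (σ.symm i)) := by
  intro x hx
  rw [← monomialMap_comp']
  exact h _ (h' x hx)

theorem monOK_one : MonOK 1 (fun _ => 1) := by
  intro x hx
  have : monomialMap (1 : Equiv.Perm ArrayPt) (fun _ => (1 : (ZMod 3)ˣ)) x = x := by
    funext i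
    show ((1 : (ZMod 3)ˣ) : ZMod 3) * x i = x i
    rw [Units.val_one, one_mul]
  rw [this]
  exact hx

theorem monOK_neg {σ : Equiv.Perm ArrayPt} {c : ArrayPt → (ZMod 3)ˣ} (h : MonOK σ c) :
    MonOK σ (fun i => -c i) := by
  intro x hx
  rw [monomialMap_neg_sign]
  exact Submodule.neg_mem _ (h x hx)

/-- the permutation parts of the monomial maps preserving the code -/
def monPerm : Submonoid (Equiv.Perm ArrayPt) where
  carrier := {σ | ∃ c, MonOK σ c}
  mul_mem' := by
    rintro σ τ ⟨c, hc⟩ ⟨d, hd⟩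
    exact ⟨_, monOK_mul hc hd⟩
  one_mem' := ⟨_, monOK_one⟩

theorem mem_monPerm (σ : Equiv.Perm ArrayPt) : σ ∈ monPerm ↔ ∃ c, MonOK σ c := Iff.rfl

/-! ### Supports -/

theorem unit_val_ne_zero (u : (ZMod 3)ˣ) : (u : ZMod 3) ≠ 0 := u.ne_zero

theorem mem_ternarySupport (y : ArrayPt → ZMod 3) (j : ArrayPt) : j ∈ ternarySupport y ↔ y j ≠ 0 := by
  simp [ternarySupport]

theorem ternarySupport_monomialMap (σ : Equiv.Perm ArrayPt) (c : ArrayPt → (ZMod 3)ˣ) (x : ArrayPt → ZMod 3) :
    ternarySupport (monomialMap σ c x) = σ • ternarySupport x := by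
  ext i
  rw [Finset.mem_smul_finset, mem_ternarySupport]
  constructor
  · intro h
    refine ⟨σ.symm i, ?_, ?_⟩
    · rw [mem_ternarySupport]
      intro h0
      apply h
      show (c i : ZMod 3) * x (σ.symm i) = 0
      rw [h0, mul_zero]
    · show σ (σ.symm i) = i
      exact σ.apply_symm_apply i
  · rintro ⟨j, hj, rfl⟩
    rw [mem_ternarySupport] at hj
    show (c (σ j) : ZMod 3) * x (σ.symm (σ j)) ≠ 0
    rw [σ.symm_apply_apply]
    exact mul_ne_zero (unit_val_ne_zero _) hj

/-- the hexads of the code -/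
def ternHexads : Set (Finset ArrayPt) :=
  {h : Finset ArrayPt | ∃ x ∈ ternaryGolayCode, ternarySupport x = h ∧ h.card = 6}

theorem monPerm_le_aut {σ : Equiv.Perm ArrayPt} (h : σ ∈ monPerm) : σ ∈ setSystemAut ternHexads := by
  obtain ⟨c, hc⟩ := h
  show σ ∈ MulAction.stabilizer (Equiv.Perm ArrayPt) ternHexads
  rw [MulAction.mem_stabilizer_set_iff_smul_set_subset (Set.toFinite _)]
  rintro _ ⟨b, ⟨x, hx, rfl, hcard⟩, rfl⟩
  refine ⟨monomialMap σ c x, hc x hx, ternarySupport_monomialMap σ c x, ?_⟩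
  rw [Finset.card_smul_finset]
  exact hcard

/-! ### Fibres -/

theorem monomialMap_injective (σ : Equiv.Perm ArrayPt) (c : ArrayPt → (ZMod 3)ˣ) :
    Function.Injective (monomialMap σ c) := by
  intro x y h
  funext j
  have h1 := congrFun h (σ j)
  simp only [monomialMap, σ.symm_apply_apply] at h1
  exact mul_left_cancel₀ (unit_val_ne_zero _) h1

/-- a monomial map preserving the code is onto the code -/
theorem monOK_surjective {σ : Equiv.Perm ArrayPt} {c : ArrayPt → (ZMod 3)ˣ} (h : MonOK σ c)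
    (y : ArrayPt → ZMod 3) (hy : y ∈ ternaryGolayCode) : ∃ x ∈ ternaryGolayCode, monomialMap σ c x = y := by
  have : Finite ↥ternaryGolayCode := Nat.finite_of_card_ne_zero (by rw [card_code]; norm_num)
  let f : ↥ternaryGolayCode → ↥ternaryGolayCode := fun x => ⟨monomialMap σ c x.1, h x.1 x.2⟩
  have hinj : Function.Injective f := by
    intro a b hab
    exact Subtype.ext (monomialMap_injective σ c (congrArg Subtype.val hab))
  obtain ⟨x, hx⟩ := (Finite.injective_iff_surjective.mp hinj) ⟨y, hy⟩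
  exact ⟨x.1, x.2, congrArg Subtype.val hx⟩

/-- two sign vectors for the same permutation differ by a sign change preserving the code -/
theorem monOK_ratio {σ : Equiv.Perm ArrayPt} {c c' : ArrayPt → (ZMod 3)ˣ} (h : MonOK σ c) (h' : MonOK σ c') :
    MonOK 1 (fun i => c' i * (c i)⁻¹) := by
  intro y hy
  obtain ⟨x, hx, rfl⟩ := monOK_surjective h y hy
  rw [monomialMap_comp']
  have e : (fun i => c' i * (c i)⁻¹ * c ((1 : Equiv.Perm ArrayPt).symm i)) = c' := by
    funext i
    show c' i * (c i)⁻¹ * c i = c' i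
    rw [inv_mul_cancel_right]
  rw [e, one_mul]
  exact h' x hx

end Cfsg.Agent.Helper27
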