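import Cfsg.Agent.Helper27.TernMon

/-!
Explicit monomial automorphisms of the ternary code of length 12 forming a stabiliser chain of full orbits on five
base points (generated by a search; every entry is checked by the kernel).
-/

set_option autoImplicit false

namespace Cfsg.Agent.Helper27

open Cfsg Cfsg.Agent.Helper22.Tern

/-- indexing of the twelve positions -/
def eA12 : ArrayPt ≃ Fin 12 := (finProdFinEquiv : Fin 4 × Fin 3 ≃ Fin (4 * 3))

/-- the permutation with a given table and inverse table -/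
def permOfTbl (f g : Fin 12 → Fin 12) (h1 : ∀ k, g (f k) = k) (h2 : ∀ k, f (g k) = k) : Equiv.Perm ArrayPt :=
  (eA12.trans ⟨f, g, h1, h2⟩).trans eA12.symm

/-- the sign vector with a given table -/
def sgnOfTbl (s : Fin 12 → Bool) (p : ArrayPt) : (ZMod 3)ˣ := if s (eA12 p) then -1 else 1

/-- the base points -/
def baseA (j : Fin 5) : ArrayPt := eA12.symm ⟨j.val, by omega⟩

/-- stage 0, target 0 -/
def tS_0_0 : Equiv.Perm ArrayPt := permOfTbl ![0, 1, 2, 3, 4, 5, 6, 7, 8, 9, 10, 11] ![0, 1, 2, 3, 4, 5, 6, 7, 8, 9, 10, 11] (by decide) (by decide)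

/-- signs for stage 0, target 0 -/
def tC_0_0 : ArrayPt → (ZMod 3)ˣ := sgnOfTbl ![false, false, false, false, false, false, false, false, false, false, false, false]

theorem tOK_0_0 : MonOK tS_0_0 tC_0_0 :=
  monOK_of_basis _ _ (by decide +kernel) (by decide +kernel) (by decide +kernel) (by decide +kernel)
    (by decide +kernel) (by decide +kernel)

theorem tMove_0_0 : (∀ j : Fin 5, j.val < 0 → tS_0_0 (baseA j) = baseA j) ∧
    tS_0_0 (baseA ⟨0, by omega⟩) = eA12.symm 0 := by decide +kernel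

/-- stage 0, target 1 -/
def tS_0_1 : Equiv.Perm ArrayPt := permOfTbl ![1, 0, 2, 3, 4, 5, 11, 9, 10, 7, 8, 6] ![1, 0, 2, 3, 4, 5, 11, 9, 10, 7, 8, 6] (by decide) (by decide)

/-- signs for stage 0, target 1 -/
def tC_0_1 : ArrayPt → (ZMod 3)ˣ := sgnOfTbl ![false, false, false, false, false, false, false, false, false, false, false, false]

theorem tOK_0_1 : MonOK tS_0_1 tC_0_1 :=
  monOK_of_basis _ _ (by decide +kernel) (by decide +kernel) (by decide +kernel) (by decide +kernel)
    (by decide +kernel) (by decide +kernel)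

theorem tMove_0_1 : (∀ j : Fin 5, j.val < 0 → tS_0_1 (baseA j) = baseA j) ∧
    tS_0_1 (baseA ⟨0, by omega⟩) = eA12.symm 1 := by decide +kernel

/-- stage 0, target 2 -/
def tS_0_2 : Equiv.Perm ArrayPt := permOfTbl ![2, 0, 1, 3, 4, 5, 8, 6, 7, 10, 11, 9] ![1, 2, 0, 3, 4, 5, 7, 8, 6, 11, 9, 10] (by decide) (by decide)

/-- signs for stage 0, target 2 -/
def tC_0_2 : ArrayPt → (ZMod 3)ˣ := sgnOfTbl ![false, false, false, false, false, false, false, false, false, false, false, false]

theorem tOK_0_2 : MonOK tS_0_2 tC_0_2 :=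
  monOK_of_basis _ _ (by decide +kernel) (by decide +kernel) (by decide +kernel) (by decide +kernel)
    (by decide +kernel) (by decide +kernel)

theorem tMove_0_2 : (∀ j : Fin 5, j.val < 0 → tS_0_2 (baseA j) = baseA j) ∧
    tS_0_2 (baseA ⟨0, by omega⟩) = eA12.symm 2 := by decide +kernel

/-- stage 0, target 3 -/
def tS_0_3 : Equiv.Perm ArrayPt := permOfTbl ![3, 0, 1, 2, 4, 5, 10, 7, 6, 8, 9, 11] ![1, 2, 3, 0, 4, 5, 8, 7, 9, 10, 6, 11] (by decide) (by decide)

/-- signs for stage 0, target 3 -/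
def tC_0_3 : ArrayPt → (ZMod 3)ˣ := sgnOfTbl ![true, true, false, false, true, true, false, false, true, false, true, false]

theorem tOK_0_3 : MonOK tS_0_3 tC_0_3 :=
  monOK_of_basis _ _ (by decide +kernel) (by decide +kernel) (by decide +kernel) (by decide +kernel)
    (by decide +kernel) (by decide +kernel)

theorem tMove_0_3 : (∀ j : Fin 5, j.val < 0 → tS_0_3 (baseA j) = baseA j) ∧
    tS_0_3 (baseA ⟨0, by omega⟩) = eA12.symm 3 := by decide +kernel

/-- stage 0, target 4 -/
def tS_0_4 : Equiv.Perm ArrayPt := permOfTbl ![4, 0, 1, 2, 3, 5, 6, 9, 10, 11, 7, 8] ![1, 2, 3, 4, 0, 5, 6, 10, 11, 7, 8, 9] (by decide) (by decide)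

/-- signs for stage 0, target 4 -/
def tC_0_4 : ArrayPt → (ZMod 3)ˣ := sgnOfTbl ![false, false, true, false, true, false, false, true, true, true, true, false]

theorem tOK_0_4 : MonOK tS_0_4 tC_0_4 :=
  monOK_of_basis _ _ (by decide +kernel) (by decide +kernel) (by decide +kernel) (by decide +kernel)
    (by decide +kernel) (by decide +kernel)

theorem tMove_0_4 : (∀ j : Fin 5, j.val < 0 → tS_0_4 (baseA j) = baseA j) ∧
    tS_0_4 (baseA ⟨0, by omega⟩) = eA12.symm 4 := by decide +kernel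

/-- stage 0, target 5 -/
def tS_0_5 : Equiv.Perm ArrayPt := permOfTbl ![5, 0, 1, 2, 3, 4, 9, 6, 8, 7, 11, 10] ![1, 2, 3, 4, 5, 0, 7, 9, 8, 6, 11, 10] (by decide) (by decide)

/-- signs for stage 0, target 5 -/
def tC_0_5 : ArrayPt → (ZMod 3)ˣ := sgnOfTbl ![true, true, false, true, true, false, false, true, false, true, false, false]

theorem tOK_0_5 : MonOK tS_0_5 tC_0_5 :=
  monOK_of_basis _ _ (by decide +kernel) (by decide +kernel) (by decide +kernel) (by decide +kernel)
    (by decide +kernel) (by decide +kernel)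

theorem tMove_0_5 : (∀ j : Fin 5, j.val < 0 → tS_0_5 (baseA j) = baseA j) ∧
    tS_0_5 (baseA ⟨0, by omega⟩) = eA12.symm 5 := by decide +kernel

/-- stage 0, target 6 -/
def tS_0_6 : Equiv.Perm ArrayPt := permOfTbl ![6, 0, 1, 2, 3, 9, 5, 4, 7, 10, 8, 11] ![1, 2, 3, 4, 7, 6, 0, 8, 10, 5, 9, 11] (by decide) (by decide)

/-- signs for stage 0, target 6 -/
def tC_0_6 : ArrayPt → (ZMod 3)ˣ := sgnOfTbl ![true, false, true, true, false, true, false, false, false, true, true, false]

theorem tOK_0_6 : MonOK tS_0_6 tC_0_6 :=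
  monOK_of_basis _ _ (by decide +kernel) (by decide +kernel) (by decide +kernel) (by decide +kernel)
    (by decide +kernel) (by decide +kernel)

theorem tMove_0_6 : (∀ j : Fin 5, j.val < 0 → tS_0_6 (baseA j) = baseA j) ∧
    tS_0_6 (baseA ⟨0, by omega⟩) = eA12.symm 6 := by decide +kernel

/-- stage 0, target 7 -/
def tS_0_7 : Equiv.Perm ArrayPt := permOfTbl ![7, 0, 1, 2, 3, 11, 10, 8, 9, 4, 5, 6] ![1, 2, 3, 4, 9, 10, 11, 0, 7, 8, 6, 5] (by decide) (by decide)

/-- signs for stage 0, target 7 -/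
def tC_0_7 : ArrayPt → (ZMod 3)ˣ := sgnOfTbl ![true, false, false, false, false, true, true, true, true, true, false, false]

theorem tOK_0_7 : MonOK tS_0_7 tC_0_7 :=
  monOK_of_basis _ _ (by decide +kernel) (by decide +kernel) (by decide +kernel) (by decide +kernel)
    (by decide +kernel) (by decide +kernel)

theorem tMove_0_7 : (∀ j : Fin 5, j.val < 0 → tS_0_7 (baseA j) = baseA j) ∧
    tS_0_7 (baseA ⟨0, by omega⟩) = eA12.symm 7 := by decide +kernel

/-- stage 0, target 8 -/
def tS_0_8 : Equiv.Perm ArrayPt := permOfTbl ![8, 0, 1, 2, 3, 10, 7, 11, 4, 6, 9, 5] ![1, 2, 3, 4, 8, 11, 9, 6, 0, 10, 5, 7] (by decide) (by decide)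

/-- signs for stage 0, target 8 -/
def tC_0_8 : ArrayPt → (ZMod 3)ˣ := sgnOfTbl ![false, false, false, true, false, false, true, true, false, false, true, false]

theorem tOK_0_8 : MonOK tS_0_8 tC_0_8 :=
  monOK_of_basis _ _ (by decide +kernel) (by decide +kernel) (by decide +kernel) (by decide +kernel)
    (by decide +kernel) (by decide +kernel)

theorem tMove_0_8 : (∀ j : Fin 5, j.val < 0 → tS_0_8 (baseA j) = baseA j) ∧
    tS_0_8 (baseA ⟨0, by omega⟩) = eA12.symm 8 := by decide +kernel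

/-- stage 0, target 9 -/
def tS_0_9 : Equiv.Perm ArrayPt := permOfTbl ![9, 0, 1, 2, 3, 6, 4, 5, 11, 8, 10, 7] ![1, 2, 3, 4, 6, 7, 5, 11, 9, 0, 10, 8] (by decide) (by decide)

/-- signs for stage 0, target 9 -/
def tC_0_9 : ArrayPt → (ZMod 3)ˣ := sgnOfTbl ![true, false, true, true, true, false, true, false, true, false, false, false]

theorem tOK_0_9 : MonOK tS_0_9 tC_0_9 :=
  monOK_of_basis _ _ (by decide +kernel) (by decide +kernel) (by decide +kernel) (by decide +kernel)
    (by decide +kernel) (by decide +kernel)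

theorem tMove_0_9 : (∀ j : Fin 5, j.val < 0 → tS_0_9 (baseA j) = baseA j) ∧
    tS_0_9 (baseA ⟨0, by omega⟩) = eA12.symm 9 := by decide +kernel

/-- stage 0, target 10 -/
def tS_0_10 : Equiv.Perm ArrayPt := permOfTbl ![10, 0, 1, 2, 3, 8, 11, 7, 5, 9, 6, 4] ![1, 2, 3, 4, 11, 8, 10, 7, 5, 9, 0, 6] (by decide) (by decide)

/-- signs for stage 0, target 10 -/
def tC_0_10 : ArrayPt → (ZMod 3)ˣ := sgnOfTbl ![true, true, true, false, true, true, true, true, false, false, true, false]

theorem tOK_0_10 : MonOK tS_0_10 tC_0_10 :=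
  monOK_of_basis _ _ (by decide +kernel) (by decide +kernel) (by decide +kernel) (by decide +kernel)
    (by decide +kernel) (by decide +kernel)

theorem tMove_0_10 : (∀ j : Fin 5, j.val < 0 → tS_0_10 (baseA j) = baseA j) ∧
    tS_0_10 (baseA ⟨0, by omega⟩) = eA12.symm 10 := by decide +kernel

/-- stage 0, target 11 -/
def tS_0_11 : Equiv.Perm ArrayPt := permOfTbl ![11, 0, 1, 2, 3, 7, 8, 10, 6, 5, 4, 9] ![1, 2, 3, 4, 10, 9, 8, 5, 6, 11, 7, 0] (by decide) (by decide)

/-- signs for stage 0, target 11 -/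
def tC_0_11 : ArrayPt → (ZMod 3)ˣ := sgnOfTbl ![false, true, true, true, false, true, false, true, true, false, false, false]

theorem tOK_0_11 : MonOK tS_0_11 tC_0_11 :=
  monOK_of_basis _ _ (by decide +kernel) (by decide +kernel) (by decide +kernel) (by decide +kernel)
    (by decide +kernel) (by decide +kernel)

theorem tMove_0_11 : (∀ j : Fin 5, j.val < 0 → tS_0_11 (baseA j) = baseA j) ∧
    tS_0_11 (baseA ⟨0, by omega⟩) = eA12.symm 11 := by decide +kernel

/-- stage 1, target 1 -/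
def tS_1_1 : Equiv.Perm ArrayPt := permOfTbl ![0, 1, 2, 3, 4, 5, 6, 7, 8, 9, 10, 11] ![0, 1, 2, 3, 4, 5, 6, 7, 8, 9, 10, 11] (by decide) (by decide)

/-- signs for stage 1, target 1 -/
def tC_1_1 : ArrayPt → (ZMod 3)ˣ := sgnOfTbl ![false, false, false, false, false, false, false, false, false, false, false, false]

theorem tOK_1_1 : MonOK tS_1_1 tC_1_1 :=
  monOK_of_basis _ _ (by decide +kernel) (by decide +kernel) (by decide +kernel) (by decide +kernel)
    (by decide +kernel) (by decide +kernel)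

theorem tMove_1_1 : (∀ j : Fin 5, j.val < 1 → tS_1_1 (baseA j) = baseA j) ∧
    tS_1_1 (baseA ⟨1, by omega⟩) = eA12.symm 1 := by decide +kernel

/-- stage 1, target 2 -/
def tS_1_2 : Equiv.Perm ArrayPt := permOfTbl ![0, 2, 1, 3, 4, 5, 9, 10, 11, 6, 7, 8] ![0, 2, 1, 3, 4, 5, 9, 10, 11, 6, 7, 8] (by decide) (by decide)

/-- signs for stage 1, target 2 -/
def tC_1_2 : ArrayPt → (ZMod 3)ˣ := sgnOfTbl ![false, false, false, false, false, false, false, false, false, false, false, false]

theorem tOK_1_2 : MonOK tS_1_2 tC_1_2 :=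
  monOK_of_basis _ _ (by decide +kernel) (by decide +kernel) (by decide +kernel) (by decide +kernel)
    (by decide +kernel) (by decide +kernel)

theorem tMove_1_2 : (∀ j : Fin 5, j.val < 1 → tS_1_2 (baseA j) = baseA j) ∧
    tS_1_2 (baseA ⟨1, by omega⟩) = eA12.symm 2 := by decide +kernel

/-- stage 1, target 3 -/
def tS_1_3 : Equiv.Perm ArrayPt := permOfTbl ![0, 3, 1, 2, 4, 5, 11, 8, 9, 7, 6, 10] ![0, 2, 3, 1, 4, 5, 10, 9, 7, 8, 11, 6] (by decide) (by decide)

/-- signs for stage 1, target 3 -/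
def tC_1_3 : ArrayPt → (ZMod 3)ˣ := sgnOfTbl ![true, true, false, false, true, true, false, false, true, false, true, false]

theorem tOK_1_3 : MonOK tS_1_3 tC_1_3 :=
  monOK_of_basis _ _ (by decide +kernel) (by decide +kernel) (by decide +kernel) (by decide +kernel)
    (by decide +kernel) (by decide +kernel)

theorem tMove_1_3 : (∀ j : Fin 5, j.val < 1 → tS_1_3 (baseA j) = baseA j) ∧
    tS_1_3 (baseA ⟨1, by omega⟩) = eA12.symm 3 := by decide +kernel

/-- stage 1, target 4 -/
def tS_1_4 : Equiv.Perm ArrayPt := permOfTbl ![0, 4, 1, 2, 3, 5, 8, 11, 7, 9, 10, 6] ![0, 2, 3, 4, 1, 5, 11, 8, 6, 9, 10, 7] (by decide) (by decide)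

/-- signs for stage 1, target 4 -/
def tC_1_4 : ArrayPt → (ZMod 3)ˣ := sgnOfTbl ![false, false, true, false, true, false, false, true, true, true, true, false]

theorem tOK_1_4 : MonOK tS_1_4 tC_1_4 :=
  monOK_of_basis _ _ (by decide +kernel) (by decide +kernel) (by decide +kernel) (by decide +kernel)
    (by decide +kernel) (by decide +kernel)

theorem tMove_1_4 : (∀ j : Fin 5, j.val < 1 → tS_1_4 (baseA j) = baseA j) ∧
    tS_1_4 (baseA ⟨1, by omega⟩) = eA12.symm 4 := by decide +kernel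

/-- stage 1, target 5 -/
def tS_1_5 : Equiv.Perm ArrayPt := permOfTbl ![0, 5, 1, 2, 3, 4, 10, 7, 11, 6, 8, 9] ![0, 2, 3, 4, 5, 1, 9, 7, 10, 11, 6, 8] (by decide) (by decide)

/-- signs for stage 1, target 5 -/
def tC_1_5 : ArrayPt → (ZMod 3)ˣ := sgnOfTbl ![true, true, false, true, true, false, false, true, false, true, false, false]

theorem tOK_1_5 : MonOK tS_1_5 tC_1_5 :=
  monOK_of_basis _ _ (by decide +kernel) (by decide +kernel) (by decide +kernel) (by decide +kernel)
    (by decide +kernel) (by decide +kernel)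

theorem tMove_1_5 : (∀ j : Fin 5, j.val < 1 → tS_1_5 (baseA j) = baseA j) ∧
    tS_1_5 (baseA ⟨1, by omega⟩) = eA12.symm 5 := by decide +kernel

/-- stage 1, target 6 -/
def tS_1_6 : Equiv.Perm ArrayPt := permOfTbl ![0, 6, 1, 2, 3, 9, 11, 10, 8, 4, 7, 5] ![0, 2, 3, 4, 9, 11, 1, 10, 8, 5, 7, 6] (by decide) (by decide)

/-- signs for stage 1, target 6 -/
def tC_1_6 : ArrayPt → (ZMod 3)ˣ := sgnOfTbl ![true, false, true, true, false, true, false, false, false, true, true, false]

theorem tOK_1_6 : MonOK tS_1_6 tC_1_6 :=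
  monOK_of_basis _ _ (by decide +kernel) (by decide +kernel) (by decide +kernel) (by decide +kernel)
    (by decide +kernel) (by decide +kernel)

theorem tMove_1_6 : (∀ j : Fin 5, j.val < 1 → tS_1_6 (baseA j) = baseA j) ∧
    tS_1_6 (baseA ⟨1, by omega⟩) = eA12.symm 6 := by decide +kernel

/-- stage 1, target 7 -/
def tS_1_7 : Equiv.Perm ArrayPt := permOfTbl ![0, 7, 1, 2, 3, 11, 6, 4, 5, 8, 9, 10] ![0, 2, 3, 4, 7, 8, 6, 1, 9, 10, 11, 5] (by decide) (by decide)

/-- signs for stage 1, target 7 -/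
def tC_1_7 : ArrayPt → (ZMod 3)ˣ := sgnOfTbl ![true, false, false, false, false, true, true, true, true, true, false, false]

theorem tOK_1_7 : MonOK tS_1_7 tC_1_7 :=
  monOK_of_basis _ _ (by decide +kernel) (by decide +kernel) (by decide +kernel) (by decide +kernel)
    (by decide +kernel) (by decide +kernel)

theorem tMove_1_7 : (∀ j : Fin 5, j.val < 1 → tS_1_7 (baseA j) = baseA j) ∧
    tS_1_7 (baseA ⟨1, by omega⟩) = eA12.symm 7 := by decide +kernel

/-- stage 1, target 8 -/
def tS_1_8 : Equiv.Perm ArrayPt := permOfTbl ![0, 8, 1, 2, 3, 10, 5, 6, 9, 11, 4, 7] ![0, 2, 3, 4, 10, 6, 7, 11, 1, 8, 5, 9] (by decide) (by decide)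

/-- signs for stage 1, target 8 -/
def tC_1_8 : ArrayPt → (ZMod 3)ˣ := sgnOfTbl ![false, false, false, true, false, false, true, true, false, false, true, false]

theorem tOK_1_8 : MonOK tS_1_8 tC_1_8 :=
  monOK_of_basis _ _ (by decide +kernel) (by decide +kernel) (by decide +kernel) (by decide +kernel)
    (by decide +kernel) (by decide +kernel)

theorem tMove_1_8 : (∀ j : Fin 5, j.val < 1 → tS_1_8 (baseA j) = baseA j) ∧
    tS_1_8 (baseA ⟨1, by omega⟩) = eA12.symm 8 := by decide +kernel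

/-- stage 1, target 9 -/
def tS_1_9 : Equiv.Perm ArrayPt := permOfTbl ![0, 9, 1, 2, 3, 6, 7, 8, 10, 5, 11, 4] ![0, 2, 3, 4, 11, 9, 5, 6, 7, 1, 8, 10] (by decide) (by decide)

/-- signs for stage 1, target 9 -/
def tC_1_9 : ArrayPt → (ZMod 3)ˣ := sgnOfTbl ![true, false, true, true, true, false, true, false, true, false, false, false]

theorem tOK_1_9 : MonOK tS_1_9 tC_1_9 :=
  monOK_of_basis _ _ (by decide +kernel) (by decide +kernel) (by decide +kernel) (by decide +kernel)
    (by decide +kernel) (by decide +kernel)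

theorem tMove_1_9 : (∀ j : Fin 5, j.val < 1 → tS_1_9 (baseA j) = baseA j) ∧
    tS_1_9 (baseA ⟨1, by omega⟩) = eA12.symm 9 := by decide +kernel

/-- stage 1, target 10 -/
def tS_1_10 : Equiv.Perm ArrayPt := permOfTbl ![0, 10, 1, 2, 3, 8, 4, 9, 6, 7, 5, 11] ![0, 2, 3, 4, 6, 10, 8, 9, 5, 7, 1, 11] (by decide) (by decide)

/-- signs for stage 1, target 10 -/
def tC_1_10 : ArrayPt → (ZMod 3)ˣ := sgnOfTbl ![true, true, true, false, true, true, true, true, false, false, true, false]

theorem tOK_1_10 : MonOK tS_1_10 tC_1_10 :=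
  monOK_of_basis _ _ (by decide +kernel) (by decide +kernel) (by decide +kernel) (by decide +kernel)
    (by decide +kernel) (by decide +kernel)

theorem tMove_1_10 : (∀ j : Fin 5, j.val < 1 → tS_1_10 (baseA j) = baseA j) ∧
    tS_1_10 (baseA ⟨1, by omega⟩) = eA12.symm 10 := by decide +kernel

/-- stage 1, target 11 -/
def tS_1_11 : Equiv.Perm ArrayPt := permOfTbl ![0, 11, 1, 2, 3, 7, 9, 5, 4, 10, 6, 8] ![0, 2, 3, 4, 8, 7, 10, 5, 11, 6, 9, 1] (by decide) (by decide)

/-- signs for stage 1, target 11 -/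
def tC_1_11 : ArrayPt → (ZMod 3)ˣ := sgnOfTbl ![false, true, true, true, false, true, false, true, true, false, false, false]

theorem tOK_1_11 : MonOK tS_1_11 tC_1_11 :=
  monOK_of_basis _ _ (by decide +kernel) (by decide +kernel) (by decide +kernel) (by decide +kernel)
    (by decide +kernel) (by decide +kernel)

theorem tMove_1_11 : (∀ j : Fin 5, j.val < 1 → tS_1_11 (baseA j) = baseA j) ∧
    tS_1_11 (baseA ⟨1, by omega⟩) = eA12.symm 11 := by decide +kernel

/-- stage 2, target 2 -/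
def tS_2_2 : Equiv.Perm ArrayPt := permOfTbl ![0, 1, 2, 3, 4, 5, 6, 7, 8, 9, 10, 11] ![0, 1, 2, 3, 4, 5, 6, 7, 8, 9, 10, 11] (by decide) (by decide)

/-- signs for stage 2, target 2 -/
def tC_2_2 : ArrayPt → (ZMod 3)ˣ := sgnOfTbl ![false, false, false, false, false, false, false, false, false, false, false, false]

theorem tOK_2_2 : MonOK tS_2_2 tC_2_2 :=
  monOK_of_basis _ _ (by decide +kernel) (by decide +kernel) (by decide +kernel) (by decide +kernel)
    (by decide +kernel) (by decide +kernel)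

theorem tMove_2_2 : (∀ j : Fin 5, j.val < 2 → tS_2_2 (baseA j) = baseA j) ∧
    tS_2_2 (baseA ⟨2, by omega⟩) = eA12.symm 2 := by decide +kernel

/-- stage 2, target 3 -/
def tS_2_3 : Equiv.Perm ArrayPt := permOfTbl ![0, 1, 3, 2, 4, 5, 7, 6, 10, 11, 8, 9] ![0, 1, 3, 2, 4, 5, 7, 6, 10, 11, 8, 9] (by decide) (by decide)

/-- signs for stage 2, target 3 -/
def tC_2_3 : ArrayPt → (ZMod 3)ˣ := sgnOfTbl ![true, true, false, false, true, true, false, false, true, false, true, false]

theorem tOK_2_3 : MonOK tS_2_3 tC_2_3 :=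
  monOK_of_basis _ _ (by decide +kernel) (by decide +kernel) (by decide +kernel) (by decide +kernel)
    (by decide +kernel) (by decide +kernel)

theorem tMove_2_3 : (∀ j : Fin 5, j.val < 2 → tS_2_3 (baseA j) = baseA j) ∧
    tS_2_3 (baseA ⟨2, by omega⟩) = eA12.symm 3 := by decide +kernel

/-- stage 2, target 4 -/
def tS_2_4 : Equiv.Perm ArrayPt := permOfTbl ![0, 1, 4, 2, 3, 5, 9, 10, 6, 8, 11, 7] ![0, 1, 3, 4, 2, 5, 8, 11, 9, 6, 7, 10] (by decide) (by decide)

/-- signs for stage 2, target 4 -/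
def tC_2_4 : ArrayPt → (ZMod 3)ˣ := sgnOfTbl ![false, false, true, false, true, false, false, true, true, true, true, false]

theorem tOK_2_4 : MonOK tS_2_4 tC_2_4 :=
  monOK_of_basis _ _ (by decide +kernel) (by decide +kernel) (by decide +kernel) (by decide +kernel)
    (by decide +kernel) (by decide +kernel)

theorem tMove_2_4 : (∀ j : Fin 5, j.val < 2 → tS_2_4 (baseA j) = baseA j) ∧
    tS_2_4 (baseA ⟨2, by omega⟩) = eA12.symm 4 := by decide +kernel

/-- stage 2, target 5 -/
def tS_2_5 : Equiv.Perm ArrayPt := permOfTbl ![0, 1, 5, 2, 3, 4, 6, 8, 9, 10, 7, 11] ![0, 1, 3, 4, 5, 2, 6, 10, 7, 8, 9, 11] (by decide) (by decide)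

/-- signs for stage 2, target 5 -/
def tC_2_5 : ArrayPt → (ZMod 3)ˣ := sgnOfTbl ![true, true, false, true, true, false, false, true, false, true, false, false]

theorem tOK_2_5 : MonOK tS_2_5 tC_2_5 :=
  monOK_of_basis _ _ (by decide +kernel) (by decide +kernel) (by decide +kernel) (by decide +kernel)
    (by decide +kernel) (by decide +kernel)

theorem tMove_2_5 : (∀ j : Fin 5, j.val < 2 → tS_2_5 (baseA j) = baseA j) ∧
    tS_2_5 (baseA ⟨2, by omega⟩) = eA12.symm 5 := by decide +kernel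

/-- stage 2, target 6 -/
def tS_2_6 : Equiv.Perm ArrayPt := permOfTbl ![0, 1, 6, 2, 3, 9, 4, 7, 5, 11, 10, 8] ![0, 1, 3, 4, 6, 8, 2, 7, 11, 5, 10, 9] (by decide) (by decide)

/-- signs for stage 2, target 6 -/
def tC_2_6 : ArrayPt → (ZMod 3)ˣ := sgnOfTbl ![true, false, true, true, false, true, false, false, false, true, true, false]

theorem tOK_2_6 : MonOK tS_2_6 tC_2_6 :=
  monOK_of_basis _ _ (by decide +kernel) (by decide +kernel) (by decide +kernel) (by decide +kernel)
    (by decide +kernel) (by decide +kernel)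

theorem tMove_2_6 : (∀ j : Fin 5, j.val < 2 → tS_2_6 (baseA j) = baseA j) ∧
    tS_2_6 (baseA ⟨2, by omega⟩) = eA12.symm 6 := by decide +kernel

/-- stage 2, target 7 -/
def tS_2_7 : Equiv.Perm ArrayPt := permOfTbl ![0, 1, 7, 2, 3, 11, 8, 9, 10, 6, 4, 5] ![0, 1, 3, 4, 10, 11, 9, 2, 6, 7, 8, 5] (by decide) (by decide)

/-- signs for stage 2, target 7 -/
def tC_2_7 : ArrayPt → (ZMod 3)ˣ := sgnOfTbl ![true, false, false, false, false, true, true, true, true, true, false, false]

theorem tOK_2_7 : MonOK tS_2_7 tC_2_7 :=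
  monOK_of_basis _ _ (by decide +kernel) (by decide +kernel) (by decide +kernel) (by decide +kernel)
    (by decide +kernel) (by decide +kernel)

theorem tMove_2_7 : (∀ j : Fin 5, j.val < 2 → tS_2_7 (baseA j) = baseA j) ∧
    tS_2_7 (baseA ⟨2, by omega⟩) = eA12.symm 7 := by decide +kernel

/-- stage 2, target 8 -/
def tS_2_8 : Equiv.Perm ArrayPt := permOfTbl ![0, 1, 8, 2, 3, 10, 11, 4, 7, 5, 6, 9] ![0, 1, 3, 4, 7, 9, 10, 8, 2, 11, 5, 6] (by decide) (by decide)

/-- signs for stage 2, target 8 -/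
def tC_2_8 : ArrayPt → (ZMod 3)ˣ := sgnOfTbl ![false, false, false, true, false, false, true, true, false, false, true, false]

theorem tOK_2_8 : MonOK tS_2_8 tC_2_8 :=
  monOK_of_basis _ _ (by decide +kernel) (by decide +kernel) (by decide +kernel) (by decide +kernel)
    (by decide +kernel) (by decide +kernel)

theorem tMove_2_8 : (∀ j : Fin 5, j.val < 2 → tS_2_8 (baseA j) = baseA j) ∧
    tS_2_8 (baseA ⟨2, by omega⟩) = eA12.symm 8 := by decide +kernel

/-- stage 2, target 9 -/
def tS_2_9 : Equiv.Perm ArrayPt := permOfTbl ![0, 1, 9, 2, 3, 6, 5, 11, 4, 7, 8, 10] ![0, 1, 3, 4, 8, 6, 5, 9, 10, 2, 11, 7] (by decide) (by decide)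

/-- signs for stage 2, target 9 -/
def tC_2_9 : ArrayPt → (ZMod 3)ˣ := sgnOfTbl ![true, false, true, true, true, false, true, false, true, false, false, false]

theorem tOK_2_9 : MonOK tS_2_9 tC_2_9 :=
  monOK_of_basis _ _ (by decide +kernel) (by decide +kernel) (by decide +kernel) (by decide +kernel)
    (by decide +kernel) (by decide +kernel)

theorem tMove_2_9 : (∀ j : Fin 5, j.val < 2 → tS_2_9 (baseA j) = baseA j) ∧
    tS_2_9 (baseA ⟨2, by omega⟩) = eA12.symm 9 := by decide +kernel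

/-- stage 2, target 10 -/
def tS_2_10 : Equiv.Perm ArrayPt := permOfTbl ![0, 1, 10, 2, 3, 8, 7, 5, 11, 4, 9, 6] ![0, 1, 3, 4, 9, 7, 11, 6, 5, 10, 2, 8] (by decide) (by decide)

/-- signs for stage 2, target 10 -/
def tC_2_10 : ArrayPt → (ZMod 3)ˣ := sgnOfTbl ![true, true, true, false, true, true, true, true, false, false, true, false]

theorem tOK_2_10 : MonOK tS_2_10 tC_2_10 :=
  monOK_of_basis _ _ (by decide +kernel) (by decide +kernel) (by decide +kernel) (by decide +kernel)
    (by decide +kernel) (by decide +kernel)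

theorem tMove_2_10 : (∀ j : Fin 5, j.val < 2 → tS_2_10 (baseA j) = baseA j) ∧
    tS_2_10 (baseA ⟨2, by omega⟩) = eA12.symm 10 := by decide +kernel

/-- stage 2, target 11 -/
def tS_2_11 : Equiv.Perm ArrayPt := permOfTbl ![0, 1, 11, 2, 3, 7, 10, 6, 8, 9, 5, 4] ![0, 1, 3, 4, 11, 10, 7, 5, 8, 9, 6, 2] (by decide) (by decide)

/-- signs for stage 2, target 11 -/
def tC_2_11 : ArrayPt → (ZMod 3)ˣ := sgnOfTbl ![false, true, true, true, false, true, false, true, true, false, false, false]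

theorem tOK_2_11 : MonOK tS_2_11 tC_2_11 :=
  monOK_of_basis _ _ (by decide +kernel) (by decide +kernel) (by decide +kernel) (by decide +kernel)
    (by decide +kernel) (by decide +kernel)

theorem tMove_2_11 : (∀ j : Fin 5, j.val < 2 → tS_2_11 (baseA j) = baseA j) ∧
    tS_2_11 (baseA ⟨2, by omega⟩) = eA12.symm 11 := by decide +kernel

/-- stage 3, target 3 -/
def tS_3_3 : Equiv.Perm ArrayPt := permOfTbl ![0, 1, 2, 3, 4, 5, 6, 7, 8, 9, 10, 11] ![0, 1, 2, 3, 4, 5, 6, 7, 8, 9, 10, 11] (by decide) (by decide)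

/-- signs for stage 3, target 3 -/
def tC_3_3 : ArrayPt → (ZMod 3)ˣ := sgnOfTbl ![false, false, false, false, false, false, false, false, false, false, false, false]

theorem tOK_3_3 : MonOK tS_3_3 tC_3_3 :=
  monOK_of_basis _ _ (by decide +kernel) (by decide +kernel) (by decide +kernel) (by decide +kernel)
    (by decide +kernel) (by decide +kernel)

theorem tMove_3_3 : (∀ j : Fin 5, j.val < 3 → tS_3_3 (baseA j) = baseA j) ∧
    tS_3_3 (baseA ⟨3, by omega⟩) = eA12.symm 3 := by decide +kernel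

/-- stage 3, target 4 -/
def tS_3_4 : Equiv.Perm ArrayPt := permOfTbl ![0, 1, 2, 4, 3, 5, 10, 9, 11, 7, 6, 8] ![0, 1, 2, 4, 3, 5, 10, 9, 11, 7, 6, 8] (by decide) (by decide)

/-- signs for stage 3, target 4 -/
def tC_3_4 : ArrayPt → (ZMod 3)ˣ := sgnOfTbl ![false, false, false, false, false, false, false, false, false, false, false, false]

theorem tOK_3_4 : MonOK tS_3_4 tC_3_4 :=
  monOK_of_basis _ _ (by decide +kernel) (by decide +kernel) (by decide +kernel) (by decide +kernel)
    (by decide +kernel) (by decide +kernel)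

theorem tMove_3_4 : (∀ j : Fin 5, j.val < 3 → tS_3_4 (baseA j) = baseA j) ∧
    tS_3_4 (baseA ⟨3, by omega⟩) = eA12.symm 4 := by decide +kernel

/-- stage 3, target 5 -/
def tS_3_5 : Equiv.Perm ArrayPt := permOfTbl ![0, 1, 2, 5, 3, 4, 8, 6, 7, 11, 9, 10] ![0, 1, 2, 4, 5, 3, 7, 8, 6, 10, 11, 9] (by decide) (by decide)

/-- signs for stage 3, target 5 -/
def tC_3_5 : ArrayPt → (ZMod 3)ˣ := sgnOfTbl ![false, false, false, false, false, false, false, false, false, false, false, false]

theorem tOK_3_5 : MonOK tS_3_5 tC_3_5 :=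
  monOK_of_basis _ _ (by decide +kernel) (by decide +kernel) (by decide +kernel) (by decide +kernel)
    (by decide +kernel) (by decide +kernel)

theorem tMove_3_5 : (∀ j : Fin 5, j.val < 3 → tS_3_5 (baseA j) = baseA j) ∧
    tS_3_5 (baseA ⟨3, by omega⟩) = eA12.symm 5 := by decide +kernel

/-- stage 3, target 6 -/
def tS_3_6 : Equiv.Perm ArrayPt := permOfTbl ![0, 1, 2, 6, 3, 9, 7, 4, 10, 8, 5, 11] ![0, 1, 2, 4, 7, 10, 3, 6, 9, 5, 8, 11] (by decide) (by decide)

/-- signs for stage 3, target 6 -/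
def tC_3_6 : ArrayPt → (ZMod 3)ˣ := sgnOfTbl ![false, true, true, false, false, false, false, false, false, false, false, false]

theorem tOK_3_6 : MonOK tS_3_6 tC_3_6 :=
  monOK_of_basis _ _ (by decide +kernel) (by decide +kernel) (by decide +kernel) (by decide +kernel)
    (by decide +kernel) (by decide +kernel)

theorem tMove_3_6 : (∀ j : Fin 5, j.val < 3 → tS_3_6 (baseA j) = baseA j) ∧
    tS_3_6 (baseA ⟨3, by omega⟩) = eA12.symm 6 := by decide +kernel

/-- stage 3, target 7 -/
def tS_3_7 : Equiv.Perm ArrayPt := permOfTbl ![0, 1, 2, 7, 3, 11, 9, 8, 4, 5, 10, 6] ![0, 1, 2, 4, 8, 9, 11, 3, 7, 6, 10, 5] (by decide) (by decide)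

/-- signs for stage 3, target 7 -/
def tC_3_7 : ArrayPt → (ZMod 3)ˣ := sgnOfTbl ![true, false, true, false, false, false, false, false, false, false, false, false]

theorem tOK_3_7 : MonOK tS_3_7 tC_3_7 :=
  monOK_of_basis _ _ (by decide +kernel) (by decide +kernel) (by decide +kernel) (by decide +kernel)
    (by decide +kernel) (by decide +kernel)

theorem tMove_3_7 : (∀ j : Fin 5, j.val < 3 → tS_3_7 (baseA j) = baseA j) ∧
    tS_3_7 (baseA ⟨3, by omega⟩) = eA12.symm 7 := by decide +kernel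

/-- stage 3, target 8 -/
def tS_3_8 : Equiv.Perm ArrayPt := permOfTbl ![0, 1, 2, 8, 3, 10, 4, 11, 6, 9, 7, 5] ![0, 1, 2, 4, 6, 11, 8, 10, 3, 9, 5, 7] (by decide) (by decide)

/-- signs for stage 3, target 8 -/
def tC_3_8 : ArrayPt → (ZMod 3)ˣ := sgnOfTbl ![true, true, false, false, false, false, false, false, false, false, false, false]

theorem tOK_3_8 : MonOK tS_3_8 tC_3_8 :=
  monOK_of_basis _ _ (by decide +kernel) (by decide +kernel) (by decide +kernel) (by decide +kernel)
    (by decide +kernel) (by decide +kernel)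

theorem tMove_3_8 : (∀ j : Fin 5, j.val < 3 → tS_3_8 (baseA j) = baseA j) ∧
    tS_3_8 (baseA ⟨3, by omega⟩) = eA12.symm 8 := by decide +kernel

/-- stage 3, target 9 -/
def tS_3_9 : Equiv.Perm ArrayPt := permOfTbl ![0, 1, 2, 9, 3, 6, 11, 5, 8, 10, 4, 7] ![0, 1, 2, 4, 10, 7, 5, 11, 8, 3, 9, 6] (by decide) (by decide)

/-- signs for stage 3, target 9 -/
def tC_3_9 : ArrayPt → (ZMod 3)ˣ := sgnOfTbl ![false, true, true, false, false, false, false, false, false, false, false, false]

theorem tOK_3_9 : MonOK tS_3_9 tC_3_9 :=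
  monOK_of_basis _ _ (by decide +kernel) (by decide +kernel) (by decide +kernel) (by decide +kernel)
    (by decide +kernel) (by decide +kernel)

theorem tMove_3_9 : (∀ j : Fin 5, j.val < 3 → tS_3_9 (baseA j) = baseA j) ∧
    tS_3_9 (baseA ⟨3, by omega⟩) = eA12.symm 9 := by decide +kernel

/-- stage 3, target 10 -/
def tS_3_10 : Equiv.Perm ArrayPt := permOfTbl ![0, 1, 2, 10, 3, 8, 5, 7, 9, 6, 11, 4] ![0, 1, 2, 4, 11, 6, 9, 7, 5, 8, 3, 10] (by decide) (by decide)

/-- signs for stage 3, target 10 -/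
def tC_3_10 : ArrayPt → (ZMod 3)ˣ := sgnOfTbl ![true, true, false, false, false, false, false, false, false, false, false, false]

theorem tOK_3_10 : MonOK tS_3_10 tC_3_10 :=
  monOK_of_basis _ _ (by decide +kernel) (by decide +kernel) (by decide +kernel) (by decide +kernel)
    (by decide +kernel) (by decide +kernel)

theorem tMove_3_10 : (∀ j : Fin 5, j.val < 3 → tS_3_10 (baseA j) = baseA j) ∧
    tS_3_10 (baseA ⟨3, by omega⟩) = eA12.symm 10 := by decide +kernel

/-- stage 3, target 11 -/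
def tS_3_11 : Equiv.Perm ArrayPt := permOfTbl ![0, 1, 2, 11, 3, 7, 6, 10, 5, 4, 8, 9] ![0, 1, 2, 4, 9, 8, 6, 5, 10, 11, 7, 3] (by decide) (by decide)

/-- signs for stage 3, target 11 -/
def tC_3_11 : ArrayPt → (ZMod 3)ˣ := sgnOfTbl ![true, false, true, false, false, false, false, false, false, false, false, false]

theorem tOK_3_11 : MonOK tS_3_11 tC_3_11 :=
  monOK_of_basis _ _ (by decide +kernel) (by decide +kernel) (by decide +kernel) (by decide +kernel)
    (by decide +kernel) (by decide +kernel)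

theorem tMove_3_11 : (∀ j : Fin 5, j.val < 3 → tS_3_11 (baseA j) = baseA j) ∧
    tS_3_11 (baseA ⟨3, by omega⟩) = eA12.symm 11 := by decide +kernel

/-- stage 4, target 4 -/
def tS_4_4 : Equiv.Perm ArrayPt := permOfTbl ![0, 1, 2, 3, 4, 5, 6, 7, 8, 9, 10, 11] ![0, 1, 2, 3, 4, 5, 6, 7, 8, 9, 10, 11] (by decide) (by decide)

/-- signs for stage 4, target 4 -/
def tC_4_4 : ArrayPt → (ZMod 3)ˣ := sgnOfTbl ![false, false, false, false, false, false, false, false, false, false, false, false]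

theorem tOK_4_4 : MonOK tS_4_4 tC_4_4 :=
  monOK_of_basis _ _ (by decide +kernel) (by decide +kernel) (by decide +kernel) (by decide +kernel)
    (by decide +kernel) (by decide +kernel)

theorem tMove_4_4 : (∀ j : Fin 5, j.val < 4 → tS_4_4 (baseA j) = baseA j) ∧
    tS_4_4 (baseA ⟨4, by omega⟩) = eA12.symm 4 := by decide +kernel

/-- stage 4, target 5 -/
def tS_4_5 : Equiv.Perm ArrayPt := permOfTbl ![0, 1, 2, 3, 5, 4, 9, 11, 10, 6, 8, 7] ![0, 1, 2, 3, 5, 4, 9, 11, 10, 6, 8, 7] (by decide) (by decide)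

/-- signs for stage 4, target 5 -/
def tC_4_5 : ArrayPt → (ZMod 3)ˣ := sgnOfTbl ![false, false, false, false, false, false, false, false, false, false, false, false]

theorem tOK_4_5 : MonOK tS_4_5 tC_4_5 :=
  monOK_of_basis _ _ (by decide +kernel) (by decide +kernel) (by decide +kernel) (by decide +kernel)
    (by decide +kernel) (by decide +kernel)

theorem tMove_4_5 : (∀ j : Fin 5, j.val < 4 → tS_4_5 (baseA j) = baseA j) ∧
    tS_4_5 (baseA ⟨4, by omega⟩) = eA12.symm 5 := by decide +kernel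

/-- stage 4, target 6 -/
def tS_4_6 : Equiv.Perm ArrayPt := permOfTbl ![0, 1, 2, 3, 6, 9, 5, 8, 11, 4, 7, 10] ![0, 1, 2, 3, 9, 6, 4, 10, 7, 5, 11, 8] (by decide) (by decide)

/-- signs for stage 4, target 6 -/
def tC_4_6 : ArrayPt → (ZMod 3)ˣ := sgnOfTbl ![false, true, true, false, false, false, false, false, false, false, false, false]

theorem tOK_4_6 : MonOK tS_4_6 tC_4_6 :=
  monOK_of_basis _ _ (by decide +kernel) (by decide +kernel) (by decide +kernel) (by decide +kernel)
    (by decide +kernel) (by decide +kernel)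

theorem tMove_4_6 : (∀ j : Fin 5, j.val < 4 → tS_4_6 (baseA j) = baseA j) ∧
    tS_4_6 (baseA ⟨4, by omega⟩) = eA12.symm 6 := by decide +kernel

/-- stage 4, target 7 -/
def tS_4_7 : Equiv.Perm ArrayPt := permOfTbl ![0, 1, 2, 3, 7, 11, 10, 5, 6, 8, 9, 4] ![0, 1, 2, 3, 11, 7, 8, 4, 9, 10, 6, 5] (by decide) (by decide)

/-- signs for stage 4, target 7 -/
def tC_4_7 : ArrayPt → (ZMod 3)ˣ := sgnOfTbl ![true, false, true, false, false, false, false, false, false, false, false, false]

theorem tOK_4_7 : MonOK tS_4_7 tC_4_7 :=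
  monOK_of_basis _ _ (by decide +kernel) (by decide +kernel) (by decide +kernel) (by decide +kernel)
    (by decide +kernel) (by decide +kernel)

theorem tMove_4_7 : (∀ j : Fin 5, j.val < 4 → tS_4_7 (baseA j) = baseA j) ∧
    tS_4_7 (baseA ⟨4, by omega⟩) = eA12.symm 7 := by decide +kernel

/-- stage 4, target 8 -/
def tS_4_8 : Equiv.Perm ArrayPt := permOfTbl ![0, 1, 2, 3, 8, 10, 7, 9, 5, 11, 4, 6] ![0, 1, 2, 3, 10, 8, 11, 6, 4, 7, 5, 9] (by decide) (by decide)

/-- signs for stage 4, target 8 -/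
def tC_4_8 : ArrayPt → (ZMod 3)ˣ := sgnOfTbl ![true, true, false, false, false, false, false, false, false, false, false, false]

theorem tOK_4_8 : MonOK tS_4_8 tC_4_8 :=
  monOK_of_basis _ _ (by decide +kernel) (by decide +kernel) (by decide +kernel) (by decide +kernel)
    (by decide +kernel) (by decide +kernel)

theorem tMove_4_8 : (∀ j : Fin 5, j.val < 4 → tS_4_8 (baseA j) = baseA j) ∧
    tS_4_8 (baseA ⟨4, by omega⟩) = eA12.symm 8 := by decide +kernel

/-- stage 4, target 9 -/
def tS_4_9 : Equiv.Perm ArrayPt := permOfTbl ![0, 1, 2, 3, 9, 6, 4, 10, 7, 5, 11, 8] ![0, 1, 2, 3, 6, 9, 5, 8, 11, 4, 7, 10] (by decide) (by decide)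

/-- signs for stage 4, target 9 -/
def tC_4_9 : ArrayPt → (ZMod 3)ˣ := sgnOfTbl ![false, true, true, false, false, false, false, false, false, false, false, false]

theorem tOK_4_9 : MonOK tS_4_9 tC_4_9 :=
  monOK_of_basis _ _ (by decide +kernel) (by decide +kernel) (by decide +kernel) (by decide +kernel)
    (by decide +kernel) (by decide +kernel)

theorem tMove_4_9 : (∀ j : Fin 5, j.val < 4 → tS_4_9 (baseA j) = baseA j) ∧
    tS_4_9 (baseA ⟨4, by omega⟩) = eA12.symm 9 := by decide +kernel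

/-- stage 4, target 10 -/
def tS_4_10 : Equiv.Perm ArrayPt := permOfTbl ![0, 1, 2, 3, 10, 8, 11, 6, 4, 7, 5, 9] ![0, 1, 2, 3, 8, 10, 7, 9, 5, 11, 4, 6] (by decide) (by decide)

/-- signs for stage 4, target 10 -/
def tC_4_10 : ArrayPt → (ZMod 3)ˣ := sgnOfTbl ![true, true, false, false, false, false, false, false, false, false, false, false]

theorem tOK_4_10 : MonOK tS_4_10 tC_4_10 :=
  monOK_of_basis _ _ (by decide +kernel) (by decide +kernel) (by decide +kernel) (by decide +kernel)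
    (by decide +kernel) (by decide +kernel)

theorem tMove_4_10 : (∀ j : Fin 5, j.val < 4 → tS_4_10 (baseA j) = baseA j) ∧
    tS_4_10 (baseA ⟨4, by omega⟩) = eA12.symm 10 := by decide +kernel

/-- stage 4, target 11 -/
def tS_4_11 : Equiv.Perm ArrayPt := permOfTbl ![0, 1, 2, 3, 11, 7, 8, 4, 9, 10, 6, 5] ![0, 1, 2, 3, 7, 11, 10, 5, 6, 8, 9, 4] (by decide) (by decide)

/-- signs for stage 4, target 11 -/
def tC_4_11 : ArrayPt → (ZMod 3)ˣ := sgnOfTbl ![true, false, true, false, false, false, false, false, false, false, false, false]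

theorem tOK_4_11 : MonOK tS_4_11 tC_4_11 :=
  monOK_of_basis _ _ (by decide +kernel) (by decide +kernel) (by decide +kernel) (by decide +kernel)
    (by decide +kernel) (by decide +kernel)

theorem tMove_4_11 : (∀ j : Fin 5, j.val < 4 → tS_4_11 (baseA j) = baseA j) ∧
    tS_4_11 (baseA ⟨4, by omega⟩) = eA12.symm 11 := by decide +kernel

end Cfsg.Agent.Helper27
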