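import Cfsg.Agent.Helper27.GLIso
import Cfsg.Agent.Helper27.OctadTriosKer
import Cfsg.Agent.Helper27.SextData
import Cfsg.Agent.Helper27.SextetComplete
import Cfsg.Agent.Helper27.TrioData
import Cfsg.Agent.Helper27.M9

/-!
The stabiliser in `Cfsg.M24` of the standard trio: the seven sextets refining the trio, labelled by the nonzero
vectors of the three-dimensional space over the field with two elements so that collinear sextets add up, and the
enumeration of the elements fixing the three octads and the seven sextets.
-/

set_option autoImplicit false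

namespace Cfsg.Agent.Helper27

open Cfsg
open scoped Pointwise

/-- the three-dimensional space over the field with two elements -/
abbrev V3 : Type := Fin 3 → ZMod 2

/-- vectors as numbers below 8 -/
def code (v : V3) : ℕ := (v 0).val + 2 * (v 1).val + 4 * (v 2).val

theorem code_lt (v : V3) : code v < 8 := by revert v; decide

theorem code_injective : Function.Injective code := by
  intro v w; revert v w; decide

theorem code_add (v w : V3) : code (v + w) = code v ^^^ code w := by revert v w; decide

theorem code_eq_zero_iff (v : V3) : code v = 0 ↔ v = 0 := by revert v; decide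

theorem code_surj : ∀ k < 8, ∃ v : V3, code v = k := by decide

/-- the standard trio, followed by the seven sextets refining it, indexed by the nonzero vectors -/
def sxData : List (List ℕ) := [
  [5279, 1009728, 15762208],
  [1031, 4248, 458816, 550912, 6291744, 9470464],
  [1172, 4107, 206848, 802880, 1049376, 14712832],
  [147, 5132, 272448, 737280, 7340544, 8421664],
  [29, 5250, 346112, 663616, 5275680, 10486528],
  [1050, 4229, 149568, 860160, 3178752, 12583456],
  [1161, 4118, 417792, 591936, 4227840, 11534368],
  [142, 5137, 90176, 919552, 2130464, 13631744]]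

/-- the list of masks with a given index -/
def sxM (k : ℕ) : List ℕ := sxData.getD k []

/-- the masks of the standard trio -/
def trioM : List ℕ := [5279, 1009728, 15762208]

theorem trioM_mem : trioM ∈ trioL := by
  rw [← trioData_eq]
  decide +kernel

theorem sxM_mem : ∀ k, 1 ≤ k → k < 8 → sxM k ∈ sextL := by
  rw [← sextData_eq]
  decide +kernel

theorem sxM_sorted : ∀ k, k < 8 → sortedB (sxM k) = true := by decide

theorem sxM_inj : ∀ k, k < 8 → ∀ l, l < 8 → sxM k = sxM l → k = l := by decide

theorem sxM_lt {k : ℕ} (hk : k < 8) {m : ℕ} (hm : m ∈ sxM k) : m < 2 ^ 24 :=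
  (sortedB_spec (sxM_sorted k hk)).2 m hm

/-- refinement of the standard trio, on masks -/
def refB (L : List ℕ) : Bool := L.all (fun m => trioM.any (fun o => m &&& o == m))

theorem sext_filter : sextData.filter refB = sxData.tail := by decide +kernel

theorem sxM_refB : ∀ k, 1 ≤ k → k < 8 → refB (sxM k) = true := by decide

/-- two sextets of the family determine a third -/
def lineExB : Bool := (List.range 8).all fun k => (List.range 8).all fun l =>
  (k == 0 || l == 0 || k == l) ||
    (sxM k).any fun t => (sxM l).any fun u => (sxM (k ^^^ l)).contains (t ^^^ u)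

theorem lineEx : lineExB = true := by decide +kernel

/-- the third sextet is determined -/
def lineUnB : Bool := (List.range 8).all fun k => (List.range 8).all fun l => (List.range 8).all fun m =>
  (k == 0 || l == 0 || m == 0 || k == l) ||
    (sxM k).all fun t => (sxM l).all fun u => !(sxM m).contains (t ^^^ u) || m == (k ^^^ l)

theorem lineUn : lineUnB = true := by decide +kernel

/-! ### The families of sets -/

/-- the standard trio -/
def T0 : Finset (Finset GolayPt) := famOf trioM

/-- the standard trio and the seven sextets refining it, indexed by vectors -/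
def fS (v : V3) : Finset (Finset GolayPt) := famOf (sxM (code v))

/-- the octads of the standard trio -/
def fO (i : Fin 3) : Finset GolayPt := maskSet (trioM.getD i.val 0)

theorem fS_zero : fS 0 = T0 := rfl

theorem T0_mem : T0 ∈ trios := (trioL_sound trioM_mem).2

theorem fS_injective : Function.Injective fS := by
  intro v w h
  apply code_injective
  apply sxM_inj _ (code_lt v) _ (code_lt w)
  exact famOf_inj (sxM_sorted _ (code_lt v)) (sxM_sorted _ (code_lt w)) h

theorem code_pos {v : V3} (hv : v ≠ 0) : 1 ≤ code v := by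
  rcases Nat.eq_zero_or_pos (code v) with h | h
  · exact absurd ((code_eq_zero_iff v).mp h) hv
  · exact h

theorem fS_mem_sextets {v : V3} (hv : v ≠ 0) : fS v ∈ sextets :=
  (sextL_sound (sxM_mem _ (code_pos hv) (code_lt v))).2

theorem mem_T0_iff (X : Finset GolayPt) : X ∈ T0 ↔ ∃ i : Fin 3, X = fO i := by
  rw [T0, trioM, famOf_three]
  constructor
  · rintro (h | h | h)
    · exact ⟨0, h⟩
    · exact ⟨1, h⟩
    · exact ⟨2, h⟩
  · rintro ⟨i, rfl⟩
    fin_cases i
    · exact Or.inl rfl
    · exact Or.inr (Or.inl rfl)
    · exact Or.inr (Or.inr rfl)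

theorem fO_injective : Function.Injective fO := by
  intro i j h
  have hlt : ∀ i : Fin 3, trioM.getD i.val 0 < 2 ^ 24 := by decide
  have := maskSet_injOn (hlt i) (hlt j) h
  revert this
  revert i j
  decide

theorem maskSet_subset_iff {m o : ℕ} (hm : m < 2 ^ 24) : maskSet m ⊆ maskSet o ↔ m &&& o = m := by
  constructor
  · intro h
    apply maskSet_injOn (lt_of_le_of_lt Nat.and_le_left hm) hm
    rw [maskSet_and]
    exact Finset.inter_eq_left.mpr h
  · intro h
    rw [← h, maskSet_and]
    exact Finset.inter_subset_right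

/-- refinement of a family by another -/
def Refines (S T : Finset (Finset GolayPt)) : Prop := ∀ t ∈ S, ∃ o ∈ T, t ⊆ o

theorem refines_smul (g : Equiv.Perm GolayPt) {S T : Finset (Finset GolayPt)} (h : Refines S T) :
    Refines (g • S) (g • T) := by
  intro t ht
  obtain ⟨t', ht', rfl⟩ := Finset.mem_smul_finset.mp ht
  obtain ⟨o, ho, hto⟩ := h t' ht'
  exact ⟨g • o, Finset.smul_mem_smul_finset ho, Finset.smul_finset_subset_smul_finset hto⟩

theorem fS_refines {v : V3} (hv : v ≠ 0) : Refines (fS v) T0 := by
  intro t ht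
  obtain ⟨m, hm, rfl⟩ := (mem_famOf _ _).mp ht
  have h1 := sxM_refB _ (code_pos hv) (code_lt v)
  rw [refB, List.all_eq_true] at h1
  have h2 := h1 m hm
  rw [List.any_eq_true] at h2
  obtain ⟨o, ho, hmo⟩ := h2
  rw [beq_iff_eq] at hmo
  refine ⟨maskSet o, (mem_famOf _ _).mpr ⟨o, ho, rfl⟩, ?_⟩
  exact (maskSet_subset_iff (sxM_lt (code_lt v) hm)).mpr hmo

/-- the sextets refining the standard trio are the seven listed ones -/
theorem refining_sextet {S : Finset (Finset GolayPt)} (hS : S ∈ sextets) (href : Refines S T0) :
    ∃ v : V3, v ≠ 0 ∧ S = fS v := by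
  obtain ⟨L, hL, rfl⟩ := sextL_complete hS
  have hs := sextL_sound hL
  have hlt := (sortedB_spec hs.1).2
  have href : refB L = true := by
    rw [refB, List.all_eq_true]
    intro m hm
    obtain ⟨o, ho, hsub⟩ := href (maskSet m) ((mem_famOf _ _).mpr ⟨m, hm, rfl⟩)
    obtain ⟨o', ho', rfl⟩ := (mem_famOf _ _).mp ho
    rw [List.any_eq_true]
    exact ⟨o', ho', beq_iff_eq.mpr ((maskSet_subset_iff (hlt m hm)).mp hsub)⟩
  have hmem : L ∈ sxData.tail := by
    rw [← sext_filter, sextData_eq, List.mem_filter]
    exact ⟨hL, href⟩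
  have : ∃ k, 1 ≤ k ∧ k < 8 ∧ L = sxM k := by
    simp only [sxData, List.tail_cons, List.mem_cons, List.not_mem_nil, or_false] at hmem
    rcases hmem with h | h | h | h | h | h | h
    · exact ⟨1, by norm_num, by norm_num, h⟩
    · exact ⟨2, by norm_num, by norm_num, h⟩
    · exact ⟨3, by norm_num, by norm_num, h⟩
    · exact ⟨4, by norm_num, by norm_num, h⟩
    · exact ⟨5, by norm_num, by norm_num, h⟩
    · exact ⟨6, by norm_num, by norm_num, h⟩
    · exact ⟨7, by norm_num, by norm_num, h⟩
  obtain ⟨k, hk1, hk8, rfl⟩ := this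
  obtain ⟨v, rfl⟩ := code_surj k hk8
  refine ⟨v, ?_, rfl⟩
  intro h0
  rw [h0] at hk1
  have : code (0 : V3) = 0 := (code_eq_zero_iff 0).mpr rfl
  omega

/-! ### Collinear sextets -/

theorem maskSet_xor (a b : ℕ) : maskSet (a ^^^ b) = symmDiff (maskSet a) (maskSet b) := by
  ext q
  rw [Finset.mem_symmDiff, mem_maskSet, mem_maskSet, mem_maskSet, Nat.testBit_xor]
  cases a.testBit (idx q) <;> cases b.testBit (idx q) <;> simp

/-- the relation between three families: a member of the first and a member of the second have their symmetric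
difference in the third -/
def LineRel (S S' S'' : Finset (Finset GolayPt)) : Prop := ∃ t ∈ S, ∃ u ∈ S', symmDiff t u ∈ S''

theorem lineRel_smul (g : Equiv.Perm GolayPt) {S S' S'' : Finset (Finset GolayPt)} (h : LineRel S S' S'') :
    LineRel (g • S) (g • S') (g • S'') := by
  obtain ⟨t, ht, u, hu, htu⟩ := h
  refine ⟨g • t, Finset.smul_mem_smul_finset ht, g • u, Finset.smul_mem_smul_finset hu, ?_⟩
  rw [← Finset.smul_finset_symmDiff]
  exact Finset.smul_mem_smul_finset htu

theorem lineRel_fS {v w : V3} (hv : v ≠ 0) (hw : w ≠ 0) (hvw : v ≠ w) : LineRel (fS v) (fS w) (fS (v + w)) := by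
  have h := lineEx
  rw [lineExB, List.all_eq_true] at h
  have h1 := h (code v) (List.mem_range.mpr (code_lt v))
  rw [List.all_eq_true] at h1
  have h2 := h1 (code w) (List.mem_range.mpr (code_lt w))
  have hv1 := code_pos hv
  have hw1 := code_pos hw
  have hne : code v ≠ code w := fun e => hvw (code_injective e)
  simp only [Bool.or_eq_true, beq_iff_eq, List.any_eq_true, List.contains_iff_mem] at h2
  rcases h2 with ((h2 | h2) | h2) | ⟨t, ht, u, hu, htu⟩
  · omega
  · omega
  · exact absurd h2 hne
  · refine ⟨maskSet t, (mem_famOf _ _).mpr ⟨t, ht, rfl⟩, maskSet u, (mem_famOf _ _).mpr ⟨u, hu, rfl⟩, ?_⟩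
    rw [← maskSet_xor, fS, code_add]
    exact (mem_famOf _ _).mpr ⟨t ^^^ u, htu, rfl⟩

theorem lineRel_fS_unique {v w x : V3} (hv : v ≠ 0) (hw : w ≠ 0) (hx : x ≠ 0) (hvw : v ≠ w)
    (h : LineRel (fS v) (fS w) (fS x)) : x = v + w := by
  obtain ⟨t', ht', u', hu', htu⟩ := h
  obtain ⟨t, ht, rfl⟩ := (mem_famOf _ _).mp ht'
  obtain ⟨u, hu, rfl⟩ := (mem_famOf _ _).mp hu'
  obtain ⟨m, hm, hmtu⟩ := (mem_famOf _ _).mp htu
  rw [← maskSet_xor] at hmtu
  have hm' : m = t ^^^ u :=
    maskSet_injOn (sxM_lt (code_lt x) hm)
      (Nat.xor_lt_two_pow (sxM_lt (code_lt v) ht) (sxM_lt (code_lt w) hu)) hmtu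
  rw [hm'] at hm
  have h := lineUn
  rw [lineUnB, List.all_eq_true] at h
  have h1 := h (code v) (List.mem_range.mpr (code_lt v))
  rw [List.all_eq_true] at h1
  have h2 := h1 (code w) (List.mem_range.mpr (code_lt w))
  rw [List.all_eq_true] at h2
  have h3 := h2 (code x) (List.mem_range.mpr (code_lt x))
  have hv1 := code_pos hv
  have hw1 := code_pos hw
  have hx1 := code_pos hx
  have hne : code v ≠ code w := fun e => hvw (code_injective e)
  simp only [Bool.or_eq_true, beq_iff_eq, List.all_eq_true, List.contains_iff_mem, Bool.not_eq_true',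
    decide_eq_false_iff_not] at h3
  rcases h3 with (((h3 | h3) | h3) | h3) | h3
  · omega
  · omega
  · omega
  · exact absurd h3 hne
  · rcases h3 t ht u hu with h4 | h4
    · simp only [List.contains_eq_mem, decide_eq_false_iff_not] at h4
      exact absurd hm h4
    · apply code_injective
      rw [code_add]
      exact h4

theorem card_fS_zero : (fS 0).card = 3 := by
  rw [fS_zero]
  exact T0_mem.1

theorem card_fS {v : V3} (hv : v ≠ 0) : (fS v).card = 6 := (fS_mem_sextets hv).1

/-- a permutation of the vectors compatible with a permutation of the points is additive -/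
theorem perm_additive {g : Equiv.Perm GolayPt} {σ : Equiv.Perm V3} (h : ∀ v, fS (σ v) = g • fS v) (v w : V3) :
    σ (v + w) = σ v + σ w := by
  have hσ0 : σ 0 = 0 := by
    by_contra h0
    have h1 := card_fS h0
    rw [h 0, Finset.card_smul_finset, card_fS_zero] at h1
    omega
  have hne0 : ∀ {a : V3}, a ≠ 0 → σ a ≠ 0 := by
    intro a ha e
    rw [← hσ0] at e
    exact ha (σ.injective e)
  have hchar : ∀ a : V3, a + a = 0 := by decide
  have hsum : ∀ a b : V3, a + b = 0 → a = b := by decide
  by_cases hv : v = 0
  · subst hv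
    rw [zero_add, hσ0, zero_add]
  by_cases hw : w = 0
  · subst hw
    rw [add_zero, hσ0, add_zero]
  by_cases hvw : v = w
  · subst hvw
    rw [hchar, hchar, hσ0]
  have hs : v + w ≠ 0 := fun e => hvw (hsum v w e)
  have h1 := lineRel_smul g (lineRel_fS hv hw hvw)
  rw [← h v, ← h w, ← h (v + w)] at h1
  exact lineRel_fS_unique (hne0 hv) (hne0 hw) (hne0 hs) (fun e => hvw (σ.injective e)) h1

/-! ### The pruned enumeration of the kernel -/

/-- a point and its image lie in the same octad of the standard trio -/
def trioOctB (b v : ℕ) : Bool := trioM.all (fun o => o.testBit b == o.testBit v)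

/-- two points lie in a common tetrad of a sextet -/
def sameTetB (k p q : ℕ) : Bool := (sxM k).any (fun t => t.testBit p && t.testBit q)

/-- the three coordinate sextets see the same relation between two points and between their images -/
def pairB (b v b' v' : ℕ) : Bool := [1, 2, 4].all (fun k => sameTetB k b b' == sameTetB k v v')

/-- pruning for the kernel of the action on the octads and the sextets -/
def okK (vs : List ℕ) : Bool :=
  (vs.zip baseL).all (fun p => trioOctB p.2 p.1 && (vs.zip baseL).all (fun q => pairB p.2 p.1 q.2 q.1))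

set_option maxRecDepth 100000 in
theorem kerEnum_length : (enumL chainL [] idT okK).length = 64 := by decide +kernel

set_option maxRecDepth 100000 in
theorem kerEnum_sq : (enumL chainL [] idT okK).all (fun T => compT T T == idT) = true := by decide +kernel

theorem testBit_of_smul_eq {g : Equiv.Perm GolayPt} {o : ℕ} (h : g • maskSet o = maskSet o) (p : GolayPt) :
    o.testBit (idx (g p)) = o.testBit (idx p) := by
  have h1 : g p ∈ maskSet o ↔ p ∈ maskSet o := by
    conv_lhs => rw [← h]
    rw [mem_smul_finset_perm]
  rw [mem_maskSet, mem_maskSet] at h1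
  exact Bool.eq_iff_iff.mpr h1

theorem sameTet_imp {g : Equiv.Perm GolayPt} {L : List ℕ} (h : g • famOf L = famOf L) (p q : GolayPt)
    (hpq : (L.any fun t => t.testBit (idx p) && t.testBit (idx q)) = true) :
    (L.any fun t => t.testBit (idx (g p)) && t.testBit (idx (g q))) = true := by
  rw [List.any_eq_true] at hpq ⊢
  obtain ⟨t, ht, hb⟩ := hpq
  rw [Bool.and_eq_true, ← mem_maskSet, ← mem_maskSet] at hb
  have h1 : g • maskSet t ∈ famOf L := by
    rw [← h]
    exact Finset.smul_mem_smul_finset ((mem_famOf _ _).mpr ⟨t, ht, rfl⟩)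
  obtain ⟨t', ht', e⟩ := (mem_famOf _ _).mp h1
  refine ⟨t', ht', ?_⟩
  rw [Bool.and_eq_true, ← mem_maskSet, ← mem_maskSet, e]
  exact ⟨(mem_smul_finset_perm g _ p).mpr hb.1, (mem_smul_finset_perm g _ q).mpr hb.2⟩

theorem sameTet_eq {g : Equiv.Perm GolayPt} {L : List ℕ} (h : g • famOf L = famOf L) (p q : GolayPt) :
    (L.any fun t => t.testBit (idx p) && t.testBit (idx q)) =
      (L.any fun t => t.testBit (idx (g p)) && t.testBit (idx (g q))) := by
  apply Bool.eq_iff_iff.mpr
  constructor
  · exact sameTet_imp h p q
  · intro h1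
    have hinv : g⁻¹ • famOf L = famOf L := by rw [inv_smul_eq_iff, h]
    have := sameTet_imp hinv (g p) (g q) h1
    simpa using this

/-- an element of `M24` fixing the octads of the standard trio and the seven sextets is found by the
enumeration -/
theorem ker_mem_enum {g : Equiv.Perm GolayPt} (hg : g ∈ M24) (hO : ∀ i, g • fO i = fO i)
    (hS : ∀ v, g • fS v = fS v) : tblOf g ∈ enumL chainL [] idT okK := by
  have himg : ∀ β, β < 24 → (tblOf g).getD β 0 = idx (g (pt β)) := fun β hβ => tblOf_getD g hβ
  apply m24_enum_sound _ hg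
  intro n _ _
  rw [okK]
  apply zip_baseImgs_all (tblOf g)
    (fun v β => trioOctB β v && ((baseImgs (tblOf g) n).zip baseL).all (fun q => pairB β v q.2 q.1))
  intro β hβ
  have hβ24 := mem_baseL_lt hβ
  rw [Bool.and_eq_true]
  constructor
  · rw [trioOctB, trioM, himg β hβ24]
    have e0 := testBit_of_smul_eq (hO 0) (pt β)
    have e1 := testBit_of_smul_eq (hO 1) (pt β)
    have e2 := testBit_of_smul_eq (hO 2) (pt β)
    rw [idx_pt hβ24] at e0 e1 e2
    simp only [fO, trioM, Fin.val_zero, Fin.val_one, Fin.val_two, List.getD_cons_zero, List.getD_cons_succ] at e0 e1 e2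
    simp only [List.all_cons, List.all_nil, Bool.and_true, Bool.and_eq_true, beq_iff_eq]
    exact ⟨e0.symm, e1.symm, e2.symm⟩
  · apply zip_baseImgs_all (tblOf g) (fun v' β' => pairB β ((tblOf g).getD β 0) β' v')
    intro β' hβ'
    have hβ'24 := mem_baseL_lt hβ'
    rw [pairB, himg β hβ24, himg β' hβ'24, List.all_eq_true]
    intro k hk
    rw [beq_iff_eq, sameTetB, sameTetB]
    have hk8 : k < 8 := by
      simp only [List.mem_cons, List.not_mem_nil, or_false] at hk
      omega
    obtain ⟨v, rfl⟩ := code_surj k hk8
    have := sameTet_eq (hS v) (pt β) (pt β')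
    rw [idx_pt hβ24, idx_pt hβ'24] at this
    exact this

end Cfsg.Agent.Helper27
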