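import Cfsg.Agent.Helper27.TrioStab

/-!
The structure of the stabiliser of a trio in `Cfsg.M24`: all permutations of the three octads are induced, and the
elements fixing the three octads and the seven sextets refining the trio form an elementary abelian normal subgroup
of order 64 with quotient the direct product of `GL(3, 2)` and the symmetric group of degree 3.
-/

set_option autoImplicit false

namespace Cfsg.Agent.Helper27

open Cfsg
open scoped Pointwise

/-- pairs of disjoint octads are permuted transitively -/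
theorem exists_M24_pair {a b a' b' : Finset GolayPt} (ha : a ∈ octads) (hb : b ∈ octads) (ha' : a' ∈ octads)
    (hb' : b' ∈ octads) (hab : Disjoint a b) (hab' : Disjoint a' b') : ∃ g ∈ M24, g • a = a' ∧ g • b = b' := by
  obtain ⟨g1, hg1, e1⟩ := M24_octad_transitive a a' ha ha'
  have h1 : g1 • b ∈ octCls a' 0 := by
    have := smul_mem_octCls hg1 (o := a) (b := b) (k := 0)
      ⟨hb, by rw [Finset.disjoint_iff_inter_eq_empty.mp hab]; rfl⟩
    rwa [e1] at this
  have h2 : b' ∈ octCls a' 0 := ⟨hb', by rw [Finset.disjoint_iff_inter_eq_empty.mp hab']; rfl⟩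
  obtain ⟨h, hh, e2⟩ := octCls_transitive ha' octDesc0 h1 h2
  rw [mem_stabP] at hh
  refine ⟨h * g1, M24.mul_mem hh.1 hg1, ?_, ?_⟩
  · rw [mul_smul, e1, hh.2]
  · rw [mul_smul, e2]

/-- the third octad of a trio is the complement of the other two -/
theorem trio_third {T : Finset (Finset GolayPt)} (hT : T ∈ trios) {x y z : Finset GolayPt} (hx : x ∈ T) (hy : y ∈ T)
    (hz : z ∈ T) (hxy : x ≠ y) (hxz : x ≠ z) (hyz : y ≠ z) : z = Finset.univ \ (x ∪ y) := by
  obtain ⟨-, hoct, hdisj⟩ := hT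
  have dxy := hdisj x hx y hy hxy
  have dxz := hdisj x hx z hz hxz
  have dyz := hdisj y hy z hz hyz
  have cx : x.card = 8 := (hoct x hx).2
  have cy : y.card = 8 := (hoct y hy).2
  have cz : z.card = 8 := (hoct z hz).2
  have dz : Disjoint (x ∪ y) z := Finset.disjoint_union_left.mpr ⟨dxz, dyz⟩
  have hcard : ((x ∪ y) ∪ z).card = Fintype.card GolayPt := by
    rw [Finset.card_union_of_disjoint dz, Finset.card_union_of_disjoint dxy, cx, cy, cz]
    rfl
  have huniv := Finset.eq_univ_of_card _ hcard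
  ext p
  rw [Finset.mem_sdiff]
  constructor
  · intro hp
    exact ⟨Finset.mem_univ p, fun hp' => (Finset.disjoint_left.mp dz hp') hp⟩
  · rintro ⟨-, hp⟩
    have : p ∈ (x ∪ y) ∪ z := by rw [huniv]; exact Finset.mem_univ p
    rcases Finset.mem_union.mp this with h | h
    · exact absurd h hp
    · exact h

theorem smul_compl_union (g : Equiv.Perm GolayPt) (x y : Finset GolayPt) :
    g • (Finset.univ \ (x ∪ y)) = Finset.univ \ (g • x ∪ g • y) := by
  rw [Finset.smul_finset_sdiff, Finset.smul_finset_univ, Finset.smul_finset_union]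

/-- all permutations of the octads of a trio are induced by elements of its stabiliser -/
theorem trio_perms (T : Finset (Finset GolayPt)) (hT : T ∈ trios) (e : Equiv.Perm ↥T) :
    ∃ g ∈ MulAction.stabilizer M24 T, ∀ o : ↥T,
      (g : Equiv.Perm GolayPt) • (o : Finset GolayPt) = ((e o : ↥T) : Finset GolayPt) := by
  obtain ⟨a, b, c, hab, hac, hbc, hT3⟩ := Finset.card_eq_three.mp hT.1
  have ha : a ∈ T := by rw [hT3]; simp
  have hb : b ∈ T := by rw [hT3]; simp
  have hc : c ∈ T := by rw [hT3]; simp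
  have hne : ∀ {x y : ↥T}, x ≠ y → ((e x : ↥T) : Finset GolayPt) ≠ ((e y : ↥T) : Finset GolayPt) :=
    fun hxy h => hxy (e.injective (Subtype.ext h))
  have nab : (⟨a, ha⟩ : ↥T) ≠ ⟨b, hb⟩ := fun h => hab (Subtype.ext_iff.mp h)
  have nac : (⟨a, ha⟩ : ↥T) ≠ ⟨c, hc⟩ := fun h => hac (Subtype.ext_iff.mp h)
  have nbc : (⟨b, hb⟩ : ↥T) ≠ ⟨c, hc⟩ := fun h => hbc (Subtype.ext_iff.mp h)
  obtain ⟨g, hg, ga, gb⟩ := exists_M24_pair (hT.2.1 a ha) (hT.2.1 b hb) (hT.2.1 _ (e ⟨a, ha⟩).2)
    (hT.2.1 _ (e ⟨b, hb⟩).2) (hT.2.2 a ha b hb hab) (hT.2.2 _ (e ⟨a, ha⟩).2 _ (e ⟨b, hb⟩).2 (hne nab))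
  have gc : g • c = ((e ⟨c, hc⟩ : ↥T) : Finset GolayPt) := by
    have h3 : g • c = Finset.univ \ (g • a ∪ g • b) := by
      conv_lhs => rw [trio_third hT ha hb hc hab hac hbc]
      exact smul_compl_union g a b
    rw [h3, ga, gb]
    exact (trio_third hT (e ⟨a, ha⟩).2 (e ⟨b, hb⟩).2 (e ⟨c, hc⟩).2 (hne nab) (hne nac) (hne nbc)).symm
  have hall : ∀ o : ↥T, g • (o : Finset GolayPt) = ((e o : ↥T) : Finset GolayPt) := by
    rintro ⟨o, ho⟩
    have ho' := ho
    rw [hT3] at ho'
    simp only [Finset.mem_insert, Finset.mem_singleton] at ho'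
    rcases ho' with rfl | rfl | rfl
    · exact ga
    · exact gb
    · exact gc
  have hstab : g • T = T := by
    apply Finset.eq_of_subset_of_card_le
    · intro X hX
      obtain ⟨Y, hY, rfl⟩ := Finset.mem_smul_finset.mp hX
      rw [hall ⟨Y, hY⟩]
      exact (e ⟨Y, hY⟩).2
    · rw [Finset.card_smul_finset]
  refine ⟨⟨g, hg⟩, ?_, hall⟩
  rw [MulAction.mem_stabilizer_iff]
  exact hstab

/-! ### The stabiliser of the standard trio -/

/-- the stabiliser of the standard trio -/
abbrev S0 : Subgroup ↥M24 := MulAction.stabilizer ↥M24 T0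

/-- the permutation underlying an element of the stabiliser -/
def toP (g : ↥S0) : Equiv.Perm GolayPt := ((g : ↥M24) : Equiv.Perm GolayPt)

theorem toP_mem (g : ↥S0) : toP g ∈ M24 := (g : ↥M24).2

theorem toP_smul_T0 (g : ↥S0) : toP g • T0 = T0 := g.2

theorem toP_injective : Function.Injective toP := fun _ _ h => Subtype.ext (Subtype.ext h)

theorem toP_mul (g h : ↥S0) : toP (g * h) = toP g * toP h := rfl

theorem toP_one : toP 1 = 1 := rfl

theorem smulS_def (g : ↥S0) (X : Finset (Finset GolayPt)) : g • X = toP g • X := rfl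

theorem smulO_def (g : ↥S0) (X : Finset GolayPt) : g • X = toP g • X := rfl

theorem hinvS (g : ↥S0) (v : V3) : ∃ w, g • fS v = fS w := by
  rw [smulS_def]
  by_cases hv : v = 0
  · subst hv
    exact ⟨0, by rw [fS_zero]; exact toP_smul_T0 g⟩
  · have h1 : toP g • fS v ∈ sextets := smul_mem_sextets (toP_mem g) (fS_mem_sextets hv)
    have h2 : Refines (toP g • fS v) T0 := by
      have := refines_smul (toP g) (fS_refines hv)
      rwa [toP_smul_T0] at this
    obtain ⟨w, -, e⟩ := refining_sextet h1 h2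
    exact ⟨w, e⟩

theorem hinvO (g : ↥S0) (i : Fin 3) : ∃ j, g • fO i = fO j := by
  rw [smulO_def]
  have : toP g • fO i ∈ T0 := by
    rw [← toP_smul_T0 g]
    exact Finset.smul_mem_smul_finset ((mem_T0_iff _).mpr ⟨i, rfl⟩)
  exact (mem_T0_iff _).mp this

theorem fO_mem (i : Fin 3) : fO i ∈ T0 := (mem_T0_iff _).mpr ⟨i, rfl⟩

theorem fO_octad (i : Fin 3) : fO i ∈ octads := T0_mem.2.1 _ (fO_mem i)

theorem fO_disjoint {i j : Fin 3} (h : i ≠ j) : Disjoint (fO i) (fO j) :=
  T0_mem.2.2 _ (fO_mem i) _ (fO_mem j) (fun e => h (fO_injective e))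

/-- an element mapping the first two octads according to a permutation maps the third accordingly -/
theorem smul_fO_all {g : Equiv.Perm GolayPt} {σ : Equiv.Perm (Fin 3)} (h0 : g • fO 0 = fO (σ 0))
    (h1 : g • fO 1 = fO (σ 1)) : ∀ i, g • fO i = fO (σ i) := by
  have n01 : (0 : Fin 3) ≠ 1 := by decide
  have n02 : (0 : Fin 3) ≠ 2 := by decide
  have n12 : (1 : Fin 3) ≠ 2 := by decide
  have hne : ∀ {i j : Fin 3}, i ≠ j → fO i ≠ fO j := fun h e => h (fO_injective e)
  have h2 : g • fO 2 = fO (σ 2) := by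
    have h3 : g • fO 2 = Finset.univ \ (g • fO 0 ∪ g • fO 1) := by
      conv_lhs => rw [trio_third T0_mem (fO_mem 0) (fO_mem 1) (fO_mem 2) (hne n01) (hne n02) (hne n12)]
      exact smul_compl_union g _ _
    rw [h3, h0, h1]
    exact (trio_third T0_mem (fO_mem _) (fO_mem _) (fO_mem _) (hne (fun e => n01 (σ.injective e)))
      (hne (fun e => n02 (σ.injective e))) (hne (fun e => n12 (σ.injective e)))).symm
  intro i
  fin_cases i
  · exact h0
  · exact h1
  · exact h2

theorem smul_T0_of_all {g : Equiv.Perm GolayPt} {σ : Equiv.Perm (Fin 3)} (h : ∀ i, g • fO i = fO (σ i)) :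
    g • T0 = T0 := by
  apply Finset.eq_of_subset_of_card_le
  · intro X hX
    obtain ⟨Y, hY, rfl⟩ := Finset.mem_smul_finset.mp hX
    obtain ⟨i, rfl⟩ := (mem_T0_iff _).mp hY
    rw [h i]
    exact fO_mem _
  · rw [Finset.card_smul_finset]

theorem card_GL32 : Nat.card (GL (Fin 3) (ZMod 2)) = 168 := by
  rw [Matrix.card_GL_field]
  simp [Fin.prod_univ_succ, ZMod.card]

theorem finite_M24 : Finite ↥M24 := Nat.finite_of_card_ne_zero (by rw [card_M24]; norm_num)

/-- the order of the stabiliser of the standard trio, from a homomorphism onto the symmetric group of degree 3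
compatible with the action on the octads -/
theorem card_S0 (ρ2 : ↥S0 →* Equiv.Perm (Fin 3)) (hρ2 : ∀ g i, fO (ρ2 g i) = g • fO i) :
    Nat.card ↥S0 = 64512 := by
  have hsurj : Function.Surjective ρ2 := by
    intro σ
    obtain ⟨g, hg, g0, g1⟩ := exists_M24_pair (fO_octad 0) (fO_octad 1) (fO_octad (σ 0)) (fO_octad (σ 1))
      (fO_disjoint (by decide)) (fO_disjoint (fun e => absurd (σ.injective e) (by decide)))
    have hall := smul_fO_all g0 g1
    have hst : (⟨g, hg⟩ : ↥M24) ∈ S0 := by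
      rw [MulAction.mem_stabilizer_iff]
      exact smul_T0_of_all hall
    refine ⟨⟨⟨g, hg⟩, hst⟩, ?_⟩
    ext i : 1
    apply fO_injective
    rw [hρ2]
    exact hall i
  have hker : (ρ2.ker).map S0.subtype =
      MulAction.stabilizer ↥M24 (fO 0) ⊓ MulAction.stabilizer ↥M24 (fO 1) := by
    ext x
    rw [Subgroup.mem_map, Subgroup.mem_inf, MulAction.mem_stabilizer_iff, MulAction.mem_stabilizer_iff]
    constructor
    · rintro ⟨g, hg, rfl⟩
      rw [MonoidHom.mem_ker] at hg
      have h0 := hρ2 g 0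
      have h1 := hρ2 g 1
      rw [hg] at h0 h1
      exact ⟨h0.symm, h1.symm⟩
    · rintro ⟨h0, h1⟩
      have hall := smul_fO_all (g := (x : Equiv.Perm GolayPt)) (σ := 1) h0 h1
      have hst : x ∈ S0 := by
        rw [MulAction.mem_stabilizer_iff]
        exact smul_T0_of_all hall
      refine ⟨⟨x, hst⟩, ?_, rfl⟩
      rw [MonoidHom.mem_ker]
      ext i : 1
      apply fO_injective
      rw [hρ2]
      exact hall i
  have hcardker : Nat.card ρ2.ker = 10752 := by
    rw [← Subgroup.card_map_of_injective (Subgroup.subtype_injective S0), hker]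
    apply (octad_pair_stabilizer (fO 0) (fO 1) (fO_octad 0) (fO_octad 1)).1
    rw [Finset.disjoint_iff_inter_eq_empty.mp (fO_disjoint (by decide))]
    rfl
  have e := QuotientGroup.quotientKerEquivOfSurjective ρ2 hsurj
  rw [Subgroup.card_eq_card_quotient_mul_card_subgroup ρ2.ker, Nat.card_congr e.toEquiv, hcardker, Nat.card_perm,
    Nat.card_eq_fintype_card, Fintype.card_fin]
  rfl

/-- the structure of the stabiliser of the standard trio -/
theorem trioStab_std : ∃ (N : Subgroup ↥S0) (_ : N.Normal), Nat.card N = 64 ∧ (∀ x ∈ N, x * x = 1) ∧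
    Nonempty (↥S0 ⧸ N ≃* GL (Fin 3) (ZMod 2) × Equiv.Perm (Fin 3)) := by
  obtain ⟨ρ, hρ⟩ := exists_permHom (G := ↥S0) fS fS_injective hinvS
  obtain ⟨ρ2, hρ2⟩ := exists_permHom (G := ↥S0) fO fO_injective hinvO
  have hfinM := finite_M24
  have hS0 := card_S0 ρ2 hρ2
  let Φ : ↥S0 →* Equiv.Perm V3 × Equiv.Perm (Fin 3) := ρ.prod ρ2
  let Ψ : GL (Fin 3) (ZMod 2) × Equiv.Perm (Fin 3) →* Equiv.Perm V3 × Equiv.Perm (Fin 3) :=
    (glPerm 3 2).prodMap (MonoidHom.id (Equiv.Perm (Fin 3)))
  have hΨ : Function.Injective Ψ := by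
    intro x y h
    have h1 : glPerm 3 2 x.1 = glPerm 3 2 y.1 := congrArg Prod.fst h
    have h2 : (Ψ x).2 = (Ψ y).2 := congrArg Prod.snd h
    exact Prod.ext (glPerm_injective 3 2 h1) h2
  have hle : Φ.range ≤ Ψ.range := by
    rintro _ ⟨g, rfl⟩
    obtain ⟨M, hM⟩ := mem_range_glPerm 3 2 (ρ g) (perm_additive (g := toP g) (fun v => hρ g v))
    exact ⟨(M, ρ2 g), Prod.ext hM rfl⟩
  have hkerfix : ∀ g ∈ Φ.ker, tblOf (toP g) ∈ enumL chainL [] idT okK := by
    intro g hg
    rw [MonoidHom.mem_ker] at hg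
    have h1 : ρ g = 1 := congrArg Prod.fst hg
    have h2 : ρ2 g = 1 := congrArg Prod.snd hg
    apply ker_mem_enum (toP_mem g)
    · intro i
      have := hρ2 g i
      rw [h2] at this
      exact this.symm
    · intro v
      have := hρ g v
      rw [h1] at this
      exact this.symm
  have hkerle : Nat.card Φ.ker ≤ 64 := by
    let f : ↥Φ.ker → ↥(enumL chainL [] idT okK).toFinset :=
      fun g => ⟨tblOf (toP g), List.mem_toFinset.mpr (hkerfix g g.2)⟩
    have hf : Function.Injective f := by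
      intro a b h
      have h1 : tblOf (toP a) = tblOf (toP b) := congrArg Subtype.val h
      exact Subtype.ext (toP_injective (tblOf_injective h1))
    calc Nat.card ↥Φ.ker ≤ Nat.card ↥(enumL chainL [] idT okK).toFinset := Nat.card_le_card_of_injective f hf
      _ = (enumL chainL [] idT okK).toFinset.card := by rw [Nat.card_eq_fintype_card, Fintype.card_coe]
      _ ≤ (enumL chainL [] idT okK).length := List.toFinset_card_le _
      _ = 64 := kerEnum_length
  have hB : Nat.card (GL (Fin 3) (ZMod 2) × Equiv.Perm (Fin 3)) = 1008 := by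
    rw [Nat.card_prod, card_GL32, Nat.card_perm, Nat.card_eq_fintype_card, Fintype.card_fin]
    rfl
  obtain ⟨⟨e⟩, hc⟩ := quot_iso_of_range_le Φ Ψ hΨ hle (by rw [hB, hS0]; omega)
  refine ⟨Φ.ker, inferInstance, ?_, ?_, ⟨e⟩⟩
  · rw [hS0, hB] at hc
    omega
  · intro g hg
    have h1 := List.all_eq_true.mp kerEnum_sq _ (hkerfix g hg)
    rw [beq_iff_eq] at h1
    apply toP_injective
    apply tblOf_injective
    rw [toP_mul, tblOf_mul, h1, toP_one, tblOf_one]

/-- every trio is an image of the standard one -/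
theorem exists_smul_T0 {T : Finset (Finset GolayPt)} (hT : T ∈ trios) : ∃ g : ↥M24, T = g • T0 := by
  obtain ⟨a, b, c, hab, hac, hbc, hT3⟩ := Finset.card_eq_three.mp hT.1
  have ha : a ∈ T := by rw [hT3]; simp
  have hb : b ∈ T := by rw [hT3]; simp
  have hc : c ∈ T := by rw [hT3]; simp
  obtain ⟨g, hg, ga, gb⟩ := exists_M24_pair (fO_octad 0) (fO_octad 1) (hT.2.1 a ha) (hT.2.1 b hb)
    (fO_disjoint (by decide)) (hT.2.2 a ha b hb hab)
  have hne : ∀ {i j : Fin 3}, i ≠ j → fO i ≠ fO j := fun h e => h (fO_injective e)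
  have gc : g • fO 2 = c := by
    have h3 : g • fO 2 = Finset.univ \ (g • fO 0 ∪ g • fO 1) := by
      conv_lhs => rw [trio_third T0_mem (fO_mem 0) (fO_mem 1) (fO_mem 2) (hne (by decide)) (hne (by decide))
        (hne (by decide))]
      exact smul_compl_union g _ _
    rw [h3, ga, gb]
    exact (trio_third hT ha hb hc hab hac hbc).symm
  refine ⟨⟨g, hg⟩, ?_⟩
  symm
  apply Finset.eq_of_subset_of_card_le
  · intro X hX
    obtain ⟨Y, hY, rfl⟩ := Finset.mem_smul_finset.mp hX
    obtain ⟨i, rfl⟩ := (mem_T0_iff _).mp hY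
    fin_cases i
    · exact ga ▸ ha
    · exact gb ▸ hb
    · exact gc ▸ hc
  · rw [Finset.card_smul_finset, hT.1, T0_mem.1]

/-- the structure of the stabiliser of a trio -/
theorem trioStab (T : Finset (Finset GolayPt)) (hT : T ∈ trios) :
    ∃ (N : Subgroup ↥(MulAction.stabilizer M24 T)) (_ : N.Normal), Nat.card N = 64 ∧ (∀ x ∈ N, x * x = 1) ∧
      Nonempty (↥(MulAction.stabilizer M24 T) ⧸ N ≃* GL (Fin 3) (ZMod 2) × Equiv.Perm (Fin 3)) := by
  obtain ⟨g, hg⟩ := exists_smul_T0 hT
  obtain ⟨N, hN, hcard, hexp, ⟨e⟩⟩ := trioStab_std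
  let ε : ↥S0 ≃* ↥(MulAction.stabilizer M24 T) := MulAction.stabilizerEquivStabilizer hg
  have hN' : (N.map ε.toMonoidHom).Normal := hN.map ε.toMonoidHom ε.surjective
  refine ⟨N.map ε.toMonoidHom, hN', ?_, ?_, ?_⟩
  · rw [Subgroup.card_map_of_injective ε.injective, hcard]
  · rintro _ ⟨y, hy, rfl⟩
    rw [← map_mul, hexp y hy, map_one]
  · exact ⟨(QuotientGroup.congr N (N.map ε.toMonoidHom) ε rfl).symm.trans e⟩

end Cfsg.Agent.Helper27
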